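import Mathlib.Algebra.Homology.DerivedCategory.RightDerivedFunctorPlus
import Mathlib.CategoryTheory.Functor.Derived.Adjunction
import Mathlib.CategoryTheory.Functor.Derived.PointwiseLeftDerived
import Mathlib.CategoryTheory.Adjunction.Restrict

/-!
# Derived adjunction on bounded below derived categories (helper6)

`adjCx`, `adjH`, `adjP`: an adjunction `L ⊣ R` of additive functors induces adjunctions on
complexes, homotopy categories and bounded below homotopy categories.
`derivedAdj`: if moreover `L` is exact, `R⁺L ⊣ R⁺R`.
-/

universe w w' v v' u u'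

namespace Groth.Agent.Lib.Helper6.DerivedAdj

open CategoryTheory Limits

section

variable {A : Type u} {B : Type u'} [Category.{v} A] [Category.{v'} B] [Preadditive A] [Preadditive B]
  {L : A ⥤ B} {R : B ⥤ A} (adj : L ⊣ R) [L.Additive] [R.Additive] {ι : Type*} (c : ComplexShape ι)

/-- complex-level unit -/
@[simps]
def unitCx : 𝟭 (HomologicalComplex A c) ⟶ L.mapHomologicalComplex c ⋙ R.mapHomologicalComplex c where
  app K := { f := fun i => adj.unit.app (K.X i)
             comm' := fun i j _ => (adj.unit.naturality (K.d i j)).symm }
  naturality K K' f := by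
    ext i
    exact adj.unit.naturality (f.f i)

/-- complex-level counit -/
@[simps]
def counitCx : R.mapHomologicalComplex c ⋙ L.mapHomologicalComplex c ⟶ 𝟭 (HomologicalComplex B c) where
  app K := { f := fun i => adj.counit.app (K.X i)
             comm' := fun i j _ => (adj.counit.naturality (K.d i j)).symm }
  naturality K K' f := by
    ext i
    exact adj.counit.naturality (f.f i)

/-- complex-level adjunction -/
def adjCx : L.mapHomologicalComplex c ⊣ R.mapHomologicalComplex c :=
  Adjunction.mkOfUnitCounit
    { unit := unitCx adj c
      counit := counitCx adj c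
      left_triangle := by
        ext K i
        simp only [Functor.comp_obj, Functor.id_obj, NatTrans.comp_app, Functor.whiskerRight_app,
          Functor.associator_hom_app, Functor.whiskerLeft_app, Category.id_comp,
          HomologicalComplex.comp_f, Functor.mapHomologicalComplex_map_f, unitCx_app_f,
          counitCx_app_f]
        exact adj.left_triangle_components (K.X i)
      right_triangle := by
        ext K i
        simp only [Functor.comp_obj, Functor.id_obj, NatTrans.comp_app, Functor.whiskerRight_app,
          Functor.associator_inv_app, Functor.whiskerLeft_app, Category.id_comp,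
          HomologicalComplex.comp_f, Functor.mapHomologicalComplex_map_f, unitCx_app_f,
          counitCx_app_f]
        exact adj.right_triangle_components (K.X i) }

/-- homotopy-level unit -/
def unitH : 𝟭 (HomotopyCategory A c) ⟶ L.mapHomotopyCategory c ⋙ R.mapHomotopyCategory c where
  app C := (HomotopyCategory.quotient A c).map ((unitCx adj c).app C.as)
  naturality := by
    rintro ⟨C⟩ ⟨D⟩ ⟨f : C ⟶ D⟩
    have := (unitCx adj c).naturality f
    dsimp only [Functor.id_obj, Functor.id_map, Functor.comp_obj, Functor.comp_map] at this
    change (HomotopyCategory.quotient A c).map f ≫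
        (HomotopyCategory.quotient A c).map ((unitCx adj c).app D) =
      (HomotopyCategory.quotient A c).map ((unitCx adj c).app C) ≫
        (HomotopyCategory.quotient A c).map
          ((R.mapHomologicalComplex c).map ((L.mapHomologicalComplex c).map f))
    rw [← Functor.map_comp, ← Functor.map_comp, this]

/-- homotopy-level counit -/
def counitH : R.mapHomotopyCategory c ⋙ L.mapHomotopyCategory c ⟶ 𝟭 (HomotopyCategory B c) where
  app C := (HomotopyCategory.quotient B c).map ((counitCx adj c).app C.as)
  naturality := by
    rintro ⟨C⟩ ⟨D⟩ ⟨f : C ⟶ D⟩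
    have := (counitCx adj c).naturality f
    dsimp only [Functor.id_obj, Functor.id_map, Functor.comp_obj, Functor.comp_map] at this
    change (HomotopyCategory.quotient B c).map
          ((L.mapHomologicalComplex c).map ((R.mapHomologicalComplex c).map f)) ≫
        (HomotopyCategory.quotient B c).map ((counitCx adj c).app D) =
      (HomotopyCategory.quotient B c).map ((counitCx adj c).app C) ≫
        (HomotopyCategory.quotient B c).map f
    rw [← Functor.map_comp, ← Functor.map_comp, this]

/-- homotopy-level adjunction -/
def adjH : L.mapHomotopyCategory c ⊣ R.mapHomotopyCategory c :=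
  Adjunction.mkOfUnitCounit
    { unit := unitH adj c
      counit := counitH adj c
      left_triangle := by
        ext ⟨K⟩
        have := (adjCx adj c).left_triangle_components K
        change (L.mapHomologicalComplex c).map ((unitCx adj c).app K) ≫
          (counitCx adj c).app ((L.mapHomologicalComplex c).obj K) = 𝟙 _ at this
        change ((HomotopyCategory.quotient B c).map
              ((L.mapHomologicalComplex c).map ((unitCx adj c).app K)) ≫ 𝟙 _ ≫
            (HomotopyCategory.quotient B c).map
              ((counitCx adj c).app ((L.mapHomologicalComplex c).obj K))) = 𝟙 _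
        rw [Category.id_comp, ← Functor.map_comp, this, CategoryTheory.Functor.map_id]
      right_triangle := by
        ext ⟨K⟩
        have := (adjCx adj c).right_triangle_components K
        change (unitCx adj c).app ((R.mapHomologicalComplex c).obj K) ≫
          (R.mapHomologicalComplex c).map ((counitCx adj c).app K) = 𝟙 _ at this
        change ((HomotopyCategory.quotient A c).map
              ((unitCx adj c).app ((R.mapHomologicalComplex c).obj K)) ≫ 𝟙 _ ≫
            (HomotopyCategory.quotient A c).map
              ((R.mapHomologicalComplex c).map ((counitCx adj c).app K))) = 𝟙 _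
        rw [Category.id_comp, ← Functor.map_comp, this, CategoryTheory.Functor.map_id] }

end

section

variable {A : Type u} {B : Type u'} [Category.{v} A] [Category.{v'} B] [Abelian A] [Abelian B]
  {L : A ⥤ B} {R : B ⥤ A} (adj : L ⊣ R) [L.Additive] [R.Additive]

/-- `K⁺`-level adjunction -/
noncomputable def adjP : L.mapHomotopyCategoryPlus ⊣ R.mapHomotopyCategoryPlus :=
  (adjH adj (ComplexShape.up ℤ)).restrictFullyFaithful
    (HomotopyCategory.plus A).fullyFaithfulι (HomotopyCategory.plus B).fullyFaithfulι
    (Iso.refl _) (Iso.refl _)

end

section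

variable {A : Type u} {B : Type u'} [Category.{v} A] [Category.{v'} B] [Abelian A] [Abelian B]
  [HasDerivedCategory.{w} A] [HasDerivedCategory.{w'} B]
  (L : A ⥤ B) [L.Additive] [PreservesFiniteLimits L] [PreservesFiniteColimits L]

omit [HasDerivedCategory A] [HasDerivedCategory B] in
lemma map_quasiIso {K M : HomotopyCategory.Plus A} (f : K ⟶ M)
    (hf : HomotopyCategory.Plus.quasiIso A f) :
    HomotopyCategory.Plus.quasiIso B (L.mapHomotopyCategoryPlus.map f) := by
  obtain ⟨K, rfl⟩ := HomotopyCategory.Plus.quotient_obj_surjective K
  obtain ⟨M, rfl⟩ := HomotopyCategory.Plus.quotient_obj_surjective M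
  obtain ⟨f, rfl⟩ := (HomotopyCategory.Plus.quotient A).map_surjective f
  have h1 : QuasiIso f.hom :=
    (HomotopyCategory.quotient_map_mem_quasiIso_iff f.hom).1 hf
  have h2 : QuasiIso ((L.mapHomologicalComplex (ComplexShape.up ℤ)).map f.hom) := inferInstance
  exact (HomotopyCategory.quotient_map_mem_quasiIso_iff
    ((L.mapHomologicalComplex (ComplexShape.up ℤ)).map f.hom)).2 h2

lemma inverts : (HomotopyCategory.Plus.quasiIso A).IsInvertedBy
    (L.mapHomotopyCategoryPlus ⋙ DerivedCategory.Plus.Qh) := fun _ _ f hf =>
  Localization.inverts DerivedCategory.Plus.Qh (HomotopyCategory.Plus.quasiIso B) _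
    (map_quasiIso L f hf)

end

section

variable {A B : Type u} [Category.{v} A] [Category.{v} B] [Abelian A] [Abelian B]
  [HasDerivedCategory.{w} A] [HasDerivedCategory.{w} B] [EnoughInjectives A] [EnoughInjectives B]
  {L : A ⥤ B} {R : B ⥤ A} (adj : L ⊣ R) [L.Additive] [R.Additive]
  [PreservesFiniteLimits L] [PreservesFiniteColimits L]

include adj in
theorem derivedAdj : Nonempty (L.rightDerivedFunctorPlus ⊣ R.rightDerivedFunctorPlus) := by
  have hinv := inverts (A := A) (B := B) L
  have hiso : IsIso L.rightDerivedFunctorPlusUnit :=
    Functor.isIso_of_isRightDerivedFunctor_of_inverts L.rightDerivedFunctorPlus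
      L.rightDerivedFunctorPlusUnit hinv
  let α : DerivedCategory.Plus.Qh ⋙ L.rightDerivedFunctorPlus ⟶
      L.mapHomotopyCategoryPlus ⋙ DerivedCategory.Plus.Qh := inv L.rightDerivedFunctorPlusUnit
  let β := R.rightDerivedFunctorPlusUnit
  have hα : IsIso α := inferInstance
  have i1 : L.rightDerivedFunctorPlus.IsLeftDerivedFunctor α (HomotopyCategory.Plus.quasiIso A) :=
    (Functor.isLeftDerivedFunctor_iff_of_inverts _ α hinv).2 hα
  have i2 : (L.rightDerivedFunctorPlus ⋙ R.rightDerivedFunctorPlus).IsLeftDerivedFunctor
      ((Functor.associator _ _ _).inv ≫ Functor.whiskerRight α R.rightDerivedFunctorPlus)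
      (HomotopyCategory.Plus.quasiIso A) :=
    (Functor.isLeftDerivedFunctor_iff_of_inverts _ _
      (MorphismProperty.IsInvertedBy.of_comp _ _ hinv _)).2 inferInstance
  have i3 : (R.rightDerivedFunctorPlus ⋙ L.rightDerivedFunctorPlus).IsRightDerivedFunctor
      (Functor.whiskerRight β L.rightDerivedFunctorPlus ≫ (Functor.associator _ _ _).hom)
      (HomotopyCategory.Plus.quasiIso B) :=
    (HomotopyCategory.Plus.localizerMorphism_derives _).isRightDerivedFunctor_of_isIso _
      (fun X => by dsimp; infer_instance)
  exact ⟨(adjP adj).derived (HomotopyCategory.Plus.quasiIso A) (HomotopyCategory.Plus.quasiIso B) α β⟩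

end

end Groth.Agent.Lib.Helper6.DerivedAdj
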