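import Groth.Agent.Lib.Helper6.CechFamRes
import Mathlib.Algebra.Homology.HomologySequence
import Mathlib.Algebra.Homology.HomologicalComplexAbelian

/-!
# Short exact sequences of Čech complexes and vanishing for the cokernel (helper6)
-/

universe u

open CategoryTheory Limits Opposite Simplicial AlgebraicTopology

namespace Groth.Agent.Lib.Helper6.CechFamLES

section Pi

variable {J : Type u} {A B C : J → AddCommGrpCat.{u}}

lemma piMap_apply (f : ∀ j, A j ⟶ B j) (x : (∏ᶜ A : AddCommGrpCat.{u})) (j : J) :
    Concrete.productEquiv B (Limits.Pi.map f x) j = f j (Concrete.productEquiv A x j) := by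
  rw [Concrete.productEquiv_apply_apply, Concrete.productEquiv_apply_apply]
  exact ConcreteCategory.congr_hom (Limits.Pi.map_π f j) x

lemma piMap_zero (f : ∀ j, A j ⟶ B j) (g : ∀ j, B j ⟶ C j) (w : ∀ j, f j ≫ g j = 0) :
    Limits.Pi.map f ≫ Limits.Pi.map g = 0 := by
  apply Limits.Pi.hom_ext
  intro j
  simp [w]

/-- products of short exact sequences of abelian groups are short exact -/
lemma shortExact_piMap (f : ∀ j, A j ⟶ B j)
    (g : ∀ j, B j ⟶ C j) (w : ∀ j, f j ≫ g j = 0)
    (h : ∀ j, (ShortComplex.mk (f j) (g j) (w j)).ShortExact) :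
    (ShortComplex.mk (Limits.Pi.map f) (Limits.Pi.map g) (piMap_zero f g w)).ShortExact := by
  have hmono : ∀ j, Function.Injective (f j) := fun j =>
    (AddCommGrpCat.mono_iff_injective _).1 (h j).mono_f
  have hepi : ∀ j, Function.Surjective (g j) := fun j =>
    (AddCommGrpCat.epi_iff_surjective _).1 (h j).epi_g
  have hex : ∀ j (y : B j), g j y = 0 → ∃ x : A j, f j x = y := fun j =>
    (ShortComplex.ab_exact_iff _).1 (h j).exact
  refine ShortComplex.ShortExact.mk' ?_ ?_ ?_
  · rw [ShortComplex.ab_exact_iff]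
    intro y hy
    have hy' : ∀ j, g j (Concrete.productEquiv B y j) = 0 := by
      intro j
      rw [← piMap_apply g y j]
      have : (Limits.Pi.map g) y = 0 := hy
      rw [this]
      rw [Concrete.productEquiv_apply_apply]
      exact map_zero _
    choose x hx using fun j => hex j _ (hy' j)
    refine ⟨(Concrete.productEquiv A).symm x, ?_⟩
    apply (Concrete.productEquiv B).injective
    funext j
    change Concrete.productEquiv B (Limits.Pi.map f ((Concrete.productEquiv A).symm x)) j = _
    rw [piMap_apply, Equiv.apply_symm_apply, hx]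
  · change Mono (Limits.Pi.map f)
    rw [AddCommGrpCat.mono_iff_injective]
    intro x x' hxx
    apply (Concrete.productEquiv A).injective
    funext j
    apply hmono j
    rw [← piMap_apply, ← piMap_apply, hxx]
  · change Epi (Limits.Pi.map g)
    rw [AddCommGrpCat.epi_iff_surjective]
    intro z
    choose y hy using fun j => hepi j (Concrete.productEquiv C z j)
    refine ⟨(Concrete.productEquiv B).symm y, ?_⟩
    apply (Concrete.productEquiv C).injective
    funext j
    rw [piMap_apply, Equiv.apply_symm_apply, hy]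

end Pi

section Cech

variable {D : Type u} [SmallCategory D] (E : SimplicialObject (FormalCoproduct.{u} D))

lemma map_f_eq {P P' : Dᵒᵖ ⥤ AddCommGrpCat.{u}} (φ : P ⟶ P') (n : ℕ) :
    ((FormalCoproduct.cochainComplexFunctor (A := AddCommGrpCat.{u}) E).map φ).f n =
      Limits.Pi.map (fun i : (E.obj (op ⦋n⦌)).I => φ.app (op ((E.obj (op ⦋n⦌)).obj i))) := by
  rfl

instance : (FormalCoproduct.cochainComplexFunctor (A := AddCommGrpCat.{u}) E).PreservesZeroMorphisms where
  map_zero P P' := by
    ext n : 1
    rw [map_f_eq]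
    apply Limits.Pi.hom_ext
    intro i
    simp only [Limits.Pi.map_π, NatTrans.app_zero, comp_zero]
    exact zero_comp.symm

theorem shortExact_cech (T : ShortComplex (Dᵒᵖ ⥤ AddCommGrpCat.{u}))
    (hT : ∀ (n : ℕ) (i : (E.obj (op ⦋n⦌)).I),
      (T.map ((evaluation _ _).obj (op ((E.obj (op ⦋n⦌)).obj i)))).ShortExact) :
    (T.map (FormalCoproduct.cochainComplexFunctor E)).ShortExact := by
  apply HomologicalComplex.shortExact_of_degreewise_shortExact
  intro n
  exact shortExact_piMap (fun i : (E.obj (op ⦋n⦌)).I => T.f.app (op ((E.obj (op ⦋n⦌)).obj i)))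
    (fun i => T.g.app _) (fun i => (T.map ((evaluation _ _).obj (op ((E.obj (op ⦋n⦌)).obj i)))).zero)
    (fun i => hT n i)

/-- vanishing of Čech cohomology of the cokernel -/
theorem isZero_homology_X₃ (T : ShortComplex (Dᵒᵖ ⥤ AddCommGrpCat.{u}))
    (hT : ∀ (n : ℕ) (i : (E.obj (op ⦋n⦌)).I),
      (T.map ((evaluation _ _).obj (op ((E.obj (op ⦋n⦌)).obj i)))).ShortExact) (q : ℕ)
    (h₂ : IsZero (((FormalCoproduct.cochainComplexFunctor E).obj T.X₂).homology (q + 1)))
    (h₁ : IsZero (((FormalCoproduct.cochainComplexFunctor E).obj T.X₁).homology (q + 2))) :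
    IsZero (((FormalCoproduct.cochainComplexFunctor E).obj T.X₃).homology (q + 1)) := by
  have hS := shortExact_cech E T hT
  have hij : (ComplexShape.up ℕ).Rel (q + 1) (q + 2) := by simp
  have hm := hS.mono_δ (q + 1) (q + 2) hij h₂
  exact @IsZero.of_mono_eq_zero _ _ _ _ _ (hS.δ (q + 1) (q + 2) hij) hm (h₁.eq_of_tgt _ _)

end Cech

end Groth.Agent.Lib.Helper6.CechFamLES
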