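import Mathlib.Algebra.Homology.DerivedCategory.Ext.ExactSequences
import Mathlib.Algebra.Homology.DerivedCategory.Ext.EnoughInjectives
import Mathlib.CategoryTheory.Preadditive.Injective.Basic

/-!
# Vanishing of higher `Ext` on a class of objects by dimension shifting (helper6)
-/

universe w v u

open CategoryTheory Limits Abelian

namespace Groth.Agent.Lib.Helper6.ExtAcyc

variable {𝒜 : Type u} [Category.{v} 𝒜] [Abelian 𝒜] [HasExt.{w} 𝒜] [EnoughInjectives 𝒜]

/-- The short exact sequence `0 ⟶ F ⟶ I(F) ⟶ Q ⟶ 0`. -/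
noncomputable def sesUnder (F : 𝒜) : ShortComplex 𝒜 :=
  ShortComplex.mk (Injective.ι F) (cokernel.π (Injective.ι F)) (cokernel.condition _)

lemma sesUnder_shortExact (F : 𝒜) : (sesUnder F).ShortExact where
  exact := ShortComplex.exact_cokernel _
  mono_f := inferInstanceAs (Mono (Injective.ι F))
  epi_g := inferInstanceAs (Epi (cokernel.π (Injective.ι F)))

instance (F : 𝒜) : Injective (sesUnder F).X₂ := inferInstanceAs (Injective (Injective.under F))

/-- Dimension shifting: if a class `P` of objects is stable under cokernels of embeddings into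
injectives, and `Hom(A, -)` is right exact on such sequences, then `Ext^{n+1}(A, F) = 0` for
`F` in `P`. -/
theorem ext_succ_eq_zero_of_class (A : 𝒜) (P : 𝒜 → Prop)
    (h : ∀ S : ShortComplex 𝒜, S.ShortExact → P S.X₁ → Injective S.X₂ → P S.X₃ ∧
      ∀ y : Ext A S.X₃ 0, ∃ y' : Ext A S.X₂ 0, y'.comp (Ext.mk₀ S.g) (add_zero 0) = y)
    (n : ℕ) : ∀ (F : 𝒜), P F → ∀ (x : Ext A F (n + 1)), x = 0 := by
  induction n with
  | zero =>
    intro F hF x
    have hS := sesUnder_shortExact F
    obtain ⟨hQ, hsurj⟩ := h (sesUnder F) hS hF inferInstance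
    obtain ⟨x₃, rfl⟩ := Ext.covariant_sequence_exact₁ A hS x (Ext.eq_zero_of_injective _)
      (n₀ := 0) rfl
    obtain ⟨y', rfl⟩ := hsurj x₃
    rw [Ext.comp_assoc_of_second_deg_zero, hS.comp_extClass, Ext.comp_zero]
    rfl
  | succ m ih =>
    intro F hF x
    have hS := sesUnder_shortExact F
    obtain ⟨hQ, -⟩ := h (sesUnder F) hS hF inferInstance
    obtain ⟨x₃, rfl⟩ := Ext.covariant_sequence_exact₁ A hS x (Ext.eq_zero_of_injective _)
      (n₀ := m + 1) rfl
    rw [ih _ hQ x₃, Ext.zero_comp]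
    rfl

end Groth.Agent.Lib.Helper6.ExtAcyc
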