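import Groth.Agent.Lib.Helper6.DeltaCompare
import Mathlib.Algebra.Homology.DerivedCategory.Ext.ExactSequences
import Mathlib.Algebra.Homology.DerivedCategory.Ext.EnoughInjectives
import Mathlib.Algebra.Category.Grp.Zero

/-!
# `Ext(A, -)` as a family of functors with dimension shifting (helper6)
-/

universe w v v' u u'

open CategoryTheory Limits Abelian

namespace Groth.Agent.Lib.Helper6.ExtShift

open DeltaCompare

variable {𝒜 : Type u} [Category.{v} 𝒜] [Abelian 𝒜] [HasExt.{w} 𝒜]

/-- `Ext(A, -)` has dimension shifting along a short exact sequence with `Ext`-acyclic middle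
term. -/
lemma hasShift_ext (A : 𝒜) (E : ShortComplex 𝒜) (hE : E.ShortExact)
    (hI : ∀ n (x : Ext A E.X₂ (n + 1)), x = 0) :
    HasShift (fun n => extFunctorObj A n) E.f E.g := by
  refine ⟨fun n => ?_, fun n => ?_⟩
  · have : Subsingleton (Ext A E.X₂ (n + 1)) := subsingleton_of_forall_eq 0 (hI n)
    exact AddCommGrpCat.isZero_of_subsingleton (AddCommGrpCat.of (Ext A E.X₂ (n + 1)))
  · exact ⟨AddCommGrpCat.ofHom (hE.extClass.postcomp A rfl), _, _,
      Ext.covariant_sequence_exact₃' A hE n (n + 1) rfl,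
      Ext.covariant_sequence_exact₁' A hE n (n + 1) rfl⟩

omit [HasExt.{w} 𝒜] in
/-- `Ext(B, Φ -)` has dimension shifting along a short exact sequence on which `Φ` is exact and
whose middle term is sent to an `Ext`-acyclic object. -/
lemma hasShift_ext_comp {ℬ : Type u'} [Category.{v'} ℬ] [Abelian ℬ] [HasExt.{w} ℬ]
    (Φ : 𝒜 ⥤ ℬ) [Φ.Additive] (B : ℬ) (E : ShortComplex 𝒜) (hE : (E.map Φ).ShortExact)
    (hI : ∀ n (x : Ext B (Φ.obj E.X₂) (n + 1)), x = 0) :
    HasShift (fun n => Φ ⋙ extFunctorObj B n) E.f E.g :=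
  hasShift_ext B (E.map Φ) hE hI

end Groth.Agent.Lib.Helper6.ExtShift
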