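import Groth.Agent.Lib.Helper6.MultiAdj
import Mathlib.Algebra.Category.Grp.AB
import Mathlib.CategoryTheory.Abelian.GrothendieckAxioms.Basic

/-!
# Extension by zero along `Over.forget U` (helper6)
-/

universe w v u
open CategoryTheory Limits Opposite

namespace Groth.Agent.Lib.Helper6.OverShriek

open MultiAdj

/-- coproducts of monomorphisms are monomorphisms when coproducts are exact -/
lemma mono_sigmaMap {A : Type*} [Category A] {ι : Type*} [HasCoproductsOfShape ι A]
    [HasFiniteLimits A] [HasExactColimitsOfShape (Discrete ι) A] {X Y : ι → A}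
    (f : ∀ i, X i ⟶ Y i) [∀ i, Mono (f i)] : Mono (Limits.Sigma.map f) := by
  have : ∀ j, Mono ((Discrete.natTrans (fun i : Discrete ι => f i.as) :
      Discrete.functor X ⟶ Discrete.functor Y).app j) := by
    intro j
    dsimp
    infer_instance
  have := NatTrans.mono_of_mono_app (Discrete.natTrans (fun i : Discrete ι => f i.as) :
      Discrete.functor X ⟶ Discrete.functor Y)
  exact inferInstanceAs (Mono ((colim : (Discrete ι ⥤ A) ⥤ A).map
    (Discrete.natTrans (fun i : Discrete ι => f i.as) :
      Discrete.functor X ⟶ Discrete.functor Y)))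

variable {C : Type u} [Category.{v} C] (U : C)

/-- the multi-initial structure of `Over.forget U` -/
def overForget : MultiInit.{v} (Over.forget U) where
  I V := V ⟶ U
  d V f := Over.mk f
  a V f := 𝟙 V
  fact {V e} b := ⟨b ≫ e.hom, Over.homMk b rfl⟩
  fact_spec b := by simp
  fact_uniq {V e} b p h := by
    obtain ⟨g, c⟩ := p
    dsimp at h c
    have hc : c.left = b := by simpa using h
    have hg : g = b ≫ e.hom := by
      rw [← hc]
      exact (Over.w c).symm
    subst hg
    congr 1
    ext
    exact hc

/-- the multi-initial structure of `Over.map f` -/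
def overMap {S T : C} (f : T ⟶ S) : MultiInit.{v} (Over.map f) where
  I V := {g : V.left ⟶ T // g ≫ f = V.hom}
  d V g := Over.mk g.1
  a V g := Over.homMk (𝟙 V.left) (by simp [g.2])
  fact {V e} b := ⟨⟨b.left ≫ e.hom, by
      have := Over.w b
      simpa using this⟩, Over.homMk b.left rfl⟩
  fact_spec b := by
    ext
    simp
  fact_uniq {V e} b p h := by
    obtain ⟨⟨g, hg'⟩, c⟩ := p
    dsimp at h c
    have hc : c.left = b.left := by
      have := congrArg CommaMorphism.left h
      simpa using this
    have hg : g = b.left ≫ e.hom := by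
      rw [← hc]
      exact (Over.w c).symm
    subst hg
    congr 1
    ext
    exact hc

end Groth.Agent.Lib.Helper6.OverShriek
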