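import Groth.Prelude.Def_CohTop
import Mathlib.CategoryTheory.Adjunction.Whiskering
import Mathlib.Algebra.Homology.DerivedCategory.Ext.ExactSequences
import Groth.Agent.Lib.Helper6.ExtAcyc

/-!
# Basic sheaf cohomology toolkit (helper6)

* `Zfree J U`: the free abelian sheaf on the representable presheaf of `U` (the object used in
  Mathlib's `Sheaf.H'`), with `homAddEquiv : (Zfree J U ⟶ F) ≃+ F(U)`, natural in `F` and `U`.
* `H'equiv₀ : Sheaf.H' F 0 U ≃+ F(U)`.
-/

universe w v u

open CategoryTheory Limits Opposite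

namespace Groth.Agent.Lib.Helper6.SheafCoh

section Site

variable {C : Type u} [Category.{v} C] (J : GrothendieckTopology C)
  [HasSheafify J AddCommGrpCat.{v}]

/-- the free abelian presheaf on the representable presheaf -/
noncomputable abbrev Pfree : C ⥤ Cᵒᵖ ⥤ AddCommGrpCat.{v} :=
  yoneda ⋙ (Functor.whiskeringRight _ _ _).obj AddCommGrpCat.free

/-- the free abelian sheaf on the representable presheaf -/
noncomputable abbrev Zfree (U : C) : Sheaf J AddCommGrpCat.{v} :=
  (presheafToSheaf J _).obj ((Pfree).obj U)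

/-- functoriality of `Zfree` -/
noncomputable abbrev ZfreeMap {U V : C} (i : V ⟶ U) : Zfree J V ⟶ Zfree J U :=
  (presheafToSheaf J _).map ((Pfree).map i)

/-- `Hom(ℤ_U, F) ≃ F(U)` -/
noncomputable def homEquiv (U : C) (F : Sheaf J AddCommGrpCat.{v}) :
    (Zfree J U ⟶ F) ≃ F.obj.obj (op U) :=
  ((sheafificationAdjunction J AddCommGrpCat.{v}).homEquiv _ F).trans
    (((AddCommGrpCat.adj.whiskerRight Cᵒᵖ).homEquiv (yoneda.obj U) F.obj).trans yonedaEquiv)

lemma homEquiv_apply (U : C) (F : Sheaf J AddCommGrpCat.{v}) (φ : Zfree J U ⟶ F) :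
    homEquiv J U F φ = yonedaEquiv
      ((AddCommGrpCat.adj.whiskerRight Cᵒᵖ).homEquiv (yoneda.obj U) F.obj
        ((sheafificationAdjunction J AddCommGrpCat.{v}).homEquiv _ F φ)) := rfl

lemma homEquiv_naturality_right {U : C} {F G : Sheaf J AddCommGrpCat.{v}}
    (φ : Zfree J U ⟶ F) (g : F ⟶ G) :
    homEquiv J U G (φ ≫ g) = g.hom.app (op U) (homEquiv J U F φ) := by
  rw [homEquiv_apply, homEquiv_apply]
  rw [Adjunction.homEquiv_naturality_right, Adjunction.homEquiv_naturality_right]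
  rfl

lemma homEquiv_naturality_left {U V : C} (i : V ⟶ U) {F : Sheaf J AddCommGrpCat.{v}}
    (φ : Zfree J U ⟶ F) :
    homEquiv J V F (ZfreeMap J i ≫ φ) = F.obj.map i.op (homEquiv J U F φ) := by
  rw [homEquiv_apply, homEquiv_apply]
  rw [Adjunction.homEquiv_naturality_left]
  erw [Adjunction.homEquiv_naturality_left]
  exact (yonedaEquiv_naturality _ i).symm

/-- the universal section of `ℤ_U` over `U` -/
noncomputable def univ (U : C) : (Zfree J U).obj.obj (op U) := homEquiv J U (Zfree J U) (𝟙 _)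

lemma homEquiv_eq (U : C) (F : Sheaf J AddCommGrpCat.{v}) (φ : Zfree J U ⟶ F) :
    homEquiv J U F φ = φ.hom.app (op U) (univ J U) := by
  rw [univ, ← homEquiv_naturality_right, Category.id_comp]

lemma homEquiv_add (U : C) (F : Sheaf J AddCommGrpCat.{v}) (φ ψ : Zfree J U ⟶ F) :
    homEquiv J U F (φ + ψ) = homEquiv J U F φ + homEquiv J U F ψ := by
  rw [homEquiv_eq, homEquiv_eq, homEquiv_eq, Sheaf.Hom.add_app]
  rfl

/-- `Hom(ℤ_U, F) ≃+ F(U)` -/
noncomputable def homAddEquiv (U : C) (F : Sheaf J AddCommGrpCat.{v}) :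
    (Zfree J U ⟶ F) ≃+ F.obj.obj (op U) :=
  { homEquiv J U F with
    map_add' := homEquiv_add J U F }

lemma homAddEquiv_apply (U : C) (F : Sheaf J AddCommGrpCat.{v}) (φ : Zfree J U ⟶ F) :
    homAddEquiv J U F φ = homEquiv J U F φ := rfl

instance ZfreeMap_mono {U V : C} (i : V ⟶ U) [Mono i] : Mono (ZfreeMap J i) := by
  have : Mono ((Pfree).map i : (Pfree).obj V ⟶ (Pfree).obj U) := by
    rw [NatTrans.mono_iff_mono_app]
    intro W
    change Mono (AddCommGrpCat.free.map ((yoneda.map i).app W))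
    have : Mono ((yoneda.map i).app W) := by
      rw [mono_iff_injective]
      intro a b hab
      exact (cancel_mono i).1 hab
    infer_instance
  dsimp only [ZfreeMap]
  infer_instance

/-- Sections of an injective sheaf extend along monomorphisms. -/
lemma exists_extension_of_injective {U V : C} (i : V ⟶ U) [Mono i]
    (F : Sheaf J AddCommGrpCat.{v}) [Injective F] (t : F.obj.obj (op V)) :
    ∃ s : F.obj.obj (op U), F.obj.map i.op s = t := by
  refine ⟨homEquiv J U F (Injective.factorThru ((homEquiv J V F).symm t) (ZfreeMap J i)), ?_⟩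
  rw [← homEquiv_naturality_left, Injective.comp_factorThru, Equiv.apply_symm_apply]

section Ext

open Abelian

variable [HasExt.{w} (Sheaf J AddCommGrpCat.{v})]

/-- `H^0(U, F) ≃+ F(U)` -/
noncomputable def H'equiv₀ (F : Sheaf J AddCommGrpCat.{v}) (U : C) :
    Ext (Zfree J U) F 0 ≃+ F.obj.obj (op U) :=
  Ext.addEquiv₀.trans (homAddEquiv J U F)

lemma ext_zero_surj_of_sections_surj (U : C) {F G : Sheaf J AddCommGrpCat.{v}} (g : F ⟶ G)
    (hg : Function.Surjective (g.hom.app (op U))) (y : Ext (Zfree J U) G 0) :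
    ∃ y' : Ext (Zfree J U) F 0, y'.comp (Ext.mk₀ g) (add_zero 0) = y := by
  obtain ⟨ψ, rfl⟩ := Ext.addEquiv₀.symm.surjective y
  obtain ⟨t, ht⟩ := hg (homEquiv J U G ψ)
  refine ⟨Ext.mk₀ ((homEquiv J U F).symm t), ?_⟩
  rw [Ext.mk₀_comp_mk₀]
  congr 1
  apply (homEquiv J U G).injective
  rw [homEquiv_naturality_right, Equiv.apply_symm_apply, ht]

lemma H_zero_surj_of_sections_surj {T : C} (hT : IsTerminal T)
    {F G : Sheaf J AddCommGrpCat.{v}} (g : F ⟶ G)
    (hg : Function.Surjective (g.hom.app (op T))) (y : Sheaf.H G 0) :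
    ∃ y' : Sheaf.H F 0, y'.comp (Ext.mk₀ g) (add_zero 0) = y := by
  obtain ⟨t, ht⟩ := hg (Sheaf.H.equiv₀ G hT y)
  refine ⟨(Sheaf.H.equiv₀ F hT).symm t, ?_⟩
  rw [← Sheaf.H.map_apply, Sheaf.H.equiv₀_symm_naturality, ht, AddEquiv.symm_apply_apply]

end Ext

end Site

section Top

open TopologicalSpace

variable {X : TopCat.{u}}

/-- An injective abelian sheaf on a topological space is flasque. -/
theorem isFlasque_of_injective (F : CohTop.Ab X) [Injective F] : TopCat.Sheaf.IsFlasque F where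
  epi {U V} i := by
    rw [AddCommGrpCat.epi_iff_surjective]
    intro t
    have : Mono i.unop := ⟨fun _ _ _ => Subsingleton.elim _ _⟩
    obtain ⟨s, hs⟩ := exists_extension_of_injective (Opens.grothendieckTopology X) i.unop F t
    exact ⟨s, hs⟩

instance (F : CohTop.Ab X) [Injective F] : TopCat.Sheaf.IsFlasque F := isFlasque_of_injective F

lemma flasque_step (S : ShortComplex (CohTop.Ab X)) (hS : S.ShortExact)
    (h₁ : TopCat.Sheaf.IsFlasque S.X₁) (h₂ : Injective S.X₂) (U : Opens X) :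
    TopCat.Sheaf.IsFlasque S.X₃ ∧ Function.Surjective (S.g.hom.app (op U)) := by
  refine ⟨TopCat.Sheaf.IsFlasque.of_shortExact_of_isFlasque₁₂ hS, ?_⟩
  rw [← AddCommGrpCat.epi_iff_surjective]
  exact TopCat.Sheaf.IsFlasque.epi_of_shortExact hS

/-- Flasque sheaves are acyclic on every open. -/
theorem flasque_HU_eq_zero (F : CohTop.Ab X) [hF : TopCat.Sheaf.IsFlasque F] (U : Opens X) (n : ℕ)
    (x : CohTop.HU F (n + 1) U) : x = 0 := by
  refine ExtAcyc.ext_succ_eq_zero_of_class (Zfree (Opens.grothendieckTopology X) U)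
    (fun G : CohTop.Ab X => TopCat.Sheaf.IsFlasque G) ?_ n F hF x
  intro S hS h₁ h₂
  obtain ⟨h₃, hsurj⟩ := flasque_step S hS h₁ h₂ U
  exact ⟨h₃, ext_zero_surj_of_sections_surj _ U S.g hsurj⟩

/-- Flasque sheaves are acyclic. -/
theorem flasque_H_eq_zero (F : CohTop.Ab X) [hF : TopCat.Sheaf.IsFlasque F] (n : ℕ)
    (x : CohTop.H F (n + 1)) : x = 0 := by
  refine ExtAcyc.ext_succ_eq_zero_of_class _
    (fun G : CohTop.Ab X => TopCat.Sheaf.IsFlasque G) ?_ n F hF x
  intro S hS h₁ h₂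
  obtain ⟨h₃, hsurj⟩ := flasque_step S hS h₁ h₂ ⊤
  exact ⟨h₃, H_zero_surj_of_sections_surj _ isTerminalTop S.g hsurj⟩

end Top

end Groth.Agent.Lib.Helper6.SheafCoh
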