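import Groth.Prelude.Def_CohSite
import Groth.Agent.Lib.Helper6.OverShriek
import Groth.Agent.Lib.Helper6.SheafCoh
import Groth.Agent.Lib.Helper6.ExtShift
import Groth.Agent.Lib.Helper6.ExtAcyc
import Mathlib.CategoryTheory.Sites.CoverLifting

/-!
# Localization of a small site at an object: cohomology (helper6)
-/

universe u

open CategoryTheory Limits Opposite

namespace Groth.Agent.Lib.Helper6.CohSiteOver

open MultiAdj

variable {C : Type u} [SmallCategory C] (J : GrothendieckTopology C) (U : C)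

/-- restriction to `C/U` -/
abbrev R : Sheaf J AddCommGrpCat.{u} ⥤ Sheaf (J.over U) AddCommGrpCat.{u} :=
  (Over.forget U).sheafPushforwardContinuous AddCommGrpCat.{u} (J.over U) J

lemma sigmaMono : SigmaMono (OverShriek.overForget U) AddCommGrpCat.{u} := fun V X Y f hf => by
  haveI := hf
  exact OverShriek.mono_sigmaMap f

/-- extension by zero -/
noncomputable abbrev L : Sheaf (J.over U) AddCommGrpCat.{u} ⥤ Sheaf J AddCommGrpCat.{u} :=
  MultiAdj.shriek (OverShriek.overForget U) (J.over U) J (A := AddCommGrpCat.{u})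

/-- `j_! ⊣ j^*` -/
noncomputable abbrev adj : L J U ⊣ R J U :=
  MultiAdj.adj (OverShriek.overForget U) (J.over U) J (A := AddCommGrpCat.{u})

instance : (R J U).Additive := MultiAdj.pushforward_additive _ _

instance : (L J U).Additive := MultiAdj.shriek_additive _ _ _

instance : PreservesFiniteLimits (L J U) :=
  MultiAdj.shriek_preservesFiniteLimits _ _ _ (sigmaMono U)

instance : (L J U).PreservesMonomorphisms :=
  MultiAdj.shriek_preservesMonomorphisms _ _ _ (sigmaMono U)

instance : PreservesFiniteLimits (R J U) := by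
  have := (adj J U).rightAdjoint_preservesLimits
  exact PreservesLimits.preservesFiniteLimits _

instance : PreservesFiniteColimits (R J U) := by
  have := ((Over.forget U).sheafAdjunctionCocontinuous AddCommGrpCat.{u} (J.over U)
    J).leftAdjoint_preservesColimits
  exact PreservesColimits.preservesFiniteColimits _

/-- restriction to `C/U` preserves injectives -/
lemma injective_R (I : Sheaf J AddCommGrpCat.{u}) [Injective I] : Injective ((R J U).obj I) :=
  Injective.injective_of_adjoint (adj J U) I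

section Theta

open Abelian SheafCoh DeltaCompare

/-- the constant sheaf `ℤ` on `C/U` -/
noncomputable abbrev ZZ : Sheaf (J.over U) AddCommGrpCat.{u} :=
  (constantSheaf (J.over U) AddCommGrpCat.{u}).obj (AddCommGrpCat.of (ULift ℤ))

lemma addEquiv₀_mk₀ {A B : Sheaf J AddCommGrpCat.{u}} (f : A ⟶ B) :
    Ext.addEquiv₀ (Ext.mk₀ f) = f := by
  rw [← Ext.addEquiv₀_symm_apply, AddEquiv.apply_symm_apply]

lemma H'equiv₀_naturality {G G' : Sheaf J AddCommGrpCat.{u}} (g : G ⟶ G')
    (x : Ext (Zfree J U) G 0) :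
    H'equiv₀ J G' U (x.comp (Ext.mk₀ g) (add_zero 0)) =
      g.hom.app (op U) (H'equiv₀ J G U x) := by
  obtain ⟨φ, rfl⟩ := Ext.addEquiv₀.symm.surjective x
  simp only [H'equiv₀, AddEquiv.trans_apply, Ext.addEquiv₀_symm_apply, Ext.mk₀_comp_mk₀,
    addEquiv₀_mk₀, homAddEquiv_apply]
  exact homEquiv_naturality_right _ φ g

/-- `H^0(U, G) ≃+ H^0(C/U, G|_U)`. -/
noncomputable def equivθ (G : Sheaf J AddCommGrpCat.{u}) :
    Ext (Zfree J U) G 0 ≃+ Sheaf.H.{u} ((R J U).obj G) 0 :=
  (H'equiv₀ J G U).trans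
    (Sheaf.H.equiv₀ ((R J U).obj G) (Over.mkIdTerminal (X := U))).symm

lemma equivθ_naturality {G G' : Sheaf J AddCommGrpCat.{u}} (g : G ⟶ G')
    (x : Ext (Zfree J U) G 0) :
    equivθ J U G' (x.comp (Ext.mk₀ g) (add_zero 0)) =
      Sheaf.H.map ((R J U).map g) 0 (equivθ J U G x) := by
  have h2 := Sheaf.H.equiv₀_symm_naturality (Over.mkIdTerminal (X := U))
    ((R J U).map g) (H'equiv₀ J G U x)
  refine Eq.trans ?_ h2.symm
  refine congrArg (Sheaf.H.equiv₀ ((R J U).obj G') (Over.mkIdTerminal (X := U))).symm ?_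
  exact H'equiv₀_naturality J U g x

/-- The natural isomorphism `H^0(U, -) ≅ H^0(C/U, (-)|_U)`. -/
noncomputable def θ : extFunctorObj (Zfree J U) 0 ≅ R J U ⋙ extFunctorObj (ZZ J U) 0 :=
  NatIso.ofComponents (fun G => (equivθ J U G).toAddCommGrpIso) (fun {G G'} g => by
    ext x
    exact equivθ_naturality J U g x)

/-- `H^n(U, F) ≃+ H^n(C/U, F|_U)`. -/
theorem nonempty_HU_addEquiv (F : Sheaf J AddCommGrpCat.{u}) (n : ℕ) :
    Nonempty (CohSite.HU F n U ≃+ Sheaf.H.{u} (F.over U) n) := by
  obtain ⟨e⟩ := delta_compare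
    (fun n => extFunctorObj (Zfree J U) n)
    (fun n => R J U ⋙ extFunctorObj (ZZ J U) n) (θ J U)
    (fun _ => True) (fun G _ => by
      have hE := ExtAcyc.sesUnder_shortExact G
      have hI : Injective (ExtAcyc.sesUnder G).X₂ := inferInstance
      haveI := injective_R J U (ExtAcyc.sesUnder G).X₂
      refine ⟨_, _, (ExtAcyc.sesUnder G).f, (ExtAcyc.sesUnder G).g, trivial,
        ExtShift.hasShift_ext _ _ hE (fun n x => Ext.eq_zero_of_injective x),
        ExtShift.hasShift_ext_comp (R J U) (ZZ J U) _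
          (hE.map_of_exact (R J U)) (fun n x => Ext.eq_zero_of_injective x)⟩) n F trivial
  exact ⟨e.addCommGroupIsoToAddEquiv⟩

end Theta

end Groth.Agent.Lib.Helper6.CohSiteOver
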