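import Groth.Agent.Lib.Helper6.CechFamSurj
import Groth.Agent.Lib.Helper6.CechFamLES
import Groth.Agent.Lib.Helper6.CohSiteOver

/-!
# Cartan's criterion for a collection of objects and covering families (helper6)
-/

universe u

set_option linter.unusedSectionVars false

open CategoryTheory Limits Opposite Simplicial AlgebraicTopology Abelian

namespace Groth.Agent.Lib.Helper6.CechFamCartan

open CechFamRep CechFamRes CechFamSurj SheafCoh

variable {C : Type u} [SmallCategory C] [HasPullbacks C] (J : GrothendieckTopology C)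

/-- S0859 as a library lemma -/
theorem surjective_of_refinement {S : ShortComplex (Sheaf J AddCommGrpCat.{u})} (hS : S.ShortExact)
    (U : C)
    (h : ∀ T ∈ J U, ∃ (ι : Type u) (Y : ι → Over U), (∀ i, T.arrows (Y i).hom) ∧
      Sieve.ofArrows (fun i => (Y i).left) (fun i => (Y i).hom) ∈ J U ∧
      IsZero (CohCx.cechH S.X₁.obj Y 1)) :
    Function.Surjective (S.g.hom.app (op U)) := by
  intro s
  have hepi : Epi S.g := hS.epi_g
  have hls : Sheaf.IsLocallySurjective S.g :=
    (Sheaf.isLocallySurjective_iff_epi' (φ := S.g)).2 hepi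
  have hT : Presheaf.imageSieve S.g.hom s ∈ J U := Presheaf.imageSieve_mem J S.g.hom (U := op U) s
  obtain ⟨ι, Y, hYT, hY, hH1⟩ := h _ hT
  choose t ht using hYT
  exact exists_lift_of_cechH1 J Y hS hY hH1 s t ht

variable (B : Set C) (Cov : ∀ (U : C) (ι : Type u), (ι → Over U) → Prop)

/-- Čech acyclicity on the families in `Cov` -/
def CechAcyc (F : Sheaf J AddCommGrpCat.{u}) : Prop :=
  ∀ (U : C) (ι : Type u) (Y : ι → Over U), Cov U ι Y → ∀ p : ℕ, IsZero (CohCx.cechH F.obj Y (p + 1))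

variable (h1 : ∀ (U : C) (ι : Type u) (Y : ι → Over U), Cov U ι Y → U ∈ B ∧
      Sieve.ofArrows (fun i => (Y i).left) (fun i => (Y i).hom) ∈ J U ∧
      ∀ (p : ℕ) (a : Fin (p + 1) → ι), (∏ᶜ fun k => Y (a k)).left ∈ B)
  (h2 : ∀ U ∈ B, ∀ T ∈ J U, ∃ (ι : Type u) (Y : ι → Over U), Cov U ι Y ∧ ∀ i, T.arrows (Y i).hom)

include h1 h2 in
lemma surj {E : ShortComplex (Sheaf J AddCommGrpCat.{u})} (hE : E.ShortExact)
    (hF : CechAcyc J Cov E.X₁) (V : C) (hV : V ∈ B) : Function.Surjective (E.g.hom.app (op V)) := by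
  apply surjective_of_refinement J hE V
  intro T hT
  obtain ⟨ι, Y, hCov, hYT⟩ := h2 V hV T hT
  exact ⟨ι, Y, hYT, (h1 V ι Y hCov).2.1, hF V ι Y hCov 0⟩

/-- sections over an object of `Over U` -/
abbrev Ψ {U : C} (V' : Over U) : Sheaf J AddCommGrpCat.{u} ⥤ AddCommGrpCat.{u} :=
  Φ J (U := U) ⋙ (evaluation _ _).obj (op V')

instance {U : C} (V' : Over U) : (Ψ J V').Additive where

instance {U : C} (V' : Over U) : PreservesFiniteLimits (Ψ J V') := by
  have : PreservesFiniteLimits ((evaluation (Over U)ᵒᵖ AddCommGrpCat.{u}).obj (op V')) := inferInstance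
  exact comp_preservesFiniteLimits _ _

include h1 h2 in
lemma shortExact_sections {E : ShortComplex (Sheaf J AddCommGrpCat.{u})} (hE : E.ShortExact)
    (hF : CechAcyc J Cov E.X₁) {U : C} (V' : Over U) (hV : V'.left ∈ B) :
    ((E.map (Φ J (U := U))).map ((evaluation _ _).obj (op V'))).ShortExact := by
  have h30 := (Ψ J V').preservesFiniteLimits_tfae.out 3 0
  have hΨ : (E.map (Ψ J V')).Exact ∧ Mono (E.map (Ψ J V')).f := h30.1 inferInstance E hE
  refine ShortComplex.ShortExact.mk' hΨ.1 hΨ.2 ?_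
  change Epi (E.g.hom.app (op V'.left))
  rw [AddCommGrpCat.epi_iff_surjective]
  exact surj J B Cov h1 h2 hE hF _ hV

include h1 h2 in
lemma cechAcyc_X₃ {E : ShortComplex (Sheaf J AddCommGrpCat.{u})} (hE : E.ShortExact)
    [Injective E.X₂] (hF : CechAcyc J Cov E.X₁) : CechAcyc J Cov E.X₃ := by
  intro U ι Y hCov q
  haveI := CohSiteOver.injective_R J U E.X₂
  haveI : Injective (E.map (Φ J (U := U))).X₂ :=
    Injective.injective_of_adjoint (sheafificationAdjunction (J.over U) AddCommGrpCat.{u})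
      ((CohSiteOver.R J U).obj E.X₂)
  refine CechFamLES.isZero_homology_X₃ (fam Y).cech (E.map (Φ J (U := U))) ?_ q ?_ ?_
  · intro n i
    exact shortExact_sections J B Cov h1 h2 hE hF _ ((h1 U ι Y hCov).2.2 n i)
  · exact isZero_homology_family Y _ q
  · exact hF U ι Y hCov (q + 1)

include h1 h2 in
/-- **Cartan's criterion on a collection of objects and covering families** -/
theorem cartan : ∀ (p : ℕ) (F : Sheaf J AddCommGrpCat.{u}), CechAcyc J Cov F →
    ∀ U ∈ B, ∀ x : Ext (Zfree J U) F (p + 1), x = 0 := by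
  intro p
  induction p with
  | zero =>
    intro F hF U hU x
    have hE := ExtAcyc.sesUnder_shortExact F
    refine SieveExt.ext_succ_eq_zero_of_lift hE (Zfree J U) 0 (fun _ σ => ?_)
      (fun h => absurd h (lt_irrefl 0)) x
    obtain ⟨y', hy'⟩ := ext_zero_surj_of_sections_surj J U (ExtAcyc.sesUnder F).g
      (surj J B Cov h1 h2 hE hF U hU) (Ext.mk₀ σ)
    obtain ⟨τ, rfl⟩ := (Ext.mk₀_bijective _ _).2 y'
    rw [Ext.mk₀_comp_mk₀] at hy'
    exact ⟨τ, (Ext.mk₀_bijective _ _).1 hy'⟩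
  | succ p ih =>
    intro F hF U hU x
    have hE := ExtAcyc.sesUnder_shortExact F
    exact SieveExt.ext_succ_eq_zero_of_lift hE (Zfree J U) (p + 1)
      (fun h => absurd h (Nat.succ_ne_zero p))
      (fun _ y => ih _ (cechAcyc_X₃ J B Cov h1 h2 hE hF) U hU y) x

end Groth.Agent.Lib.Helper6.CechFamCartan
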