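import Groth.Agent.Lib.Helper6.CechFamRes

/-!
# Naturality of the `Hom` representation of the Čech complex (helper6)
-/

universe u

set_option linter.unusedSectionVars false

open CategoryTheory Limits Opposite Simplicial AlgebraicTopology Abelian

namespace Groth.Agent.Lib.Helper6.CechFamNat

open CechFamRep CechFamRes

variable {D : Type u} [SmallCategory D] [HasFiniteProducts D] (𝒰 : FormalCoproduct.{u} D)

/-- the functor `F ↦ Hom(X_•, F)` to cosimplicial abelian groups -/
abbrev homCosimpFunctor {𝒜 : Type*} [Category 𝒜] [Preadditive 𝒜] (X : SimplicialObject 𝒜) :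
    𝒜 ⥤ CosimplicialObject AddCommGrpCat :=
  preadditiveYoneda ⋙ (Functor.whiskeringLeft _ _ _).obj X.rightOp

lemma κ_inv_naturality_right {P P' : Dᵒᵖ ⥤ AddCommGrpCat.{u}} (φ : P ⟶ P')
    (𝒱 : FormalCoproduct.{u} D) :
    ((FormalCoproduct.evalOp.{u} D AddCommGrpCat.{u}).map φ).app (op 𝒱) ≫ (κ P').inv.app (op 𝒱) =
      (κ P).inv.app (op 𝒱) ≫ (preadditiveYoneda.map φ).app (op (Q.obj 𝒱)) := by
  rw [← cancel_mono ((κ P').hom.app (op 𝒱)), Category.assoc, Category.assoc,
    Iso.inv_hom_id_app, Category.comp_id]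
  have := κhom_naturality_right φ 𝒱
  change _ = (κ P).inv.app (op 𝒱) ≫ (preadditiveYoneda.map φ).app (op (Q.obj 𝒱)) ≫ κhom P' 𝒱
  rw [this]
  change _ = (κ P).inv.app (op 𝒱) ≫ (κ P).hom.app (op 𝒱) ≫ _
  rw [Iso.inv_hom_id_app_assoc]

/-- the Čech cosimplicial group functor as a `Hom` functor -/
noncomputable def cosimpNatIso :
    FormalCoproduct.cosimplicialObjectFunctor (A := AddCommGrpCat.{u}) 𝒰.cech ≅
      homCosimpFunctor (X 𝒰) :=
  NatIso.ofComponents (fun P => cosimpIso 𝒰 P) (by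
    intro P P' φ
    apply NatTrans.ext
    funext n
    let g := (rightOpIso (𝒰.cechIsoCechNerve terminalIsTerminal)).hom.app n
    change ((FormalCoproduct.evalOp.{u} D AddCommGrpCat.{u}).map φ).app (op (𝒰.cech.obj (op n))) ≫
        (κ P').inv.app (op (𝒰.cech.obj (op n))) ≫ (Q.op ⋙ preadditiveYoneda.obj P').map g =
      ((κ P).inv.app (op (𝒰.cech.obj (op n))) ≫ (Q.op ⋙ preadditiveYoneda.obj P).map g) ≫
        (preadditiveYoneda.map φ).app _
    rw [← Category.assoc, κ_inv_naturality_right, Category.assoc, Category.assoc]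
    congr 1)

end Groth.Agent.Lib.Helper6.CechFamNat
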