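import Mathlib.Algebra.Homology.ShortComplex.ShortExact
import Mathlib.CategoryTheory.Abelian.Basic

/-!
# Comparison of effaceable δ-functors by dimension shifting (helper6)

`delta_compare`: two families of functors `S n, T n : 𝒜 ⥤ ℬ` with `S 0 ≅ T 0`, which on a class
`P` of objects admit "dimension shifting" presentations (`G ⟶ I ⟶ Q` with `S (n+1) I = 0`,
`T (n+1) I = 0`, and exact sequences `S n I ⟶ S n Q ⟶ S (n+1) G ⟶ S (n+1) I`, same for `T`)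
agree objectwise on `P`.
-/

universe v v' u u'

open CategoryTheory Limits

namespace Groth.Agent.Lib.Helper6.DeltaCompare

variable {𝒜 : Type u} [Category.{v} 𝒜] {ℬ : Type u'} [Category.{v'} ℬ] [Abelian ℬ]

/-- Dimension shifting data for `G` with respect to a family of functors `S`. -/
def HasShift (S : ℕ → 𝒜 ⥤ ℬ) {G I Q : 𝒜} (i : G ⟶ I) (p : I ⟶ Q) : Prop :=
  (∀ n, IsZero ((S (n + 1)).obj I)) ∧
    ∀ n, ∃ (δ : (S n).obj Q ⟶ (S (n + 1)).obj G) (w₁ : (S n).map p ≫ δ = 0)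
      (w₂ : δ ≫ (S (n + 1)).map i = 0),
      (ShortComplex.mk _ _ w₁).Exact ∧ (ShortComplex.mk _ _ w₂).Exact

lemma HasShift.nonempty_iso_cokernel {S : ℕ → 𝒜 ⥤ ℬ} {G I Q : 𝒜} {i : G ⟶ I} {p : I ⟶ Q}
    (h : HasShift S i p) (n : ℕ) :
    Nonempty ((S (n + 1)).obj G ≅ cokernel ((S n).map p)) := by
  obtain ⟨δ, w₁, w₂, e₁, e₂⟩ := h.2 n
  have hepi : Epi δ := e₂.epi_f ((h.1 n).eq_of_tgt _ _)
  have hc : IsColimit (CokernelCofork.ofπ δ w₁) := e₁.gIsCokernel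
  exact ⟨(IsColimit.coconePointUniqueUpToIso hc (cokernelIsCokernel ((S n).map p)) :
    (CokernelCofork.ofπ δ w₁).pt ≅ (CokernelCofork.ofπ (cokernel.π ((S n).map p))
      (cokernel.condition _)).pt)⟩

lemma HasShift.nonempty_iso_succ {S : ℕ → 𝒜 ⥤ ℬ} {G I Q : 𝒜} {i : G ⟶ I} {p : I ⟶ Q}
    (h : HasShift S i p) (n : ℕ) :
    Nonempty ((S (n + 1)).obj Q ≅ (S (n + 2)).obj G) := by
  obtain ⟨δ, w₁, w₂, e₁, e₂⟩ := h.2 (n + 1)
  have hepi : Epi δ := e₂.epi_f ((h.1 (n + 1)).eq_of_tgt _ _)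
  have hmono : Mono δ := e₁.mono_g ((h.1 n).eq_of_src _ _)
  have := isIso_of_mono_of_epi δ
  exact ⟨asIso δ⟩

/-- Comparison of δ-functors on a class of objects. -/
theorem delta_compare (S T : ℕ → 𝒜 ⥤ ℬ) (θ : S 0 ≅ T 0) (P : 𝒜 → Prop)
    (step : ∀ G, P G → ∃ (I Q : 𝒜) (i : G ⟶ I) (p : I ⟶ Q), P Q ∧ HasShift S i p ∧
      HasShift T i p) :
    ∀ (n : ℕ) (G : 𝒜), P G → Nonempty ((S n).obj G ≅ (T n).obj G) := by
  intro n
  induction n with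
  | zero => exact fun G _ => ⟨θ.app G⟩
  | succ n ih =>
    intro G hG
    obtain ⟨I, Q, i, p, hQ, hS, hT⟩ := step G hG
    cases n with
    | zero =>
      obtain ⟨e₁⟩ := hS.nonempty_iso_cokernel 0
      obtain ⟨e₂⟩ := hT.nonempty_iso_cokernel 0
      exact ⟨e₁ ≪≫ cokernel.mapIso _ _ (θ.app I) (θ.app Q) (θ.hom.naturality p) ≪≫ e₂.symm⟩
    | succ m =>
      obtain ⟨e₁⟩ := hS.nonempty_iso_succ m
      obtain ⟨e₂⟩ := hT.nonempty_iso_succ m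
      obtain ⟨e⟩ := ih Q hQ
      exact ⟨e₁.symm ≪≫ e ≪≫ e₂⟩

end Groth.Agent.Lib.Helper6.DeltaCompare
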