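import Groth.Agent.Lib.Helper6.RDNat
import Groth.Agent.Lib.Helper6.DeltaCompare

/-!
# Dimension shifting for `F.rightDerived` (helper6)
-/

universe v v' v'' u u' u''

open CategoryTheory Limits

namespace Groth.Agent.Lib.Helper6.RDShift

open DeltaCompare

variable {A : Type u} {B : Type u'} [Category.{v} A] [Category.{v'} B] [Abelian A] [Abelian B]
  [EnoughInjectives A] (F : A ⥤ B) [F.Additive]

/-- The long exact sequence of `F.rightDerived`, without derived category assumptions. -/
theorem rightDerived_les {S : ShortComplex A} (hS : S.ShortExact) (k : ℕ) :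
    ∃ (δ : (F.rightDerived k).obj S.X₃ ⟶ (F.rightDerived (k + 1)).obj S.X₁)
      (w₀ : (F.rightDerived k).map S.f ≫ (F.rightDerived k).map S.g = 0)
      (w₁ : (F.rightDerived k).map S.g ≫ δ = 0)
      (w₂ : δ ≫ (F.rightDerived (k + 1)).map S.f = 0),
      (ShortComplex.mk _ _ w₀).Exact ∧ (ShortComplex.mk _ _ w₁).Exact ∧
        (ShortComplex.mk _ _ w₂).Exact := by
  letI := HasDerivedCategory.standard A
  letI := HasDerivedCategory.standard B
  exact RDNat.rightDerived_les F hS k

/-- The right derived functors are additive. -/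
instance rightDerived_additive (n : ℕ) : (F.rightDerived n).Additive where
  map_add {X Y f g} := by
    let P := injectiveResolution X
    let Q := injectiveResolution Y
    have w : P.ι ≫ (InjectiveResolution.desc f Q P + InjectiveResolution.desc g Q P) =
        (CochainComplex.single₀ A).map (f + g) ≫ Q.ι := by
      rw [Preadditive.comp_add, InjectiveResolution.desc_commutes,
        InjectiveResolution.desc_commutes, Functor.map_add, Preadditive.add_comp]
    rw [F.rightDerived_map_eq n (f + g) _ w,
      F.rightDerived_map_eq n f _ (InjectiveResolution.desc_commutes f Q P),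
      F.rightDerived_map_eq n g _ (InjectiveResolution.desc_commutes g Q P),
      Functor.map_add, Preadditive.add_comp, Preadditive.comp_add]

/-- `R⁰F` preserves monomorphisms which are part of a short exact sequence. -/
lemma mono_rightDerived_zero_map {S : ShortComplex A} (hS : S.ShortExact) :
    Mono ((F.rightDerived 0).map S.f) := by
  let _ := HasDerivedCategory.standard A
  let _ := HasDerivedCategory.standard B
  have h := RDAdapted.mono_Φmap_zero F hS
  have h' : Mono ((RDNat.ΦFunctor F ((0 : ℕ) : ℤ)).map S.f) := h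
  have nat := (RDNat.natIso F 0).hom.naturality S.f
  have : (F.rightDerived 0).map S.f = (RDNat.natIso F 0).inv.app S.X₁ ≫
      (RDNat.ΦFunctor F ((0 : ℕ) : ℤ)).map S.f ≫ (RDNat.natIso F 0).hom.app S.X₂ := by
    rw [nat, Iso.inv_hom_id_app_assoc]
  rw [this]
  infer_instance

/-- `R⁰F` is left exact. -/
instance rightDerived_zero_pfl : PreservesFiniteLimits (F.rightDerived 0) := by
  rw [Functor.preservesFiniteLimits_iff_forall_exact_map_and_mono]
  intro S hS
  obtain ⟨δ, w₀, w₁, w₂, e₀, e₁, e₂⟩ := rightDerived_les F hS 0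
  exact ⟨e₀, mono_rightDerived_zero_map F hS⟩

/-- `F.rightDerived` has dimension shifting along a short exact sequence with acyclic middle
term. -/
lemma hasShift_rightDerived (E : ShortComplex A) (hE : E.ShortExact)
    (hI : ∀ n, IsZero ((F.rightDerived (n + 1)).obj E.X₂)) :
    HasShift (fun n => F.rightDerived n) E.f E.g := by
  refine ⟨hI, fun n => ?_⟩
  obtain ⟨δ, w₀, w₁, w₂, e₀, e₁, e₂⟩ := rightDerived_les F hE n
  exact ⟨δ, w₁, w₂, e₁, e₂⟩

/-- precomposition with a functor which is exact on the given sequence -/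
lemma hasShift_comp_rightDerived {A' : Type u''} [Category.{v''} A'] [Abelian A']
    (Ψ : A' ⥤ A) [Ψ.Additive] (E : ShortComplex A') (hE : (E.map Ψ).ShortExact)
    (hI : ∀ n, IsZero ((F.rightDerived (n + 1)).obj (Ψ.obj E.X₂))) :
    HasShift (fun n => Ψ ⋙ F.rightDerived n) E.f E.g :=
  hasShift_rightDerived F (E.map Ψ) hE hI

omit [Abelian A] [EnoughInjectives A] in
/-- postcomposition with an exact functor -/
lemma HasShift.comp_exact {C : Type u''} [Category.{v''} C] [Abelian C] {S : ℕ → A ⥤ B}
    {G I Q : A} {i : G ⟶ I} {p : I ⟶ Q} (h : HasShift S i p)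
    (Ψ : B ⥤ C) [Ψ.PreservesZeroMorphisms] [Ψ.PreservesHomology] :
    HasShift (fun n => S n ⋙ Ψ) i p := by
  refine ⟨fun n => Ψ.map_isZero (h.1 n), fun n => ?_⟩
  obtain ⟨δ, w₁, w₂, e₁, e₂⟩ := h.2 n
  refine ⟨Ψ.map δ, ?_, ?_, ?_, ?_⟩
  · dsimp only [Functor.comp_map]
    rw [← Ψ.map_comp, w₁, Ψ.map_zero]
  · dsimp only [Functor.comp_map]
    rw [← Ψ.map_comp, w₂, Ψ.map_zero]
  · exact e₁.map Ψ
  · exact e₂.map Ψ

end Groth.Agent.Lib.Helper6.RDShift
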