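import Groth.Agent.Lib.Helper6.SheafCoh
import Groth.Agent.Lib.Helper6.ExtShift
import Groth.Agent.Lib.Helper6.RDShift

/-!
# The cohomology presheaves `U ↦ H^n(U, F)` as a δ-functor (helper6)
-/

universe v u

open CategoryTheory Limits Opposite Abelian

namespace Groth.Agent.Lib.Helper6.CohPresheaf

open DeltaCompare SheafCoh

section Eval

variable {J : Type*} [Category J] {A : Type*} [Category A] [Abelian A]

/-- Exactness of a short complex of functors can be checked objectwise. -/
lemma exact_of_evaluation (S : ShortComplex (J ⥤ A))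
    (h : ∀ j, (S.map ((evaluation J A).obj j)).Exact) : S.Exact := by
  rw [ShortComplex.exact_iff_isZero_homology, Functor.isZero_iff]
  intro j
  have hj := h j
  rw [ShortComplex.exact_iff_isZero_homology] at hj
  exact hj.of_iso (S.mapHomologyIso ((evaluation J A).obj j)).symm

end Eval

variable {C : Type u} [Category.{v} C] (J : GrothendieckTopology C)
  [HasSheafify J AddCommGrpCat.{v}] [HasExt.{v} (Sheaf J AddCommGrpCat.{v})]

/-- the cohomology presheaf functor -/
noncomputable abbrev P (n : ℕ) : Sheaf J AddCommGrpCat.{v} ⥤ Cᵒᵖ ⥤ AddCommGrpCat.{v} :=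
  Sheaf.cohomologyPresheafFunctor J n

lemma P_obj_map (n : ℕ) (F : Sheaf J AddCommGrpCat.{v}) {U V : Cᵒᵖ} (i : U ⟶ V)
    (x : Ext (Zfree J U.unop) F n) :
    ((P J n).obj F).map i x = (Ext.mk₀ (ZfreeMap J i.unop)).comp x (zero_add _) := rfl

lemma P_map_app (n : ℕ) {F G : Sheaf J AddCommGrpCat.{v}} (g : F ⟶ G) (U : Cᵒᵖ)
    (x : Ext (Zfree J U.unop) F n) :
    ((P J n).map g).app U x = x.comp (Ext.mk₀ g) (add_zero n) := rfl

variable {J}

/-- the connecting homomorphism of cohomology presheaves -/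
noncomputable def δP (E : ShortComplex (Sheaf J AddCommGrpCat.{v})) (hE : E.ShortExact) (n : ℕ) :
    (P J n).obj E.X₃ ⟶ (P J (n + 1)).obj E.X₁ where
  app U := AddCommGrpCat.ofHom (hE.extClass.postcomp (Zfree J U.unop) rfl)
  naturality U V i := by
    ext x
    exact (Ext.comp_assoc (Ext.mk₀ (ZfreeMap J i.unop)) x hE.extClass (zero_add n) rfl
      (show 0 + n + 1 = n + 1 by lia))

lemma δP_app (E : ShortComplex (Sheaf J AddCommGrpCat.{v})) (hE : E.ShortExact) (n : ℕ)
    (U : Cᵒᵖ) :
    (δP E hE n).app U = AddCommGrpCat.ofHom (hE.extClass.postcomp (Zfree J U.unop) rfl) := rfl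

lemma P_map_g_δP (E : ShortComplex (Sheaf J AddCommGrpCat.{v})) (hE : E.ShortExact) (n : ℕ) :
    (P J n).map E.g ≫ δP E hE n = 0 := by
  ext U x
  change (x.comp (Ext.mk₀ E.g) (add_zero n)).comp hE.extClass rfl = 0
  rw [Ext.comp_assoc_of_second_deg_zero, hE.comp_extClass, Ext.comp_zero]

lemma δP_P_map_f (E : ShortComplex (Sheaf J AddCommGrpCat.{v})) (hE : E.ShortExact) (n : ℕ) :
    δP E hE n ≫ (P J (n + 1)).map E.f = 0 := by
  ext U x
  change (x.comp hE.extClass rfl).comp (Ext.mk₀ E.f) (add_zero (n + 1)) = 0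
  rw [Ext.comp_assoc_of_third_deg_zero, hE.extClass_comp, Ext.comp_zero]

/-- The cohomology presheaves have dimension shifting along short exact sequences with
injective middle term. -/
lemma hasShift_P (E : ShortComplex (Sheaf J AddCommGrpCat.{v})) (hE : E.ShortExact)
    [Injective E.X₂] : HasShift (fun n => P J n) E.f E.g := by
  refine ⟨fun n => ?_, fun n => ⟨δP E hE n, P_map_g_δP E hE n, δP_P_map_f E hE n, ?_, ?_⟩⟩
  · rw [Functor.isZero_iff]
    intro U
    have : Subsingleton (Ext (Zfree J U.unop) E.X₂ (n + 1)) :=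
      subsingleton_of_forall_eq 0 (fun x => Ext.eq_zero_of_injective x)
    exact AddCommGrpCat.isZero_of_subsingleton (AddCommGrpCat.of (Ext (Zfree J U.unop) E.X₂ (n + 1)))
  · apply exact_of_evaluation
    intro U
    exact Ext.covariant_sequence_exact₃' (Zfree J U.unop) hE n (n + 1) rfl
  · apply exact_of_evaluation
    intro U
    exact Ext.covariant_sequence_exact₁' (Zfree J U.unop) hE n (n + 1) rfl

lemma addEquiv₀_mk₀ {A B : Sheaf J AddCommGrpCat.{v}} (f : A ⟶ B) :
    Ext.addEquiv₀ (Ext.mk₀ f) = f := by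
  rw [← Ext.addEquiv₀_symm_apply, AddEquiv.apply_symm_apply]

lemma H'equiv₀_naturality_right (U : C) {G G' : Sheaf J AddCommGrpCat.{v}} (g : G ⟶ G')
    (x : Ext (Zfree J U) G 0) :
    H'equiv₀ J G' U (x.comp (Ext.mk₀ g) (add_zero 0)) = g.hom.app (op U) (H'equiv₀ J G U x) := by
  obtain ⟨φ, rfl⟩ := Ext.addEquiv₀.symm.surjective x
  simp only [H'equiv₀, AddEquiv.trans_apply, Ext.addEquiv₀_symm_apply, Ext.mk₀_comp_mk₀,
    addEquiv₀_mk₀, homAddEquiv_apply]
  exact homEquiv_naturality_right _ φ g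

lemma H'equiv₀_naturality_left {U V : C} (i : V ⟶ U) (G : Sheaf J AddCommGrpCat.{v})
    (x : Ext (Zfree J U) G 0) :
    H'equiv₀ J G V ((Ext.mk₀ (ZfreeMap J i)).comp x (zero_add 0)) =
      G.obj.map i.op (H'equiv₀ J G U x) := by
  obtain ⟨φ, rfl⟩ := Ext.addEquiv₀.symm.surjective x
  simp only [H'equiv₀, AddEquiv.trans_apply, Ext.addEquiv₀_symm_apply, Ext.mk₀_comp_mk₀,
    addEquiv₀_mk₀, homAddEquiv_apply]
  exact homEquiv_naturality_left _ i φ

variable (J) in
/-- `H^0(U, F) ≅ F(U)`, naturally in `U` and `F`. -/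
noncomputable def Piso₀ : P J 0 ≅ sheafToPresheaf J AddCommGrpCat.{v} :=
  NatIso.ofComponents (fun F => NatIso.ofComponents
    (fun U => (H'equiv₀ J F U.unop).toAddCommGrpIso) (fun {U V} i => by
      ext x
      exact H'equiv₀_naturality_left i.unop F x)) (fun {F G} g => by
      ext U x
      exact H'equiv₀_naturality_right U.unop g x)

variable (J) in
/-- The right derived functors of the forgetful functor from sheaves to presheaves are the
cohomology presheaves (objectwise). -/
theorem nonempty_rightDerived_sheafToPresheaf_iso [EnoughInjectives (Sheaf J AddCommGrpCat.{v})]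
    (F : Sheaf J AddCommGrpCat.{v}) (p : ℕ) :
    Nonempty (((sheafToPresheaf J AddCommGrpCat.{v}).rightDerived p).obj F ≅ (P J p).obj F) :=
  delta_compare (fun n => (sheafToPresheaf J AddCommGrpCat.{v}).rightDerived n) (fun n => P J n)
    (Functor.rightDerivedZeroIsoSelf _ ≪≫ (Piso₀ J).symm) (fun _ => True) (fun G _ => by
      have hE := ExtAcyc.sesUnder_shortExact G
      have hI : Injective (ExtAcyc.sesUnder G).X₂ := inferInstance
      exact ⟨_, _, (ExtAcyc.sesUnder G).f, (ExtAcyc.sesUnder G).g, trivial,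
        RDShift.hasShift_rightDerived _ _ hE
          (fun n => Functor.isZero_rightDerived_obj_injective_succ _ n _),
        hasShift_P _ hE⟩) p F trivial

end Groth.Agent.Lib.Helper6.CohPresheaf
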