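import Mathlib.Algebra.Homology.ShortComplex.HomologicalComplex
import Mathlib.Algebra.Homology.HomologicalComplexAbelian

/-!
# `H⁰` of a functorial cochain complex with a left exact augmentation (helper6)
-/

universe v u

open CategoryTheory Limits

namespace Groth.Agent.Lib.Helper6.H0Iso

variable {𝒜 : Type*} [Category 𝒜] {ℬ : Type u} [Category.{v} ℬ] [Abelian ℬ]
  (Č : 𝒜 ⥤ CochainComplex ℬ ℕ) (Γ : 𝒜 ⥤ ℬ)
  (η : Γ ⟶ Č ⋙ HomologicalComplex.eval _ _ 0)
  (hη : ∀ F, η.app F ≫ (Č.obj F).d 0 1 = 0)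
  (hex : ∀ F, (ShortComplex.mk _ _ (hη F)).Exact) (hmono : ∀ F, Mono (η.app F))

/-- the component -/
noncomputable def app (F : 𝒜) : Γ.obj F ⟶ (Č.obj F).homology 0 :=
  (Č.obj F).liftCycles (η.app F) 1 (by simp) (hη F) ≫ (Č.obj F).homologyπ 0

include hex hmono in
lemma isIso_app (F : 𝒜) : IsIso (app Č Γ η hη F) := by
  have : IsIso ((Č.obj F).liftCycles (η.app F) 1 (by simp) (hη F)) :=
    (CochainComplex.isIso_liftCycles_iff _ _ _).2 ⟨hex F, hmono F⟩
  unfold app
  infer_instance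

lemma app_naturality {F F' : 𝒜} (g : F ⟶ F') :
    Γ.map g ≫ app Č Γ η hη F' =
      app Č Γ η hη F ≫ HomologicalComplex.homologyMap (Č.map g) 0 := by
  unfold app
  rw [Category.assoc, HomologicalComplex.homologyπ_naturality,
    HomologicalComplex.liftCycles_comp_cyclesMap_assoc, ← Category.assoc]
  congr 1
  rw [← cancel_mono ((Č.obj F').iCycles 0), Category.assoc, HomologicalComplex.liftCycles_i,
    HomologicalComplex.liftCycles_i]
  exact η.naturality g

/-- `Γ ≅ H⁰(Č)` -/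
noncomputable def natIso : Γ ≅ Č ⋙ HomologicalComplex.homologyFunctor _ _ 0 :=
  NatIso.ofComponents (fun F => @asIso _ _ _ _ (app Č Γ η hη F) (isIso_app Č Γ η hη hex hmono F))
    (fun g => app_naturality Č Γ η hη g)

end Groth.Agent.Lib.Helper6.H0Iso
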