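import Groth.Agent.Lib.Helper6.CechFamH0
import Groth.Agent.Lib.Helper6.CechFamNat
import Groth.Agent.Lib.Helper6.H0Iso
import Groth.Agent.Lib.Helper6.CechFamCartan
import Groth.Agent.Lib.Helper6.CohPresheaf
import Groth.Agent.Lib.Helper6.ExtShift

/-!
# Čech cohomology of an acyclic covering family computes cohomology (helper6)
-/

universe u

set_option linter.unusedSectionVars false

open CategoryTheory Limits Opposite Simplicial AlgebraicTopology Abelian

namespace Groth.Agent.Lib.Helper6.CechFamDerived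

open CechFamRep CechFamRes CechFamSurj CechFamH0 CechFamNat SheafCoh DeltaCompare

variable {C : Type u} [SmallCategory C] [HasPullbacks C] (J : GrothendieckTopology C) {U : C}
  {ι : Type u} (Y : ι → Over U)

/-- the `Hom` complex functor -/
noncomputable abbrev Čh : Sheaf J AddCommGrpCat.{u} ⥤ CochainComplex AddCommGrpCat.{u} ℕ :=
  Φ J (U := U) ⋙ homCosimpFunctor (X (fam Y)) ⋙ alternatingCofaceMapComplex AddCommGrpCat.{u}

/-- sections over `U` -/
abbrev ΓU : Sheaf J AddCommGrpCat.{u} ⥤ AddCommGrpCat.{u} :=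
  sheafToPresheaf J AddCommGrpCat.{u} ⋙ (evaluation _ _).obj (op U)

/-- the augmentation on elements -/
noncomputable def ηfun (F : Sheaf J AddCommGrpCat.{u}) :
    F.obj.obj (op U) →+ ((KK Y).X 0 ⟶ (Φ J (U := U)).obj F) :=
  AddMonoidHom.mk' (fun s => LeftAcyc.aug₀ (KK Y) (εε Y) ≫ σ J Y F s) (fun s s' => by
    rw [σ_add, Preadditive.comp_add])

/-- the augmentation `F(U) ⟶ Č⁰` -/
noncomputable def η : ΓU J (U := U) ⟶ Čh J Y ⋙ HomologicalComplex.eval _ _ 0 where
  app F := AddCommGrpCat.ofHom (ηfun J Y F)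
  naturality F F' g := by
    ext s
    change LeftAcyc.aug₀ (KK Y) (εε Y) ≫ σ J Y F' (g.hom.app _ s) =
      (LeftAcyc.aug₀ (KK Y) (εε Y) ≫ σ J Y F s) ≫ (Φ J (U := U)).map g
    rw [Category.assoc, σ_naturality]

lemma Čh_d_apply (F : Sheaf J AddCommGrpCat.{u}) (x : (KK Y).X 0 ⟶ (Φ J (U := U)).obj F) :
    ((Čh J Y).obj F).d 0 1 x = (KK Y).d 1 0 ≫ x :=
  HomCx.d_apply (X (fam Y)) ((Φ J (U := U)).obj F) 0 x

lemma hη (F : Sheaf J AddCommGrpCat.{u}) : (η J Y).app F ≫ ((Čh J Y).obj F).d 0 1 = 0 := by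
  ext s
  change ((Čh J Y).obj F).d 0 1 (LeftAcyc.aug₀ (KK Y) (εε Y) ≫ σ J Y F s) = 0
  haveI : QuasiIso (εε Y) := quasiIso_ε_Y'' (fam Y)
  rw [Čh_d_apply, ← Category.assoc, LeftAcyc.d_comp_aug₀, zero_comp]
  rfl

variable (hY : Sieve.ofArrows (fun i => (Y i).left) (fun i => (Y i).hom) ∈ J U)

include hY in
lemma hex (F : Sheaf J AddCommGrpCat.{u}) : (ShortComplex.mk _ _ (hη J Y F)).Exact := by
  haveI : QuasiIso (εε Y) := quasiIso_ε_Y'' (fam Y)
  rw [ShortComplex.ab_exact_iff]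
  intro x hx
  have hx' : (KK Y).d 1 0 ≫ x = 0 := (Čh_d_apply J Y F x).symm.trans hx
  obtain ⟨τ, hτ⟩ := LeftAcyc.exists_desc₀ (KK Y) (εε Y) x hx'
  obtain ⟨t, ht⟩ := σ_surjective J Y hY F τ
  refine ⟨t, ?_⟩
  change LeftAcyc.aug₀ (KK Y) (εε Y) ≫ σ J Y F t = x
  rw [ht, hτ]

include hY in
lemma hmono (F : Sheaf J AddCommGrpCat.{u}) : Mono ((η J Y).app F) := by
  haveI : QuasiIso (εε Y) := quasiIso_ε_Y'' (fam Y)
  rw [AddCommGrpCat.mono_iff_injective]
  intro s s' h
  have h' : LeftAcyc.aug₀ (KK Y) (εε Y) ≫ σ J Y F s = LeftAcyc.aug₀ (KK Y) (εε Y) ≫ σ J Y F s' := h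
  haveI := LeftAcyc.epi_aug₀ (KK Y) (εε Y)
  exact σ_injective J Y hY F ((cancel_epi _).1 h')

/-- `F(U) ≅ H⁰(Hom(K, F))`, naturally in `F` -/
noncomputable def θh : ΓU J (U := U) ≅ Čh J Y ⋙ HomologicalComplex.homologyFunctor _ _ 0 :=
  H0Iso.natIso (Čh J Y) (ΓU J) (η J Y) (hη J Y) (hex J Y hY) (hmono J Y hY)

/-- Čech cohomology functors -/
noncomputable abbrev Sn (n : ℕ) : Sheaf J AddCommGrpCat.{u} ⥤ AddCommGrpCat.{u} :=
  Φ J (U := U) ⋙ FormalCoproduct.cochainComplexFunctor (fam Y).cech ⋙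
    HomologicalComplex.homologyFunctor _ _ n

/-- Čech `H⁰` as `H⁰` of the `Hom` complex -/
noncomputable def θS : Sn J Y 0 ≅ Čh J Y ⋙ HomologicalComplex.homologyFunctor _ _ 0 :=
  Functor.isoWhiskerLeft (Φ J (U := U)) (Functor.isoWhiskerRight
    (Functor.isoWhiskerRight (cosimpNatIso (fam Y)) (alternatingCofaceMapComplex AddCommGrpCat.{u}))
    (HomologicalComplex.homologyFunctor _ _ 0))

/-- `H⁰(U, -)` is sections over `U` -/
noncomputable def θT : extFunctorObj (Zfree J U) 0 ≅ ΓU J (U := U) :=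
  NatIso.ofComponents (fun F => (H'equiv₀ J F U).toAddCommGrpIso) (fun {F F'} g => by
    ext x
    exact CohPresheaf.H'equiv₀_naturality_right U g x)

/-- Čech `H⁰` is `H⁰(U, -)` -/
noncomputable def θ : Sn J Y 0 ≅ extFunctorObj (Zfree J U) 0 :=
  θS J Y ≪≫ (θh J Y hY).symm ≪≫ (θT J).symm

/-- sections over objects of `Over U` are short exact if right exact -/
lemma shortExact_sections_of_surj {E : ShortComplex (Sheaf J AddCommGrpCat.{u})} (hE : E.ShortExact)
    (V' : Over U) (hV : Function.Surjective (E.g.hom.app (op V'.left))) :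
    ((E.map (Φ J (U := U))).map ((evaluation _ _).obj (op V'))).ShortExact := by
  have h30 := (CechFamCartan.Ψ J V').preservesFiniteLimits_tfae.out 3 0
  have hΨ : (E.map (CechFamCartan.Ψ J V')).Exact ∧ Mono (E.map (CechFamCartan.Ψ J V')).f :=
    h30.1 inferInstance E hE
  refine ShortComplex.ShortExact.mk' hΨ.1 hΨ.2 ?_
  change Epi (E.g.hom.app (op V'.left))
  rw [AddCommGrpCat.epi_iff_surjective]
  exact hV

/-- the acyclicity hypothesis on the covering -/
def Acyc (F : Sheaf J AddCommGrpCat.{u}) : Prop :=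
  ∀ (p : ℕ) (a : Fin (p + 1) → ι) (q : ℕ)
    (x : Ext (Zfree J (∏ᶜ fun k => Y (a k)).left) F (q + 1)), x = 0

lemma hasShift_S {E : ShortComplex (Sheaf J AddCommGrpCat.{u})} (hE : E.ShortExact)
    [Injective E.X₂] (hF : Acyc J Y E.X₁) : HasShift (fun n => Sn J Y n) E.f E.g := by
  haveI := CohSiteOver.injective_R J U E.X₂
  haveI : Injective ((Φ J (U := U)).obj E.X₂) :=
    Injective.injective_of_adjoint (sheafificationAdjunction (J.over U) AddCommGrpCat.{u})
      ((CohSiteOver.R J U).obj E.X₂)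
  have hT : ∀ (n : ℕ) (i : ((fam Y).cech.obj (op ⦋n⦌)).I),
      ((E.map (Φ J (U := U))).map ((evaluation _ _).obj
        (op (((fam Y).cech.obj (op ⦋n⦌)).obj i)))).ShortExact := by
    intro n i
    exact shortExact_sections_of_surj J hE _
      (SieveExt.surjective_of_H1_vanish J hE _ (fun x => hF n i 0 x))
  have hS := CechFamLES.shortExact_cech (fam Y).cech (E.map (Φ J (U := U))) hT
  refine ⟨fun n => isZero_homology_family Y ((Φ J (U := U)).obj E.X₂) n, fun n => ?_⟩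
  have hij : (ComplexShape.up ℕ).Rel n (n + 1) := by simp
  exact ⟨hS.δ n (n + 1) hij, hS.comp_δ n (n + 1) hij, hS.δ_comp n (n + 1) hij,
    hS.homology_exact₃ n (n + 1) hij, hS.homology_exact₁ n (n + 1) hij⟩

include hY in
/-- **Čech cohomology of an acyclic covering computes cohomology** -/
theorem nonempty_iso (F : Sheaf J AddCommGrpCat.{u}) (hF : Acyc J Y F) (p : ℕ) :
    Nonempty ((Sn J Y p).obj F ≅ (extFunctorObj (Zfree J U) p).obj F) :=
  delta_compare (fun n => Sn J Y n) (fun n => extFunctorObj (Zfree J U) n) (θ J Y hY)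
    (Acyc J Y) (fun G hG => by
      have hE := ExtAcyc.sesUnder_shortExact G
      have hI : Injective (ExtAcyc.sesUnder G).X₂ := inferInstance
      refine ⟨_, _, (ExtAcyc.sesUnder G).f, (ExtAcyc.sesUnder G).g, ?_, hasShift_S J Y hE hG,
        ExtShift.hasShift_ext _ _ hE (fun n x => Ext.eq_zero_of_injective x)⟩
      intro p a q x
      exact TotAcycProd.vanish_X₃ hE _ (fun q x => hG p a q x) q x) p F hF

end Groth.Agent.Lib.Helper6.CechFamDerived
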