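import Groth.Agent.Lib.Helper6.CechFamThin
import Groth.Agent.Lib.Helper6.CechFamDerived

/-!
# Čech cohomology on topological spaces: reduction to the slice site (helper6)
-/

universe u

set_option linter.unusedSectionVars false

open CategoryTheory Limits Opposite TopologicalSpace Abelian

namespace Groth.Agent.Lib.Helper6.CechFamTop

open CechFamThin SheafCoh

variable {X : TopCat.{u}} (U₀ : Opens X) {κ : Type u} (W : κ → Opens X) (hW : ∀ k, W k ≤ U₀)

lemma left_prod_eq' (Y : κ → Over U₀) {α : Type} [Finite α] [Nonempty α] (a : α → κ) :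
    (∏ᶜ fun k => Y (a k)).left = ⨅ k, (Y (a k)).left := by
  apply le_antisymm
  · exact le_iInf (fun k => leOfHom (Pi.π (fun k => Y (a k)) k).left)
  · let k₀ : α := Classical.arbitrary α
    let Z : Over U₀ := Over.mk (homOfLE ((iInf_le _ k₀).trans (leOfHom (Y (a k₀)).hom)) :
      (⨅ k, (Y (a k)).left) ⟶ U₀)
    let m : Z ⟶ ∏ᶜ fun k => Y (a k) :=
      Pi.lift (fun k => Over.homMk (homOfLE (iInf_le _ k)) (Subsingleton.elim _ _))
    exact leOfHom m.left

lemma covering' (Y : κ → Over U₀) (h : iSup (fun k => (Y k).left) = U₀) :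
    Sieve.ofArrows (fun i => (Y i).left) (fun i => (Y i).hom) ∈
      Opens.grothendieckTopology X U₀ := by
  intro x hx
  rw [← h] at hx
  obtain ⟨i, hi⟩ := Opens.mem_iSup.1 hx
  exact ⟨(Y i).left, (Y i).hom, Sieve.ofArrows_mk _ _ i, hi⟩

lemma left_prod_eq {α : Type} [Finite α] [Nonempty α] (a : α → κ) :
    (∏ᶜ fun k => YO U₀ W hW (a k)).left = ⨅ k, W (a k) := by
  apply le_antisymm
  · exact le_iInf (fun k => leOfHom (Pi.π (fun k => YO U₀ W hW (a k)) k).left)
  · let k₀ : α := Classical.arbitrary α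
    let Z : Over U₀ := Over.mk (homOfLE ((iInf_le _ k₀).trans (hW (a k₀))) : (⨅ k, W (a k)) ⟶ U₀)
    let m : Z ⟶ ∏ᶜ fun k => YO U₀ W hW (a k) :=
      Pi.lift (fun k => Over.homMk (homOfLE (iInf_le _ k)) (Subsingleton.elim _ _))
    exact leOfHom m.left

lemma covering (h : iSup W = U₀) :
    Sieve.ofArrows (fun i => (YO U₀ W hW i).left) (fun i => (YO U₀ W hW i).hom) ∈
      Opens.grothendieckTopology X U₀ := by
  intro x hx
  rw [← h] at hx
  obtain ⟨i, hi⟩ := Opens.mem_iSup.1 hx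
  exact ⟨W i, homOfLE (hW i), Sieve.ofArrows_mk _ _ i, hi⟩

/-- **S0464** -/
theorem cech_eq_cohomology (F : CohTop.Ab X) {ι : Type u} (U : ι → Opens X)
    (h : ∀ (p : ℕ) (a : Fin (p + 1) → ι) (q : ℕ),
      Subsingleton (CohTop.HU F (q + 1) (iInf fun k => U (a k))))
    (p : ℕ) : Nonempty (CohTop.cechH F.obj U p ≃+ CohTop.HU F p (iSup U)) := by
  have hW : ∀ k, U k ≤ iSup U := le_iSup U
  have hY := covering (iSup U) U hW rfl
  have hF : CechFamDerived.Acyc (Opens.grothendieckTopology X) (YO (iSup U) U hW) F := by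
    intro p a q x
    have heq := left_prod_eq (iSup U) U hW a
    have hs : Subsingleton (CohTop.HU F (q + 1) (∏ᶜ fun k => YO (iSup U) U hW (a k)).left) := by
      rw [heq]
      exact h p a q
    exact hs.elim x 0
  obtain ⟨e⟩ := CechFamDerived.nonempty_iso (Opens.grothendieckTopology X) (YO (iSup U) U hW) hY F hF p
  exact ⟨((cechHIso (iSup U) U hW F.obj p).symm ≪≫ e).addCommGroupIsoToAddEquiv⟩

/-- **S0455** -/
theorem cech_acyclic_of_flasque (F : CohTop.Ab X) [TopCat.Sheaf.IsFlasque F]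
    {ι : Type u} (U : ι → Opens X) (p : ℕ) : IsZero (CohTop.cechH F.obj U (p + 1)) := by
  obtain ⟨e⟩ := cech_eq_cohomology F U
    (fun p a q => ⟨fun x y => (flasque_HU_eq_zero F _ q x).trans (flasque_HU_eq_zero F _ q y).symm⟩)
    (p + 1)
  have : Subsingleton (CohTop.cechH F.obj U (p + 1)) :=
    ⟨fun x y => e.injective ((flasque_HU_eq_zero F _ p _).trans (flasque_HU_eq_zero F _ p _).symm)⟩
  exact AddCommGrpCat.isZero_of_subsingleton _

/-- the family of all members of a covering sieve -/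
lemma iSup_sieve {U : Opens X} (T : Sieve U) (hT : T ∈ Opens.grothendieckTopology X U) :
    iSup (fun i : (Σ V : Opens X, {f : V ⟶ U // T f}) => i.1) = U := by
  apply le_antisymm
  · exact iSup_le (fun i => leOfHom i.2.1)
  · intro x hx
    obtain ⟨V, f, hf, hxV⟩ := hT x hx
    exact Opens.mem_iSup.2 ⟨⟨V, f, hf⟩, hxV⟩

/-- **S0466** -/
theorem surjective_sections_of_cech_h1 (S : ShortComplex (CohTop.Ab X)) (hS : S.ShortExact)
    (U : Opens X)
    (h : ∀ (ι : Type u) (V : ι → Opens X), iSup V = U →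
      ∃ (κ : Type u) (W : κ → Opens X) (r : κ → ι), iSup W = U ∧ (∀ k, W k ≤ V (r k)) ∧
        IsZero (CohTop.cechH S.X₁.obj W 1)) :
    Function.Surjective (S.g.hom.app (op U)) := by
  apply CechFamCartan.surjective_of_refinement (Opens.grothendieckTopology X) hS U
  intro T hT
  obtain ⟨κ, W, r, hWU, hWV, hH1⟩ := h _ _ (iSup_sieve T hT)
  have hW : ∀ k, W k ≤ U := fun k => (hWV k).trans (leOfHom (r k).2.1)
  refine ⟨κ, YO U W hW, fun k => ?_, covering U W hW hWU, hH1.of_iso (cechHIso U W hW S.X₁.obj 1)⟩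
  have : (YO U W hW k).hom = homOfLE (hWV k) ≫ (r k).2.1 := Subsingleton.elim _ _
  rw [this]
  exact T.downward_closed (r k).2.2 _

/-- **S0493** -/
theorem acyclic_of_cech_acyclic_on_basis (F : CohTop.Ab X)
    (B : Set (Opens X)) (Cov : ∀ (ι : Type u), (ι → Opens X) → Prop)
    (h1 : ∀ (ι : Type u) (V : ι → Opens X), Cov ι V →
      iSup V ∈ B ∧ ∀ (p : ℕ) (a : Fin (p + 1) → ι), (iInf fun k => V (a k)) ∈ B)
    (h2 : ∀ U ∈ B, ∀ (κ : Type u) (W : κ → Opens X), iSup W = U →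
      ∃ (ι : Type u) (V : ι → Opens X), Cov ι V ∧ iSup V = U ∧ ∀ i, ∃ k, V i ≤ W k)
    (h3 : ∀ (ι : Type u) (V : ι → Opens X), Cov ι V → ∀ p : ℕ, IsZero (CohTop.cechH F.obj V (p + 1)))
    (U : Opens X) (hU : U ∈ B) (p : ℕ) : Subsingleton (CohTop.HU F (p + 1) U) := by
  let Cov' : ∀ (U : Opens X) (ι : Type u), (ι → Over U) → Prop :=
    fun U ι Y => Cov ι (fun i => (Y i).left) ∧ iSup (fun i => (Y i).left) = U
  have h1' : ∀ (U : Opens X) (ι : Type u) (Y : ι → Over U), Cov' U ι Y → U ∈ B ∧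
      Sieve.ofArrows (fun i => (Y i).left) (fun i => (Y i).hom) ∈ Opens.grothendieckTopology X U ∧
      ∀ (p : ℕ) (a : Fin (p + 1) → ι), (∏ᶜ fun k => Y (a k)).left ∈ B := by
    intro U ι Y hc
    refine ⟨hc.2 ▸ (h1 _ _ hc.1).1, covering' U Y hc.2, fun p a => ?_⟩
    rw [left_prod_eq' U Y a]
    exact (h1 _ _ hc.1).2 p a
  have h2' : ∀ U ∈ B, ∀ T ∈ Opens.grothendieckTopology X U, ∃ (ι : Type u) (Y : ι → Over U),
      Cov' U ι Y ∧ ∀ i, T.arrows (Y i).hom := by
    intro U hU T hT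
    obtain ⟨ι, V, hCov, hVU, href⟩ := h2 U hU _ _ (iSup_sieve T hT)
    have hV : ∀ i, V i ≤ U := fun i => hVU ▸ le_iSup V i
    refine ⟨ι, YO U V hV, ⟨hCov, hVU⟩, fun i => ?_⟩
    obtain ⟨k, hk⟩ := href i
    have : (YO U V hV i).hom = homOfLE hk ≫ k.2.1 := Subsingleton.elim _ _
    rw [this]
    exact T.downward_closed k.2.2 _
  have h3' : CechFamCartan.CechAcyc (Opens.grothendieckTopology X) Cov' F := by
    intro U ι Y hc p
    exact (h3 _ _ hc.1 p).of_iso (cechHIso' U Y F.obj (p + 1))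
  refine ⟨fun a b => ?_⟩
  have hv := CechFamCartan.cartan (Opens.grothendieckTopology X) B Cov' h1' h2' p F h3' U hU
  exact (hv a).trans (hv b).symm

/-- **S0465** -/
theorem cartan_criterion (F : CohTop.Ab X)
    (h : ∀ (ι : Type u) (U : ι → Opens X) (p : ℕ), IsZero (CohTop.cechH F.obj U (p + 1)))
    (U : Opens X) (p : ℕ) : Subsingleton (CohTop.HU F (p + 1) U) :=
  acyclic_of_cech_acyclic_on_basis F Set.univ (fun _ _ => True)
    (fun _ _ _ => ⟨trivial, fun _ _ => trivial⟩)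
    (fun U _ κ W hW => ⟨κ, W, trivial, hW, fun i => ⟨i, le_rfl⟩⟩)
    (fun ι V _ p => h ι V p) U trivial p

end Groth.Agent.Lib.Helper6.CechFamTop
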