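import Groth.Agent.Lib.Helper6.CechFamDerived
import Mathlib.Algebra.Homology.DerivedCategory.Ext.EnoughProjectives

universe u

set_option linter.unusedSectionVars false

open CategoryTheory Limits Opposite Simplicial AlgebraicTopology Abelian

namespace Groth.Agent.Lib.Helper6.CechFamSieve

open CechFamRep CechFamRes CechFamSurj CechFamH0 CechFamNat CechFamDerived SheafCoh DeltaCompare

variable {C : Type u} [SmallCategory C] [HasPullbacks C] (J : GrothendieckTopology C) {X : C}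
  {ι : Type u} (Y : ι → Over X)

/-- the sieve generated by the family -/
abbrev Rs : Sieve X := Sieve.ofArrows (fun i => (Y i).left) (fun i => (Y i).hom)

/-- a family of elements on the sieve gives a map out of the sieve presheaf on `Over X` -/
noncomputable def toRt (G : Cᵒᵖ ⥤ AddCommGrpCat.{u})
    (x : (Rs Y).functor ⟶ G ⋙ forget AddCommGrpCat.{u}) :
    ZRt Y ⟶ (Over.forget X).op ⋙ G :=
  ((AddCommGrpCat.adj.whiskerRight (Over X)ᵒᵖ).homEquiv _ _).symm
    { app := fun W => ↾(fun r => x.app (op W.unop.left) ⟨W.unop.hom, mem_sieve_of_Rt Y W.unop r⟩)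
      naturality := fun W W' g => by
        ext r
        have := NatTrans.naturality_apply x g.unop.left.op ⟨W.unop.hom, mem_sieve_of_Rt Y W.unop r⟩
        refine Eq.trans ?_ this
        change x.app (op W'.unop.left) _ = x.app (op W'.unop.left) _
        congr 1
        exact Subtype.ext (Over.w g.unop).symm }

lemma toRt_app_of (G : Cᵒᵖ ⥤ AddCommGrpCat.{u})
    (x : (Rs Y).functor ⟶ G ⋙ forget AddCommGrpCat.{u}) (W : Over X)
    (r : (Subfunctor.range (fh (fam Y))).toFunctor.obj (op W)) :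
    (toRt Y G x).app (op W) (FreeAbelianGroup.of r) =
      x.app (op W.left) ⟨W.hom, mem_sieve_of_Rt Y W r⟩ := by
  have := congrArg (fun z => z.app (op W) r) (((AddCommGrpCat.adj.whiskerRight (Over X)ᵒᵖ).homEquiv _ _).apply_symm_apply
    ({ app := fun W => ↾(fun r => x.app (op W.unop.left) ⟨W.unop.hom, mem_sieve_of_Rt Y W.unop r⟩)
       naturality := fun W W' g => by
        ext r
        have := NatTrans.naturality_apply x g.unop.left.op ⟨W.unop.hom, mem_sieve_of_Rt Y W.unop r⟩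
        refine Eq.trans ?_ this
        change x.app (op W'.unop.left) _ = x.app (op W'.unop.left) _
        congr 1
        exact Subtype.ext (Over.w g.unop).symm } :
      (Subfunctor.range (fh (fam Y))).toFunctor ⟶ ((Over.forget X).op ⋙ G) ⋙ forget AddCommGrpCat.{u}))
  exact this

lemma toRt_naturality {G G' : Cᵒᵖ ⥤ AddCommGrpCat.{u}} (g : G ⟶ G')
    (x : (Rs Y).functor ⟶ G ⋙ forget AddCommGrpCat.{u}) :
    toRt Y G x ≫ Functor.whiskerLeft (Over.forget X).op g =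
      toRt Y G' (x ≫ Functor.whiskerRight g (forget AddCommGrpCat.{u})) := by
  apply hom_ext_ZRt
  intro W r
  rw [toRt_app_of]
  change g.app _ ((toRt Y G x).app (op W) (FreeAbelianGroup.of r)) = _
  rw [toRt_app_of]
  rfl

lemma toRt_injective (G : Cᵒᵖ ⥤ AddCommGrpCat.{u}) : Function.Injective (toRt Y G) := by
  intro x x' h
  ext V f
  obtain ⟨r⟩ := nonempty_Rt Y f.1 f.2
  have h1 := toRt_app_of Y G x (Over.mk f.1) r
  have h2 := toRt_app_of Y G x' (Over.mk f.1) r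
  rw [h] at h1
  exact h1.symm.trans h2

lemma toRt_surjective (G : Cᵒᵖ ⥤ AddCommGrpCat.{u}) : Function.Surjective (toRt Y G) := by
  intro τ
  refine ⟨{ app := fun V => ↾(fun f => τ.app (op (Over.mk f.1))
      (FreeAbelianGroup.of (nonempty_Rt Y f.1 f.2).some))
            naturality := fun V V' g => ?_ }, ?_⟩
  · ext f
    have nat := NatTrans.naturality_apply τ
      (Over.homMk g.unop rfl : Over.mk (g.unop ≫ f.1) ⟶ Over.mk f.1).op
      (FreeAbelianGroup.of (nonempty_Rt Y f.1 f.2).some)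
    refine Eq.trans ?_ nat
    change τ.app (op (Over.mk (g.unop ≫ f.1))) (FreeAbelianGroup.of _) =
      τ.app (op (Over.mk (g.unop ≫ f.1))) (FreeAbelianGroup.of _)
    congr 2
    exact @Subsingleton.elim _ (subsingleton_Rt Y (Over.mk (g.unop ≫ f.1))) _ _
  · apply hom_ext_ZRt
    intro W r
    rw [toRt_app_of]
    change τ.app (op W) (FreeAbelianGroup.of _) = τ.app (op W) (FreeAbelianGroup.of r)
    congr 2
    exact @Subsingleton.elim _ (subsingleton_Rt Y W) _ _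

section Generic

variable {𝒜 ℬ : Type*} [Category 𝒜] [Category ℬ] [Preadditive 𝒜] [Preadditive ℬ]
  (Ψ : 𝒜 ⥤ ℬ) [Ψ.Additive] {A : 𝒜} {B : ℬ} (c : B ⟶ Ψ.obj A)

/-- the additive map `τ ↦ c ≫ Ψ τ` -/
def compMap (M : 𝒜) : (A ⟶ M) →+ (B ⟶ Ψ.obj M) :=
  AddMonoidHom.mk' (fun τ => c ≫ Ψ.map τ) (fun τ τ' => by
    rw [Ψ.map_add, Preadditive.comp_add])

/-- a "partial adjunction" isomorphism -/
noncomputable def coyonedaIso (h : ∀ M, Function.Bijective (compMap Ψ c M)) :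
    preadditiveCoyoneda.obj (op A) ≅ Ψ ⋙ preadditiveCoyoneda.obj (op B) :=
  NatIso.ofComponents (fun M => (AddEquiv.ofBijective (compMap Ψ c M) (h M)).toAddCommGrpIso)
    (fun {M M'} g => by
      ext τ
      have key : ∀ (t : A ⟶ M), c ≫ Ψ.map (t ≫ g) = (c ≫ Ψ.map t) ≫ Ψ.map g := fun t => by
        rw [Ψ.map_comp, Category.assoc]
      exact key τ)

end Generic

/-- the canonical map `ℤ[R̃] ⟶ ℤ[R]|_{Over X}` -/
noncomputable def cc : ZRt Y ⟶
    (Φ (⊥ : GrothendieckTopology C) (U := X)).obj (SieveExt.ZR ⊥ (Rs Y)) :=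
  toRt Y _ (SieveExt.homEquivR ⊥ (Rs Y) _ (𝟙 _))

lemma cc_comp (M : Sheaf (⊥ : GrothendieckTopology C) AddCommGrpCat.{u})
    (τ : SieveExt.ZR ⊥ (Rs Y) ⟶ M) :
    cc Y ≫ (Φ (⊥ : GrothendieckTopology C) (U := X)).map τ =
      toRt Y M.obj (SieveExt.homEquivR ⊥ (Rs Y) M τ) := by
  have h1 := toRt_naturality Y τ.hom (SieveExt.homEquivR ⊥ (Rs Y) _ (𝟙 _))
  have h2 := SieveExt.homEquivR_naturality_right ⊥ (Rs Y) (𝟙 _) τ
  rw [Category.id_comp] at h2
  rw [h2]
  exact h1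

lemma compMap_cc_bijective (M : Sheaf (⊥ : GrothendieckTopology C) AddCommGrpCat.{u}) :
    Function.Bijective (compMap (Φ (⊥ : GrothendieckTopology C) (U := X)) (cc Y) M) := by
  have : (compMap (Φ (⊥ : GrothendieckTopology C) (U := X)) (cc Y) M : _ → _) =
      (toRt Y M.obj) ∘ (SieveExt.homEquivR ⊥ (Rs Y) M) := by
    funext τ
    exact cc_comp Y M τ
  rw [this]
  exact ⟨(toRt_injective Y M.obj).comp (Equiv.injective _),
    (toRt_surjective Y M.obj).comp (Equiv.surjective _)⟩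

/-- maps out of the sieve presheaf, as a functor -/
noncomputable abbrev ΓR : Sheaf J AddCommGrpCat.{u} ⥤ AddCommGrpCat.{u} :=
  Φ J (U := X) ⋙ preadditiveCoyoneda.obj (op (ZRt Y))

/-- the augmentation `Hom(ℤ[R̃], F) ⟶ Hom(K₀, F)` -/
noncomputable def ηfun' (F : Sheaf J AddCommGrpCat.{u}) :
    (ZRt Y ⟶ (Φ J (U := X)).obj F) →+ ((KK Y).X 0 ⟶ (Φ J (U := X)).obj F) :=
  AddMonoidHom.mk' (fun τ => LeftAcyc.aug₀ (KK Y) (εε Y) ≫ τ) (fun τ τ' => by
    rw [Preadditive.comp_add])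

noncomputable def η' : ΓR J Y ⟶ Čh J Y ⋙ HomologicalComplex.eval _ _ 0 where
  app F := AddCommGrpCat.ofHom (ηfun' J Y F)
  naturality F F' g := by
    ext τ
    have key : ∀ t : ZRt Y ⟶ (Φ J (U := X)).obj F,
        LeftAcyc.aug₀ (KK Y) (εε Y) ≫ (t ≫ (Φ J (U := X)).map g) =
        (LeftAcyc.aug₀ (KK Y) (εε Y) ≫ t) ≫ (Φ J (U := X)).map g := fun t =>
      (Category.assoc _ _ _).symm
    exact key τ

lemma hη' (F : Sheaf J AddCommGrpCat.{u}) : (η' J Y).app F ≫ ((Čh J Y).obj F).d 0 1 = 0 := by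
  ext τ
  have : QuasiIso (εε Y) := quasiIso_ε_Y'' (fam Y)
  have key : ∀ t : ZRt Y ⟶ (Φ J (U := X)).obj F,
      ((Čh J Y).obj F).d 0 1 (LeftAcyc.aug₀ (KK Y) (εε Y) ≫ t) = 0 := fun t => by
    rw [Čh_d_apply, ← Category.assoc, LeftAcyc.d_comp_aug₀, zero_comp]
    rfl
  exact key τ

lemma hex' (F : Sheaf J AddCommGrpCat.{u}) : (ShortComplex.mk _ _ (hη' J Y F)).Exact := by
  have : QuasiIso (εε Y) := quasiIso_ε_Y'' (fam Y)
  rw [ShortComplex.ab_exact_iff]
  intro x hx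
  have hx' : (KK Y).d 1 0 ≫ x = 0 := (Čh_d_apply J Y F x).symm.trans hx
  obtain ⟨τ, hτ⟩ := LeftAcyc.exists_desc₀ (KK Y) (εε Y) x hx'
  exact ⟨τ, hτ⟩

lemma hmono' (F : Sheaf J AddCommGrpCat.{u}) : Mono ((η' J Y).app F) := by
  have : QuasiIso (εε Y) := quasiIso_ε_Y'' (fam Y)
  rw [AddCommGrpCat.mono_iff_injective]
  intro s s' h
  have h' : LeftAcyc.aug₀ (KK Y) (εε Y) ≫ s = LeftAcyc.aug₀ (KK Y) (εε Y) ≫ s' := h
  haveI := LeftAcyc.epi_aug₀ (KK Y) (εε Y)
  exact (cancel_epi _).1 h'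

/-- `Hom(ℤ[R̃], F) ≅ H⁰(Hom(K, F))`, naturally in `F` -/
noncomputable def θh' : ΓR J Y ≅ Čh J Y ⋙ HomologicalComplex.homologyFunctor _ _ 0 :=
  H0Iso.natIso (Čh J Y) (ΓR J Y) (η' J Y) (hη' J Y) (hex' J Y) (hmono' J Y)

/-- `Ext⁰ = Hom`, naturally -/
noncomputable def θ0 {𝒜 : Type*} [Category 𝒜] [Abelian 𝒜] [HasExt.{u} 𝒜] (A : 𝒜) :
    extFunctorObj A 0 ≅ preadditiveCoyoneda.obj (op A) :=
  NatIso.ofComponents (fun M => (Ext.addEquiv₀ (X := A) (Y := M)).toAddCommGrpIso)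
    (fun {M M'} g => by
      ext x
      obtain ⟨φ, rfl⟩ := Ext.addEquiv₀.symm.surjective x
      change Ext.addEquiv₀ ((Ext.addEquiv₀.symm φ).comp (Ext.mk₀ g) (add_zero 0)) =
        Ext.addEquiv₀ (Ext.addEquiv₀.symm φ) ≫ g
      rw [Ext.addEquiv₀_symm_apply, Ext.mk₀_comp_mk₀, ← Ext.addEquiv₀_symm_apply,
        ← Ext.addEquiv₀_symm_apply, AddEquiv.apply_symm_apply, AddEquiv.apply_symm_apply])

/-- free presheaves on representables are projective -/
instance projective_Zfree (W : C) :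
    Projective (Zfree (⊥ : GrothendieckTopology C) W : Sheaf ⊥ AddCommGrpCat.{u}) where
  factors {E F} f e he := by
    obtain ⟨t, ht⟩ := SieveExt.surjective_of_epi_bot e W (homEquiv ⊥ W F f)
    refine ⟨(homEquiv ⊥ W E).symm t, ?_⟩
    apply (homEquiv ⊥ W F).injective
    rw [homEquiv_naturality_right, Equiv.apply_symm_apply]
    exact ht

lemma acyc_bot (F : Sheaf (⊥ : GrothendieckTopology C) AddCommGrpCat.{u}) : Acyc ⊥ Y F :=
  fun _ _ _ x => Ext.eq_zero_of_projective x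

/-- Čech `H⁰` of a presheaf is `Hom` out of the free presheaf on the sieve -/
noncomputable def θR : Sn (⊥ : GrothendieckTopology C) Y 0 ≅
    extFunctorObj (SieveExt.ZR ⊥ (Rs Y)) 0 :=
  θS ⊥ Y ≪≫ (θh' ⊥ Y).symm ≪≫
    (coyonedaIso (Φ (⊥ : GrothendieckTopology C) (U := X)) (cc Y) (compMap_cc_bijective Y)).symm ≪≫
    (θ0 (SieveExt.ZR ⊥ (Rs Y))).symm

/-- **Čech cohomology of a presheaf is `Ext` out of the free presheaf on the sieve** -/
theorem nonempty_iso (F : Sheaf (⊥ : GrothendieckTopology C) AddCommGrpCat.{u}) (p : ℕ) :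
    Nonempty ((Sn ⊥ Y p).obj F ≅ (extFunctorObj (SieveExt.ZR ⊥ (Rs Y)) p).obj F) :=
  delta_compare (fun n => Sn ⊥ Y n) (fun n => extFunctorObj (SieveExt.ZR ⊥ (Rs Y)) n) (θR Y)
    (fun _ => True) (fun G _ => by
      have hE := ExtAcyc.sesUnder_shortExact G
      have hI : Injective (ExtAcyc.sesUnder G).X₂ := inferInstance
      exact ⟨_, _, (ExtAcyc.sesUnder G).f, (ExtAcyc.sesUnder G).g, trivial,
        hasShift_S ⊥ Y hE (acyc_bot Y _),
        ExtShift.hasShift_ext _ _ hE (fun n x => Ext.eq_zero_of_injective x)⟩) p F trivial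

end Groth.Agent.Lib.Helper6.CechFamSieve
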