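import Groth.Agent.Lib.Helper6.ExtShift
import Groth.Agent.Lib.Helper6.ExtAcyc
import Groth.Agent.Lib.Helper6.RDShift

/-!
# `Ext(A, -)` as right derived functors of (a functor isomorphic to) `Hom(A, -)` (helper6)
-/

universe w v u

open CategoryTheory Limits Abelian

namespace Groth.Agent.Lib.Helper6.ExtRD

open DeltaCompare

variable {𝒜 : Type u} [Category.{v} 𝒜] [Abelian 𝒜] [HasExt.{w} 𝒜] [EnoughInjectives 𝒜]

/-- `Ext^q(A, F) ≅ (R^q G)(F)` if `G ≅ Hom(A, -)`. -/
theorem nonempty_ext_iso_rightDerived (A : 𝒜) (G : 𝒜 ⥤ AddCommGrpCat.{w}) [G.Additive]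
    [PreservesFiniteLimits G]
    (θ₀ : extFunctorObj A 0 ≅ G) (F : 𝒜) (q : ℕ) :
    Nonempty ((extFunctorObj A q).obj F ≅ (G.rightDerived q).obj F) :=
  delta_compare (fun n => extFunctorObj A n) (fun n => G.rightDerived n)
    (θ₀ ≪≫ (Functor.rightDerivedZeroIsoSelf G).symm) (fun _ => True) (fun H _ => by
      have hE := ExtAcyc.sesUnder_shortExact H
      have hI : Injective (ExtAcyc.sesUnder H).X₂ := inferInstance
      exact ⟨_, _, (ExtAcyc.sesUnder H).f, (ExtAcyc.sesUnder H).g, trivial,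
        ExtShift.hasShift_ext A _ hE (fun n x => Ext.eq_zero_of_injective x),
        RDShift.hasShift_rightDerived _ _ hE
          (fun n => Functor.isZero_rightDerived_obj_injective_succ _ n _)⟩) q F trivial

end Groth.Agent.Lib.Helper6.ExtRD
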