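import Groth.Agent.Lib.Helper6.LocCohZSupp
import Groth.Agent.Lib.Helper6.ExtRD
import Groth.Agent.Lib.Helper6.CechFamSieve
import Mathlib.CategoryTheory.Preadditive.Yoneda.Limits

/-!
# `H^q_Z(X, F)` as right derived functors of `Γ_Z(X, -)` (helper6)
-/

universe u

open CategoryTheory Limits Opposite TopologicalSpace Abelian

namespace Groth.Agent.Lib.Helper6.LocCohZGamma

open CohTop LocCohZSupp

variable {X : TopCat.{u}} (U : Opens X)

/-- naturality of the inclusion `Γ_Z(F) ⟶ F` -/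
lemma sectSuppF_map_ι {F G : Ab X} (φ : F ⟶ G) :
    (LocCohZ.sectSuppF U).map φ ≫ ιZ U G = ιZ U F ≫ φ := by
  dsimp only [LocCohZ.sectSuppF]
  exact kernel.lift_ι _ _ _

/-- sections of `Γ_Z(F)` over `X` as sections of `F` vanishing on `U` -/
noncomputable def ψ (F : Ab X) :
    ((LocCohZ.gammaZF U).obj F : AddCommGrpCat.{u}) →+ LocCohZ.sectZ F (le_top : U ≤ ⊤) where
  toFun t := ⟨(ιZ U F).hom.app (op ⊤) t, by
    rw [AddMonoidHom.mem_ker]
    exact (η_app_eq_zero_iff U F le_top le_rfl inf_le_right _).1 (η_ιZ_app U F ⊤ t)⟩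
  map_zero' := by
    apply Subtype.ext
    exact map_zero _
  map_add' a b := by
    apply Subtype.ext
    exact map_add _ a b

lemma ψ_bijective (F : Ab X) : Function.Bijective (ψ U F) := by
  constructor
  · intro a b h
    apply ιZ_app_injective U F ⊤
    exact congrArg Subtype.val h
  · intro s
    have hs : F.obj.map (homOfLE (le_top : U ≤ ⊤)).op s.1 = 0 := by
      have := s.2
      rw [AddMonoidHom.mem_ker] at this
      exact this
    obtain ⟨t, ht⟩ := exists_of_η_app_eq_zero U F ⊤ s.1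
      ((η_app_eq_zero_iff U F le_top le_rfl inf_le_right _).2 hs)
    exact ⟨t, Subtype.ext ht⟩

lemma ψ_naturality {F G : Ab X} (φ : F ⟶ G) (t : ((LocCohZ.gammaZF U).obj F : AddCommGrpCat.{u})) :
    (ψ U G ((LocCohZ.gammaZF U).map φ t)).1 = φ.hom.app (op ⊤) (ψ U F t).1 := by
  have h := sectSuppF_map_ι U φ
  have h' := congrArg (fun z => z.hom.app (op ⊤) t) h
  exact h'

lemma sect0Equiv_naturality {F G : Ab X} (φ : F ⟶ G) {W V : Opens X} (h : W ≤ V)
    (x : LocCohZ.HZ F 0 h) :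
    (LocCohZ.sect0Equiv G h (x.comp (Ext.mk₀ φ) (add_zero 0))).1 =
      φ.hom.app (op V) (LocCohZ.sect0Equiv F h x).1 := by
  obtain ⟨g, rfl⟩ := Ext.addEquiv₀.symm.surjective x
  change CohFree.evalGen _ V G (cokernel.π _ ≫ Ext.addEquiv₀ ((Ext.addEquiv₀.symm g).comp (Ext.mk₀ φ) (add_zero 0))) =
    φ.hom.app (op V) (CohFree.evalGen _ V F (cokernel.π _ ≫ Ext.addEquiv₀ (Ext.addEquiv₀.symm g)))
  rw [Ext.addEquiv₀_symm_apply, Ext.mk₀_comp_mk₀, ← Ext.addEquiv₀_symm_apply,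
    ← Ext.addEquiv₀_symm_apply, AddEquiv.apply_symm_apply, AddEquiv.apply_symm_apply]
  rfl

/-- `Hom(ℤ_X/ℤ_U, -) ≅ Γ_Z(X, -)`, naturally -/
noncomputable def θZ : extFunctorObj (LocCohZ.zq (le_top : U ≤ ⊤)) 0 ≅ LocCohZ.gammaZF U :=
  NatIso.ofComponents (fun F => AddEquiv.toAddCommGrpIso (X := AddCommGrpCat.of _)
      (Y := AddCommGrpCat.of ((LocCohZ.gammaZF U).obj F : AddCommGrpCat.{u}))
      ((LocCohZ.sect0Equiv F le_top).trans (AddEquiv.ofBijective (ψ U F) (ψ_bijective U F)).symm))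
    (fun {F G} φ => by
      ext x
      apply (ψ_bijective U G).1
      apply Subtype.ext
      change (ψ U G ((AddEquiv.ofBijective (ψ U G) (ψ_bijective U G)).symm
          (LocCohZ.sect0Equiv G le_top (x.comp (Ext.mk₀ φ) (add_zero 0))))).1 =
        (ψ U G ((LocCohZ.gammaZF U).map φ ((AddEquiv.ofBijective (ψ U F) (ψ_bijective U F)).symm
        (LocCohZ.sect0Equiv F le_top x)))).1
      rw [ψ_naturality]
      have h1 : ∀ (H : Ab X) (s : LocCohZ.sectZ H (le_top : U ≤ ⊤)),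
          ψ U H ((AddEquiv.ofBijective (ψ U H) (ψ_bijective U H)).symm s) = s :=
        fun H s => (AddEquiv.ofBijective (ψ U H) (ψ_bijective U H)).apply_symm_apply s
      rw [h1, h1, sect0Equiv_naturality])

instance : PreservesFiniteLimits (LocCohZ.gammaZF U) :=
  preservesFiniteLimits_of_natIso ((CechFamSieve.θ0 _).symm ≪≫ θZ U)

/-- `H^q_Z(X, F)` is the `q`-th right derived functor of `Γ_Z(X, -)`. -/
lemma nonempty_HZc_iso (F : Ab X) (q : ℕ) :
    Nonempty (AddCommGrpCat.of (LocCohZ.HZc F q U) ≅ (LocCohZ.RHZ U q).obj F) :=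
  ExtRD.nonempty_ext_iso_rightDerived _ (LocCohZ.gammaZF U) (θZ U) F q

end Groth.Agent.Lib.Helper6.LocCohZGamma
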