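import Mathlib.CategoryTheory.Abelian.RightDerived
import Mathlib.Algebra.Homology.QuasiIso
import Mathlib.Algebra.Homology.ShortComplex.ExactFunctor

/-!
# Right derived functors of `F ⋙ G` with `F` exact and preserving injectives (helper6)
-/

universe v₁ v₂ v₃ u₁ u₂ u₃

open CategoryTheory Limits

namespace Groth.Agent.Lib.Helper6.RDComp

variable {A : Type u₁} [Category.{v₁} A] [Abelian A] [HasInjectiveResolutions A]
  {B : Type u₂} [Category.{v₂} B] [Abelian B] [HasInjectiveResolutions B]
  {C : Type u₃} [Category.{v₃} C] [Abelian C]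
  (F : A ⥤ B) [F.Additive] [PreservesFiniteLimits F] [PreservesFiniteColimits F]
  (hF : ∀ I : A, Injective I → Injective (F.obj I))
  (G : B ⥤ C) [G.Additive]

/-- the image of an injective resolution under an exact functor preserving injectives -/
noncomputable def mapRes {X : A} (I : InjectiveResolution X) : InjectiveResolution (F.obj X) where
  cocomplex := (F.mapHomologicalComplex _).obj I.cocomplex
  injective n := hF _ (I.injective n)
  ι := (HomologicalComplex.singleMapHomologicalComplex F (ComplexShape.up ℕ) 0).inv.app X ≫
    (F.mapHomologicalComplex _).map I.ι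
  quasiIso := by
    haveI : F.PreservesHomology := { }
    infer_instance

lemma mapRes_comm {X Y : A} (f : X ⟶ Y) (I : InjectiveResolution X) (J : InjectiveResolution Y)
    (φ : I.cocomplex ⟶ J.cocomplex) (comm : I.ι ≫ φ = (CochainComplex.single₀ A).map f ≫ J.ι) :
    (mapRes F hF I).ι ≫ (F.mapHomologicalComplex _).map φ =
      (CochainComplex.single₀ B).map (F.map f) ≫ (mapRes F hF J).ι := by
  dsimp only [mapRes]
  rw [Category.assoc, ← Functor.map_comp, comm, Functor.map_comp]
  have := (HomologicalComplex.singleMapHomologicalComplex F (ComplexShape.up ℕ) 0).inv.naturality f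
  dsimp only [Functor.comp_map] at this
  rw [← Category.assoc, ← this, Category.assoc]

lemma mapRes_comm_zero {X Y : A} (f : X ⟶ Y) (I : InjectiveResolution X)
    (J : InjectiveResolution Y) (φ : I.cocomplex ⟶ J.cocomplex)
    (comm : I.ι ≫ φ = (CochainComplex.single₀ A).map f ≫ J.ι) :
    (mapRes F hF I).ι.f 0 ≫ ((F.mapHomologicalComplex _).map φ).f 0 =
      F.map f ≫ (mapRes F hF J).ι.f 0 :=
  (HomologicalComplex.congr_hom (mapRes_comm F hF f I J φ comm) 0).trans (by simp)

/-- the component isomorphism -/
noncomputable def compIsoApp (n : ℕ) (X : A) :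
    ((F ⋙ G).rightDerived n).obj X ≅ (F ⋙ G.rightDerived n).obj X :=
  (injectiveResolution X).isoRightDerivedObj (F ⋙ G) n ≪≫
    ((mapRes F hF (injectiveResolution X)).isoRightDerivedObj G n).symm

/-- `R^n(F ⋙ G) ≅ F ⋙ R^n G` for `F` exact and preserving injectives -/
noncomputable def compIso (n : ℕ) : (F ⋙ G).rightDerived n ≅ F ⋙ G.rightDerived n :=
  NatIso.ofComponents (compIsoApp F hF G n) (fun {X Y} f => by
    have comm := InjectiveResolution.desc_commutes f (injectiveResolution Y)
      (injectiveResolution X)
    have comm0 := InjectiveResolution.desc_commutes_zero f (injectiveResolution Y)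
      (injectiveResolution X)
    have h1 := InjectiveResolution.isoRightDerivedObj_hom_naturality f (injectiveResolution X)
      (injectiveResolution Y) _ comm0 (F ⋙ G) n
    have h2 := InjectiveResolution.isoRightDerivedObj_inv_naturality (F.map f)
      (mapRes F hF (injectiveResolution X)) (mapRes F hF (injectiveResolution Y)) _
      (mapRes_comm_zero F hF f _ _ _ comm) G n
    dsimp only [compIsoApp, Iso.trans_hom, Iso.symm_hom, Functor.comp_map]
    rw [reassoc_of% h1, Category.assoc]
    congr 1
    exact h2.symm)

end Groth.Agent.Lib.Helper6.RDComp
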