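import Groth.Agent.Lib.Helper6.ExtRDNat
import Groth.Agent.Lib.Helper6.LocCohZGamma
import Groth.Agent.Lib.Helper6.RDComp

/-!
# Excision for cohomology with supports: `H^i_Z(X, F) ≅ H^i_Z(V, F|_V)` naturally (helper6)
-/

universe u

open CategoryTheory Limits Opposite TopologicalSpace Abelian

namespace Groth.Agent.Lib.Helper6.LocCohZExc

open CohTop LocCohZSupp CohTopRestr

variable {X : TopCat.{u}} {W V : Opens X} (h : W ≤ V)

/-- `W` as an open of `V` -/
abbrev W' (W V : Opens X) : Opens (TopCat.of V) := (Opens.map (CohCx.incl V)).obj W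

lemma jF_W'_le : (jF V).obj (W' W V) ≤ W := by
  rintro x ⟨y, hy, rfl⟩
  exact hy

include h in
lemma le_jF_W' : W ≤ (jF V).obj (W' W V) := fun x hx => ⟨⟨x, h hx⟩, hx, rfl⟩

lemma map_map_apply' (Y : Ab X) {A B C : Opens X} (f : A ⟶ B) (g : B ⟶ C) (k : A ⟶ C)
    (s : Y.obj.obj (op C)) :
    Y.obj.map f.op (Y.obj.map g.op s) = Y.obj.map k.op s := by
  obtain rfl : k = f ≫ g := Subsingleton.elim _ _
  rw [op_comp, Functor.map_comp]
  rfl

/-- sections of `Y` over `V` vanishing on `W` are sections of `Y|_V` over `⊤` vanishing on `W` -/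
noncomputable def sectEquiv (Y : Ab X) :
    LocCohZ.sectZ Y h ≃+ LocCohZ.sectZ ((restrFunctor V).obj Y) (le_top : W' W V ≤ ⊤) where
  toFun s := ⟨(secIso V Y).hom s.1, by
    have hs : Y.obj.map (homOfLE h).op s.1 = 0 := by
      have := s.2
      rw [AddMonoidHom.mem_ker] at this
      exact this
    rw [AddMonoidHom.mem_ker]
    change Y.obj.map ((jF V).map (homOfLE (le_top : W' W V ≤ ⊤))).op
      (Y.obj.map (eqToHom (jF_top V)).op s.1) = 0
    rw [map_map_apply' Y _ _ (homOfLE ((jF_W'_le).trans h)),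
      ← map_map_apply' Y (homOfLE jF_W'_le) (homOfLE h) _, hs, map_zero]⟩
  invFun t := ⟨(secIso V Y).inv t.1, by
    have ht : Y.obj.map ((jF V).map (homOfLE (le_top : W' W V ≤ ⊤))).op t.1 = 0 := by
      have := t.2
      rw [AddMonoidHom.mem_ker] at this
      exact this
    rw [AddMonoidHom.mem_ker]
    have key : ∀ t' : Y.obj.obj (op ((jF V).obj ⊤)),
        Y.obj.map ((jF V).map (homOfLE (le_top : W' W V ≤ ⊤))).op t' = 0 →
        Y.obj.map (homOfLE h).op (Y.obj.map (eqToHom (jF_top V).symm).op t') = 0 := by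
      intro t' ht'
      rw [map_map_apply' Y _ _ (homOfLE ((le_jF_W' h).trans ((jF V).map (homOfLE le_top)).le)),
        ← map_map_apply' Y (homOfLE (le_jF_W' h)) ((jF V).map (homOfLE le_top)) _, ht', map_zero]
    exact key t.1 ht⟩
  left_inv s := by
    apply Subtype.ext
    exact ConcreteCategory.congr_hom (secIso V Y).hom_inv_id s.1
  right_inv t := by
    apply Subtype.ext
    exact ConcreteCategory.congr_hom (secIso V Y).inv_hom_id t.1
  map_add' a b := by
    apply Subtype.ext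
    exact map_add _ a.1 b.1

lemma sectEquiv_val (Y : Ab X) (s : LocCohZ.sectZ Y h) :
    (sectEquiv h Y s).1 = (secIso V Y).hom s.1 := rfl

/-- degree zero comparison -/
noncomputable def equiv₀ (Y : Ab X) :
    Ext (LocCohZ.zq h) Y 0 ≃+ Ext (LocCohZ.zq (le_top : W' W V ≤ ⊤)) ((restrFunctor V).obj Y) 0 :=
  (LocCohZ.sect0Equiv Y h).trans ((sectEquiv h Y).trans
    (LocCohZ.sect0Equiv ((restrFunctor V).obj Y) (le_top : W' W V ≤ ⊤)).symm)

lemma equiv₀_naturality {Y Y' : Ab X} (φ : Y ⟶ Y') (x : Ext (LocCohZ.zq h) Y 0) :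
    equiv₀ h Y' (x.comp (Ext.mk₀ φ) (add_zero 0)) =
      (equiv₀ h Y x).comp (Ext.mk₀ ((restrFunctor V).map φ)) (add_zero 0) := by
  apply (LocCohZ.sect0Equiv ((restrFunctor V).obj Y') (le_top : W' W V ≤ ⊤)).injective
  apply Subtype.ext
  rw [LocCohZGamma.sect0Equiv_naturality]
  dsimp only [equiv₀, AddEquiv.trans_apply]
  rw [AddEquiv.apply_symm_apply, AddEquiv.apply_symm_apply, sectEquiv_val, sectEquiv_val,
    LocCohZGamma.sect0Equiv_naturality]
  exact ConcreteCategory.congr_hom (secIso_naturality V φ) _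

/-- the degree zero natural isomorphism -/
noncomputable def θ₀ : extFunctorObj (LocCohZ.zq h) 0 ≅
    restrFunctor V ⋙ extFunctorObj (LocCohZ.zq (le_top : W' W V ≤ ⊤)) 0 :=
  NatIso.ofComponents (fun Y => (equiv₀ h Y).toAddCommGrpIso) (fun {Y Y'} φ => by
    ext x
    exact equiv₀_naturality h φ x)

lemma pfl_ext₀ {𝒜 : Type*} [Category.{u} 𝒜] [Abelian 𝒜] [HasExt.{u} 𝒜] (A : 𝒜) :
    PreservesFiniteLimits (extFunctorObj A 0) :=
  preservesFiniteLimits_of_natIso (CechFamSieve.θ0 A).symm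

instance restr_pfc : PreservesFiniteColimits (restrFunctor V) := by
  have : PreservesFiniteColimits (CohTop.pull (CohCx.incl V)) := by
    have := (adjU V).leftAdjoint_preservesColimits
    exact PreservesColimits.preservesFiniteColimits _
  exact preservesFiniteColimits_of_natIso (pullIsoRestr V)

/-- excision, as a natural isomorphism of functors -/
theorem nonempty_natIso (i : ℕ) : Nonempty (extFunctorObj (LocCohZ.zq h) i ≅
    restrFunctor V ⋙ extFunctorObj (LocCohZ.zq (le_top : W' W V ≤ ⊤)) i) := by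
  have := pfl_ext₀ (LocCohZ.zq (le_top : W' W V ≤ ⊤))
  have : PreservesFiniteLimits (restrFunctor V ⋙
      extFunctorObj (LocCohZ.zq (le_top : W' W V ≤ ⊤)) 0) := comp_preservesFiniteLimits _ _
  obtain ⟨e1⟩ := ExtRDNat.nonempty_rightDerived_iso (LocCohZ.zq h)
    (restrFunctor V ⋙ extFunctorObj (LocCohZ.zq (le_top : W' W V ≤ ⊤)) 0) (θ₀ h) i
  obtain ⟨e2⟩ := ExtRDNat.nonempty_rightDerived_iso (LocCohZ.zq (le_top : W' W V ≤ ⊤))
    (extFunctorObj (LocCohZ.zq (le_top : W' W V ≤ ⊤)) 0) (Iso.refl _) i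
  have e3 := RDComp.compIso (restrFunctor V)
    (fun I _ => Injective.injective_of_adjoint (CohTopRestrDer.adj V) I)
    (extFunctorObj (LocCohZ.zq (le_top : W' W V ≤ ⊤)) 0) i
  exact ⟨e1.symm ≪≫ e3 ≪≫ Functor.isoWhiskerLeft _ e2⟩

/-- the components of a natural isomorphism, as additive equivalences (typed) -/
noncomputable def ee (i : ℕ)
    (E : extFunctorObj (LocCohZ.zq h) i ≅
      restrFunctor V ⋙ extFunctorObj (LocCohZ.zq (le_top : W' W V ≤ ⊤)) i) (F : Ab X) :
    LocCohZ.HZ F i h ≃+ LocCohZ.HZc (CohTop.restr F V) i ((Opens.map (CohCx.incl V)).obj W) :=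
  (E.app F).addCommGroupIsoToAddEquiv

lemma ee_nat (i : ℕ)
    (E : extFunctorObj (LocCohZ.zq h) i ≅
      restrFunctor V ⋙ extFunctorObj (LocCohZ.zq (le_top : W' W V ≤ ⊤)) i)
    (F G : Ab X) (φ : F ⟶ G) (x : LocCohZ.HZ F i h) :
    ee h i E G (LocCohZ.map φ i h x) =
      LocCohZ.map ((restrFunctor V).map φ) i
        (le_top : (Opens.map (CohCx.incl V)).obj W ≤ ⊤) (ee h i E F x) := by
  have := ConcreteCategory.congr_hom (E.hom.naturality φ) x
  exact this

end Groth.Agent.Lib.Helper6.LocCohZExc
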