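import Groth.Agent.Lib.Helper6.DevStep
import Groth.Agent.Lib.Helper17.Serre
import Groth.Agent.S0792
import Mathlib
set_option backward.isDefEq.respectTransparency.types false
set_option autoImplicit false

/-!
# The reduced induced closed subscheme of a closed subset and its structure sheaf as a module
-/

universe u
open CategoryTheory CategoryTheory.Limits AlgebraicGeometry Opposite TopologicalSpace
open Groth.Agent.Lib.Helper17.CohKer Groth.Agent.Lib.Helper17.StalkExact Groth.Agent.Lib.Helper28.QCohLoc

namespace Groth.Agent.Lib.Helper6.DevRed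
open Groth.Agent.Lib.Helper6.DevSub Groth.Agent.Lib.Helper6.DevCore Groth.Agent.Lib.Helper6.DevSoc

variable {X : Scheme.{u}}

theorem isReduced_subscheme_vanishingIdeal (Z : Closeds X) :
    IsReduced (Scheme.IdealSheafData.vanishingIdeal Z).subscheme := by
  let I := Scheme.IdealSheafData.vanishingIdeal Z
  have : ∀ U, IsReduced (I.subschemeCover.openCover.X U) := by
    intro U
    change IsReduced (Spec (CommRingCat.of (Γ(X, U.1) ⧸ I.ideal U)))
    rw [affine_isReduced_iff]
    change _root_.IsReduced (Γ(X, U.1) ⧸ I.ideal U)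
    rw [← Ideal.isRadical_iff_quotient_reduced]
    change ((Scheme.IdealSheafData.vanishingIdeal Z).ideal U).IsRadical
    rw [Scheme.IdealSheafData.vanishingIdeal_ideal]
    exact PrimeSpectrum.isRadical_vanishingIdeal _
  exact IsReduced.of_openCover _ I.subschemeCover.openCover

theorem isIntegral_subscheme_vanishingIdeal (Z : Closeds X) (hirr : IsIrreducible (Z : Set X)) :
    IsIntegral (Scheme.IdealSheafData.vanishingIdeal Z).subscheme := by
  haveI := isReduced_subscheme_vanishingIdeal Z
  haveI : IrreducibleSpace (Scheme.IdealSheafData.vanishingIdeal Z).subscheme :=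
    Subtype.irreducibleSpace (by
      rw [Scheme.IdealSheafData.coe_support_vanishingIdeal]; exact hirr)
  exact isIntegral_of_irreducibleSpace_of_isReduced _

theorem range_subschemeι_vanishingIdeal (Z : Closeds X) :
    Set.range (Scheme.IdealSheafData.vanishingIdeal Z).subschemeι = (Z : Set X) := by
  rw [Scheme.IdealSheafData.range_subschemeι, Scheme.IdealSheafData.coe_support_vanishingIdeal]

/-- a closed immersion from an irreducible scheme sends the generic point to the generic point of the image -/
theorem closedImmersion_genericPoint {Z' : Scheme.{u}} (i : Z' ⟶ X) [IsClosedImmersion i] [IrreducibleSpace Z']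
    (y : X) (hy : closure {y} = Set.range i) : i (genericPoint Z') = y := by
  have h1 : IsGenericPoint (i (genericPoint Z')) (Set.range i) := by
    have h := (genericPoint_spec Z').image i.continuous
    rw [Set.image_univ, i.isClosedEmbedding.isClosed_range.closure_eq] at h
    exact h
  exact h1.eq hy

open Groth.Agent.Lib.Helper17.Serre in
theorem isCoh_structureModule : Coh.IsCoh (Coh.structureModule X) := by
  refine ⟨inferInstance, Groth.Agent.Lib.Helper17.FinTypeConv.isFiniteType_of_forall_finite_sections _ fun U => ?_⟩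
  refine Module.Finite.of_surjective
    (LinearMap.toSpanSingleton Γ(X, U.1) Γ(Coh.structureModule X, U.1)
      (show Γ(Coh.structureModule X, U.1) from (1 : Γ(X, U.1)))) ?_
  intro y
  refine ⟨(show Γ(X, U.1) from y), ?_⟩
  rw [LinearMap.toSpanSingleton_apply, structureModule_smul]
  exact mul_one (show Γ(X, U.1) from y)

theorem isCoh_of_isZero {M : X.Modules} (hz : IsZero M) : Coh.IsCoh M :=
  isCoh_of_iso (IsZero.iso (isZero_cokernel_of_epi (𝟙 (Coh.structureModule X))) hz)
    (isCoh_cokernel _ isCoh_structureModule isCoh_structureModule)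

theorem isCoh_quotMod (I : X.IdealSheafData) : Coh.IsCoh (ClSub.quotMod I) := by
  haveI : SheafOfModules.IsFiniteType.{u} (R := X.ringCatSheaf) (Coh.structureModule X) :=
    isCoh_structureModule.2
  exact ⟨inferInstance, isFiniteType_of_epi (ClSub.toSubscheme I)⟩

section quot
open Groth.Agent.Lib.Helper17.Serre

variable (I : X.IdealSheafData) (x : X)

/-- the germ of `1` in the stalk of the structure sheaf as a module -/
noncomputable def oneGerm : (Coh.structureModule X).presheaf.stalk x :=
  (Coh.structureModule X).presheaf.germ ⊤ x trivial (show Γ(Coh.structureModule X, ⊤) from (1 : Γ(X, ⊤)))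

theorem germ_eq_smul_oneGerm (V : X.Opens) (hx : x ∈ V) (r : Γ(X, V)) :
    (Coh.structureModule X).presheaf.germ V x hx (show Γ(Coh.structureModule X, V) from r) =
      X.presheaf.germ V x hx r • oneGerm x := by
  have h1 : oneGerm x = (Coh.structureModule X).presheaf.germ V x hx
      (show Γ(Coh.structureModule X, V) from (1 : Γ(X, V))) := by
    unfold oneGerm
    rw [← germ_res' (Coh.structureModule X) x (le_top : V ≤ ⊤) hx]
    congr 1
    exact map_one (X.presheaf.map (homOfLE (le_top : V ≤ ⊤)).op).hom
  rw [h1, ← germ_smul', structureModule_smul]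
  congr 1
  exact (mul_one r).symm

/-- the generator of the stalk of `O_X / I` -/
noncomputable def gen : (ClSub.quotMod I).presheaf.stalk x := stalkHom (ClSub.toSubscheme I) x (oneGerm x)

theorem exists_eq_smul_gen (t : (ClSub.quotMod I).presheaf.stalk x) :
    ∃ c : X.presheaf.stalk x, t = c • gen I x := by
  obtain ⟨u, rfl⟩ := stalkHom_surjective_of_epi (ClSub.toSubscheme I) x t
  obtain ⟨V, hx, r, rfl⟩ := TopCat.Presheaf.exists_germ_eq (Coh.structureModule X).presheaf u
  refine ⟨X.presheaf.germ V x hx (show Γ(X, V) from r), ?_⟩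
  unfold gen
  rw [← stalkHom_smul, ← germ_eq_smul_oneGerm]

theorem germ_smul_gen_eq_zero (U : X.affineOpens) (hx : x ∈ U.1) (a : Γ(X, U.1)) (ha : a ∈ I.ideal U) :
    X.presheaf.germ U.1 x hx a • gen I x = 0 := by
  unfold gen
  rw [← stalkHom_smul, ← germ_eq_smul_oneGerm, stalkHom_germ, toSubscheme_app]
  have h0 : I.subschemeι.app U.1 a = 0 := by
    have : a ∈ RingHom.ker (I.subschemeι.app U.1).hom := by rw [I.ker_subschemeι_app U]; exact ha
    exact this
  rw [h0]
  exact map_zero _

theorem gen_ne_zero (hx : x ∈ I.support) : gen I x ≠ 0 := by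
  intro h0
  obtain ⟨_, ⟨U, hU, rfl⟩, hxU, -⟩ :=
    X.isBasis_affineOpens.exists_subset_of_mem_open (Set.mem_univ x) isOpen_univ
  have h1 : gen I x = (ClSub.quotMod I).presheaf.germ U x hxU
      ((ClSub.toSubscheme I).app U (show Γ(Coh.structureModule X, U) from (1 : Γ(X, U)))) := by
    unfold gen
    have := germ_eq_smul_oneGerm x U hxU 1
    rw [map_one, one_smul] at this
    rw [← this, stalkHom_germ]
  rw [h1] at h0
  have h2 : (ClSub.quotMod I).presheaf.germ U x hxU
      ((ClSub.toSubscheme I).app U (show Γ(Coh.structureModule X, U) from (1 : Γ(X, U)))) =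
      (ClSub.quotMod I).presheaf.germ U x hxU 0 := by rw [h0, map_zero]
  obtain ⟨V, hxV, i₁, i₂, h3⟩ := TopCat.Presheaf.germ_eq (ClSub.quotMod I).presheaf x hxU hxU _ _ h2
  rw [map_zero] at h3
  -- shrink to an affine open
  obtain ⟨_, ⟨V', hV', rfl⟩, hxV', hV'V⟩ := X.isBasis_affineOpens.exists_subset_of_mem_open hxV V.2
  have hV'U : V' ≤ U := fun z hz => leOfHom i₁ (hV'V hz)
  have h4 : (ClSub.toSubscheme I).app V' (show Γ(Coh.structureModule X, V') from (1 : Γ(X, V'))) = 0 := by
    have e1 : (show Γ(Coh.structureModule X, V') from (1 : Γ(X, V'))) =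
        res (Coh.structureModule X) hV'U (show Γ(Coh.structureModule X, U) from (1 : Γ(X, U))) :=
      (map_one (X.presheaf.map (homOfLE hV'U).op).hom).symm
    rw [e1, app_res]
    have e2 : res (ClSub.quotMod I) hV'U ((ClSub.toSubscheme I).app U
        (show Γ(Coh.structureModule X, U) from (1 : Γ(X, U)))) =
        res (ClSub.quotMod I) (show V' ≤ V from hV'V) (res (ClSub.quotMod I) (leOfHom i₁) _) :=
      (res_res (ClSub.quotMod I) _ _ _).symm
    rw [e2]
    have h3' : res (ClSub.quotMod I) (leOfHom i₁) ((ClSub.toSubscheme I).app U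
        (show Γ(Coh.structureModule X, U) from (1 : Γ(X, U)))) = 0 := h3
    rw [h3', res_zero]
  rw [toSubscheme_app] at h4
  have h5 : (1 : Γ(X, V')) ∈ I.ideal ⟨V', hV'⟩ := by
    rw [← I.ker_subschemeι_app ⟨V', hV'⟩]
    exact h4
  have h6 := (Scheme.IdealSheafData.mem_support_iff_of_mem (I := I) (U := ⟨V', hV'⟩) hxV').1 hx
  rw [Scheme.mem_zeroLocus_iff] at h6
  apply h6 1 h5
  rw [Scheme.basicOpen_of_isUnit _ isUnit_one]
  exact hxV'

theorem support_quotMod : CohB1.support (ClSub.quotMod I) = (I.support : Set X) := by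
  apply subset_antisymm
  · have h := Groth.Agent.S0792.support_subset_range I.subschemeι (Coh.structureModule I.subscheme)
      (ClSub.quotMod I) (Iso.refl _)
    rw [I.range_subschemeι] at h
    exact h
  · intro z hz hsub
    exact gen_ne_zero I z hz (hsub.elim _ _)

end quot

section generic

variable (Z : Closeds X) (y : X) (hy : closure {y} = (Z : Set X))

include hy in
/-- at the generic point of an irreducible closed set, the maximal ideal kills the stalk of the structure sheaf of
the reduced induced subscheme. -/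
theorem maximalIdeal_smul_gen (a : X.presheaf.stalk y)
    (ha : a ∈ IsLocalRing.maximalIdeal (X.presheaf.stalk y)) :
    a • gen (Scheme.IdealSheafData.vanishingIdeal Z) y = 0 := by
  obtain ⟨U₁, hy₁, a₁, rfl⟩ := TopCat.Presheaf.exists_germ_eq X.presheaf a
  obtain ⟨_, ⟨U, hU, rfl⟩, hyU, hUU₁⟩ := X.isBasis_affineOpens.exists_subset_of_mem_open hy₁ U₁.2
  have e1 : X.presheaf.germ U₁ y hy₁ a₁ = X.presheaf.germ U y hyU (resO hUU₁ a₁) :=
    (TopCat.Presheaf.germ_res_apply X.presheaf (homOfLE hUU₁) y hyU a₁).symm
  rw [e1] at ha ⊢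
  set a' := resO hUU₁ a₁
  refine germ_smul_gen_eq_zero _ y ⟨U, hU⟩ hyU a' ?_
  rw [Scheme.IdealSheafData.vanishingIdeal_ideal, PrimeSpectrum.mem_vanishingIdeal]
  intro p hp
  by_contra hnp
  have h1 : hU.fromSpec p ∈ X.basicOpen a' := by
    have : p ∈ hU.fromSpec ⁻¹ᵁ X.basicOpen a' := by
      rw [hU.fromSpec_preimage_basicOpen]
      exact hnp
    exact this
  have hspec : y ⤳ hU.fromSpec p := specializes_iff_mem_closure.2 (hy ▸ hp)
  have h2 : y ∈ X.basicOpen a' := hspec.mem_open (X.basicOpen a').2 h1
  rw [Scheme.mem_basicOpen _ _ _ hyU] at h2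
  exact ha h2

include hy in
theorem exists_gen_quotMod :
    ∃ g : (ClSub.quotMod (Scheme.IdealSheafData.vanishingIdeal Z)).presheaf.stalk y, g ≠ 0 ∧
      (∀ a ∈ IsLocalRing.maximalIdeal (X.presheaf.stalk y), a • g = 0) ∧
      ∀ g' : (ClSub.quotMod (Scheme.IdealSheafData.vanishingIdeal Z)).presheaf.stalk y,
        ∃ c : X.presheaf.stalk y, g' = c • g := by
  refine ⟨gen _ y, gen_ne_zero _ y ?_, maximalIdeal_smul_gen Z y hy, exists_eq_smul_gen _ y⟩
  change y ∈ ((Scheme.IdealSheafData.vanishingIdeal Z).support : Set X)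
  rw [Scheme.IdealSheafData.coe_support_vanishingIdeal, ← hy]
  exact subset_closure (Set.mem_singleton y)

theorem support_quotMod_vanishingIdeal :
    CohB1.support (ClSub.quotMod (Scheme.IdealSheafData.vanishingIdeal Z)) = (Z : Set X) := by
  rw [support_quotMod, Scheme.IdealSheafData.coe_support_vanishingIdeal]

end generic

end Groth.Agent.Lib.Helper6.DevRed
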