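import Groth.Agent.Lib.Helper6.K0Inv
import Groth.Agent.Lib.Helper16.Stk7
import Groth.Agent.Lib.Helper16.TA2
import Groth.Agent.Lib.Helper17.TensorSupp
import Groth.Agent.Lib.Helper29.FreeIso4
import Groth.Agent.Lib.Helper28.InvQC
import Groth.Prelude.Def_FGA
import Mathlib
set_option backward.isDefEq.respectTransparency.types false
set_option autoImplicit false
set_option linter.style.haveILetI false

/-!
# The operators `[F] ↦ [M ⊗ F]` on `K'_0` for invertible `M`, and the `δ`-filtration
-/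

universe u
open CategoryTheory CategoryTheory.Limits AlgebraicGeometry Opposite TopologicalSpace MonoidalCategory

namespace Groth.Agent.Lib.Helper6.K0Op
open Groth.Agent.Lib.Helper6.K0Filt Groth.Agent.Lib.Helper6.K0Len Groth.Agent.Lib.Helper6.K0Delta
  Groth.Agent.Lib.Helper6.K0Tensor Groth.Agent.Lib.Helper16.Stk

variable {X : Scheme.{u}}

theorem isFinLocFreeOfRank_one_of_isInvertible (M : X.Modules) (hM : PicF.IsInvertible M) :
    FlatMod.IsFinLocFreeOfRank 1 M := by
  intro x
  obtain ⟨U, hxU, ⟨e⟩⟩ := hM x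
  refine ⟨U, hxU, ⟨e ≪≫ ?_⟩⟩
  exact (coproductUniqueIso (fun _ : Fin 1 => Coh.structureModule (↑U : Scheme.{u}))).symm

theorem isFlat_of_isFinLocFreeOfRank (M : X.Modules) {e : ℕ} (hM : FlatMod.IsFinLocFreeOfRank e M) :
    FlatMod.IsFlat M := by
  intro x
  obtain ⟨b⟩ := exists_stalkBasis M hM x
  haveI : Module.Free (X.presheaf.stalk x) (M.presheaf.stalk x) := Module.Free.of_basis b
  exact inferInstanceAs (Module.Flat (X.presheaf.stalk x) (M.presheaf.stalk x))

theorem isCoh_of_isInvertible (M : X.Modules) (hM : PicF.IsInvertible M) : Coh.IsCoh M :=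
  ⟨Groth.Agent.Lib.Helper28.InvQC.isQuasicoherent_of_isInvertible M hM,
    Groth.Agent.Lib.Helper29.FreeIso.isFiniteType_of_isFinLocFree M (fun x => by
      obtain ⟨U, hxU, h⟩ := isFinLocFreeOfRank_one_of_isInvertible M hM x
      exact ⟨U, 1, hxU, h⟩)⟩

theorem isCoh_tensorMod (M G : X.Modules) (hM : Coh.IsCoh M) (hG : Coh.IsCoh G) :
    Coh.IsCoh (CohB1.tensorMod M G) := by
  haveI : M.IsQuasicoherent := hM.1
  haveI : G.IsQuasicoherent := hG.1
  haveI : SheafOfModules.IsFiniteType.{u} (R := X.ringCatSheaf) M := hM.2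
  haveI : SheafOfModules.IsFiniteType.{u} (R := X.ringCatSheaf) G := hG.2
  exact ⟨inferInstance, Groth.Agent.Lib.Helper17.TensorQC.isFiniteType_tensorMod M G⟩

theorem support_tensorMod_subset (M G : X.Modules) (hM : Coh.IsCoh M) (hG : Coh.IsCoh G) :
    CohB1.support (CohB1.tensorMod M G) ⊆ CohB1.support G := by
  haveI : M.IsQuasicoherent := hM.1
  haveI : G.IsQuasicoherent := hG.1
  haveI : SheafOfModules.IsFiniteType.{u} (R := X.ringCatSheaf) M := hM.2
  haveI : SheafOfModules.IsFiniteType.{u} (R := X.ringCatSheaf) G := hG.2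
  rw [Groth.Agent.Lib.Helper17.TensorSupp.support_tensorMod]
  exact Set.inter_subset_right

/-- tensoring with a flat module preserves short exact sequences -/
theorem shortExact_tensor_of_flat (M : X.Modules) (hM : FlatMod.IsFlat M) (T : ShortComplex X.Modules)
    (hT : T.ShortExact) : (T.map (DCoh.tensorBi.obj M)).ShortExact := by
  apply shortExact_of_forall_stalk
  intro x
  have hTx : (T.map (stk x)).ShortExact := hT.map_of_exact (stk x)
  haveI : Module.Flat (X.presheaf.stalk x) ((stk x).obj M) := hM x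
  have h := Groth.Agent.Lib.Helper16.KF.shortExact_tensorLeft_of_flat (T.map (stk x)) hTx ((stk x).obj M)
  refine ShortComplex.shortExact_of_iso (ShortComplex.isoMk (stalkTensorIso x M T.X₁)
    (stalkTensorIso x M T.X₂) (stalkTensorIso x M T.X₃) ?_ ?_) h
  · exact (stalkTensorIso_natR x M T.f).symm
  · exact (stalkTensorIso_natR x M T.g).symm

section op

/-- the object map `G ↦ M ⊗ G` on coherent modules -/
noncomputable def tensorObjMap (M : X.Modules) (hc : Coh.IsCoh M) :
    Subtype (fun G : X.Modules => Coh.IsCoh G) → Subtype (fun G : X.Modules => Coh.IsCoh G) :=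
  fun G => ⟨CohB1.tensorMod M G.1, isCoh_tensorMod M G.1 hc G.2⟩

theorem relSub_le_comap_tensor (M : X.Modules) (hc : Coh.IsCoh M) (hf : FlatMod.IsFlat M) :
    KZero.relSub (fun G : X.Modules => Coh.IsCoh G) ≤
      (KZero.relSub (fun G : X.Modules => Coh.IsCoh G)).comap (FreeAbelianGroup.map (tensorObjMap M hc)) := by
  rw [KZero.relSub, AddSubgroup.closure_le]
  rintro x ⟨S, h₁, h₂, h₃, hS, rfl⟩
  refine AddSubgroup.subset_closure ⟨S.map (DCoh.tensorBi.obj M), isCoh_tensorMod M _ hc h₁,
    isCoh_tensorMod M _ hc h₂, isCoh_tensorMod M _ hc h₃, shortExact_tensor_of_flat M hf S hS, ?_⟩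
  simp only [map_sub, FreeAbelianGroup.map_of_apply]
  rfl

/-- the operator `[G] ↦ [M ⊗ G]` on `K'_0(X)` for a flat coherent module `M` -/
noncomputable def tensorOp (M : X.Modules) (hc : Coh.IsCoh M) (hf : FlatMod.IsFlat M) :
    KZero.K0sub (fun G : X.Modules => Coh.IsCoh G) →+ KZero.K0sub (fun G : X.Modules => Coh.IsCoh G) :=
  QuotientAddGroup.map _ _ (FreeAbelianGroup.map (tensorObjMap M hc)) (relSub_le_comap_tensor M hc hf)

theorem tensorOp_cls (M : X.Modules) (hc : Coh.IsCoh M) (hf : FlatMod.IsFlat M) (G : X.Modules) (hG : Coh.IsCoh G) :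
    tensorOp M hc hf (cls G) = cls (CohB1.tensorMod M G) := by
  classical
  unfold cls KZero.clSub
  rw [dif_pos hG, dif_pos (isCoh_tensorMod M G hc hG)]
  unfold tensorOp
  rw [QuotientAddGroup.map_mk, FreeAbelianGroup.map_of_apply]
  rfl

open Classical in
/-- the operator `[G] ↦ [M ⊗ G]` (zero unless `M` is coherent and flat) as an element of the endomorphism ring -/
noncomputable def Top (M : X.Modules) : AddMonoid.End (KZero.K0sub (fun G : X.Modules => Coh.IsCoh G)) :=
  if h : Coh.IsCoh M ∧ FlatMod.IsFlat M then tensorOp M h.1 h.2 else 0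

theorem isFlat_of_isInvertible (M : X.Modules) (hM : PicF.IsInvertible M) : FlatMod.IsFlat M :=
  isFlat_of_isFinLocFreeOfRank M (isFinLocFreeOfRank_one_of_isInvertible M hM)

theorem Top_cls (M : X.Modules) (hM : PicF.IsInvertible M) (G : X.Modules) (hG : Coh.IsCoh G) :
    Top M (cls G) = cls (CohB1.tensorMod M G) := by
  unfold Top
  rw [dif_pos ⟨isCoh_of_isInvertible M hM, isFlat_of_isInvertible M hM⟩]
  exact tensorOp_cls M _ _ G hG

end op

section lower

variable [IsNoetherian X] (δ : X → ℤ) (hδ : Cyc.IsDimFun X δ)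
include hδ

/-- `1 - [M ⊗ -]` lowers the `δ`-filtration, for `M` invertible -/
theorem sub_Top_mem (M : X.Modules) (hM : PicF.IsInvertible M) (m : ℤ)
    (c : KZero.K0sub (fun G : X.Modules => Coh.IsCoh G)) (hc : c ∈ Hle δ m) :
    (1 - Top M) c ∈ Hle δ (m - 1) := by
  have hle : Hle δ m ≤ (Hle δ (m - 1)).comap
      ((1 - Top M : AddMonoid.End (KZero.K0sub (fun G : X.Modules => Coh.IsCoh G)))) := by
    unfold Hle
    rw [AddSubgroup.closure_le]
    rintro c ⟨G, hG, rfl⟩
    rw [SetLike.mem_coe, AddSubgroup.mem_comap]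
    have hMc := isCoh_of_isInvertible M hM
    have hG' : Cyc.CohLe δ m (CohB1.tensorMod M G) := by
      rw [cohLe_iff] at hG ⊢
      exact ⟨isCoh_tensorMod M G hMc hG.1, fun x hx => hG.2 x (support_tensorMod_subset M G hMc hG.1 hx)⟩
    obtain ⟨-, h1⟩ := cycle_formula_delta δ hδ m G hG
    obtain ⟨-, h2⟩ := cycle_formula_delta δ hδ m _ hG'
    have hterm : term (fun x => δ x = m) (CohB1.tensorMod M G) = term (fun x => δ x = m) G := by
      funext x
      unfold term
      rw [len_tensorMod M G (isFinLocFreeOfRank_one_of_isInvertible M hM) x]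
      simp
    rw [hterm] at h2
    have h3 := AddSubgroup.sub_mem _ h1 h2
    change cls G - Top M (cls G) ∈ Hle δ (m - 1)
    rw [Top_cls M hM G hG.1]
    simpa using h3
  exact hle hc

end lower

section chain

theorem cls_iso {M N : X.Modules} (e : M ≅ N) (hM : Coh.IsCoh M) : cls M = cls N :=
  additive_iso (fun M => cls M)
    (fun S hS h1 h2 h3 => Groth.Agent.Lib.Helper16.K0Db.clSub_shortExact _ S hS h1 h2 h3) e hM

theorem isInvertible_tensorList (l : List X.Modules) (hl : ∀ M ∈ l, PicF.IsInvertible M) :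
    PicF.IsInvertible (FGA.tensorList l) := by
  induction l with
  | nil => exact Groth.Agent.Lib.Helper28.AmpleUnit.isInvertible_structureModule X
  | cons a l ih =>
    exact Groth.Agent.Lib.Helper28.GenLocus.isInvertible_tensorMod (hl a (List.mem_cons_self))
      (ih (fun M hM => hl M (List.mem_cons_of_mem _ hM)))

/-- the class of `(M₁ ⊗ (M₂ ⊗ ⋯)) ⊗ G` is obtained from the class of `G` by the operators `[Mᵢ ⊗ -]` -/
theorem cls_tensorList_tensor (l : List X.Modules) (hl : ∀ M ∈ l, PicF.IsInvertible M) (G : X.Modules)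
    (hG : Coh.IsCoh G) :
    cls (CohB1.tensorMod (FGA.tensorList l) G) = (l.map Top).prod (cls G) := by
  induction l with
  | nil =>
    obtain ⟨e⟩ := Groth.Agent.Lib.Helper28.InvQC.nonempty_unit_tensor_iso G
    rw [List.map_nil, List.prod_nil]
    exact cls_iso e (Groth.Agent.Lib.Helper6.DevCore.isCoh_of_iso e.symm hG)
  | cons a l ih =>
    have hl' : ∀ M ∈ l, PicF.IsInvertible M := fun M hM => hl M (List.mem_cons_of_mem _ hM)
    have ha : PicF.IsInvertible a := hl a (List.mem_cons_self)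
    have htl := isCoh_of_isInvertible _ (isInvertible_tensorList l hl')
    have hc1 : Coh.IsCoh (CohB1.tensorMod (FGA.tensorList l) G) := isCoh_tensorMod _ _ htl hG
    have e : CohB1.tensorMod (FGA.tensorList (a :: l)) G ≅
        CohB1.tensorMod a (CohB1.tensorMod (FGA.tensorList l) G) :=
      Groth.Agent.Lib.Helper16.TA.assocIso a (FGA.tensorList l) G
    rw [cls_iso e (Groth.Agent.Lib.Helper6.DevCore.isCoh_of_iso e.symm (isCoh_tensorMod _ _ (isCoh_of_isInvertible a ha) hc1)),
      ← Top_cls a ha _ hc1, ih hl', List.map_cons, List.prod_cons]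
    rfl

end chain

section comb

theorem sum_powerset_sort_prod {ι R : Type*} [LinearOrder ι] [Ring R] (T : ι → R) (s : Finset ι) :
    ∑ I ∈ s.powerset, ((-1 : ℤ) ^ I.card) • ((I.sort (· ≤ ·)).map T).prod =
      ((s.sort (· ≤ ·)).map (fun i => 1 - T i)).prod := by
  classical
  induction s using Finset.induction_on_min with
  | empty => simp
  | insert a s ha ih =>
    have has : a ∉ s := fun h => lt_irrefl a (ha a h)
    rw [Finset.sum_powerset_insert has, Finset.sort_insert _ (fun b hb => (ha b hb).le) has, List.map_cons,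
      List.prod_cons, ← ih, sub_mul, one_mul, Finset.mul_sum, sub_eq_add_neg, ← Finset.sum_neg_distrib]
    congr 1
    apply Finset.sum_congr rfl
    intro t ht
    have hts : t ⊆ s := Finset.mem_powerset.1 ht
    have hat : a ∉ t := fun h => has (hts h)
    rw [Finset.sort_insert _ (fun b hb => (ha b (hts hb)).le) hat, Finset.card_insert_of_notMem hat, List.map_cons,
      List.prod_cons, pow_succ, mul_neg_one, neg_smul, mul_smul_comm]

end comb

section lowerList

variable [IsNoetherian X] (δ : X → ℤ) (hδ : Cyc.IsDimFun X δ)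
include hδ

/-- a product of `r` operators `1 - [Mᵢ ⊗ -]` lowers the `δ`-filtration by `r` -/
theorem prod_sub_Top_mem (l : List X.Modules) (hl : ∀ M ∈ l, PicF.IsInvertible M) (m : ℤ)
    (c : KZero.K0sub (fun G : X.Modules => Coh.IsCoh G)) (hc : c ∈ Hle δ m) :
    (l.map (fun M => 1 - Top M)).prod c ∈ Hle δ (m - l.length) := by
  induction l generalizing m c with
  | nil => simpa using hc
  | cons a l ih =>
    have hl' : ∀ M ∈ l, PicF.IsInvertible M := fun M hM => hl M (List.mem_cons_of_mem _ hM)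
    have ha : PicF.IsInvertible a := hl a (List.mem_cons_self)
    rw [List.map_cons, List.prod_cons]
    have h1 := ih hl' m c hc
    have h2 := sub_Top_mem δ hδ a ha _ _ h1
    have h3 : m - (l.length : ℤ) - 1 = m - ((a :: l).length : ℤ) := by
      rw [List.length_cons]; push_cast; ring
    rw [h3] at h2
    exact h2

end lowerList

section altSum

variable [IsNoetherian X] (δ : X → ℤ) (hδ : Cyc.IsDimFun X δ)
include hδ

/-- the alternating sum `Σ_I (-1)^|I| ([M_I ⊗ G₁] - [M_I ⊗ G₂])` is `Π (1 - [Mᵢ ⊗ -])` applied to `[G₁] - [G₂]` -/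
theorem altSum_eq {r : ℕ} (M : Fin r → X.Modules) (hM : ∀ i, PicF.IsInvertible (M i))
    (G₁ G₂ : X.Modules) (h₁ : Coh.IsCoh G₁) (h₂ : Coh.IsCoh G₂) :
    (∑ I : Finset (Fin r), ((-1 : ℤ) ^ I.card) •
      (cls (CohB1.tensorMod (FGA.tensorList ((I.sort (· ≤ ·)).map M)) G₁) -
        cls (CohB1.tensorMod (FGA.tensorList ((I.sort (· ≤ ·)).map M)) G₂))) =
      ((((Finset.univ : Finset (Fin r)).sort (· ≤ ·)).map M).map (fun M => 1 - Top M)).prod (cls G₁ - cls G₂) := by
  have hterm : ∀ I : Finset (Fin r), ((-1 : ℤ) ^ I.card) •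
      (cls (CohB1.tensorMod (FGA.tensorList ((I.sort (· ≤ ·)).map M)) G₁) -
        cls (CohB1.tensorMod (FGA.tensorList ((I.sort (· ≤ ·)).map M)) G₂)) =
      (((-1 : ℤ) ^ I.card) • ((I.sort (· ≤ ·)).map (fun i => Top (M i))).prod) (cls G₁ - cls G₂) := by
    intro I
    have hl : ∀ N ∈ (I.sort (· ≤ ·)).map M, PicF.IsInvertible N := by
      intro N hN
      obtain ⟨i, -, rfl⟩ := List.mem_map.1 hN
      exact hM i
    rw [cls_tensorList_tensor _ hl G₁ h₁, cls_tensorList_tensor _ hl G₂ h₂, List.map_map, ← map_sub]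
    rfl
  rw [Finset.sum_congr rfl (fun I _ => hterm I)]
  have h2 := sum_powerset_sort_prod (fun i : Fin r => Top (M i)) Finset.univ
  rw [Finset.powerset_univ] at h2
  rw [List.map_map]
  have h3 : ((fun M => 1 - Top M) ∘ M) = fun i => 1 - Top (M i) := rfl
  rw [h3, ← h2]
  exact (AddMonoidHom.finset_sum_apply _ _ _).symm

theorem altSum_mem {r : ℕ} (M : Fin r → X.Modules) (hM : ∀ i, PicF.IsInvertible (M i))
    (G₁ G₂ : X.Modules) (h₁ : Coh.IsCoh G₁) (h₂ : Coh.IsCoh G₂) (m : ℤ) (h : cls G₁ - cls G₂ ∈ Hle δ m) :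
    (∑ I : Finset (Fin r), ((-1 : ℤ) ^ I.card) •
      (cls (CohB1.tensorMod (FGA.tensorList ((I.sort (· ≤ ·)).map M)) G₁) -
        cls (CohB1.tensorMod (FGA.tensorList ((I.sort (· ≤ ·)).map M)) G₂))) ∈ Hle δ (m - r) := by
  rw [altSum_eq δ hδ M hM G₁ G₂ h₁ h₂]
  have hl : ∀ N ∈ ((Finset.univ : Finset (Fin r)).sort (· ≤ ·)).map M, PicF.IsInvertible N := by
    intro N hN
    obtain ⟨i, -, rfl⟩ := List.mem_map.1 hN
    exact hM i
  have := prod_sub_Top_mem δ hδ _ hl m _ h
  rw [List.length_map, Finset.length_sort, Finset.card_univ, Fintype.card_fin] at this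
  exact this

end altSum

end Groth.Agent.Lib.Helper6.K0Op
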