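import Groth.Agent.Lib.Helper6.DevSoc
import Groth.Agent.S0020
import Groth.Agent.S4357
import Groth.Agent.S0796
import Mathlib
set_option backward.isDefEq.respectTransparency.types false
set_option autoImplicit false

/-!
# The core of devissage for coherent modules

`devissage_core`: on a Noetherian scheme, let `K'` be an isomorphism-closed class of modules containing the zero
modules and closed under extensions of coherent modules.  Let `X'` be a subset such that for every irreducible closed
`Z ⊆ X'` with generic point `y`, assuming all coherent modules with support properly contained in `Z` are in `K'`,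
every coherent `Q` supported in `Z` with `Q_y ≠ 0` has a coherent submodule in `K'` with nonzero stalk at `y`.  Then
all coherent modules supported in `X'` are in `K'`.
-/

universe u
open CategoryTheory CategoryTheory.Limits AlgebraicGeometry Opposite TopologicalSpace
open Groth.Agent.Lib.Helper17.CohKer Groth.Agent.Lib.Helper17.StalkExact Groth.Agent.Lib.Helper28.QCohLoc

namespace Groth.Agent.Lib.Helper6.DevCore
open Groth.Agent.Lib.Helper6.DevSub

variable {X : Scheme.{u}}

theorem isCoh_of_iso {M N : X.Modules} (e : M ≅ N) (hM : Coh.IsCoh M) : Coh.IsCoh N := by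
  haveI : M.IsQuasicoherent := hM.1
  haveI : SheafOfModules.IsFiniteType.{u} (R := X.ringCatSheaf) M := hM.2
  exact ⟨(SheafOfModules.isQuasicoherent X.ringCatSheaf).prop_of_iso e (inferInstance : M.IsQuasicoherent),
    isFiniteType_of_epi e.hom⟩

theorem isCoh_cokernel {A B : X.Modules} (f : A ⟶ B) (hA : Coh.IsCoh A) (hB : Coh.IsCoh B) :
    Coh.IsCoh (cokernel f) := by
  haveI : A.IsQuasicoherent := hA.1
  haveI : B.IsQuasicoherent := hB.1
  haveI : SheafOfModules.IsFiniteType.{u} (R := X.ringCatSheaf) B := hB.2
  exact ⟨isQuasicoherent_cokernel f, isFiniteType_cokernel f⟩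

theorem isCoh_kernel [IsLocallyNoetherian X] {A B : X.Modules} (f : A ⟶ B) (hA : Coh.IsCoh A)
    (hB : Coh.IsCoh B) : Coh.IsCoh (kernel f) := by
  haveI : A.IsQuasicoherent := hA.1
  haveI : B.IsQuasicoherent := hB.1
  haveI : SheafOfModules.IsFiniteType.{u} (R := X.ringCatSheaf) A := hA.2
  exact ⟨isQuasicoherent_kernel f, isFiniteType_kernel f⟩

theorem isCoh_image [IsLocallyNoetherian X] {A B : X.Modules} (f : A ⟶ B) (hA : Coh.IsCoh A)
    (hB : Coh.IsCoh B) : Coh.IsCoh (Abelian.image f) :=
  isCoh_kernel _ hB (isCoh_cokernel f hA hB)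

theorem support_subset_of_mono {S Q : X.Modules} (i : S ⟶ Q) [Mono i] :
    CohB1.support S ⊆ CohB1.support Q := by
  intro x hx hQ
  exact hx ((stalkHom_injective_of_mono i x).subsingleton)

theorem support_subset_of_epi {Q Q' : X.Modules} (p : Q ⟶ Q') [Epi p] :
    CohB1.support Q' ⊆ CohB1.support Q := by
  intro x hx hQ
  exact hx ((stalkHom_surjective_of_epi p x).subsingleton)

theorem isZero_of_support_eq_empty (F : X.Modules) (h : CohB1.support F = ∅) : IsZero F := by
  rw [IsZero.iff_id_eq_zero]
  apply Scheme.Modules.hom_ext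
  intro U
  ext x
  have hx : x = 0 := Groth.Agent.S0048.sections_eq_zero F U (fun z _ hz => by rw [h] at hz; exact hz) x
  rw [hx, map_zero, map_zero]

theorem isClosed_support (F : X.Modules) (hF : Coh.IsCoh F) : IsClosed (CohB1.support F) :=
  Groth.Agent.S0020.result X F hF.2

theorem isNoetherian_stalk [IsLocallyNoetherian X] (F : X.Modules) (hF : Coh.IsCoh F) (y : X) :
    IsNoetherian (X.presheaf.stalk y) (F.presheaf.stalk y) := by
  haveI : F.IsQuasicoherent := hF.1
  haveI : SheafOfModules.IsFiniteType.{u} (R := X.ringCatSheaf) F := hF.2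
  haveI := Groth.Agent.S4357.finite_stalk F y
  exact isNoetherian_of_isNoetherianRing_of_finite _ _

section core

variable [IsNoetherian X] (K' : ObjectProperty X.Modules)
  (hext : ∀ S : ShortComplex X.Modules, S.ShortExact → Coh.IsCoh S.X₁ → Coh.IsCoh S.X₂ → Coh.IsCoh S.X₃ →
      K' S.X₁ → K' S.X₃ → K' S.X₂)

include hext in
/-- the inner induction, at an irreducible closed set with generic point `y` -/
theorem inner (Z : Set X) (y : X)
    (IH : ∀ N : X.Modules, Coh.IsCoh N → CohB1.support N ⊆ Z → y ∉ CohB1.support N → K' N)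
    (hstepZ : ∀ Q : X.Modules, Coh.IsCoh Q → CohB1.support Q ⊆ Z → y ∈ CohB1.support Q →
        ∃ (S : X.Modules) (i : S ⟶ Q), Mono i ∧ Coh.IsCoh S ∧ K' S ∧ y ∈ CohB1.support S)
    (F : X.Modules) (hF : Coh.IsCoh F) (hFZ : CohB1.support F ⊆ Z) : K' F := by
  haveI := isNoetherian_stalk F hF y
  have claim : ∀ A : Submodule (X.presheaf.stalk y) (F.presheaf.stalk y),
      ∀ (Q : X.Modules) (π : F ⟶ Q), Epi π → Coh.IsCoh Q →
        LinearMap.ker (stalkLinearMap π y) = A → K' Q := by
    intro A
    induction A using WellFoundedGT.induction with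
    | ind A ih =>
      intro Q π hπ hQ hker
      have hQZ : CohB1.support Q ⊆ Z := (support_subset_of_epi π).trans hFZ
      by_cases hyQ : y ∈ CohB1.support Q
      · obtain ⟨S, i, hi, hS, hKS, hyS⟩ := hstepZ Q hQ hQZ hyQ
        have hQ' : Coh.IsCoh (cokernel i) := isCoh_cokernel i hS hQ
        have hepi : Epi (π ≫ cokernel.π i) := epi_comp _ _
        have hlt : A < LinearMap.ker (stalkLinearMap (π ≫ cokernel.π i) y) := by
          rw [← hker]
          refine lt_of_le_of_ne ?_ ?_
          · intro w hw
            rw [LinearMap.mem_ker] at hw ⊢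
            change stalkHom (π ≫ cokernel.π i) y w = 0
            have hw' : stalkHom π y w = 0 := hw
            rw [stalkHom_comp, hw', map_zero]
          · intro heq
            haveI : Nontrivial (S.presheaf.stalk y) := not_subsingleton_iff_nontrivial.1 hyS
            obtain ⟨v, hv⟩ := exists_ne (0 : S.presheaf.stalk y)
            have hiv : stalkHom i y v ≠ 0 := by
              intro h0
              apply hv
              apply stalkHom_injective_of_mono i y
              rw [h0, map_zero]
            obtain ⟨w, hw⟩ := stalkHom_surjective_of_epi π y (stalkHom i y v)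
            have hw2 : w ∈ LinearMap.ker (stalkLinearMap (π ≫ cokernel.π i) y) := by
              rw [LinearMap.mem_ker]
              change stalkHom (π ≫ cokernel.π i) y w = 0
              rw [stalkHom_comp, hw, ← stalkHom_comp, cokernel.condition, stalkHom_zero]
            rw [← heq, LinearMap.mem_ker] at hw2
            exact hiv (hw ▸ hw2)
        have hKQ' : K' (cokernel i) := ih _ hlt (cokernel i) (π ≫ cokernel.π i) hepi hQ' rfl
        let SC : ShortComplex X.Modules := ShortComplex.mk i (cokernel.π i) (cokernel.condition i)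
        have hSC : SC.ShortExact :=
          ShortComplex.ShortExact.mk' (ShortComplex.exact_of_g_is_cokernel _ (cokernelIsCokernel i)) hi
            coequalizer.π_epi
        exact hext SC hSC hS hQ hQ' hKS hKQ'
      · exact IH Q hQ hQZ hyQ
  exact claim _ F (𝟙 F) inferInstance hF rfl

variable [K'.IsClosedUnderIsomorphisms] (h0 : ∀ M : X.Modules, IsZero M → K' M) (X' : Set X)
    (hstep : ∀ (Z : Set X), IsClosed Z → IsIrreducible Z → Z ⊆ X' → ∀ y : X, closure {y} = Z →
      (∀ N : X.Modules, Coh.IsCoh N → CohB1.support N ⊆ Z → y ∉ CohB1.support N → K' N) →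
      ∀ Q : X.Modules, Coh.IsCoh Q → CohB1.support Q ⊆ Z → y ∈ CohB1.support Q →
        ∃ (S : X.Modules) (i : S ⟶ Q), Mono i ∧ Coh.IsCoh S ∧ K' S ∧ y ∈ CohB1.support S)

include hext h0 hstep in
theorem outer (Y : Closeds X) : (Y : Set X) ⊆ X' →
    ∀ F : X.Modules, Coh.IsCoh F → CohB1.support F ⊆ (Y : Set X) → K' F := by
  induction Y using WellFoundedLT.induction with
  | ind Y IH =>
    intro hYX' F hF hFY
    by_cases hirr : IsPreirreducible (Y : Set X)
    · by_cases hne : (Y : Set X).Nonempty
      · have hY : IsIrreducible (Y : Set X) := ⟨hne, hirr⟩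
        obtain ⟨y, hy⟩ := QuasiSober.sober hY Y.isClosed
        have IH' : ∀ N : X.Modules, Coh.IsCoh N → CohB1.support N ⊆ (Y : Set X) →
            y ∉ CohB1.support N → K' N := by
          intro N hN hNY hyN
          refine IH ⟨CohB1.support N, isClosed_support N hN⟩ ?_ (hNY.trans hYX') N hN le_rfl
          refine lt_of_le_of_ne hNY ?_
          intro heq
          apply hyN
          have : y ∈ (Y : Set X) := hy.mem
          rw [← heq] at this
          exact this
        exact inner K' hext (Y : Set X) y IH' (hstep _ Y.isClosed hY hYX' y hy IH') F hF hFY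
      · apply h0
        apply isZero_of_support_eq_empty
        rw [Set.not_nonempty_iff_eq_empty] at hne
        rw [hne] at hFY
        exact Set.subset_empty_iff.1 hFY
    · rw [isPreirreducible_iff_isClosed_union_isClosed] at hirr
      push_neg at hirr
      obtain ⟨z₁, z₂, hz₁, hz₂, hcov, h1, h2⟩ := hirr
      have hcl := isClosed_support F hF
      have hunion : CohB1.support F = (CohB1.support F ∩ z₁) ∪ (CohB1.support F ∩ z₂) := by
        rw [← Set.inter_union_distrib_left]
        exact (Set.inter_eq_left.2 (hFY.trans hcov)).symm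
      obtain ⟨S, hS, ⟨e⟩, hS1, hS3, hs1, hs3⟩ := Groth.Agent.S0049.result X F hF
        (CohB1.support F ∩ z₁) (CohB1.support F ∩ z₂) (hcl.inter hz₁) (hcl.inter hz₂) hunion
      have hlt1 : Y ⊓ ⟨z₁, hz₁⟩ < Y := inf_lt_left.2 h1
      have hlt2 : Y ⊓ ⟨z₂, hz₂⟩ < Y := inf_lt_left.2 h2
      have K1 : K' S.X₁ := IH _ hlt2 (Set.inter_subset_left.trans hYX') S.X₁ hS1
        (hs1.trans (Set.inter_subset_inter_left _ hFY))
      have K3 : K' S.X₃ := IH _ hlt1 (Set.inter_subset_left.trans hYX') S.X₃ hS3
        (hs3.trans (Set.inter_subset_inter_left _ hFY))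
      have K2 : K' S.X₂ := hext S hS hS1 (isCoh_of_iso e.symm hF) hS3 K1 K3
      exact K'.prop_of_iso e K2

include hext h0 hstep in
/-- **the core of devissage.** -/
theorem devissage_core (hX' : IsClosed X') (F : X.Modules) (hF : Coh.IsCoh F)
    (hsupp : CohB1.support F ⊆ X') : K' F :=
  outer K' hext h0 X' hstep ⟨X', hX'⟩ le_rfl F hF hsupp

end core

end Groth.Agent.Lib.Helper6.DevCore
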