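import Groth.Agent.Lib.Helper6.K0Len
import Groth.Agent.Lib.Helper16.Stk5
import Groth.Agent.Lib.Helper29.FreeIso5
import Groth.Agent.Lib.Helper17.TensorQC
import Mathlib
set_option backward.isDefEq.respectTransparency.types false
set_option autoImplicit false

/-!
# Lengths of stalks of the tensor product with a locally free module of constant rank
-/

universe u
open CategoryTheory CategoryTheory.Limits AlgebraicGeometry Opposite TopologicalSpace MonoidalCategory
open scoped TensorProduct

namespace Groth.Agent.Lib.Helper6.K0Tensor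
open Groth.Agent.Lib.Helper6.K0Filt Groth.Agent.Lib.Helper6.K0Len Groth.Agent.Lib.Helper16.Stk

variable {X : Scheme.{u}}

/-- the stalks of a locally free module of rank `e` are free of rank `e` -/
theorem exists_stalkBasis (E : X.Modules) {e : ℕ} (hE : FlatMod.IsFinLocFreeOfRank e E) (x : X) :
    Nonempty (Module.Basis (Fin e) (X.presheaf.stalk x) (E.presheaf.stalk x)) := by
  obtain ⟨V, hV, hxV, -⟩ := (TopologicalSpace.Opens.isBasis_iff_nbhd.1 X.isBasis_affineOpens)
    (show x ∈ (⊤ : X.Opens) from trivial)
  obtain ⟨σ, f, h⟩ := Groth.Agent.Lib.Helper29.FreeIso.exists_isBasisOn_nhds_of_finset E hE hV {x}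
    (by simpa using hxV) (by simp)
  obtain ⟨hx, hb⟩ := h x (Finset.mem_singleton_self x)
  exact ⟨hb.stalkBasis x hx⟩

/-- the stalk of `E ⊗ F` is the tensor product of the stalks -/
noncomputable def stalkTensorEquiv (E F : X.Modules) (x : X) :
    (E.presheaf.stalk x) ⊗[X.presheaf.stalk x] (F.presheaf.stalk x) ≃ₗ[X.presheaf.stalk x]
      (CohB1.tensorMod E F).presheaf.stalk x :=
  (stalkTensorIso x E F).toLinearEquiv

theorem len_tensorMod (E F : X.Modules) {e : ℕ} (hE : FlatMod.IsFinLocFreeOfRank e E) (x : X) :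
    len (CohB1.tensorMod E F) x = e * len F x := by
  obtain ⟨b⟩ := exists_stalkBasis E hE x
  have e2 : (E.presheaf.stalk x) ⊗[X.presheaf.stalk x] (F.presheaf.stalk x) ≃ₗ[X.presheaf.stalk x]
      (Fin e →₀ F.presheaf.stalk x) :=
    (TensorProduct.congr b.repr (LinearEquiv.refl (X.presheaf.stalk x) _)).trans
      (TensorProduct.finsuppScalarLeft (X.presheaf.stalk x) _ (Fin e))
  unfold len
  rw [← (stalkTensorEquiv E F x).length_eq, e2.length_eq, Module.length_finsupp]
  simp

end Groth.Agent.Lib.Helper6.K0Tensor
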