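import Groth.Agent.Lib.Helper6.DevFin
import Groth.Agent.Lib.Helper17.ClosedUnit
import Groth.Agent.Lib.Helper17.AnnIdeal
import Groth.Prelude.Def_Dual3
import Mathlib
set_option backward.isDefEq.respectTransparency.types false
set_option autoImplicit false

/-!
# The submodule `I · F` (`Dual3.idealMul`) on affine opens
-/

universe u
open CategoryTheory CategoryTheory.Limits AlgebraicGeometry Opposite TopologicalSpace TensorProduct
open Groth.Agent.Lib.Helper17.CohKer Groth.Agent.Lib.Helper17.StalkExact Groth.Agent.Lib.Helper28.QCohLoc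

namespace Groth.Agent.Lib.Helper6.IdealMul

section algebra

/-- the kernel of `p ↦ 1 ⊗ p`, `P → S ⊗ P`, for a surjective `R → S` with kernel `I`, is `I P`. -/
theorem mem_smul_top_of_tmul_eq_zero {R S P : Type*} [CommRing R] [CommRing S] [Algebra R S]
    (hs : Function.Surjective (algebraMap R S)) [AddCommGroup P] [Module R P] (p : P)
    (h : (1 : S) ⊗ₜ[R] p = 0) : p ∈ (RingHom.ker (algebraMap R S)) • (⊤ : Submodule R P) := by
  let I := RingHom.ker (algebraMap R S)
  let e₁ : (R ⧸ RingHom.ker (Algebra.ofId R S)) ≃ₐ[R] S :=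
    Ideal.quotientKerAlgEquivOfSurjective (f := Algebra.ofId R S) hs
  let ψ : S ⊗[R] P ≃ₗ[R] (R ⧸ RingHom.ker (Algebra.ofId R S)) ⊗[R] P :=
    TensorProduct.congr e₁.symm.toLinearEquiv (LinearEquiv.refl R P)
  have h1 : ψ ((1 : S) ⊗ₜ[R] p) = (1 : R ⧸ RingHom.ker (Algebra.ofId R S)) ⊗ₜ[R] p := by
    change (e₁.symm 1) ⊗ₜ[R] p = _
    rw [map_one]
  rw [h, map_zero] at h1
  have h2 := congrArg (TensorProduct.quotTensorEquivQuotSMul P (RingHom.ker (Algebra.ofId R S))) h1
  rw [map_zero, TensorProduct.quotTensorEquivQuotSMul_mk_one_tmul] at h2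
  exact (Submodule.Quotient.mk_eq_zero _).1 h2.symm

open Groth.Agent.Lib.Helper17.PullbackBC in
/-- the kernel of a base change along a surjective ring map with kernel `I` is `I P`. -/
theorem mem_smul_top_of_isBC {R S : Type u} [CommRing R] [CommRing S] (φ : R →+* S)
    (hφ : Function.Surjective φ) {P T : Type u} [AddCommGroup P] [Module R P] [AddCommGroup T] [Module S T]
    (c : P → T) (hc : IsBC φ c) (p : P) (hp : c p = 0) : p ∈ (RingHom.ker φ) • (⊤ : Submodule R P) := by
  letI := φ.toAlgebra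
  obtain ⟨e, he⟩ := (isBC_iff φ c).mp hc
  have h1 : (1 : S) ⊗ₜ[R] p = 0 := by rw [← he, hp, map_zero]
  exact mem_smul_top_of_tmul_eq_zero (S := S) hφ p h1

open Groth.Agent.Lib.Helper17.PullbackBC in
/-- a base change is spanned by the image of the original module -/
theorem span_range_of_isBC {R S : Type u} [CommRing R] [CommRing S] (φ : R →+* S)
    {P T : Type u} [AddCommGroup P] [Module R P] [AddCommGroup T] [Module S T]
    (c : P → T) (hc : IsBC φ c) : Submodule.span S (Set.range c) = ⊤ := by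
  letI := φ.toAlgebra
  obtain ⟨e, he⟩ := (isBC_iff φ c).mp hc
  rw [eq_top_iff]
  intro t _
  have key : ∀ z : S ⊗[R] P, e.symm z ∈ Submodule.span S (Set.range c) := by
    intro z
    induction z using TensorProduct.induction_on with
    | zero => rw [map_zero]; exact Submodule.zero_mem _
    | tmul s p =>
      have h1 : s ⊗ₜ[R] p = s • ((1 : S) ⊗ₜ[R] p) := by
        rw [TensorProduct.smul_tmul', smul_eq_mul, mul_one]
      rw [h1, map_smul, ← he, LinearEquiv.symm_apply_apply]
      exact Submodule.smul_mem _ _ (Submodule.subset_span ⟨p, rfl⟩)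
    | add x y hx hy => rw [map_add]; exact Submodule.add_mem _ hx hy
  have := key (e t)
  rwa [LinearEquiv.symm_apply_apply] at this

/-- a consequence of the Artin–Rees lemma -/
theorem exists_pow_smul_top_inf_eq_bot {R M : Type*} [CommRing R] [IsNoetherianRing R] [AddCommGroup M]
    [Module R M] [Module.Finite R M] (J : Ideal R) (N : Submodule R M)
    (hJ : ∀ a ∈ J, ∀ x ∈ N, a • x = 0) : ∃ k : ℕ, ∀ n ≥ k, J ^ n • (⊤ : Submodule R M) ⊓ N = ⊥ := by
  obtain ⟨k, hk⟩ := Ideal.exists_pow_inf_eq_pow_smul J N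
  refine ⟨k + 1, fun n hn => ?_⟩
  rw [hk n (by omega)]
  rw [eq_bot_iff]
  have h1 : J ^ (n - k) ≤ J := by
    have : n - k = (n - k - 1) + 1 := by omega
    rw [this, pow_succ']
    exact Ideal.mul_le_left (I := J) (J := J ^ (n - k - 1))
  refine (Submodule.smul_mono h1 inf_le_right).trans ?_
  rw [Submodule.smul_le]
  intro a ha x hx
  rw [hJ a ha x hx]
  exact Submodule.zero_mem _

end algebra

section sheaf
open Groth.Agent.Lib.Helper17.PullbackBC Groth.Agent.Lib.Helper28.PullbackInv Groth.Agent.Lib.Helper17.ClosedUnit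

variable {X : Scheme.{u}} (I : X.IdealSheafData) (G : X.Modules)

/-- sections of `I · G` over an affine open lie in `I(U) · G(U)` -/
theorem idealMulι_app_mem [G.IsQuasicoherent] (U : X.affineOpens) (s : Γ((Dual3.idealMul I).obj G, U.1)) :
    (Dual3.idealMulι I G).app U.1 s ∈ (I.ideal U) • (⊤ : Submodule Γ(X, U.1) Γ(G, U.1)) := by
  have hW' : IsAffineOpen (I.subschemeι ⁻¹ᵁ U.1) := U.2.preimage I.subschemeι
  have hbc := isBC_pullback I.subschemeι U.2 hW' le_rfl G
  have hsurj : Function.Surjective (I.subschemeι.appLE U.1 (I.subschemeι ⁻¹ᵁ U.1) le_rfl).hom := by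
    rw [← Scheme.Hom.app_eq_appLE]
    exact I.subschemeι.app_surjective U.1 U.2
  have h0 : ((Scheme.Modules.pullbackPushforwardAdjunction I.subschemeι).unit.app G).app U.1
      ((Dual3.idealMulι I G).app U.1 s) = 0 := by
    have h := kernel.condition ((Scheme.Modules.pullbackPushforwardAdjunction I.subschemeι).unit.app G)
    have h' := congrArg (fun φ => φ.app U.1 s) h
    exact h'
  have h1 := mem_smul_top_of_isBC _ hsurj _ hbc ((Dual3.idealMulι I G).app U.1 s) (by
    rw [res_self]
    exact h0)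
  have hker : RingHom.ker (I.subschemeι.appLE U.1 (I.subschemeι ⁻¹ᵁ U.1) le_rfl).hom = I.ideal U := by
    rw [← Scheme.Hom.app_eq_appLE]
    exact I.ker_subschemeι_app U
  rw [hker] at h1
  exact h1

/-- the unit `G ⟶ i_* i^* G` kills `I(U) · G(U)` -/
theorem unit_app_eq_zero_of_mem (U : X.affineOpens) (m : Γ(G, U.1))
    (hm : m ∈ (I.ideal U) • (⊤ : Submodule Γ(X, U.1) Γ(G, U.1))) :
    ((Scheme.Modules.pullbackPushforwardAdjunction I.subschemeι).unit.app G).app U.1 m = 0 := by
  refine Submodule.smul_induction_on hm (fun a ha s _ => ?_) (fun x y hx hy => ?_)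
  · have h0 : I.subschemeι.app U.1 a = 0 := by
      have : a ∈ RingHom.ker (I.subschemeι.app U.1).hom := by rw [I.ker_subschemeι_app U]; exact ha
      exact this
    rw [Scheme.Modules.Hom.app_smul]
    have : (a • (((Scheme.Modules.pullbackPushforwardAdjunction I.subschemeι).unit.app G).app U.1 s) :
        Γ((Scheme.Modules.pushforward I.subschemeι).obj ((Scheme.Modules.pullback I.subschemeι).obj G), U.1)) =
        ((I.subschemeι.app U.1).hom a • (pbs I.subschemeι G U.1 s) :
          Γ((Scheme.Modules.pullback I.subschemeι).obj G, I.subschemeι ⁻¹ᵁ U.1)) := rfl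
    rw [this, h0, zero_smul]
    rfl
  · rw [map_add, hx, hy, add_zero]

/-- elements of `I(U) · G(U)` are sections of `I · G` -/
theorem exists_idealMul_app_eq (U : X.affineOpens) (m : Γ(G, U.1))
    (hm : m ∈ (I.ideal U) • (⊤ : Submodule Γ(X, U.1) Γ(G, U.1))) :
    ∃ s : Γ((Dual3.idealMul I).obj G, U.1), (Dual3.idealMulι I G).app U.1 s = m :=
  exists_kernel_app_eq _ U.1 m (unit_app_eq_zero_of_mem I G U m hm)

/-- morphisms of modules agreeing on sections over affine opens are equal -/
theorem hom_ext_affine {A B : X.Modules} (φ ψ : A ⟶ B)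
    (h : ∀ (U : X.affineOpens) (s : Γ(A, U.1)), φ.app U.1 s = ψ.app U.1 s) : φ = ψ := by
  ext U s
  change φ.app U s = ψ.app U s
  let ι := {W : X.affineOpens // W.1 ≤ U}
  refine eq_of_locally_eq B (fun W : ι => W.1.1) U (fun W => W.2) ?_ _ _ (fun W => ?_)
  · intro x hx
    obtain ⟨_, ⟨W, hW, rfl⟩, hxW, hWU⟩ := X.isBasis_affineOpens.exists_subset_of_mem_open hx U.2
    exact Opens.mem_iSup.2 ⟨⟨⟨W, hW⟩, hWU⟩, hxW⟩
  · rw [← app_res, ← app_res, h W.1]

/-- a morphism into `G` whose sections over affine opens lie in `I(U) · G(U)` factors through `I · G` -/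
theorem exists_lift_idealMul {A : X.Modules} (α : A ⟶ G)
    (h : ∀ (U : X.affineOpens) (s : Γ(A, U.1)), α.app U.1 s ∈ (I.ideal U) • (⊤ : Submodule Γ(X, U.1) Γ(G, U.1))) :
    ∃ β : A ⟶ (Dual3.idealMul I).obj G, β ≫ Dual3.idealMulι I G = α := by
  have h0 : α ≫ (Scheme.Modules.pullbackPushforwardAdjunction I.subschemeι).unit.app G = 0 := by
    apply hom_ext_affine
    intro U s
    exact unit_app_eq_zero_of_mem I G U _ (h U s)
  exact ⟨kernel.lift _ α h0, kernel.lift_ι _ _ _⟩

/-- a morphism from `G` to a quasi-coherent module killed by `I` vanishes on `I · G` -/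
theorem idealMulι_comp_eq_zero {C : X.Modules} [C.IsQuasicoherent]
    (hk : ∀ (U : X.affineOpens) (a : Γ(X, U.1)), a ∈ I.ideal U → ∀ s : Γ(C, U.1), a • s = 0)
    (φ : G ⟶ C) : Dual3.idealMulι I G ≫ φ = 0 := by
  haveI := isIso_unit_of_killed I.subschemeι C (by
    intro U a ha s
    rw [I.ker_subschemeι] at ha
    exact hk U a ha s)
  rw [← cancel_mono ((Scheme.Modules.pullbackPushforwardAdjunction I.subschemeι).unit.app C), zero_comp,
    Category.assoc]
  have nat := (Scheme.Modules.pullbackPushforwardAdjunction I.subschemeι).unit.naturality φ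
  rw [Functor.id_map] at nat
  rw [nat, ← Category.assoc]
  have h := kernel.condition ((Scheme.Modules.pullbackPushforwardAdjunction I.subschemeι).unit.app G)
  change Dual3.idealMulι I G ≫ _ = 0 at h
  rw [h, zero_comp]

instance isQuasicoherent_idealMul [G.IsQuasicoherent] : ((Dual3.idealMul I).obj G).IsQuasicoherent := by
  haveI : ((Scheme.Modules.pullback I.subschemeι).obj G).IsQuasicoherent :=
    Groth.Agent.Lib.Helper17.ModPullback.isQuasicoherent_pullback _ _
  haveI : ((Scheme.Modules.pushforward I.subschemeι).obj ((Scheme.Modules.pullback I.subschemeι).obj G)).IsQuasicoherent :=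
    isQuasicoherent_pushforward I.subschemeι _
  exact @isQuasicoherent_kernel X G _ ‹G.IsQuasicoherent› this
    ((Scheme.Modules.pullbackPushforwardAdjunction I.subschemeι).unit.app G)

/-- sections of the cokernel-kernel: for a monomorphism `t`, sections of `G` dying in the cokernel come from `T` -/
theorem exists_app_eq_of_cokernel {T : X.Modules} (t : T ⟶ G) [Mono t] (U : X.Opens) (m : Γ(G, U))
    (hm : (cokernel.π t).app U m = 0) : ∃ τ : Γ(T, U), t.app U τ = m := by
  obtain ⟨k, hk⟩ := exists_kernel_app_eq (cokernel.π t) U m hm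
  have hlim : IsLimit (KernelFork.ofι t (cokernel.condition t)) :=
    Abelian.monoIsKernelOfCokernel (CokernelCofork.ofπ (cokernel.π t) (cokernel.condition t))
      (cokernelIsCokernel t)
  let e : kernel (cokernel.π t) ≅ T := (kernelIsKernel (cokernel.π t)).conePointUniqueUpToIso hlim
  have he : e.hom ≫ t = kernel.ι (cokernel.π t) :=
    IsLimit.conePointUniqueUpToIso_hom_comp (kernelIsKernel (cokernel.π t)) hlim WalkingParallelPair.zero
  refine ⟨e.hom.app U k, ?_⟩
  rw [← hk, ← he]
  rfl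

/-- a quasi-coherent module with no sections over the members of an affine open cover is zero -/
theorem isZero_of_subsingleton_cover (K : X.Modules) [K.IsQuasicoherent] (s : Set X.affineOpens)
    (hs : ∀ x : X, ∃ U ∈ s, x ∈ U.1) (h : ∀ U ∈ s, Subsingleton Γ(K, U.1)) : IsZero K := by
  apply Groth.Agent.Lib.Helper6.DevCore.isZero_of_support_eq_empty
  rw [Set.eq_empty_iff_forall_notMem]
  intro x hx
  obtain ⟨U, hU, hxU⟩ := hs x
  rw [Groth.Agent.Lib.Helper17.TensorSupp.mem_support_iff_mem_moduleSupport K U.2 x hxU] at hx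
  haveI := h U hU
  rw [Module.support_eq_empty] at hx
  exact hx

/-- **a consequence of the Artin–Rees lemma**: if `J` kills the submodule `T` of the coherent module `G`, then
`J^n G ∩ T = 0` for `n` large. -/
theorem exists_pow_inf_eq_zero [IsNoetherian X] (hG : Coh.IsCoh G) {T : X.Modules} [T.IsQuasicoherent]
    (t : T ⟶ G) [Mono t] (J : X.IdealSheafData)
    (hJ : ∀ (U : X.affineOpens) (a : Γ(X, U.1)), a ∈ J.ideal U → ∀ s : Γ(T, U.1), a • s = 0) :
    ∃ n : ℕ, ∀ J' : X.IdealSheafData, J' ≤ J ^ n →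
      ∀ (K : X.Modules) (a : K ⟶ (Dual3.idealMul J').obj G) (b : K ⟶ T),
        a ≫ Dual3.idealMulι J' G = b ≫ t → b = 0 := by
  classical
  haveI : G.IsQuasicoherent := hG.1
  haveI : SheafOfModules.IsFiniteType.{u} (R := X.ringCatSheaf) G := hG.2
  -- a finite affine cover
  obtain ⟨s, hs⟩ : ∃ s : Finset X.affineOpens, ∀ x : X, ∃ U ∈ s, x ∈ U.1 := by
    obtain ⟨s, hs⟩ := isCompact_univ.elim_finite_subcover (fun U : X.affineOpens => (U.1 : Set X))
      (fun U => U.1.2) (by
        intro x _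
        obtain ⟨_, ⟨U, hU, rfl⟩, hxU, -⟩ :=
          X.isBasis_affineOpens.exists_subset_of_mem_open (Set.mem_univ x) isOpen_univ
        exact Set.mem_iUnion.2 ⟨⟨U, hU⟩, hxU⟩)
    refine ⟨s, fun x => ?_⟩
    obtain ⟨U, hU, hxU⟩ := Set.mem_iUnion₂.1 (hs (Set.mem_univ x))
    exact ⟨U, hU, hxU⟩
  -- the Artin–Rees constants
  have hk : ∀ U : X.affineOpens, ∃ k : ℕ, ∀ n ≥ k, ∀ m : Γ(G, U.1),
      m ∈ (J.ideal U) ^ n • (⊤ : Submodule Γ(X, U.1) Γ(G, U.1)) → (∃ τ, t.app U.1 τ = m) → m = 0 := by
    intro U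
    haveI : IsNoetherianRing Γ(X, U.1) := IsLocallyNoetherian.component_noetherian U
    haveI : Module.Finite Γ(X, U.1) Γ(G, U.1) := Groth.Agent.Lib.Helper28.FinType.finite_of_isAffineOpen G U.2
    let ℓ : Γ(T, U.1) →ₗ[Γ(X, U.1)] Γ(G, U.1) :=
      { toFun := fun k => t.app U.1 k
        map_add' := fun a b => map_add _ a b
        map_smul' := fun r a => Scheme.Modules.Hom.app_smul t r a }
    obtain ⟨k, hk⟩ := exists_pow_smul_top_inf_eq_bot (J.ideal U) (LinearMap.range ℓ) (by
      rintro a ha _ ⟨τ, rfl⟩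
      change a • t.app U.1 τ = 0
      rw [← Scheme.Modules.Hom.app_smul, hJ U a ha τ, map_zero])
    refine ⟨k, fun n hn m hm hτ => ?_⟩
    obtain ⟨τ, hτ⟩ := hτ
    have : m ∈ (J.ideal U) ^ n • (⊤ : Submodule Γ(X, U.1) Γ(G, U.1)) ⊓ LinearMap.range ℓ := ⟨hm, τ, hτ⟩
    rw [hk n hn] at this
    exact (Submodule.mem_bot _).1 this
  choose k hk using hk
  refine ⟨s.sup k, fun J' hJ' K a b hab => ?_⟩
  let Pb := kernel (Dual3.idealMulι J' G ≫ cokernel.π t)
  have hPb : IsZero Pb := by
    haveI : (cokernel t).IsQuasicoherent := isQuasicoherent_cokernel t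
    haveI : Pb.IsQuasicoherent := isQuasicoherent_kernel _
    refine isZero_of_subsingleton_cover Pb (s : Set X.affineOpens) hs (fun U hU => ?_)
    suffices h : ∀ x : Γ(Pb, U.1), x = 0 from ⟨fun x y => by rw [h x, h y]⟩
    intro x
    apply kernel_ι_app_injective _ U.1
    rw [map_zero]
    apply Groth.Agent.Lib.Helper29.QCohStalk.injective_app_of_mono (Dual3.idealMulι J' G) inferInstance U.1
    rw [map_zero]
    have h1 := idealMulι_app_mem J' G U ((kernel.ι (Dual3.idealMulι J' G ≫ cokernel.π t)).app U.1 x)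
    have h2 : (cokernel.π t).app U.1 ((Dual3.idealMulι J' G).app U.1
        ((kernel.ι (Dual3.idealMulι J' G ≫ cokernel.π t)).app U.1 x)) = 0 :=
      app_kernel_ι_app (Dual3.idealMulι J' G ≫ cokernel.π t) U.1 x
    refine hk U (s.sup k) (Finset.le_sup hU) _ ?_ (exists_app_eq_of_cokernel G t U.1 _ h2)
    exact Submodule.smul_mono_left (hJ' U) h1
  have ha : a = 0 := by
    have h0 : a ≫ Dual3.idealMulι J' G ≫ cokernel.π t = 0 := by
      rw [← Category.assoc, hab, Category.assoc, cokernel.condition, comp_zero]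
    rw [← kernel.lift_ι _ a h0, hPb.eq_of_tgt (kernel.lift _ a h0) 0, zero_comp]
  rw [ha, zero_comp] at hab
  rw [← cancel_mono t, zero_comp, ← hab]

end sheaf

end Groth.Agent.Lib.Helper6.IdealMul
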