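import Groth.Agent.Lib.Helper6.K0Rank
import Groth.Agent.Lib.Helper28.DualInv
import Groth.Agent.Lib.Helper28.TensorPowGen
import Groth.Prelude.Def_DCoh4
import Mathlib
set_option backward.isDefEq.respectTransparency.types false
set_option autoImplicit false

/-!
# A tensor inverse of an invertible module is invertible
-/

universe u
open CategoryTheory CategoryTheory.Limits AlgebraicGeometry Opposite TopologicalSpace MonoidalCategory

namespace Groth.Agent.Lib.Helper6.K0Inv
open Groth.Agent.Lib.Helper28 Groth.Agent.Lib.Helper28.QCohLoc Groth.Agent.Lib.Helper28.TensorGen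
  Groth.Agent.Lib.Helper28.GenLocus Groth.Agent.Lib.Helper28.HomMod

variable {X : Scheme.{u}}

/-- the symmetry of the tensor product of `O_X`-modules -/
noncomputable def braidIso (M N : X.Modules) : CohB1.tensorMod M N ≅ CohB1.tensorMod N M :=
  DCoh.shP.mapIso (β_ (DCoh.toP.obj M) (DCoh.toP.obj N))

/-- a generator of a module isomorphic to the structure sheaf -/
theorem exists_isGen_top_of_iso (F : X.Modules) (e : F ≅ Coh.structureModule X) :
    ∃ τ : Γ(F, ⊤), IsGen F ⊤ τ := by
  refine ⟨e.inv.app ⊤ (show Γ(Coh.structureModule X, ⊤) from (1 : Γ(X, ⊤))), ?_⟩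
  intro W hW
  have hb := app_bijective_of_isIso e.inv W
  have : (fun c : Γ(X, W) => (c • res F hW (e.inv.app ⊤ (show Γ(Coh.structureModule X, ⊤) from (1 : Γ(X, ⊤)))) :
      Γ(F, W))) = fun c : Γ(X, W) => e.inv.app W (show Γ(Coh.structureModule X, W) from c) := by
    funext c
    exact (hom_app_eq_smul e.inv W c).symm
  rw [this]
  exact hb

/-- **a tensor inverse of an invertible module is invertible** -/
theorem isInvertible_of_tensor_iso' (L M : X.Modules) (hL : PicF.IsInvertible L)
    (e : CohB1.tensorMod M L ≅ Coh.structureModule X) : PicF.IsInvertible M := by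
  obtain ⟨τ, hτ⟩ := exists_isGen_top_of_iso _ e
  refine isInvertible_of_isGen M fun x => ?_
  obtain ⟨U, g, hxU, hg⟩ := exists_isGen L hL x
  refine ⟨U, untw M hg (res (CohB1.tensorMod M L) le_top τ), hxU, ?_⟩
  intro W hW
  have hb := hτ W le_top
  have hb2 := (tmulEquiv M (hg.res hW)).symm.bijective
  have : (fun c : Γ(X, W) => (c • res M hW (untw M hg (res (CohB1.tensorMod M L) le_top τ)) : Γ(M, W))) =
      (tmulEquiv M (hg.res hW)).symm ∘
        (fun c : Γ(X, W) => (c • res (CohB1.tensorMod M L) le_top τ : Γ(CohB1.tensorMod M L, W))) := by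
    funext c
    rw [Function.comp_apply, map_smul]
    congr 1
    rw [← untw_res M hg _ hW, res_res]
    rfl
  rw [this]
  exact hb2.comp hb

theorem isInvertible_of_tensor_iso (L M : X.Modules) (hL : PicF.IsInvertible L)
    (e : CohB1.tensorMod L M ≅ Coh.structureModule X) : PicF.IsInvertible M :=
  isInvertible_of_tensor_iso' L M hL (braidIso M L ≪≫ e)

end Groth.Agent.Lib.Helper6.K0Inv
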