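import Groth.Agent.Lib.Helper6.CohTopPush
import Groth.Agent.Lib.Helper6.ExtShift

/-!
# Degenerate Leray: `H^p(X, F) ≅ H^p(Y, f_* F)` for `f_*`-acyclic `F` (helper6)
-/

universe u

open CategoryTheory Limits Opposite TopologicalSpace Abelian

namespace Groth.Agent.Lib.Helper6.CohTopLeray

open CohTop DeltaCompare

attribute [local instance] HasDerivedCategory.standard

variable {X Y : TopCat.{u}} (f : X ⟶ Y)

/-- The constant sheaf `ℤ` used in the definition of sheaf cohomology. -/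
noncomputable abbrev ZZ (X : TopCat.{u}) : Ab X :=
  (constantSheaf (Opens.grothendieckTopology X) AddCommGrpCat.{u}).obj
    (AddCommGrpCat.of (ULift ℤ))

/-- `H^0(X, G) ≃+ H^0(Y, f_* G)`. -/
noncomputable def equiv₀ (G : Ab X) : CohTop.H G 0 ≃+ CohTop.H ((CohTop.push f).obj G) 0 :=
  (Sheaf.H.equiv₀ G (isTerminalTop (α := Opens X))).trans
    (Sheaf.H.equiv₀ ((CohTop.push f).obj G) (isTerminalTop (α := Opens Y))).symm

lemma equiv₀_naturality {G G' : Ab X} (g : G ⟶ G') (x : CohTop.H G 0) :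
    equiv₀ f G' (Sheaf.H.map g 0 x) =
      Sheaf.H.map ((CohTop.push f).map g) 0 (equiv₀ f G x) := by
  have h1 := Sheaf.H.equiv₀_naturality (isTerminalTop (α := Opens X)) g x
  have h2 := Sheaf.H.equiv₀_symm_naturality (isTerminalTop (α := Opens Y))
    ((CohTop.push f).map g)
    (show ((CohTop.push f).obj G).obj.obj (op ⊤) from
      Sheaf.H.equiv₀ G (isTerminalTop (α := Opens X)) x)
  refine Eq.trans ?_ h2.symm
  exact congrArg (Sheaf.H.equiv₀ ((CohTop.push f).obj G') (isTerminalTop (α := Opens Y))).symm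
    h1.symm

/-- The natural isomorphism `H^0(X, -) ≅ H^0(Y, f_* -)`. -/
noncomputable def θ : extFunctorObj (ZZ X) 0 ≅ CohTop.push f ⋙ extFunctorObj (ZZ Y) 0 :=
  NatIso.ofComponents (fun G => (equiv₀ f G).toAddCommGrpIso) (fun {G G'} g => by
    ext x
    exact equiv₀_naturality f g x)

/-- `H^p(X, F) ≃+ H^p(Y, f_* F)` for `f_*`-acyclic `F`. -/
theorem nonempty_H_addEquiv_of_acyc (F : Ab X) (hF : RDAcyc.Acyc (CohTop.push f) F) (p : ℕ) :
    Nonempty (CohTop.H F p ≃+ CohTop.H ((CohTop.push f).obj F) p) := by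
  obtain ⟨e⟩ := delta_compare (fun n => extFunctorObj (ZZ X) n)
    (fun n => CohTop.push f ⋙ extFunctorObj (ZZ Y) n) (θ f)
    (fun G => RDAcyc.Acyc (CohTop.push f) G) (fun G hG => by
      have hE := ExtAcyc.sesUnder_shortExact G
      have hI : Injective (ExtAcyc.sesUnder G).X₂ := inferInstance
      have hI' : Injective ((CohTop.push f).obj (ExtAcyc.sesUnder G).X₂) :=
        CohTopPush.push_injective f _
      refine ⟨_, _, (ExtAcyc.sesUnder G).f, (ExtAcyc.sesUnder G).g,
        RDAcyc.acyc_X₃ (CohTop.push f) hE hG (Leray.acyc_of_injective _ _),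
        ExtShift.hasShift_ext (ZZ X) _ hE (fun n x => Ext.eq_zero_of_injective x),
        ExtShift.hasShift_ext_comp (CohTop.push f) (ZZ Y) _
          (RDAcyc.map_shortExact (CohTop.push f) hE
            (RDAcyc.epi_map_g_of_acyc_X₁ (CohTop.push f) hE hG))
          (fun n x => Ext.eq_zero_of_injective x)⟩) p F hF
  exact ⟨e.addCommGroupIsoToAddEquiv⟩

/-- `H^p(X, F) ≃+ H^p(Y, f_* F)` when the higher direct images of `F` vanish. -/
theorem nonempty_H_addEquiv_of_isZero_Rpush (F : Ab X)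
    (h : ∀ q : ℕ, IsZero ((CohTop.Rpush f (q + 1)).obj F)) (p : ℕ) :
    Nonempty (CohTop.H F p ≃+ CohTop.H ((CohTop.push f).obj F) p) :=
  nonempty_H_addEquiv_of_acyc f F
    ((RDAcyc.acyc_iff_isZero_rightDerived (CohTop.push f) F).2 h) p

end Groth.Agent.Lib.Helper6.CohTopLeray
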