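import Groth.Agent.Lib.Helper6.Leray

/-!
# Adapted classes are right acyclic (helper6)

For an additive `F : A ⥤ B` (no exactness assumed) and a class `I` of objects of `A` such that
every object embeds in an object of `I`, and `I` is closed under cokernels of monos between its
members with `F` exact on such sequences: every `X ∈ I` is right `F`-acyclic (`RDAcyc.Acyc F X`).
-/

universe w w' v v' u u'

open CategoryTheory Limits HomologicalComplex

namespace Groth.Agent.Lib.Helper6.RDAdapted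

open RDAcyc

variable {A : Type u} {B : Type u'} [Category.{v} A] [Category.{v'} B] [Abelian A] [Abelian B]
  [HasDerivedCategory.{w} A] [HasDerivedCategory.{w'} B] [EnoughInjectives A]
  (F : A ⥤ B) [F.Additive]

/-- `H⁰(F(Y[0])) ≅ F Y`. -/
noncomputable def σ (Y : A) :
    (DerivedCategory.Plus.homologyFunctor B 0).obj
      (DerivedCategory.Plus.Q.obj (F.mapCochainComplexPlus.obj ((sP A).obj Y))) ≅ F.obj Y :=
  plusHomologyIso _ 0 ≪≫ (singleHomologyIso F).app Y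

lemma σ_naturality {X Y : A} (f : X ⟶ Y) :
    (DerivedCategory.Plus.homologyFunctor B 0).map
        (DerivedCategory.Plus.Q.map (F.mapCochainComplexPlus.map ((sP A).map f))) ≫ (σ F Y).hom =
      (σ F X).hom ≫ F.map f := by
  dsimp only [σ, Iso.trans_hom]
  rw [← Category.assoc, plusHomologyIso_hom_naturality, Category.assoc, Category.assoc]
  congr 1
  exact (singleHomologyIso F).hom.naturality f

/-- The comparison `F Y ⟶ R⁰F Y`. -/
noncomputable def τ (Y : A) : F.obj Y ⟶ Φ F 0 Y := (σ F Y).inv ≫ hu F 0 Y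

lemma τ_naturality {X Y : A} (f : X ⟶ Y) : τ F X ≫ Φmap F 0 f = F.map f ≫ τ F Y := by
  dsimp only [τ]
  rw [Category.assoc, ← hu_naturality, ← Category.assoc, ← Category.assoc]
  congr 1
  rw [Iso.inv_comp_eq, ← Category.assoc, ← σ_naturality, Category.assoc, Iso.hom_inv_id,
    Category.comp_id]

lemma isIso_hu_zero_iff (Y : A) : IsIso (hu F 0 Y) ↔ IsIso (τ F Y) := by
  dsimp only [τ]
  constructor
  · intro h; infer_instance
  · intro h
    have : hu F 0 Y = (σ F Y).hom ≫ ((σ F Y).inv ≫ hu F 0 Y) := by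
      rw [← Category.assoc, Iso.hom_inv_id, Category.id_comp]
    rw [this]; infer_instance

lemma Φmap_comp (n : ℤ) {X Y Z : A} (f : X ⟶ Y) (g : Y ⟶ Z) :
    Φmap F n (f ≫ g) = Φmap F n f ≫ Φmap F n g := by
  dsimp only [Φmap]
  rw [Functor.map_comp, Functor.map_comp, Functor.map_comp, Functor.map_comp]
  rfl

lemma isZero_Φ_of_injective (J : A) [Injective J] (n : ℤ) (hn : n ≠ 0) : IsZero (Φ F n J) :=
  (isIso_hu_iff_isZero F J n hn).1 ((acyc_iff F J).1 (Leray.acyc_of_injective F J) n)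

lemma isIso_τ_of_injective (J : A) [Injective J] : IsIso (τ F J) :=
  (isIso_hu_zero_iff F J).1 ((acyc_iff F J).1 (Leray.acyc_of_injective F J) 0)

lemma mono_Φmap_zero {S : ShortComplex A} (hS : S.ShortExact) : Mono (Φmap F 0 S.f) := by
  obtain ⟨δ, w₀, w₁, w₂, e₀, e₁, e₂⟩ := Φ_les F hS (-1) 0 (by lia)
  exact e₂.mono_g ((isZero_Φ_of_neg F S.X₃ (-1) (by lia)).eq_of_src _ _)

lemma Φmap_eq_zero_of_injective (n : ℤ) (hn : n ≠ 0) {X J Y : A} [Injective J] (j : X ⟶ J)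
    (k : J ⟶ Y) : Φmap F n (j ≫ k) = 0 := by
  rw [Φmap_comp, (isZero_Φ_of_injective F J n hn).eq_of_tgt (Φmap F n j) 0, zero_comp]

lemma Φ_les' {X₁ X₂ X₃ : A} (f : X₁ ⟶ X₂) (g : X₂ ⟶ X₃) (w : f ≫ g = 0)
    (hS : (ShortComplex.mk f g w).ShortExact) (n₀ n₁ : ℤ) (h : n₀ + 1 = n₁) :
    ∃ (δ : Φ F n₀ X₃ ⟶ Φ F n₁ X₁) (w₀ : Φmap F n₀ f ≫ Φmap F n₀ g = 0)
      (w₁ : Φmap F n₀ g ≫ δ = 0) (w₂ : δ ≫ Φmap F n₁ f = 0),
      (ShortComplex.mk _ _ w₀).Exact ∧ (ShortComplex.mk _ _ w₁).Exact ∧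
        (ShortComplex.mk _ _ w₂).Exact :=
  Φ_les F hS n₀ n₁ h

lemma mono_Φmap_zero' {X₁ X₂ X₃ : A} (f : X₁ ⟶ X₂) (g : X₂ ⟶ X₃) (w : f ≫ g = 0)
    (hS : (ShortComplex.mk f g w).ShortExact) : Mono (Φmap F 0 f) :=
  mono_Φmap_zero F hS

section Class

variable (I : ObjectProperty A)
  (h1 : ∀ X : A, ∃ (Y : A) (ι : X ⟶ Y), I Y ∧ Mono ι)
  (h2 : ∀ S : ShortComplex A, S.ShortExact → I S.X₁ → I S.X₂ → I S.X₃ ∧ (S.map F).ShortExact)

include h1 h2 in
omit [HasDerivedCategory.{w} A] [HasDerivedCategory.{w'} B] in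
lemma exists_setup {Y : A} (hY : I Y) :
    ∃ (J Q R : A) (j : Y ⟶ J) (k : J ⟶ Q) (p : Q ⟶ R) (w : (j ≫ k) ≫ p = 0)
      (w' : F.map (j ≫ k) ≫ F.map p = 0), Injective J ∧ I Q ∧ I R ∧
        (ShortComplex.mk (j ≫ k) p w).ShortExact ∧
        (ShortComplex.mk (F.map (j ≫ k)) (F.map p) w').ShortExact := by
  obtain ⟨Q, k, hQ, hk⟩ := h1 (Injective.under Y)
  have hS : (ShortComplex.mk (Injective.ι Y ≫ k) (cokernel.π (Injective.ι Y ≫ k))
      (cokernel.condition _)).ShortExact :=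
    { exact := ShortComplex.exact_cokernel _
      mono_f := inferInstanceAs (Mono (Injective.ι Y ≫ k))
      epi_g := inferInstanceAs (Epi (cokernel.π (Injective.ι Y ≫ k))) }
  obtain ⟨hR, hFS⟩ := h2 _ hS hY hQ
  exact ⟨Injective.under Y, Q, _, Injective.ι Y, k, cokernel.π (Injective.ι Y ≫ k),
    cokernel.condition _, _, inferInstance, hQ, hR, hS, hFS⟩

include h1 h2 in
lemma mono_τ {Y : A} (hY : I Y) : Mono (τ F Y) := by
  obtain ⟨J, Q, R, j, k, p, w, w', hJ, hQ, hR, hS, hFS⟩ := exists_setup F I h1 h2 hY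
  have h3 : Mono (F.map j ≫ F.map k) := by
    rw [← F.map_comp]; exact hFS.mono_f
  have h4 : Mono (F.map j) := mono_of_mono (F.map j) (F.map k)
  have := isIso_τ_of_injective F J
  have h5 : Mono (τ F Y ≫ Φmap F 0 j) := by
    rw [τ_naturality]; infer_instance
  exact mono_of_mono (τ F Y) (Φmap F 0 j)

include h1 h2 in
lemma isIso_τ {Y : A} (hY : I Y) : IsIso (τ F Y) := by
  obtain ⟨J, Q, R, j, k, p, w, w', hJ, hQ, hR, hS, hFS⟩ := exists_setup F I h1 h2 hY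
  have hmR : Mono (τ F R) := mono_τ F I h1 h2 hR
  have hmY : Mono (τ F Y) := mono_τ F I h1 h2 hY
  have hmono : Mono (Φmap F 0 (j ≫ k)) := mono_Φmap_zero' F _ _ w hS
  have hτJ := isIso_τ_of_injective F J
  obtain ⟨δ, w₀, -, -, -, -, -⟩ := Φ_les' F _ _ w hS 0 1 rfl
  have hFmono : Mono (F.map (j ≫ k)) := hFS.mono_f
  have hκ : (Φmap F 0 j ≫ inv (τ F J) ≫ F.map k) ≫ F.map p = 0 := by
    rw [← cancel_mono (τ F R), zero_comp, Category.assoc, Category.assoc, Category.assoc,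
      ← τ_naturality, ← Category.assoc (F.map k),
      ← τ_naturality, Category.assoc, IsIso.inv_hom_id_assoc, ← Category.assoc, ← Φmap_comp]
    exact w₀
  have hsplit : hFS.exact.lift _ hκ ≫ τ F Y = 𝟙 _ := by
    rw [← cancel_mono (Φmap F 0 (j ≫ k)), Category.assoc, τ_naturality, Category.id_comp]
    have := hFS.exact.lift_f _ hκ
    dsimp only at this
    rw [← Category.assoc, this, Category.assoc, Category.assoc, ← τ_naturality,
      IsIso.inv_hom_id_assoc, ← Φmap_comp]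
  have : Epi (τ F Y) := epi_of_epi_fac hsplit
  exact isIso_of_mono_of_epi _

include h1 h2 in
lemma isZero_Φ_one {Y : A} (hY : I Y) : IsZero (Φ F 1 Y) := by
  obtain ⟨J, Q, R, j, k, p, w, w', hJ, hQ, hR, hS, hFS⟩ := exists_setup F I h1 h2 hY
  obtain ⟨δ, w₀, w₁, w₂, e₀, e₁, e₂⟩ := Φ_les' F _ _ w hS 0 1 rfl
  have h0 : Φmap F 1 (j ≫ k) = 0 := Φmap_eq_zero_of_injective F 1 one_ne_zero j k
  have hδepi : Epi δ := e₂.epi_f h0
  have hepi : Epi (Φmap F 0 p) := by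
    have := isIso_τ F I h1 h2 hQ
    have := isIso_τ F I h1 h2 hR
    have : Epi (F.map p) := hFS.epi_g
    have : Epi (τ F Q ≫ Φmap F 0 p) := by
      rw [τ_naturality]; infer_instance
    exact epi_of_epi (τ F Q) _
  have hδ0 : δ = 0 := by
    rw [← cancel_epi (Φmap F 0 p), comp_zero]
    exact w₁
  rw [IsZero.iff_id_eq_zero, ← cancel_epi δ, hδ0, zero_comp, zero_comp]

include h1 h2 in
lemma isZero_Φ_succ (n : ℕ) : ∀ {Y : A}, I Y → IsZero (Φ F ((n : ℤ) + 1) Y) := by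
  induction n with
  | zero =>
    intro Y hY
    simpa using isZero_Φ_one F I h1 h2 hY
  | succ n ih =>
    intro Y hY
    obtain ⟨J, Q, R, j, k, p, w, w', hJ, hQ, hR, hS, hFS⟩ := exists_setup F I h1 h2 hY
    obtain ⟨δ, w₀, w₁, w₂, e₀, e₁, e₂⟩ :=
      Φ_les' F _ _ w hS ((n : ℤ) + 1) (((n + 1 : ℕ) : ℤ) + 1) (by push_cast; ring)
    have h0 : Φmap F (((n + 1 : ℕ) : ℤ) + 1) (j ≫ k) = 0 :=
      Φmap_eq_zero_of_injective F _ (by lia) j k
    have hδepi : Epi δ := e₂.epi_f h0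
    exact @IsZero.of_epi _ _ _ _ _ δ hδepi (ih hR)

include h1 h2 in
/-- Objects of an adapted class are right `F`-acyclic. -/
theorem acyc_of_adapted {X : A} (hX : I X) : Acyc F X := by
  rw [acyc_iff]
  intro n
  obtain hn | rfl | hn := lt_trichotomy n 0
  · exact isIso_hu_of_neg F X n hn
  · exact (isIso_hu_zero_iff F X).2 (isIso_τ F I h1 h2 hX)
  · obtain ⟨k, rfl⟩ : ∃ k : ℕ, n = (k : ℤ) + 1 := ⟨(n - 1).toNat, by lia⟩
    exact (isIso_hu_iff_isZero F X _ (by lia)).2 (isZero_Φ_succ F I h1 h2 k hX)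

end Class

end Groth.Agent.Lib.Helper6.RDAdapted
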