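import Groth.Agent.Lib.Helper6.SheafCoh
import Groth.Agent.Lib.Helper6.RDAdapted

/-!
# Pushforward of abelian sheaves on topological spaces (helper6)

`pull f ⊣ push f`, `push f` is left exact and preserves injectives, flasque sheaves are
`push f`-acyclic.
-/

universe u

open CategoryTheory Limits Opposite TopologicalSpace

namespace Groth.Agent.Lib.Helper6.CohTopPush

open CohTop

variable {X Y : TopCat.{u}} (f : X ⟶ Y)

lemma pull_preservesFiniteLimits : PreservesFiniteLimits (CohTop.pull f) := by
  dsimp only [CohTop.pull, TopCat.Sheaf.pullback]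
  have : RepresentablyFlat (TopologicalSpace.Opens.map f) := inferInstance
  exact CategoryTheory.Functor.SmallCategories.instPreservesFiniteLimitsSheafSheafPullbackOfRepresentablyFlat _ _ _ _

/-- The adjunction `f⁻¹ ⊣ f_*`, retyped. -/
noncomputable def adj : CohTop.pull f ⊣ CohTop.push f :=
  TopCat.Sheaf.pullbackPushforwardAdjunction _ f

lemma push_injective (I : Ab X) [Injective I] : Injective ((CohTop.push f).obj I) := by
  have := pull_preservesFiniteLimits f
  exact Injective.injective_of_adjoint (adj f) I

instance push_pfl : PreservesFiniteLimits (CohTop.push f) := by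
  have := (adj f).rightAdjoint_preservesLimits
  exact PreservesLimits.preservesFiniteLimits _

/-- A morphism of sheaves which is surjective on all sections is an epimorphism. -/
lemma epi_of_sections_surjective {F G : Ab Y} (φ : F ⟶ G)
    (h : ∀ V : Opens Y, Function.Surjective (φ.hom.app (op V))) : Epi φ := by
  refine (TopCat.Sheaf.isLocallySurjective_iff_epi (F := F) (G := G) φ).1 ?_
  rw [TopCat.Presheaf.isLocallySurjective_iff]
  intro U t x hx
  obtain ⟨s, hs⟩ := h U t
  exact ⟨U, le_rfl, ⟨s, by rw [hs]; exact (TopCat.Presheaf.restrict_self t).symm⟩, hx⟩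

section Acyc

attribute [local instance] HasDerivedCategory.standard

/-- Flasque sheaves are acyclic for `f_*`. -/
theorem acyc_push_of_flasque (F : Ab X) [hF : TopCat.Sheaf.IsFlasque F] :
    RDAcyc.Acyc (CohTop.push f) F := by
  refine RDAdapted.acyc_of_adapted (CohTop.push f)
    (fun G : Ab X => TopCat.Sheaf.IsFlasque G) ?_ ?_ hF
  · intro G
    exact ⟨Injective.under G, Injective.ι G, SheafCoh.isFlasque_of_injective _, inferInstance⟩
  · intro S hS h₁ h₂
    have h₁' : TopCat.Sheaf.IsFlasque S.X₁ := h₁
    have h₂' : TopCat.Sheaf.IsFlasque S.X₂ := h₂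
    refine ⟨TopCat.Sheaf.IsFlasque.of_shortExact_of_isFlasque₁₂ hS,
      RDAcyc.map_shortExact _ hS ?_⟩
    apply epi_of_sections_surjective
    intro V
    rw [← AddCommGrpCat.epi_iff_surjective]
    exact TopCat.Sheaf.IsFlasque.epi_of_shortExact hS (U := (Opens.map f).obj V)

/-- `R^{q+1} f_* F = 0` for flasque `F`. -/
theorem isZero_Rpush_of_flasque (F : Ab X) [TopCat.Sheaf.IsFlasque F] (q : ℕ) :
    IsZero ((CohTop.Rpush f (q + 1)).obj F) :=
  (RDAcyc.acyc_iff_isZero_rightDerived (CohTop.push f) F).1 (acyc_push_of_flasque f F) q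

end Acyc

end Groth.Agent.Lib.Helper6.CohTopPush
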