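import Groth.Agent.Lib.Helper6.CohPresheaf
import Groth.Agent.Lib.Helper6.CohTopPush

/-!
# `R^i f_* F` is the sheafification of `V ↦ H^i(f⁻¹ V, F)` (helper6)
-/

universe u

open CategoryTheory Limits Opposite TopologicalSpace

namespace Groth.Agent.Lib.Helper6.CohTopSheafify

open CohTop CohPresheaf DeltaCompare

variable {X Y : TopCat.{u}} (f : X ⟶ Y)

/-- presheaf on `X` ↦ sheafification of its pushforward -/
noncomputable abbrev Ψ : ((Opens X)ᵒᵖ ⥤ AddCommGrpCat.{u}) ⥤ Ab Y :=
  (Functor.whiskeringLeft _ _ _).obj (Opens.map f).op ⋙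
    presheafToSheaf (Opens.grothendieckTopology Y) AddCommGrpCat.{u}

instance : (Ψ f).Additive := by
  have : ((Functor.whiskeringLeft (Opens Y)ᵒᵖ (Opens X)ᵒᵖ AddCommGrpCat.{u}).obj
      (Opens.map f).op).Additive := { }
  infer_instance

instance : PreservesFiniteLimits (Ψ f) := by
  dsimp only [Ψ]
  infer_instance

instance : PreservesFiniteColimits (Ψ f) := by
  dsimp only [Ψ]
  infer_instance

/-- `f_* ≅ sheafify ∘ f_* ∘ forget` -/
noncomputable def pushIso : CohTop.push f ≅
    sheafToPresheaf (Opens.grothendieckTopology X) AddCommGrpCat.{u} ⋙ Ψ f :=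
  (CohTop.push f).rightUnitor.symm ≪≫
    Functor.isoWhiskerLeft (CohTop.push f)
      (asIso (sheafificationAdjunction (Opens.grothendieckTopology Y) AddCommGrpCat.{u}).counit).symm ≪≫
    (Functor.associator _ _ _).symm ≪≫
    Functor.isoWhiskerRight (NatIso.ofComponents (fun F => Iso.refl _) :
      CohTop.push f ⋙ sheafToPresheaf (Opens.grothendieckTopology Y) AddCommGrpCat.{u} ≅
        sheafToPresheaf (Opens.grothendieckTopology X) AddCommGrpCat.{u} ⋙
          (Functor.whiskeringLeft _ _ _).obj (Opens.map f).op)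
      (presheafToSheaf (Opens.grothendieckTopology Y) AddCommGrpCat.{u}) ≪≫
    Functor.associator _ _ _

/-- `R^0 f_* ≅ sheafify (V ↦ H^0(f⁻¹V, -))` -/
noncomputable def θ : CohTop.Rpush f 0 ≅ P (Opens.grothendieckTopology X) 0 ⋙ Ψ f :=
  Functor.rightDerivedZeroIsoSelf (CohTop.push f) ≪≫ pushIso f ≪≫
    Functor.isoWhiskerRight (Piso₀ (Opens.grothendieckTopology X)).symm (Ψ f)

/-- `R^i f_* F` is the sheafification of `V ↦ H^i(f⁻¹ V, F)`. -/
theorem nonempty_Rpush_iso_sheafify (F : Ab X) (i : ℕ) :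
    Nonempty ((CohTop.Rpush f i).obj F ≅
      (presheafToSheaf (Opens.grothendieckTopology Y) AddCommGrpCat.{u}).obj
        ((Opens.map f).op ⋙ Sheaf.cohomologyPresheaf.{u} F i)) :=
  delta_compare (fun n => CohTop.Rpush f n)
    (fun n => P (Opens.grothendieckTopology X) n ⋙ Ψ f) (θ f) (fun _ => True) (fun G _ => by
      have hE := ExtAcyc.sesUnder_shortExact G
      have hI : Injective (ExtAcyc.sesUnder G).X₂ := inferInstance
      exact ⟨_, _, (ExtAcyc.sesUnder G).f, (ExtAcyc.sesUnder G).g, trivial,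
        RDShift.hasShift_rightDerived _ _ hE
          (fun n => Functor.isZero_rightDerived_obj_injective_succ _ n _),
        RDShift.HasShift.comp_exact (hasShift_P _ hE) (Ψ f)⟩) i F trivial

end Groth.Agent.Lib.Helper6.CohTopSheafify
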