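import Groth.Agent.Lib.Helper6.ExtShift
import Groth.Agent.Lib.Helper6.ExtAcyc
import Mathlib.CategoryTheory.Adjunction.Additive
import Mathlib.Algebra.Homology.ShortComplex.ExactFunctor

/-!
# `Ext` and exact adjoint pairs (helper6)

For an adjunction `L ⊣ R` between abelian categories with `R` exact and `L` preserving
monomorphisms (so that `R` preserves injectives), `Ext^n(L A, F) ≃+ Ext^n(A, R F)`.
-/

universe w v v' u u'

open CategoryTheory Limits Abelian

namespace Groth.Agent.Lib.Helper6.ExtAdj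

open DeltaCompare

variable {𝒜 : Type u} [Category.{v} 𝒜] [Abelian 𝒜] [HasExt.{w} 𝒜]
  {ℬ : Type u'} [Category.{v'} ℬ] [Abelian ℬ] [HasExt.{w} ℬ]
  {L : 𝒜 ⥤ ℬ} {R : ℬ ⥤ 𝒜} (adj : L ⊣ R) [L.Additive] [R.Additive]

lemma addEquiv₀_mk₀ {𝒞 : Type*} [Category 𝒞] [Abelian 𝒞] [HasExt.{w} 𝒞] {A B : 𝒞} (f : A ⟶ B) :
    Ext.addEquiv₀ (Ext.mk₀ f) = f := by
  rw [← Ext.addEquiv₀_symm_apply, AddEquiv.apply_symm_apply]

/-- degree zero -/
noncomputable def equiv₀ (A : 𝒜) (F : ℬ) : Ext (L.obj A) F 0 ≃+ Ext A (R.obj F) 0 :=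
  Ext.addEquiv₀.trans ((adj.homAddEquiv A F).trans Ext.addEquiv₀.symm)

lemma equiv₀_naturality (A : 𝒜) {F F' : ℬ} (g : F ⟶ F') (x : Ext (L.obj A) F 0) :
    equiv₀ adj A F' (x.comp (Ext.mk₀ g) (add_zero 0)) =
      (equiv₀ adj A F x).comp (Ext.mk₀ (R.map g)) (add_zero 0) := by
  obtain ⟨φ, rfl⟩ := Ext.addEquiv₀.symm.surjective x
  simp only [equiv₀, AddEquiv.trans_apply, Ext.addEquiv₀_symm_apply, Ext.mk₀_comp_mk₀,
    addEquiv₀_mk₀, Adjunction.homAddEquiv_apply]
  rw [Adjunction.homEquiv_naturality_right]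

/-- the natural isomorphism in degree zero -/
noncomputable def θ (A : 𝒜) : extFunctorObj (L.obj A) 0 ≅ R ⋙ extFunctorObj A 0 :=
  NatIso.ofComponents (fun F => (equiv₀ adj A F).toAddCommGrpIso) (fun {F F'} g => by
    ext x
    exact equiv₀_naturality adj A g x)

include adj in
theorem nonempty_ext_addEquiv [EnoughInjectives ℬ] [L.PreservesMonomorphisms]
    [PreservesFiniteLimits R] [PreservesFiniteColimits R] (A : 𝒜) (F : ℬ) (n : ℕ) :
    Nonempty (Ext (L.obj A) F n ≃+ Ext A (R.obj F) n) := by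
  obtain ⟨e⟩ := delta_compare
    (fun n => extFunctorObj (L.obj A) n)
    (fun n => R ⋙ extFunctorObj A n) (θ adj A)
    (fun _ => True) (fun G _ => by
      have hE := ExtAcyc.sesUnder_shortExact G
      have hI : Injective (ExtAcyc.sesUnder G).X₂ := inferInstance
      haveI : Injective (R.obj (ExtAcyc.sesUnder G).X₂) :=
        Injective.injective_of_adjoint adj _
      refine ⟨_, _, (ExtAcyc.sesUnder G).f, (ExtAcyc.sesUnder G).g, trivial,
        ExtShift.hasShift_ext _ _ hE (fun n x => Ext.eq_zero_of_injective x),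
        ExtShift.hasShift_ext_comp R A _
          (hE.map_of_exact R) (fun n x => Ext.eq_zero_of_injective x)⟩) n F trivial
  exact ⟨e.addCommGroupIsoToAddEquiv⟩

include adj in
/-- variant on a class `P` of objects, stable under cokernels of embeddings into injectives, on
which `R` is exact -/
theorem nonempty_ext_addEquiv_of_class [EnoughInjectives ℬ] [L.PreservesMonomorphisms]
    [PreservesFiniteLimits R] (P : ℬ → Prop)
    (hP : ∀ (S : ShortComplex ℬ), S.ShortExact → P S.X₁ → Injective S.X₂ →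
      P S.X₃ ∧ Epi (R.map S.g))
    (A : 𝒜) (F : ℬ) (hF : P F) (n : ℕ) :
    Nonempty (Ext (L.obj A) F n ≃+ Ext A (R.obj F) n) := by
  obtain ⟨e⟩ := delta_compare
    (fun n => extFunctorObj (L.obj A) n)
    (fun n => R ⋙ extFunctorObj A n) (θ adj A)
    P (fun G hG => by
      have hE := ExtAcyc.sesUnder_shortExact G
      have hI : Injective (ExtAcyc.sesUnder G).X₂ := inferInstance
      haveI : Injective (R.obj (ExtAcyc.sesUnder G).X₂) :=
        Injective.injective_of_adjoint adj _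
      obtain ⟨h3, hepi⟩ := hP _ hE hG hI
      have h := (Functor.preservesFiniteLimits_iff_forall_exact_map_and_mono R).1 inferInstance
        _ hE
      have hE' : ((ExtAcyc.sesUnder G).map R).ShortExact :=
        { exact := h.1, mono_f := h.2, epi_g := hepi }
      refine ⟨_, _, (ExtAcyc.sesUnder G).f, (ExtAcyc.sesUnder G).g, h3,
        ExtShift.hasShift_ext _ _ hE (fun n x => Ext.eq_zero_of_injective x),
        ExtShift.hasShift_ext_comp R A _ hE' (fun n x => Ext.eq_zero_of_injective x)⟩) n F hF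
  exact ⟨e.addCommGroupIsoToAddEquiv⟩

end Groth.Agent.Lib.Helper6.ExtAdj
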