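import Mathlib.AlgebraicTopology.ExtraDegeneracy
import Mathlib.Algebra.Homology.QuasiIso
import Mathlib.Algebra.Homology.Functor
import Mathlib.Algebra.Homology.SingleHomology

/-!
# Augmentation quasi-isomorphisms and functors (helper6)
-/

universe v₁ v₂ u₁ u₂

open CategoryTheory Limits Simplicial Opposite AlgebraicTopology

namespace Groth.Agent.Lib.Helper6.AugQI

variable {A : Type u₁} [Category.{v₁} A] [Abelian A] {B : Type u₂} [Category.{v₂} B] [Abelian B]
  (G : A ⥤ B) [G.Additive]

/-- `G` applied to the alternating face map complex -/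
noncomputable def mapAltIso (Y : SimplicialObject A) :
    (G.mapHomologicalComplex _).obj ((alternatingFaceMapComplex A).obj Y) ≅
      (alternatingFaceMapComplex B).obj (((SimplicialObject.whiskering A B).obj G).obj Y) :=
  eqToIso (Functor.congr_obj (map_alternatingFaceMapComplex G) Y)

lemma mapAltIso_hom_f (Y : SimplicialObject A) (n : ℕ) : (mapAltIso G Y).hom.f n = 𝟙 _ := by
  simp only [mapAltIso, eqToIso.hom, HomologicalComplex.eqToHom_f]
  exact eqToHom_refl _ _

lemma single_hom_f_zero (X : A) :
    ((HomologicalComplex.singleMapHomologicalComplex G (ComplexShape.down ℕ) 0).app X).hom.f 0 =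
      𝟙 (G.obj X) := by
  refine (HomologicalComplex.singleMapHomologicalComplex_hom_app_self G (ComplexShape.down ℕ) 0 X).trans ?_
  unfold HomologicalComplex.singleObjXSelf HomologicalComplex.singleObjXIsoOfEq
  simp only [eqToIso.hom, eqToIso.inv, eqToHom_map, eqToHom_trans]
  exact eqToHom_refl _ _

lemma mapAltIso_comm (Y : SimplicialObject.Augmented A) :
    (mapAltIso G Y.left).hom ≫
        AlternatingFaceMapComplex.ε.app (((SimplicialObject.Augmented.whiskering A B).obj G).obj Y) =
      (G.mapHomologicalComplex _).map (AlternatingFaceMapComplex.ε.app Y) ≫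
        ((HomologicalComplex.singleMapHomologicalComplex G (ComplexShape.down ℕ) 0).app Y.right).hom := by
  apply HomologicalComplex.to_single_hom_ext
  rw [HomologicalComplex.comp_f, HomologicalComplex.comp_f]
  refine (congrArg (fun z => z ≫ (AlternatingFaceMapComplex.ε.app
    (((SimplicialObject.Augmented.whiskering A B).obj G).obj Y)).f 0)
    (mapAltIso_hom_f G Y.left 0)).trans ?_
  refine (Category.id_comp _).trans ?_
  refine (AlternatingFaceMapComplex.ε_app_f_zero _).trans ?_
  refine Eq.trans ?_ (congrArg (fun z => z ≫ ((HomologicalComplex.singleMapHomologicalComplex G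
    (ComplexShape.down ℕ) 0).app Y.right).hom.f 0)
    (congrArg G.map (AlternatingFaceMapComplex.ε_app_f_zero Y))).symm
  refine Eq.trans ?_ (congrArg (fun z => G.map (Y.hom.app (op ⦋0⦌)) ≫ z)
    (single_hom_f_zero G Y.right)).symm
  rfl

theorem quasiIso_map_ε_iff (Y : SimplicialObject.Augmented A) :
    QuasiIso ((G.mapHomologicalComplex _).map (AlternatingFaceMapComplex.ε.app Y)) ↔
      QuasiIso (AlternatingFaceMapComplex.ε.app
        (((SimplicialObject.Augmented.whiskering A B).obj G).obj Y)) := by
  have h1 := quasiIso_iff_comp_left (mapAltIso G Y.left).hom (AlternatingFaceMapComplex.ε.app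
        (((SimplicialObject.Augmented.whiskering A B).obj G).obj Y))
  have h2 := quasiIso_iff_comp_right ((G.mapHomologicalComplex _).map (AlternatingFaceMapComplex.ε.app Y))
    ((HomologicalComplex.singleMapHomologicalComplex G (ComplexShape.down ℕ) 0).app Y.right).hom
  rw [← mapAltIso_comm] at h2
  exact h2.symm.trans h1

/-- an exact functor preserves the property that the augmentation is a quasi-isomorphism -/
theorem quasiIso_ε_whiskering [G.PreservesHomology] (Y : SimplicialObject.Augmented A)
    [QuasiIso (AlternatingFaceMapComplex.ε.app Y)] :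
    QuasiIso (AlternatingFaceMapComplex.ε.app
      (((SimplicialObject.Augmented.whiskering A B).obj G).obj Y)) := by
  rw [← quasiIso_map_ε_iff]
  infer_instance

/-- an augmented simplicial object with an extra degeneracy has quasi-iso augmentation -/
theorem quasiIso_ε_of_extraDegeneracy {Y : SimplicialObject.Augmented A}
    (ed : SimplicialObject.Augmented.ExtraDegeneracy Y) :
    QuasiIso (AlternatingFaceMapComplex.ε.app Y) :=
  ed.homotopyEquiv.quasiIso_hom

/-- for functor categories, it suffices to check objectwise -/
theorem quasiIso_ε_of_evaluation {T : Type u₂} [Category.{v₂} T]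
    (Y : SimplicialObject.Augmented (T ⥤ A))
    (h : ∀ t : T, QuasiIso (AlternatingFaceMapComplex.ε.app
      (((SimplicialObject.Augmented.whiskering (T ⥤ A) A).obj ((evaluation T A).obj t)).obj Y))) :
    QuasiIso (AlternatingFaceMapComplex.ε.app Y) := by
  rw [HomologicalComplex.quasiIso_iff_evaluation]
  intro t
  rw [quasiIso_map_ε_iff]
  exact h t

end Groth.Agent.Lib.Helper6.AugQI
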