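import Mathlib.Algebra.Homology.DerivedCategory.Ext.ExactSequences
import Mathlib.Algebra.Homology.QuasiIso
import Mathlib.Algebra.Homology.SingleHomology
import Mathlib.Algebra.Homology.ShortComplex.HomologicalComplex

/-!
# `Hom(-, F)` applied to a left resolution by `Ext(-, F)`-acyclic objects (helper6)

Let `ε : P ⟶ A₀[0]` be a quasi-isomorphism from a chain complex (a left resolution of `A₀`), and `F` an
object such that `Ext^{j+1}(P_n, F) = 0` and `Ext^{j+1}(A₀, F) = 0` for all `n`, `j`. Then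
`Hom(P_•, F)` is exact in positive degrees.
-/

universe w v u

open CategoryTheory Limits Abelian

namespace Groth.Agent.Lib.Helper6.LeftAcyc

variable {A : Type u} [Category.{v} A] [Abelian A]
  (P : ChainComplex A ℕ) {A₀ : A} (ε : P ⟶ (ChainComplex.single₀ A).obj A₀) [QuasiIso ε]

include ε in
lemma exactAt_succ (n : ℕ) : P.ExactAt (n + 1) := by
  rw [← quasiIsoAt_iff_exactAt' ε (n + 1) (ChainComplex.exactAt_succ_single_obj _ _)]
  infer_instance

/-- the short complex `0 → C_{n+1} → P_n → C_n → 0` of opcycles -/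
noncomputable def S (n : ℕ) : ShortComplex A :=
  ShortComplex.mk (P.fromOpcycles (n + 1) n) (P.pOpcycles n) (by
    rw [← cancel_epi (P.pOpcycles (n + 1)), HomologicalComplex.p_fromOpcycles_assoc,
      HomologicalComplex.d_pOpcycles, comp_zero])

include ε in
lemma S_shortExact (n : ℕ) : (S P n).ShortExact := by
  have hmono : Mono (S P n).f := by
    refine Preadditive.mono_of_isZero_kernel' _ (P.homologyIsKernel (n + 1) n (by simp)) ?_
    exact (HomologicalComplex.exactAt_iff_isZero_homology _ _).1 (exactAt_succ P ε n)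
  have hepi : Epi (S P n).g := by dsimp [S]; infer_instance
  have hex : (S P n).Exact := by
    let S₁ : ShortComplex A := ShortComplex.mk (P.d (n + 1) n) (P.pOpcycles n)
      (P.d_pOpcycles (n + 1) n)
    have h₁ : S₁.Exact := ShortComplex.exact_of_g_is_cokernel _
      (P.opcyclesIsCokernel (n + 1) n (by simp))
    let φ : S₁ ⟶ S P n :=
      { τ₁ := P.pOpcycles (n + 1)
        τ₂ := 𝟙 _
        τ₃ := 𝟙 _
        comm₁₂ := by simp [S₁, S]
        comm₂₃ := by simp [S₁, S] }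
    have : Epi φ.τ₁ := inferInstanceAs (Epi (P.pOpcycles (n + 1)))
    have : IsIso φ.τ₂ := inferInstanceAs (IsIso (𝟙 (P.X n)))
    have : Mono φ.τ₃ := inferInstanceAs (Mono (𝟙 (P.opcycles n)))
    exact (ShortComplex.exact_iff_of_epi_of_isIso_of_mono φ).1 h₁
  exact { exact := hex }

/-- `C_0 ≅ A₀` -/
noncomputable def opcyclesZeroIso : P.opcycles 0 ≅ A₀ :=
  P.isoHomologyι₀.symm ≪≫ isoOfQuasiIsoAt ε 0 ≪≫
    HomologicalComplex.singleObjHomologySelfIso _ _ _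

/-- the augmentation in degree `0`, as a map to `A₀` -/
def aug₀ : P.X 0 ⟶ A₀ := ε.f 0

lemma d_comp_aug₀ : P.d 1 0 ≫ aug₀ P ε = 0 := by
  have := ε.comm 1 0
  rw [HomologicalComplex.single_obj_d, comp_zero] at this
  exact this.symm

lemma pOpcycles_opcyclesZeroIso : P.pOpcycles 0 ≫ (opcyclesZeroIso P ε).hom = aug₀ P ε := by
  rw [← cancel_mono (HomologicalComplex.singleObjHomologySelfIso (ComplexShape.down ℕ) 0 A₀).inv,
    ← cancel_mono (ChainComplex.isoHomologyι₀ _).hom]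
  dsimp [opcyclesZeroIso, aug₀]
  simp only [isoOfQuasiIsoAt_hom, ChainComplex.isoHomologyι₀_inv_naturality_assoc,
    HomologicalComplex.p_opcyclesMap_assoc, Category.assoc, Iso.hom_inv_id, Category.comp_id]
  congr 1
  change HomologicalComplex.pOpcycles ((ChainComplex.single₀ A).obj A₀) 0 ≫
        ((ChainComplex.single₀ A).obj A₀).isoHomologyι₀.inv ≫
          ((ChainComplex.single₀ A).obj A₀).isoHomologyι₀.hom = _
  rw [Iso.inv_hom_id, Category.comp_id]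
  change _ = (HomologicalComplex.singleObjHomologySelfIso (ComplexShape.down ℕ) 0 A₀).inv ≫
    ((HomologicalComplex.single A (ComplexShape.down ℕ) 0).obj A₀).homologyι 0
  rw [HomologicalComplex.singleObjHomologySelfIso_inv_homologyι,
    HomologicalComplex.singleObjOpcyclesSelfIso_hom]
  simp [ChainComplex.single₀ObjXSelf]

instance epi_aug₀ : Epi (aug₀ P ε) := by
  rw [← pOpcycles_opcyclesZeroIso P ε]
  infer_instance

/-- `A₀` is the cokernel of `P_1 ⟶ P_0` -/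
lemma exists_desc₀ {G : A} (t : P.X 0 ⟶ G) (ht : P.d 1 0 ≫ t = 0) :
    ∃ r : A₀ ⟶ G, aug₀ P ε ≫ r = t := by
  refine ⟨(opcyclesZeroIso P ε).inv ≫ P.descOpcycles t 1 (by simp) ht, ?_⟩
  rw [← pOpcycles_opcyclesZeroIso P ε, Category.assoc, Iso.hom_inv_id_assoc,
    HomologicalComplex.p_descOpcycles]

section Chase

variable {S : ShortComplex A} (hS : S.ShortExact)

include hS in
/-- descent of a lift along a resolution, given exactness of `Hom(P, X₁)` in degree `1` -/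
theorem exists_lift_of_exact₁
    (h₁ : ∀ c : P.X 1 ⟶ S.X₁, P.d 2 1 ≫ c = 0 → ∃ b : P.X 0 ⟶ S.X₁, P.d 1 0 ≫ b = c)
    (s : A₀ ⟶ S.X₃) (t : P.X 0 ⟶ S.X₂) (ht : t ≫ S.g = aug₀ P ε ≫ s) :
    ∃ r : A₀ ⟶ S.X₂, r ≫ S.g = s := by
  have := hS.mono_f
  have h1 : (P.d 1 0 ≫ t) ≫ S.g = 0 := by
    rw [Category.assoc, ht, ← Category.assoc, d_comp_aug₀, zero_comp]
  obtain ⟨c, hc⟩ : ∃ c : P.X 1 ⟶ S.X₁, c ≫ S.f = P.d 1 0 ≫ t :=
    ⟨hS.exact.lift _ h1, hS.exact.lift_f _ _⟩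
  have hc2 : P.d 2 1 ≫ c = 0 := by
    rw [← cancel_mono S.f, Category.assoc, hc, ← Category.assoc, HomologicalComplex.d_comp_d,
      zero_comp, zero_comp]
  obtain ⟨b', hb'⟩ := h₁ c hc2
  have ht' : P.d 1 0 ≫ (t - b' ≫ S.f) = 0 := by
    rw [Preadditive.comp_sub, ← Category.assoc, hb', hc, sub_self]
  obtain ⟨r, hr⟩ := exists_desc₀ P ε (t - b' ≫ S.f) ht'
  refine ⟨r, (cancel_epi (aug₀ P ε)).1 ?_⟩
  rw [← Category.assoc, hr, Preadditive.sub_comp, Category.assoc, S.zero, comp_zero, sub_zero, ht]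

omit [QuasiIso ε] in
include hS in
/-- exactness of `Hom(P, X₃)` at `q+1` from that of `Hom(P, X₁)` at `q+2`, `Hom(P, X₂)` at `q+1`
and surjectivity of `Hom(P_{q+1}, X₂) → Hom(P_{q+1}, X₃)` -/
theorem exact_X₃ (q : ℕ)
    (hl : ∀ z : P.X (q + 1) ⟶ S.X₃, ∃ w : P.X (q + 1) ⟶ S.X₂, w ≫ S.g = z)
    (h₁ : ∀ c : P.X (q + 2) ⟶ S.X₁, P.d (q + 3) (q + 2) ≫ c = 0 →
      ∃ b : P.X (q + 1) ⟶ S.X₁, P.d (q + 2) (q + 1) ≫ b = c)
    (h₂ : ∀ w : P.X (q + 1) ⟶ S.X₂, P.d (q + 2) (q + 1) ≫ w = 0 →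
      ∃ v : P.X q ⟶ S.X₂, P.d (q + 1) q ≫ v = w)
    (z : P.X (q + 1) ⟶ S.X₃) (hz : P.d (q + 2) (q + 1) ≫ z = 0) :
    ∃ y : P.X q ⟶ S.X₃, P.d (q + 1) q ≫ y = z := by
  have := hS.mono_f
  obtain ⟨w, hw⟩ := hl z
  have h1 : (P.d (q + 2) (q + 1) ≫ w) ≫ S.g = 0 := by rw [Category.assoc, hw, hz]
  obtain ⟨c, hc⟩ : ∃ c : P.X (q + 2) ⟶ S.X₁, c ≫ S.f = P.d (q + 2) (q + 1) ≫ w :=
    ⟨hS.exact.lift _ h1, hS.exact.lift_f _ _⟩
  have hc2 : P.d (q + 3) (q + 2) ≫ c = 0 := by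
    rw [← cancel_mono S.f, Category.assoc, hc, ← Category.assoc, HomologicalComplex.d_comp_d,
      zero_comp, zero_comp]
  obtain ⟨b, hb⟩ := h₁ c hc2
  have hw' : P.d (q + 2) (q + 1) ≫ (w - b ≫ S.f) = 0 := by
    rw [Preadditive.comp_sub, ← Category.assoc, hb, hc, sub_self]
  obtain ⟨v, hv⟩ := h₂ _ hw'
  refine ⟨v ≫ S.g, ?_⟩
  rw [← Category.assoc, hv, Preadditive.sub_comp, Category.assoc, S.zero, comp_zero, sub_zero, hw]

end Chase

section Ext

variable [HasExt.{w} A] (F : A)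
  (hP : ∀ (n j : ℕ) (x : Ext (P.X n) F (j + 1)), x = 0)
  (h₀ : ∀ (j : ℕ) (x : Ext A₀ F (j + 1)), x = 0)

include ε hP h₀ in
/-- higher Ext out of the opcycles vanish -/
theorem ext_opcycles_eq_zero : ∀ (n j : ℕ) (x : Ext (P.opcycles n) F (j + 1)), x = 0 := by
  intro n
  induction n with
  | zero =>
    intro j x
    have h1 : (Ext.mk₀ (opcyclesZeroIso P ε).inv).comp x (zero_add _) = 0 := h₀ j _
    have h2 := congrArg (fun z => (Ext.mk₀ (opcyclesZeroIso P ε).hom).comp z (zero_add (j + 1))) h1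
    simpa [Ext.mk₀_comp_mk₀_assoc, Ext.mk₀_id_comp] using h2
  | succ n ih =>
    intro j x
    have hS := S_shortExact P ε n
    obtain ⟨y, rfl⟩ := Ext.contravariant_sequence_exact₁ hS F x (by omega : 1 + (j + 1) = j + 1 + 1)
      (ih (j + 1) _)
    have : y = 0 := hP n j y
    rw [this, Ext.comp_zero]
    rfl

include ε hP h₀ in
/-- `Hom(P_•, F)` is exact in positive degrees -/
theorem exists_factor (q : ℕ) (x : P.X (q + 1) ⟶ F) (hx : P.d (q + 2) (q + 1) ≫ x = 0) :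
    ∃ y : P.X q ⟶ F, P.d (q + 1) q ≫ y = x := by
  let x' : P.opcycles (q + 1) ⟶ F := P.descOpcycles x (q + 2) (by simp) hx
  have hx' : P.pOpcycles (q + 1) ≫ x' = x := P.p_descOpcycles _ _ _ _
  have hS := S_shortExact P ε q
  obtain ⟨y₂, hy₂⟩ := Ext.contravariant_sequence_exact₁ hS F (Ext.mk₀ x') (by omega : 1 + 0 = 1)
    (ext_opcycles_eq_zero P ε F hP h₀ q 0 _)
  obtain ⟨y, rfl⟩ := (Ext.mk₀_bijective _ _).2 y₂
  rw [Ext.mk₀_comp_mk₀] at hy₂
  have hy : (S P q).f ≫ y = x' := (Ext.mk₀_bijective _ _).1 hy₂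
  refine ⟨y, ?_⟩
  rw [← hx', ← hy]
  change _ = P.pOpcycles (q + 1) ≫ P.fromOpcycles (q + 1) q ≫ y
  rw [HomologicalComplex.p_fromOpcycles_assoc]

end Ext

end Groth.Agent.Lib.Helper6.LeftAcyc
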