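import Groth.Agent.Lib.Helper6.CechRes
import Groth.Agent.Lib.Helper6.LeftAcyc

/-!
# Čech acyclicity of totally acyclic sheaves w.r.t. epimorphisms of sheaves of sets (helper6)
-/

universe u

open CategoryTheory Limits Opposite Simplicial AlgebraicTopology Abelian

namespace Groth.Agent.Lib.Helper6.CechAcyc

open CechRes

variable {C : Type u} [SmallCategory C] {J : GrothendieckTopology C}
  (F : Sheaf J AddCommGrpCat.{u}) {K' K : Sheaf J (Type u)} (f : K' ⟶ K)

lemma sum_apply {M N : AddCommGrpCat.{u}} {ι : Type*} (s : Finset ι) (φ : ι → (M ⟶ N)) (x : M) :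
    (ConcreteCategory.hom (∑ i ∈ s, φ i)) x = ∑ i ∈ s, (ConcreteCategory.hom (φ i)) x :=
  map_sum (⟨⟨fun ψ : M ⟶ N => (ConcreteCategory.hom ψ) x, rfl⟩, fun _ _ => rfl⟩ : (M ⟶ N) →+ N) φ s

/-- the chain complex of free abelian sheaves on the Čech nerve -/
noncomputable abbrev P : ChainComplex (Sheaf J AddCommGrpCat.{u}) ℕ :=
  (alternatingFaceMapComplex _).obj (Tg J f).left

lemma cech_d_apply (n : ℕ) (x : (P f).X n ⟶ F) :
    (ConcreteCategory.hom ((CohCx.cechNerveCx F f).d n (n + 1))) x = (P f).d (n + 1) n ≫ x := by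
  have h1 : (CohCx.cechNerveCx F f).d n (n + 1) = AlternatingCofaceMapComplex.objD
      ((Arrow.mk f).cechNerve.rightOp ⋙ CohCx.HK0Functor J F) n := by
    apply CochainComplex.of_d
  have h2 : (P f).d (n + 1) n = AlternatingFaceMapComplex.objD (Tg J f).left n := by
    simp [P]
  rw [h1, h2]
  simp only [AlternatingCofaceMapComplex.objD, AlternatingFaceMapComplex.objD]
  rw [Preadditive.sum_comp]
  refine (sum_apply _ _ _).trans ?_
  refine Finset.sum_congr rfl (fun i _ => ?_)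
  rw [Preadditive.zsmul_comp]
  rfl

/-- unwinding vanishing of Čech cohomology -/
lemma exists_factor_of_isZero (q : ℕ) (h : IsZero ((CohCx.cechNerveCx F f).homology (q + 1)))
    (x : (P f).X (q + 1) ⟶ F) (hx : (P f).d (q + 2) (q + 1) ≫ x = 0) :
    ∃ y : (P f).X q ⟶ F, (P f).d (q + 1) q ≫ y = x := by
  rw [← HomologicalComplex.exactAt_iff_isZero_homology,
    HomologicalComplex.exactAt_iff' _ q (q + 1) (q + 2) (by simp) (by simp),
    ShortComplex.ab_exact_iff] at h
  obtain ⟨y, hy⟩ := h x ((cech_d_apply F f (q + 1) x).trans hx)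
  exact ⟨y, (cech_d_apply F f q y).symm.trans hy⟩

lemma isZero_of_exists_factor (q : ℕ)
    (h : ∀ (x : (P f).X (q + 1) ⟶ F), (P f).d (q + 2) (q + 1) ≫ x = 0 →
      ∃ y : (P f).X q ⟶ F, (P f).d (q + 1) q ≫ y = x) :
    IsZero ((CohCx.cechNerveCx F f).homology (q + 1)) := by
  rw [← HomologicalComplex.exactAt_iff_isZero_homology,
    HomologicalComplex.exactAt_iff' _ q (q + 1) (q + 2) (by simp) (by simp),
    ShortComplex.ab_exact_iff]
  intro x hx
  obtain ⟨y, hy⟩ := h x ((cech_d_apply F f (q + 1) x).symm.trans hx)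
  exact ⟨y, (cech_d_apply F f q y).trans hy⟩

/-- exactness of the Čech complex in positive degrees, assuming Ext-vanishing -/
theorem exists_of_vanish [Epi f]
    (hP : ∀ (n j : ℕ) (x : Ext ((P f).X n) F (j + 1)), x = 0)
    (h₀ : ∀ (j : ℕ) (x : CohCx.HK K F (j + 1)), x = 0)
    (q : ℕ) (x : (P f).X (q + 1) ⟶ F)
    (hx : (ConcreteCategory.hom ((CohCx.cechNerveCx F f).d (q + 1) (q + 2))) x = 0) :
    ∃ y : (P f).X q ⟶ F, (ConcreteCategory.hom ((CohCx.cechNerveCx F f).d q (q + 1))) y = x := by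
  haveI := CechRes.quasiIso_ε J f
  rw [cech_d_apply] at hx
  obtain ⟨y, hy⟩ := LeftAcyc.exists_factor (P f) (AlternatingFaceMapComplex.ε.app (Tg J f)) F hP h₀ q x hx
  exact ⟨y, (cech_d_apply F f q y).trans hy⟩

theorem isZero_homology_of_vanish [Epi f]
    (hP : ∀ (n j : ℕ) (x : Ext ((P f).X n) F (j + 1)), x = 0)
    (h₀ : ∀ (j : ℕ) (x : CohCx.HK K F (j + 1)), x = 0) (q : ℕ) :
    IsZero ((CohCx.cechNerveCx F f).homology (q + 1)) := by
  rw [← HomologicalComplex.exactAt_iff_isZero_homology,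
    HomologicalComplex.exactAt_iff' _ q (q + 1) (q + 2) (by simp) (by simp),
    ShortComplex.ab_exact_iff]
  intro x hx
  exact exists_of_vanish F f hP h₀ q x hx

/-- **S6151** -/
theorem isZero_homology (hF : CohCx.IsTotallyAcyclic F) [Epi f] (q : ℕ) :
    IsZero ((CohCx.cechNerveCx F f).homology (q + 1)) :=
  isZero_homology_of_vanish F f (fun n j x => (hF _ j).elim _ _) (fun j x => (hF K j).elim _ _) q

end Groth.Agent.Lib.Helper6.CechAcyc
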