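import Mathlib.Algebra.Homology.DerivedCategory.Ext.ExactSequences
import Mathlib.CategoryTheory.Preadditive.Injective.Basic
import Groth.Agent.Lib.Helper6.ExtAcyc

/-!
# `Ext¹(Z, ∏ Fᵢ) → ∏ Ext¹(Z, Fᵢ)` is injective (helper6)
-/

universe w v u

open CategoryTheory Limits Abelian

namespace Groth.Agent.Lib.Helper6.ExtProd

variable {A : Type u} [Category.{v} A] [Abelian A] [HasExt.{w} A]

section

variable {I : Type v} [HasProductsOfShape I A]
  (E : I → ShortComplex A) (hE : ∀ i, (E i).ShortExact)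

/-- the product short complex -/
noncomputable abbrev prodSC : ShortComplex A :=
  ShortComplex.mk (Limits.Pi.map fun i => (E i).f) (Limits.Pi.map fun i => (E i).g) (by
    ext i
    simp)

include hE in
lemma prodSC_exact : (prodSC E).Exact := by
  have : ∀ i, Mono (E i).f := fun i => (hE i).mono_f
  apply ShortComplex.exact_of_f_is_kernel
  refine KernelFork.IsLimit.ofι' _ _ fun {W} h hh => ?_
  have hk : ∀ i, (h ≫ Pi.π _ i) ≫ (E i).g = 0 := fun i => by
    have := congrArg (fun z => z ≫ Pi.π _ i) hh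
    simpa using this
  refine ⟨Pi.lift fun i => (hE i).exact.lift (h ≫ Pi.π _ i) (hk i), ?_⟩
  ext i
  simp

end

variable [EnoughInjectives A] {I : Type v} [HasProductsOfShape I A]

theorem eq_zero_of_pi {Z : A} (F : I → A) (x : Ext Z (∏ᶜ F) 1)
    (hx : ∀ i, x.comp (Ext.mk₀ (Pi.π F i)) (add_zero 1) = 0) : x = 0 := by
  let E : I → ShortComplex A := fun i => ExtAcyc.sesUnder (F i)
  have hE : ∀ i, (E i).ShortExact := fun i => ExtAcyc.sesUnder_shortExact (F i)
  have hI : ∀ i, Injective (E i).X₂ := fun i => by dsimp [E]; infer_instance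
  let S := prodSC E
  have hS : S.Exact := prodSC_exact E hE
  have : ∀ i, Mono (E i).f := fun i => (hE i).mono_f
  have hmono : Mono S.f := by dsimp [S]; infer_instance
  -- the short exact sequence `0 → ∏F → ∏I → coker → 0`
  let S' : ShortComplex A := ShortComplex.mk S.f (cokernel.π S.f) (by simp)
  have hS' : S'.ShortExact :=
    { exact := ShortComplex.exact_cokernel S.f
      mono_f := hmono
      epi_g := by dsimp [S']; infer_instance }
  have hmonoc : Mono (cokernel.desc S.f S.g S.zero) := hS.mono_cokernelDesc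
  let ρ : ∀ i, cokernel S.f ⟶ (E i).X₃ := fun i => cokernel.desc S.f S.g S.zero ≫ Pi.π _ i
  let φ : ∀ i, S' ⟶ E i := fun i =>
    { τ₁ := Pi.π _ i
      τ₂ := Pi.π _ i
      τ₃ := ρ i
      comm₁₂ := by simp [S', S]
      comm₂₃ := by simp [S', S, ρ] }
  have hinj : Injective S'.X₂ := by
    dsimp [S', S]
    infer_instance
  have key : ∀ x : Ext Z S'.X₁ 1,
      (∀ i, x.comp (Ext.mk₀ (φ i).τ₁) (add_zero 1) = 0) → x = 0 := by
    intro x hx
    obtain ⟨q, rfl⟩ := Ext.covariant_sequence_exact₁ Z hS' x (Ext.eq_zero_of_injective _)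
      (rfl : 0 + 1 = 1)
    have h1 : ∀ i, (q.comp (Ext.mk₀ (φ i).τ₃) (add_zero 0)).comp (hE i).extClass
        (zero_add 1) = 0 := by
      intro i
      have := hx i
      rw [Ext.comp_assoc_of_third_deg_zero,
        ShortComplex.ShortExact.extClass_naturality hS' (hE i) (φ i)] at this
      rw [Ext.comp_assoc_of_second_deg_zero]
      exact this
    choose a ha using fun i => Ext.covariant_sequence_exact₃ Z (hE i) _ (zero_add 1) (h1 i)
    obtain ⟨q, rfl⟩ := Ext.mk₀_bijective _ _ |>.2 q
    have ha' : ∀ i, ∃ b : Z ⟶ (E i).X₂, a i = Ext.mk₀ b := fun i =>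
      ⟨_, ((Ext.mk₀_bijective _ _).2 (a i)).choose_spec.symm⟩
    choose b hb using ha'
    have hq : q = Pi.lift b ≫ S'.g := by
      rw [← cancel_mono (cokernel.desc S.f S.g S.zero)]
      ext i
      have := ha i
      rw [hb i, Ext.mk₀_comp_mk₀, Ext.mk₀_comp_mk₀] at this
      have := (Ext.mk₀_bijective _ _).1 this
      simp only [Category.assoc, cokernel.π_desc]
      simp only [φ, ρ] at this
      rw [← this]
      simp [S, S']
    rw [hq, ← Ext.mk₀_comp_mk₀, Ext.comp_assoc_of_second_deg_zero, hS'.comp_extClass,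
      Ext.comp_zero]
  exact key x hx

end Groth.Agent.Lib.Helper6.ExtProd
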