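import Groth.Agent.Lib.Helper6.TotAcyc
import Groth.Agent.Lib.Helper6.ExtProd
import Mathlib.CategoryTheory.Sites.EpiMono

/-!
# Products of totally acyclic sheaves are totally acyclic (helper6)
-/

universe u
open CategoryTheory Limits Opposite Abelian

namespace Groth.Agent.Lib.Helper6.TotAcycProd

open SheafCoh

variable {C : Type u} [SmallCategory C] (J : GrothendieckTopology C)

/-- sectionwise surjective maps of abelian sheaves are epi -/
lemma epi_of_sections_surjective {F G : Sheaf J AddCommGrpCat.{u}} (φ : F ⟶ G)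
    (h : ∀ U : C, Function.Surjective (φ.hom.app (op U))) : Epi φ := by
  have : Sheaf.IsLocallySurjective φ :=
    Presheaf.isLocallySurjective_of_surjective J φ.hom (fun U => h U.unop)
  exact (Sheaf.isLocallySurjective_iff_epi' (φ := φ)).1 this

/-- product of short exact sequences whose kernels have no `H¹` on objects is right exact -/
lemma epi_pi_map {T : Type u} (E : T → ShortComplex (Sheaf J AddCommGrpCat.{u}))
    (hE : ∀ t, (E t).ShortExact)
    (h1 : ∀ t (U : C) (x : Ext (Zfree J U) (E t).X₁ 1), x = 0) :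
    Epi (Limits.Pi.map fun t => (E t).g) := by
  apply epi_of_sections_surjective
  intro U s
  let σ := (homEquiv J U _).symm s
  have hl : ∀ t, ∃ a : Zfree J U ⟶ (E t).X₂, a ≫ (E t).g = σ ≫ Pi.π _ t := by
    intro t
    obtain ⟨a, ha⟩ := Ext.covariant_sequence_exact₃ (Zfree J U) (hE t)
      (Ext.mk₀ (σ ≫ Pi.π _ t)) (zero_add 1) (h1 t U _)
    obtain ⟨a, rfl⟩ := (Ext.mk₀_bijective _ _).2 a
    rw [Ext.mk₀_comp_mk₀] at ha
    exact ⟨a, (Ext.mk₀_bijective _ _).1 ha⟩
  choose a ha using hl
  refine ⟨homEquiv J U _ (Pi.lift a), ?_⟩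
  rw [← homEquiv_naturality_right]
  have : Pi.lift a ≫ (Limits.Pi.map fun t => (E t).g) = σ := by
    ext t
    simp [ha]
  rw [this]
  exact Equiv.apply_symm_apply _ _

/-- vanishing of higher Ext from `Z` passes to the cokernel of an embedding into an injective -/
lemma vanish_X₃ {A : Type*} [Category* A] [Abelian A] [HasExt.{u} A] {S : ShortComplex A}
    (hS : S.ShortExact) [Injective S.X₂] (Z : A)
    (h : ∀ (p : ℕ) (x : Ext Z S.X₁ (p + 1)), x = 0) (p : ℕ) (x : Ext Z S.X₃ (p + 1)) : x = 0 := by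
  obtain ⟨y, rfl⟩ := Ext.covariant_sequence_exact₃ Z hS x (rfl : p + 1 + 1 = p + 1 + 1)
    (h _ _)
  rw [Ext.eq_zero_of_injective y, Ext.zero_comp]

theorem pi_vanish {T : Type u} : ∀ (p : ℕ) (F : T → Sheaf J AddCommGrpCat.{u})
    (_ : ∀ t, CohCx.IsTotallyAcyclic (F t)) (K : Sheaf J (Type u))
    (x : CohCx.HK K (∏ᶜ F) (p + 1)), x = 0 := by
  intro p
  induction p with
  | zero =>
    intro F hF K x
    exact ExtProd.eq_zero_of_pi F x fun t => (hF t K 0).elim _ _
  | succ p ih =>
    intro F hF K x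
    let E : T → ShortComplex (Sheaf J AddCommGrpCat.{u}) := fun t => ExtAcyc.sesUnder (F t)
    have hE : ∀ t, (E t).ShortExact := fun t => ExtAcyc.sesUnder_shortExact (F t)
    have hI : ∀ t, Injective (E t).X₂ := fun t => by dsimp [E]; infer_instance
    have hQ : ∀ t, CohCx.IsTotallyAcyclic (E t).X₃ := fun t K p =>
      ⟨fun a b => (vanish_X₃ (hE t) _ (fun q x => (hF t K q).elim _ _) p a).trans
        (vanish_X₃ (hE t) _ (fun q x => (hF t K q).elim _ _) p b).symm⟩
    let S := ExtProd.prodSC E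
    have : ∀ t, Mono (E t).f := fun t => (hE t).mono_f
    have hS : S.ShortExact :=
      { exact := ExtProd.prodSC_exact E hE
        mono_f := by dsimp [S]; infer_instance
        epi_g := epi_pi_map J E hE fun t U x =>
          (TotAcyc.subsingleton_HU J (hF t) U 0).elim _ _ }
    have hinj : Injective S.X₂ := by dsimp [S]; infer_instance
    have key : ∀ x : Ext ((presheafToSheaf J AddCommGrpCat.{u}).obj
        (K.obj ⋙ AddCommGrpCat.free.{u})) S.X₁ (p + 1 + 1), x = 0 := by
      intro x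
      obtain ⟨y, rfl⟩ := Ext.covariant_sequence_exact₁ _ hS x (Ext.eq_zero_of_injective _)
        (rfl : p + 1 + 1 = p + 1 + 1)
      rw [ih (fun t => (E t).X₃) hQ K y, Ext.zero_comp]
    exact key x

theorem pi_totallyAcyclic {T : Type u} (F : T → Sheaf J AddCommGrpCat.{u})
    (hF : ∀ t, CohCx.IsTotallyAcyclic (F t)) : CohCx.IsTotallyAcyclic (∏ᶜ F) :=
  fun K p => ⟨fun a b => (pi_vanish J p F hF K a).trans (pi_vanish J p F hF K b).symm⟩

end Groth.Agent.Lib.Helper6.TotAcycProd
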