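import Groth.Prelude.Def_CohCx
import Groth.Agent.Lib.Helper6.TotAcycProd
import Mathlib.CategoryTheory.Subfunctor.Image
import Mathlib.CategoryTheory.Sites.Whiskering

/-!
# Acyclicity on objects versus presheaf cohomology of covering sieves (helper6)
-/

universe u
open CategoryTheory Limits Opposite Abelian

namespace Groth.Agent.Lib.Helper6.SieveExt

open SheafCoh

variable {C : Type u} [SmallCategory C]

/-- dimension shifting step -/
lemma ext_succ_eq_zero_of_lift {A : Type*} [Category* A] [Abelian A] [HasExt.{u} A]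
    {S : ShortComplex A} (hS : S.ShortExact) [Injective S.X₂] (Z : A) (q : ℕ)
    (h0 : q = 0 → ∀ σ : Z ⟶ S.X₃, ∃ τ : Z ⟶ S.X₂, τ ≫ S.g = σ)
    (h1 : 0 < q → ∀ y : Ext Z S.X₃ q, y = 0) (x : Ext Z S.X₁ (q + 1)) : x = 0 := by
  obtain ⟨y, rfl⟩ := Ext.covariant_sequence_exact₁ Z hS x (Ext.eq_zero_of_injective _)
    (rfl : q + 1 = q + 1)
  rcases Nat.eq_zero_or_pos q with rfl | hq
  · obtain ⟨σ, rfl⟩ := (Ext.mk₀_bijective _ _).2 y
    obtain ⟨τ, rfl⟩ := h0 rfl σ
    rw [← Ext.mk₀_comp_mk₀, Ext.comp_assoc_of_second_deg_zero, hS.comp_extClass, Ext.comp_zero]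
  · rw [h1 hq y, Ext.zero_comp]

section General

variable (K : GrothendieckTopology C)

/-- free abelian sheaf on a sieve -/
noncomputable abbrev ZR {X : C} (R : Sieve X) : Sheaf K AddCommGrpCat.{u} :=
  (presheafToSheaf K AddCommGrpCat.{u}).obj (R.functor ⋙ AddCommGrpCat.free.{u})

/-- maps out of the free abelian sheaf on a sieve -/
noncomputable def homEquivR {X : C} (R : Sieve X) (P : Sheaf K AddCommGrpCat.{u}) :
    (ZR K R ⟶ P) ≃ (R.functor ⟶ P.obj ⋙ forget AddCommGrpCat.{u}) :=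
  ((sheafificationAdjunction K AddCommGrpCat.{u}).homEquiv _ P).trans
    ((AddCommGrpCat.adj.whiskerRight Cᵒᵖ).homEquiv R.functor P.obj)

lemma homEquivR_naturality_right {X : C} (R : Sieve X) {P P' : Sheaf K AddCommGrpCat.{u}}
    (τ : ZR K R ⟶ P) (φ : P ⟶ P') :
    homEquivR K R P' (τ ≫ φ) =
      homEquivR K R P τ ≫ Functor.whiskerRight φ.hom (forget AddCommGrpCat.{u}) := by
  dsimp only [homEquivR, Equiv.trans_apply]
  rw [Adjunction.homEquiv_naturality_right, Adjunction.homEquiv_naturality_right]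
  rfl

end General

section Bot

/-- epimorphisms of presheaves (sheaves for `⊥`) are sectionwise surjective -/
lemma surjective_of_epi_bot {P Q : Sheaf (⊥ : GrothendieckTopology C) AddCommGrpCat.{u}}
    (φ : P ⟶ Q) [hφ : Epi φ] (Y : C) : Function.Surjective (φ.hom.app (op Y)) := by
  have hls : Sheaf.IsLocallySurjective φ := (Sheaf.isLocallySurjective_iff_epi' (φ := φ)).2 hφ
  intro s
  have h := Presheaf.imageSieve_mem (⊥ : GrothendieckTopology C) φ.hom (U := op Y) s
  have h' : Presheaf.imageSieve φ.hom s = ⊤ := h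
  have h1 : (Presheaf.imageSieve φ.hom s) (𝟙 Y) := by rw [h']; trivial
  obtain ⟨t, ht⟩ := h1
  refine ⟨t, ht.trans ?_⟩
  simp

/-- monomorphisms of sheaves are sectionwise injective -/
lemma injective_of_mono {K : GrothendieckTopology C} [HasSheafify K AddCommGrpCat.{u}]
    {P Q : Sheaf K AddCommGrpCat.{u}}
    (φ : P ⟶ Q) [hφ : Mono φ] (Y : C) : Function.Injective (φ.hom.app (op Y)) := by
  have : Mono ((sheafToPresheaf K AddCommGrpCat.{u} ⋙
      (evaluation Cᵒᵖ AddCommGrpCat.{u}).obj (op Y)).map φ) := inferInstance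
  exact (AddCommGrpCat.mono_iff_injective _).1 this

end Bot

section Compare

variable (J : GrothendieckTopology C)

/-- a sheaf, viewed as a presheaf, i.e. a sheaf for the trivial topology -/
noncomputable abbrev ι : Sheaf J AddCommGrpCat.{u} ⥤
    Sheaf (⊥ : GrothendieckTopology C) AddCommGrpCat.{u} :=
  sheafToPresheaf J AddCommGrpCat.{u} ⋙ (sheafBotEquivalence AddCommGrpCat.{u}).inverse

/-- sheafification as a left adjoint of `ι` -/
noncomputable abbrev L : Sheaf (⊥ : GrothendieckTopology C) AddCommGrpCat.{u} ⥤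
    Sheaf J AddCommGrpCat.{u} :=
  (sheafBotEquivalence AddCommGrpCat.{u}).functor ⋙ presheafToSheaf J AddCommGrpCat.{u}

/-- the adjunction -/
noncomputable def adj : L J ⊣ ι J :=
  (sheafBotEquivalence AddCommGrpCat.{u}).toAdjunction.comp
    (sheafificationAdjunction J AddCommGrpCat.{u})

instance : (ι J).Additive where

instance : PreservesFiniteLimits (ι J) := by
  have : PreservesLimitsOfSize.{0, 0} (ι J) := (adj J).rightAdjoint_preservesLimits
  exact PreservesLimitsOfSize.preservesFiniteLimits _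

instance ι_injective (I : Sheaf J AddCommGrpCat.{u}) [Injective I] : Injective ((ι J).obj I) :=
  Injective.injective_of_adjoint (adj J) I

/-- the sheaf condition for the underlying presheaf of sets -/
lemma isSheafFor (G : Sheaf J AddCommGrpCat.{u}) {X : C} (R : Sieve X) (hR : R ∈ J X) :
    Presieve.IsSheafFor (G.obj ⋙ forget AddCommGrpCat.{u}) R.arrows :=
  ((isSheaf_iff_isSheaf_of_type J _).1
    ((sheafCompose J (forget AddCommGrpCat.{u})).obj G).property) R hR

/-- maps out of the free presheaf on a covering sieve lift along morphisms of sheaves which are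
surjective on sections over the covered object -/
lemma exists_lift_of_surjective {I Q : Sheaf J AddCommGrpCat.{u}} (g : I ⟶ Q) {X : C}
    (R : Sieve X) (hR : R ∈ J X) (hg : Function.Surjective (g.hom.app (op X)))
    (σ : ZR ⊥ R ⟶ (ι J).obj Q) : ∃ τ : ZR ⊥ R ⟶ (ι J).obj I, τ ≫ (ι J).map g = σ := by
  let α : R.functor ⟶ Q.obj ⋙ forget AddCommGrpCat.{u} := homEquivR ⊥ R _ σ
  let s' := (isSheafFor J Q R hR).extend α
  obtain ⟨t, ht⟩ := hg (yonedaEquiv s')
  let t' : yoneda.obj X ⟶ I.obj ⋙ forget AddCommGrpCat.{u} := yonedaEquiv.symm t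
  have h1 : t' ≫ Functor.whiskerRight g.hom (forget AddCommGrpCat.{u}) = s' := by
    apply yonedaEquiv.injective
    rw [yonedaEquiv_comp, Equiv.apply_symm_apply]
    exact ht
  refine ⟨(homEquivR ⊥ R ((ι J).obj I)).symm (R.functorInclusion ≫ t'), ?_⟩
  apply (homEquivR ⊥ R ((ι J).obj Q)).injective
  rw [homEquivR_naturality_right, Equiv.apply_symm_apply]
  change (R.functorInclusion ≫ t') ≫ Functor.whiskerRight g.hom (forget AddCommGrpCat.{u}) = α
  rw [Category.assoc, h1, Presieve.IsSheafFor.functorInclusion_comp_extend]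

/-- if `Ext¹` out of free presheaves on covering sieves of `X` vanishes for the kernel, then a
short exact sequence of sheaves is right exact on sections over `X`. -/
lemma surjective_of_ext_one_vanish {E : ShortComplex (Sheaf J AddCommGrpCat.{u})}
    (hE : E.ShortExact) (X : C)
    (h : ∀ (R : Sieve X), R ∈ J X → ∀ x : Ext (ZR ⊥ R) ((ι J).obj E.X₁) 1, x = 0) :
    Function.Surjective (E.g.hom.app (op X)) := by
  intro s
  have hepi : Epi E.g := hE.epi_g
  have hls : Sheaf.IsLocallySurjective E.g :=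
    (Sheaf.isLocallySurjective_iff_epi' (φ := E.g)).2 hepi
  let R : Sieve X := Presheaf.imageSieve E.g.hom s
  have hR : R ∈ J X := Presheaf.imageSieve_mem J E.g.hom (U := op X) s
  -- the presheaf side
  let S := E.map (ι J)
  have h30 := (ι J).preservesFiniteLimits_tfae.out 3 0
  have hS : S.Exact ∧ Mono S.f := h30.1 inferInstance E hE
  have hmonof : Mono S.f := hS.2
  let S' : ShortComplex (Sheaf (⊥ : GrothendieckTopology C) AddCommGrpCat.{u}) :=
    ShortComplex.mk S.f (cokernel.π S.f) (by simp)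
  have hS' : S'.ShortExact :=
    { exact := ShortComplex.exact_cokernel S.f
      mono_f := hmonof
      epi_g := by dsimp [S']; infer_instance }
  let m : cokernel S.f ⟶ S.X₃ := cokernel.desc S.f S.g S.zero
  have hm : Mono m := hS.1.mono_cokernelDesc
  have hem : cokernel.π S.f ≫ m = S.g := cokernel.π_desc _ _ _
  -- the section as a natural transformation
  let s' : yoneda.obj X ⟶ E.X₃.obj ⋙ forget AddCommGrpCat.{u} := yonedaEquiv.symm s
  let α₀ : R.functor ⟶ E.X₃.obj ⋙ forget AddCommGrpCat.{u} := R.functorInclusion ≫ s'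
  let wm : (cokernel S.f).obj ⋙ forget AddCommGrpCat.{u} ⟶
      E.X₃.obj ⋙ forget AddCommGrpCat.{u} :=
    Functor.whiskerRight m.hom (forget AddCommGrpCat.{u})
  have hwm : Mono wm := by
    rw [NatTrans.mono_iff_mono_app]
    intro Y
    rw [mono_iff_injective]
    exact injective_of_mono m Y.unop
  have hrange : Subfunctor.range α₀ ≤ Subfunctor.range wm := by
    rintro Y x ⟨⟨f, hf⟩, rfl⟩
    obtain ⟨t, ht⟩ := hf
    refine ⟨(cokernel.π S.f).hom.app Y t, ?_⟩
    have h1 : m.hom.app Y ((cokernel.π S.f).hom.app Y t) = E.g.hom.app Y t := by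
      rw [← ConcreteCategory.comp_apply, ← NatTrans.comp_app,
        ← ObjectProperty.FullSubcategory.comp_hom, hem]
      rfl
    refine h1.trans (ht.trans ?_)
    exact (yonedaEquiv_symm_app_apply (F := E.X₃.obj ⋙ forget AddCommGrpCat.{u}) s Y f).symm
  let α'' : R.functor ⟶ (cokernel S.f).obj ⋙ forget AddCommGrpCat.{u} :=
    Subfunctor.lift α₀ hrange ≫ inv (Subfunctor.toRange wm)
  have hα'' : α'' ≫ wm = α₀ := by
    calc α'' ≫ wm = Subfunctor.lift α₀ hrange ≫ (inv (Subfunctor.toRange wm) ≫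
          Subfunctor.toRange wm) ≫ (Subfunctor.range wm).ι := by
          simp only [α'', Category.assoc]; rfl
      _ = α₀ := by rw [IsIso.inv_hom_id, Category.id_comp, Subfunctor.lift_ι]
  let σ'' : ZR ⊥ R ⟶ S'.X₃ := (homEquivR ⊥ R _).symm α''
  obtain ⟨τ', hτ'⟩ := Ext.covariant_sequence_exact₃ (ZR ⊥ R) hS' (Ext.mk₀ σ'') (zero_add 1)
    (h R hR _)
  obtain ⟨τ, rfl⟩ := (Ext.mk₀_bijective _ _).2 τ'
  rw [Ext.mk₀_comp_mk₀] at hτ'
  have hτ : τ ≫ cokernel.π S.f = σ'' := (Ext.mk₀_bijective _ _).1 hτ'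
  let β : R.functor ⟶ E.X₂.obj ⋙ forget AddCommGrpCat.{u} := homEquivR ⊥ R S.X₂ τ
  let t' := (isSheafFor J E.X₂ R hR).extend β
  refine ⟨yonedaEquiv t', ?_⟩
  have key : t' ≫ Functor.whiskerRight E.g.hom (forget AddCommGrpCat.{u}) = s' := by
    apply (isSheafFor J E.X₃ R hR).hom_ext
    rw [← Category.assoc, Presieve.IsSheafFor.functorInclusion_comp_extend]
    change homEquivR ⊥ R S.X₂ τ ≫ Functor.whiskerRight S.g.hom (forget AddCommGrpCat.{u}) = α₀
    rw [← homEquivR_naturality_right, ← hem, ← Category.assoc, hτ, homEquivR_naturality_right,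
      Equiv.apply_symm_apply]
    exact hα''
  have := congrArg yonedaEquiv key
  rw [yonedaEquiv_comp, Equiv.apply_symm_apply] at this
  exact this

/-- sectionwise surjectivity from vanishing of `H¹` on an object -/
lemma surjective_of_H1_vanish {E : ShortComplex (Sheaf J AddCommGrpCat.{u})}
    (hE : E.ShortExact) (Y : C) (h : ∀ x : Ext (Zfree J Y) E.X₁ 1, x = 0) :
    Function.Surjective (E.g.hom.app (op Y)) := by
  intro s
  let σ := (homEquiv J Y E.X₃).symm s
  obtain ⟨a, ha⟩ := Ext.covariant_sequence_exact₃ (Zfree J Y) hE (Ext.mk₀ σ) (zero_add 1) (h _)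
  obtain ⟨a, rfl⟩ := (Ext.mk₀_bijective _ _).2 a
  rw [Ext.mk₀_comp_mk₀] at ha
  have ha' : a ≫ E.g = σ := (Ext.mk₀_bijective _ _).1 ha
  refine ⟨homEquiv J Y E.X₂ a, ?_⟩
  rw [← homEquiv_naturality_right, ha']
  exact Equiv.apply_symm_apply _ _

/-- a short exact sequence of sheaves which is right exact on all sections is short exact as a
sequence of presheaves -/
lemma shortExact_map_ι {E : ShortComplex (Sheaf J AddCommGrpCat.{u})} (hE : E.ShortExact)
    (h : ∀ Y : C, Function.Surjective (E.g.hom.app (op Y))) : (E.map (ι J)).ShortExact := by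
  have h30 := (ι J).preservesFiniteLimits_tfae.out 3 0
  have hS : (E.map (ι J)).Exact ∧ Mono (E.map (ι J)).f := h30.1 inferInstance E hE
  exact
    { exact := hS.1
      mono_f := hS.2
      epi_g := TotAcycProd.epi_of_sections_surjective ⊥ ((ι J).map E.g) h }

/-- one step of (⇒) -/
lemma vanish_sieve_step {E : ShortComplex (Sheaf J AddCommGrpCat.{u})} (hE : E.ShortExact)
    [Injective E.X₂] (hF : ∀ (Y : C) (x : Ext (Zfree J Y) E.X₁ 1), x = 0)
    {X : C} (R : Sieve X) (hR : R ∈ J X) (q : ℕ)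
    (ih : 0 < q → ∀ y : Ext (ZR ⊥ R) ((ι J).obj E.X₃) q, y = 0)
    (x : Ext (ZR ⊥ R) ((ι J).obj E.X₁) (q + 1)) : x = 0 := by
  have hsurj := fun Y => surjective_of_H1_vanish J hE Y (hF Y)
  have hS := shortExact_map_ι J hE hsurj
  have hinj : Injective (E.map (ι J)).X₂ := ι_injective J E.X₂
  exact ext_succ_eq_zero_of_lift hS (ZR ⊥ R) q
    (fun _ σ => exists_lift_of_surjective J E.g R hR (hsurj X) σ) ih x

theorem vanish_sieve_of_acyclic : ∀ (q : ℕ) (F : Sheaf J AddCommGrpCat.{u}),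
    (∀ (Y : C) (p : ℕ) (x : Ext (Zfree J Y) F (p + 1)), x = 0) →
    ∀ (X : C) (R : Sieve X), R ∈ J X → ∀ x : Ext (ZR ⊥ R) ((ι J).obj F) (q + 1), x = 0 := by
  intro q
  induction q with
  | zero =>
    intro F hF X R hR x
    exact vanish_sieve_step J (ExtAcyc.sesUnder_shortExact F) (fun Y x => hF Y 0 x) R hR 0
      (fun h => absurd h (lt_irrefl 0)) x
  | succ q ih =>
    intro F hF X R hR x
    have hE := ExtAcyc.sesUnder_shortExact F
    have hQ : ∀ (Y : C) (p : ℕ) (x : Ext (Zfree J Y) (ExtAcyc.sesUnder F).X₃ (p + 1)), x = 0 :=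
      fun Y p x => TotAcycProd.vanish_X₃ hE (Zfree J Y) (fun p x => hF Y p x) p x
    exact vanish_sieve_step J hE (fun Y x => hF Y 0 x) R hR (q + 1)
      (fun _ y => ih _ hQ X R hR y) x

/-- one step of (⇐) -/
lemma acyclic_step {E : ShortComplex (Sheaf J AddCommGrpCat.{u})} (hE : E.ShortExact)
    [Injective E.X₂]
    (hF : ∀ (Y : C) (R : Sieve Y), R ∈ J Y → ∀ x : Ext (ZR ⊥ R) ((ι J).obj E.X₁) 1, x = 0)
    (X : C) (q : ℕ) (ih : 0 < q → ∀ y : Ext (Zfree J X) E.X₃ q, y = 0)
    (x : Ext (Zfree J X) E.X₁ (q + 1)) : x = 0 := by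
  have hsurj := fun Y => surjective_of_ext_one_vanish J hE Y (hF Y)
  refine ext_succ_eq_zero_of_lift hE (Zfree J X) q (fun _ σ => ?_) ih x
  obtain ⟨y', hy'⟩ := ext_zero_surj_of_sections_surj J X E.g (hsurj X) (Ext.mk₀ σ)
  obtain ⟨τ, rfl⟩ := (Ext.mk₀_bijective _ _).2 y'
  rw [Ext.mk₀_comp_mk₀] at hy'
  exact ⟨τ, (Ext.mk₀_bijective _ _).1 hy'⟩

theorem acyclic_of_vanish_sieve : ∀ (q : ℕ) (F : Sheaf J AddCommGrpCat.{u}),
    (∀ (Y : C) (R : Sieve Y), R ∈ J Y → ∀ (p : ℕ) (x : Ext (ZR ⊥ R) ((ι J).obj F) (p + 1)),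
      x = 0) →
    ∀ (X : C) (x : Ext (Zfree J X) F (q + 1)), x = 0 := by
  intro q
  induction q with
  | zero =>
    intro F hF X x
    exact acyclic_step J (ExtAcyc.sesUnder_shortExact F) (fun Y R hR x => hF Y R hR 0 x) X 0
      (fun h => absurd h (lt_irrefl 0)) x
  | succ q ih =>
    intro F hF X x
    have hE := ExtAcyc.sesUnder_shortExact F
    have hsurj := fun Y => surjective_of_ext_one_vanish J hE Y (fun R hR x => hF Y R hR 0 x)
    have hS := shortExact_map_ι J hE hsurj
    have hinj : Injective ((ExtAcyc.sesUnder F).map (ι J)).X₂ :=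
      ι_injective J (ExtAcyc.sesUnder F).X₂
    have hQ : ∀ (Y : C) (R : Sieve Y), R ∈ J Y → ∀ (p : ℕ)
        (x : Ext (ZR ⊥ R) ((ι J).obj (ExtAcyc.sesUnder F).X₃) (p + 1)), x = 0 :=
      fun Y R hR p x => TotAcycProd.vanish_X₃ hS (ZR ⊥ R) (fun p x => hF Y R hR p x) p x
    exact acyclic_step J hE (fun Y R hR x => hF Y R hR 0 x) X (q + 1)
      (fun _ y => ih _ hQ X y) x

end Compare

end Groth.Agent.Lib.Helper6.SieveExt
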