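import Groth.Agent.Lib.Helper6.CechAcyc
import Groth.Agent.Lib.Helper6.ExtAcyc
import Groth.Agent.Lib.Helper6.SieveExt
import Mathlib.CategoryTheory.Sites.EpiMono
import Mathlib.CategoryTheory.Limits.Types.Pullbacks

/-!
# Cartan's criterion for sheaves of sets: Čech-acyclic for all epis ⟹ totally acyclic (helper6)
-/

universe u

open CategoryTheory Limits Opposite Simplicial AlgebraicTopology Abelian

namespace Groth.Agent.Lib.Helper6.CechCartan

open CechRes CechAcyc

variable {C : Type u} [SmallCategory C] {J : GrothendieckTopology C}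

/-- the pullback of an epimorphism of sheaves of sets is an epimorphism -/
lemma epi_pullback_fst {K M N : Sheaf J (Type u)} (a : K ⟶ M) (b : N ⟶ M) [Epi b] :
    Epi (pullback.fst a b) := by
  have hb : Sheaf.IsLocallySurjective b := (Sheaf.isLocallySurjective_iff_epi b).2 inferInstance
  rw [← Sheaf.isLocallySurjective_iff_epi]
  refine ⟨fun {V} u => ?_⟩
  have hb' := Presheaf.imageSieve_mem J b.hom (a.hom.app _ u)
  refine J.superset_covering ?_ hb'
  rintro W g ⟨n, hn⟩
  have hpb := (IsPullback.of_hasPullback a b).map (Γ J (op W))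
  obtain ⟨w, hw1, -⟩ := Types.exists_of_isPullback hpb (K.obj.map g.op u) n (by
    refine Eq.trans ?_ hn.symm
    exact ConcreteCategory.congr_hom (a.hom.naturality g.op) u)
  exact ⟨w, hw1⟩

/-- the free abelian sheaf functor -/
noncomputable abbrev Φ : Sheaf J (Type u) ⥤ Sheaf J AddCommGrpCat.{u} :=
  Sheaf.composeAndSheafify J AddCommGrpCat.free.{u}

/-- the forgetful functor -/
noncomputable abbrev U : Sheaf J AddCommGrpCat.{u} ⥤ Sheaf J (Type u) :=
  sheafCompose J (forget AddCommGrpCat.{u})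

/-- the free-forgetful adjunction on sheaves -/
noncomputable abbrev adj : Φ (J := J) ⊣ U (J := J) := Sheaf.adjunction J AddCommGrpCat.adj

lemma aug₀_eq {K' K : Sheaf J (Type u)} (f : K' ⟶ K) :
    LeftAcyc.aug₀ (P f) (AlternatingFaceMapComplex.ε.app (Tg J f)) =
      (Φ (J := J)).map (WidePullback.base (fun _ : Fin (0 + 1) => f)) :=
  (AlternatingFaceMapComplex.ε_app_f_zero _).trans (Category.comp_id _)

instance epi_U_map {A B : Sheaf J AddCommGrpCat.{u}} (g : A ⟶ B) [Epi g] : Epi ((U (J := J)).map g) := by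
  have : Sheaf.IsLocallySurjective g := (Sheaf.isLocallySurjective_iff_epi' _ g).2 inferInstance
  exact Sheaf.epi_of_isLocallySurjective' _

section StepA

variable {S : ShortComplex (Sheaf J AddCommGrpCat.{u})} (hS : S.ShortExact)
  (hČ1 : ∀ {K' K : Sheaf J (Type u)} (f : K' ⟶ K) [Epi f],
    IsZero ((CohCx.cechNerveCx S.X₁ f).homology 1))

include hS hČ1 in
/-- sections of `X₂` over a sheaf of sets surject onto sections of `X₃` when `Ȟ¹(-, X₁)` vanishes -/
theorem exists_lift (K : Sheaf J (Type u)) (s : (Φ (J := J)).obj K ⟶ S.X₃) :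
    ∃ r : (Φ (J := J)).obj K ⟶ S.X₂, r ≫ S.g = s := by
  have := hS.epi_g
  let a : K ⟶ (U (J := J)).obj S.X₃ := (adj (J := J)).homEquiv _ _ s
  let b : (U (J := J)).obj S.X₂ ⟶ (U (J := J)).obj S.X₃ := (U (J := J)).map S.g
  let f : pullback a b ⟶ K := pullback.fst a b
  have : Epi f := epi_pullback_fst a b
  obtain ⟨t₀, ht₀⟩ : ∃ t₀ : (Φ (J := J)).obj (pullback a b) ⟶ S.X₂,
      t₀ ≫ S.g = (Φ (J := J)).map f ≫ s := by
    refine ⟨((adj (J := J)).homEquiv _ _).symm (pullback.snd a b), ?_⟩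
    rw [← Adjunction.homEquiv_naturality_right_symm, ← pullback.condition,
      Adjunction.homEquiv_naturality_left_symm, Equiv.symm_apply_apply]
  have := CechRes.quasiIso_ε J f
  obtain ⟨t, ht⟩ : ∃ t : (P f).X 0 ⟶ S.X₂,
      t ≫ S.g = LeftAcyc.aug₀ (P f) (AlternatingFaceMapComplex.ε.app (Tg J f)) ≫ s := by
    refine ⟨(Φ (J := J)).map (WidePullback.π (fun _ : Fin (0 + 1) => f) 0) ≫ t₀, ?_⟩
    have hπ : (Φ (J := J)).map (WidePullback.π (fun _ : Fin (0 + 1) => f) 0) ≫ (Φ (J := J)).map f =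
        (Φ (J := J)).map (WidePullback.base (fun _ : Fin (0 + 1) => f)) := by
      rw [← Functor.map_comp, WidePullback.π_arrow]
    rw [aug₀_eq, Category.assoc, ht₀]
    exact (Category.assoc _ _ _).symm.trans (congrArg (fun z => z ≫ s) hπ)
  exact LeftAcyc.exists_lift_of_exact₁ (P f) (AlternatingFaceMapComplex.ε.app (Tg J f)) hS
    (fun c hc => exists_factor_of_isZero S.X₁ f 0 (hČ1 f) c hc) s t ht

end StepA

section StepB

variable {S : ShortComplex (Sheaf J AddCommGrpCat.{u})} (hS : S.ShortExact)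

include hS in
theorem cech_X₃ {K' K : Sheaf J (Type u)} (f : K' ⟶ K)
    (hl : ∀ (L : Sheaf J (Type u)) (s : (Φ (J := J)).obj L ⟶ S.X₃),
      ∃ r : (Φ (J := J)).obj L ⟶ S.X₂, r ≫ S.g = s)
    (h₁ : ∀ q, IsZero ((CohCx.cechNerveCx S.X₁ f).homology (q + 1)))
    (h₂ : ∀ q, IsZero ((CohCx.cechNerveCx S.X₂ f).homology (q + 1))) (q : ℕ) :
    IsZero ((CohCx.cechNerveCx S.X₃ f).homology (q + 1)) := by
  apply isZero_of_exists_factor
  exact LeftAcyc.exact_X₃ (P f) hS q (fun z => hl _ z)
    (fun c hc => exists_factor_of_isZero S.X₁ f (q + 1) (h₁ (q + 1)) c hc)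
    (fun w hw => exists_factor_of_isZero S.X₂ f q (h₂ q) w hw)

end StepB

/-- the Čech-acyclicity hypothesis -/
def CechAcyclic (F : Sheaf J AddCommGrpCat.{u}) : Prop :=
  ∀ (K' K : Sheaf J (Type u)) (f : K' ⟶ K), Epi f →
    ∀ q : ℕ, IsZero ((CohCx.cechNerveCx F f).homology (q + 1))

lemma totallyAcyclic_of_injective (I : Sheaf J AddCommGrpCat.{u}) [Injective I] :
    CohCx.IsTotallyAcyclic I :=
  fun _ _ => ⟨fun a b => (Ext.eq_zero_of_injective a).trans (Ext.eq_zero_of_injective b).symm⟩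

lemma cechAcyclic_of_injective (I : Sheaf J AddCommGrpCat.{u}) [Injective I] : CechAcyclic I :=
  fun _ _ f _ q => isZero_homology I f (totallyAcyclic_of_injective I) q

/-- **Cartan's criterion** (S12106) -/
theorem vanish : ∀ (p : ℕ) (F : Sheaf J AddCommGrpCat.{u}), CechAcyclic F →
    ∀ (K : Sheaf J (Type u)) (x : CohCx.HK K F (p + 1)), x = 0 := by
  intro p
  induction p with
  | zero =>
    intro F hF K x
    have hS := ExtAcyc.sesUnder_shortExact F
    exact SieveExt.ext_succ_eq_zero_of_lift hS _ 0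
      (fun _ σ => exists_lift hS (fun f _ => hF _ _ f inferInstance 0) K σ)
      (fun h => absurd h (lt_irrefl 0)) x
  | succ p ih =>
    intro F hF K x
    have hS := ExtAcyc.sesUnder_shortExact F
    have hQ : CechAcyclic (ExtAcyc.sesUnder F).X₃ := fun K' K f hf q =>
      cech_X₃ hS f (fun L s => exists_lift hS (fun f _ => hF _ _ f inferInstance 0) L s)
        (fun q => hF _ _ f hf q) (fun q => cechAcyclic_of_injective _ _ _ f hf q) q
    obtain ⟨y, rfl⟩ := Ext.covariant_sequence_exact₁ _ hS x (Ext.eq_zero_of_injective _)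
      (rfl : p + 1 + 1 = p + 1 + 1)
    rw [ih _ hQ K y, Ext.zero_comp]
    rfl

theorem totallyAcyclic_of_cechAcyclic (F : Sheaf J AddCommGrpCat.{u}) (hF : CechAcyclic F) :
    CohCx.IsTotallyAcyclic F :=
  fun K p => ⟨fun a b => (vanish p F hF K a).trans (vanish p F hF K b).symm⟩

end Groth.Agent.Lib.Helper6.CechCartan
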