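import Mathlib.AlgebraicTopology.ExtraDegeneracy
import Mathlib.AlgebraicTopology.CechNerve
import Mathlib.CategoryTheory.Limits.Preserves.Basic

/-!
# Extra degeneracy for the image of a Čech nerve (helper6)

Let `F : Arrow 𝒜` with Čech nerve, `G : 𝒜 ⥤ ℬ` a functor preserving the wide pullbacks of the
Čech nerve, and suppose `G.map F.hom = e ≫ m` with `m` mono and `e` split epi. Then the
augmented simplicial object `F.cechNerve ⋙ G → Z` (augmented to the "image" `Z`) has an extra
degeneracy.
-/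

universe v₁ v₂ u₁ u₂

set_option linter.unusedSectionVars false

open CategoryTheory Limits Simplicial Opposite

namespace Groth.Agent.Lib.Helper6.CechED

variable {𝒜 : Type u₁} [Category.{v₁} 𝒜] {ℬ : Type u₂} [Category.{v₂} ℬ] (F : Arrow 𝒜)
  [∀ n : ℕ, HasWidePullback.{0} F.right (fun _ : Fin (n + 1) => F.left) fun _ => F.hom]
  (G : 𝒜 ⥤ ℬ)
  [∀ n : ℕ, PreservesLimit (WidePullbackShape.wideCospan F.right
    (fun _ : Fin (n + 1) => F.left) fun _ => F.hom) G]

/-- the image of the limit cone is a limit cone -/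
noncomputable def isLim (n : ℕ) : IsLimit (G.mapCone (limit.cone
    (WidePullbackShape.wideCospan F.right (fun _ : Fin (n + 1) => F.left) fun _ => F.hom))) :=
  isLimitOfPreserves G (limit.isLimit _)

variable {F G}

/-- lifting into the image of the wide pullback -/
noncomputable def liftG {n : ℕ} {Z : ℬ} (b : Z ⟶ G.obj F.right) (p : Fin (n + 1) → (Z ⟶ G.obj F.left))
    (h : ∀ i, p i ≫ G.map F.hom = b) : Z ⟶ G.obj (F.cechNerve.obj (op ⦋n⦌)) :=
  (isLim F G n).lift (WidePullbackShape.mkCone (F := WidePullbackShape.wideCospan F.right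
    (fun _ : Fin (n + 1) => F.left) (fun _ => F.hom) ⋙ G) b p h)

@[reassoc (attr := simp)]
lemma liftG_π {n : ℕ} {Z : ℬ} (b : Z ⟶ G.obj F.right) (p : Fin (n + 1) → (Z ⟶ G.obj F.left))
    (h : ∀ i, p i ≫ G.map F.hom = b) (i : Fin (n + 1)) :
    liftG b p h ≫ G.map (WidePullback.π (fun _ : Fin (n + 1) => F.hom) i) = p i :=
  (isLim F G n).fac _ (some i)

@[reassoc (attr := simp)]
lemma liftG_base {n : ℕ} {Z : ℬ} (b : Z ⟶ G.obj F.right) (p : Fin (n + 1) → (Z ⟶ G.obj F.left))
    (h : ∀ i, p i ≫ G.map F.hom = b) :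
    liftG b p h ≫ G.map (WidePullback.base (fun _ : Fin (n + 1) => F.hom)) = b :=
  (isLim F G n).fac _ none

lemma hom_extG {n : ℕ} {Z : ℬ} (g₁ g₂ : Z ⟶ G.obj (F.cechNerve.obj (op ⦋n⦌)))
    (hπ : ∀ i, g₁ ≫ G.map (WidePullback.π (fun _ : Fin (n + 1) => F.hom) i) =
      g₂ ≫ G.map (WidePullback.π (fun _ : Fin (n + 1) => F.hom) i))
    (hb : g₁ ≫ G.map (WidePullback.base (fun _ : Fin (n + 1) => F.hom)) =
      g₂ ≫ G.map (WidePullback.base (fun _ : Fin (n + 1) => F.hom))) : g₁ = g₂ := by
  apply (isLim F G n).hom_ext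
  rintro (_ | i)
  · exact hb
  · exact hπ i

@[reassoc]
lemma map_cechNerve_map_π {n n' : SimplexCategoryᵒᵖ} (g : n ⟶ n') (i : Fin (n'.unop.len + 1)) :
    G.map (F.cechNerve.map g) ≫ G.map (WidePullback.π (fun _ : Fin (n'.unop.len + 1) => F.hom) i) =
      G.map (WidePullback.π (fun _ : Fin (n.unop.len + 1) => F.hom) (g.unop.toOrderHom i)) := by
  rw [← G.map_comp]
  congr 1
  exact WidePullback.lift_π _ _ _ _ _

@[reassoc]
lemma map_cechNerve_map_base {n n' : SimplexCategoryᵒᵖ} (g : n ⟶ n') :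
    G.map (F.cechNerve.map g) ≫ G.map (WidePullback.base (fun _ : Fin (n'.unop.len + 1) => F.hom)) =
      G.map (WidePullback.base (fun _ : Fin (n.unop.len + 1) => F.hom)) := by
  rw [← G.map_comp]
  congr 1
  exact WidePullback.lift_base _ _ _ _

section ED

variable {Z : ℬ} (e : G.obj F.left ⟶ Z) (m : Z ⟶ G.obj F.right) [Mono m]
  (fac : e ≫ m = G.map F.hom)

include fac in
lemma map_π_e_m {n : ℕ} (i : Fin (n + 1)) :
    G.map (WidePullback.π (fun _ : Fin (n + 1) => F.hom) i) ≫ e ≫ m =
      G.map (WidePullback.base (fun _ : Fin (n + 1) => F.hom)) := by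
  rw [fac, ← G.map_comp, WidePullback.π_arrow]

include fac in
lemma map_π_e_eq {n : ℕ} (i j : Fin (n + 1)) :
    G.map (WidePullback.π (fun _ : Fin (n + 1) => F.hom) i) ≫ e =
      G.map (WidePullback.π (fun _ : Fin (n + 1) => F.hom) j) ≫ e := by
  rw [← cancel_mono m, Category.assoc, Category.assoc, map_π_e_m e m fac, map_π_e_m e m fac]

/-- the augmented simplicial object `G(Čech nerve) → Z` -/
@[simps]
noncomputable def aug : SimplicialObject.Augmented ℬ where
  left := F.cechNerve ⋙ G
  right := Z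
  hom :=
    { app := fun n => G.map (WidePullback.π (fun _ : Fin (n.unop.len + 1) => F.hom) 0) ≫ e
      naturality := fun n n' g => by
        dsimp
        rw [Category.comp_id, ← G.map_comp_assoc, WidePullback.lift_π]
        exact map_π_e_eq e m fac _ _ }

variable (σ : Z ⟶ G.obj F.left) (hσ : σ ≫ e = 𝟙 Z)

include fac hσ in
lemma σ_map : σ ≫ G.map F.hom = m := by
  rw [← fac, reassoc_of% hσ]

/-- the extra degeneracy maps -/
noncomputable def edS (n : ℕ) :
    G.obj (F.cechNerve.obj (op ⦋n⦌)) ⟶ G.obj (F.cechNerve.obj (op ⦋n + 1⦌)) :=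
  liftG (n := n + 1) (G.map (WidePullback.base (fun _ : Fin (n + 1) => F.hom)))
    (Fin.cases (G.map (WidePullback.π (fun _ : Fin (n + 1) => F.hom) 0) ≫ e ≫ σ)
      (fun i => G.map (WidePullback.π (fun _ : Fin (n + 1) => F.hom) i)))
    (fun i => by
      cases i using Fin.cases with
      | zero =>
        simp only [Fin.cases_zero, Category.assoc]
        rw [σ_map e m fac σ hσ, map_π_e_m e m fac]
      | succ i =>
        simp only [Fin.cases_succ]
        rw [← G.map_comp, WidePullback.π_arrow])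

@[reassoc (attr := simp)]
lemma edS_π_zero (n : ℕ) :
    edS e m fac σ hσ n ≫ G.map (WidePullback.π (fun _ : Fin (n + 1 + 1) => F.hom) 0) =
      G.map (WidePullback.π (fun _ : Fin (n + 1) => F.hom) 0) ≫ e ≫ σ := by
  simp [edS]

@[reassoc (attr := simp)]
lemma edS_π_succ (n : ℕ) (i : Fin (n + 1)) :
    edS e m fac σ hσ n ≫ G.map (WidePullback.π (fun _ : Fin (n + 1 + 1) => F.hom) i.succ) =
      G.map (WidePullback.π (fun _ : Fin (n + 1) => F.hom) i) := by
  simp [edS]

@[reassoc (attr := simp)]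
lemma edS_base (n : ℕ) :
    edS e m fac σ hσ n ≫ G.map (WidePullback.base (fun _ : Fin (n + 1 + 1) => F.hom)) =
      G.map (WidePullback.base (fun _ : Fin (n + 1) => F.hom)) := by
  simp [edS]

@[reassoc]
lemma edS_map_π (n : ℕ) {k : ℕ} (g : ⦋k⦌ ⟶ ⦋n + 1⦌) (i : Fin (k + 1)) :
    edS e m fac σ hσ n ≫ G.map (F.cechNerve.map g.op) ≫
      G.map (WidePullback.π (fun _ : Fin (k + 1) => F.hom) i) =
    edS e m fac σ hσ n ≫
      G.map (WidePullback.π (fun _ : Fin (n + 1 + 1) => F.hom) (g.toOrderHom i)) := by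
  congr 1
  exact map_cechNerve_map_π (F := F) (G := G) g.op i

@[reassoc]
lemma edS_map_base (n : ℕ) {k : ℕ} (g : ⦋k⦌ ⟶ ⦋n + 1⦌) :
    edS e m fac σ hσ n ≫ G.map (F.cechNerve.map g.op) ≫
      G.map (WidePullback.base (fun _ : Fin (k + 1) => F.hom)) =
    G.map (WidePullback.base (fun _ : Fin (n + 1) => F.hom)) := by
  rw [← edS_base e m fac σ hσ n]
  congr 1
  exact map_cechNerve_map_base (F := F) (G := G) g.op

@[reassoc]
lemma map_edS_π_zero (n : ℕ) {k : ℕ} (g : ⦋n⦌ ⟶ ⦋k⦌) :
    G.map (F.cechNerve.map g.op) ≫ edS e m fac σ hσ n ≫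
      G.map (WidePullback.π (fun _ : Fin (n + 1 + 1) => F.hom) 0) =
    G.map (WidePullback.π (fun _ : Fin (k + 1) => F.hom) 0) ≫ e ≫ σ := by
  rw [edS_π_zero, ← Category.assoc, ← Category.assoc, ← Category.assoc]
  congr 1
  rw [Category.assoc]
  erw [map_cechNerve_map_π_assoc (F := F) (G := G) g.op]
  exact map_π_e_eq e m fac _ _

@[reassoc]
lemma map_edS_π_succ (n : ℕ) {k : ℕ} (g : ⦋n⦌ ⟶ ⦋k⦌) (i : Fin (n + 1)) :
    G.map (F.cechNerve.map g.op) ≫ edS e m fac σ hσ n ≫
      G.map (WidePullback.π (fun _ : Fin (n + 1 + 1) => F.hom) i.succ) =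
    G.map (WidePullback.π (fun _ : Fin (k + 1) => F.hom) (g.toOrderHom i)) := by
  rw [edS_π_succ]
  exact map_cechNerve_map_π (F := F) (G := G) g.op i

@[reassoc]
lemma map_edS_base (n : ℕ) {k : ℕ} (g : ⦋n⦌ ⟶ ⦋k⦌) :
    G.map (F.cechNerve.map g.op) ≫ edS e m fac σ hσ n ≫
      G.map (WidePullback.base (fun _ : Fin (n + 1 + 1) => F.hom)) =
    G.map (WidePullback.base (fun _ : Fin (k + 1) => F.hom)) := by
  rw [edS_base]
  exact map_cechNerve_map_base (F := F) (G := G) g.op

/-- the extra degeneracy of `aug` -/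
noncomputable def extraDegeneracy :
    SimplicialObject.Augmented.ExtraDegeneracy (aug e m fac) where
  s' := liftG (n := 0) m (fun _ => σ) (fun _ => σ_map e m fac σ hσ)
  s n := edS e m fac σ hσ n
  s'_comp_ε := by
    change liftG (n := 0) m (fun _ => σ) _ ≫
      G.map (WidePullback.π (fun _ : Fin (0 + 1) => F.hom) 0) ≫ e = 𝟙 Z
    rw [liftG_π_assoc, hσ]
  s₀_comp_δ₁ := by
    change edS e m fac σ hσ 0 ≫ G.map (F.cechNerve.map (SimplexCategory.δ 1).op) =
      (G.map (WidePullback.π (fun _ : Fin (0 + 1) => F.hom) 0) ≫ e) ≫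
        liftG (n := 0) m (fun _ => σ) _
    apply hom_extG
    · intro i
      fin_cases i
      simp only [Category.assoc]
      rw [edS_map_π]
      have h1 := liftG_π (F := F) (G := G) (n := 0) m (fun _ => σ)
        (fun _ => σ_map e m fac σ hσ) 0
      refine Eq.trans ?_ (congrArg (fun z =>
        G.map (WidePullback.π (fun _ : Fin (0 + 1) => F.hom) 0) ≫ e ≫ z) h1).symm
      exact edS_π_zero e m fac σ hσ 0
    · simp only [Category.assoc]
      rw [edS_map_base]
      have h1 := liftG_base (F := F) (G := G) (n := 0) m (fun _ => σ)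
        (fun _ => σ_map e m fac σ hσ)
      refine Eq.trans ?_ (congrArg (fun z =>
        G.map (WidePullback.π (fun _ : Fin (0 + 1) => F.hom) 0) ≫ e ≫ z) h1).symm
      exact (map_π_e_m e m fac _).symm
  s_comp_δ₀ n := by
    change edS e m fac σ hσ n ≫ G.map (F.cechNerve.map (SimplexCategory.δ 0).op) = 𝟙 _
    apply hom_extG
    · intro i
      rw [Category.assoc, edS_map_π, Category.id_comp]
      exact edS_π_succ e m fac σ hσ n i
    · rw [Category.assoc, edS_map_base, Category.id_comp]
  s_comp_δ n i := by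
    change edS e m fac σ hσ (n + 1) ≫ G.map (F.cechNerve.map (SimplexCategory.δ i.succ).op) =
      G.map (F.cechNerve.map (SimplexCategory.δ i).op) ≫ edS e m fac σ hσ n
    apply hom_extG
    · intro j
      rw [Category.assoc, edS_map_π, Category.assoc]
      cases j using Fin.cases with
      | zero =>
        rw [map_edS_π_zero]
        exact edS_π_zero e m fac σ hσ (n + 1)
      | succ j =>
        rw [map_edS_π_succ]
        have : (SimplexCategory.δ i.succ).toOrderHom j.succ =
            ((SimplexCategory.δ i).toOrderHom j).succ := by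
          simp [SimplexCategory.δ]
        rw [this]
        exact edS_π_succ e m fac σ hσ (n + 1) _
    · rw [Category.assoc, edS_map_base, Category.assoc, map_edS_base]
  s_comp_σ n i := by
    change edS e m fac σ hσ n ≫ G.map (F.cechNerve.map (SimplexCategory.σ i.succ).op) =
      G.map (F.cechNerve.map (SimplexCategory.σ i).op) ≫ edS e m fac σ hσ (n + 1)
    apply hom_extG
    · intro j
      rw [Category.assoc, edS_map_π, Category.assoc]
      cases j using Fin.cases with
      | zero =>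
        rw [map_edS_π_zero]
        have : (SimplexCategory.σ i.succ).toOrderHom 0 = 0 := by
          simp [SimplexCategory.σ]
        rw [this]
        exact edS_π_zero e m fac σ hσ n
      | succ j =>
        rw [map_edS_π_succ]
        have : (SimplexCategory.σ i.succ).toOrderHom j.succ =
            ((SimplexCategory.σ i).toOrderHom j).succ := by
          simp [SimplexCategory.σ]
        rw [this]
        exact edS_π_succ e m fac σ hσ n _
    · rw [Category.assoc, edS_map_base, Category.assoc, map_edS_base]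

end ED

end Groth.Agent.Lib.Helper6.CechED
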