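import Groth.Prelude.Def_CohCx
import Groth.Agent.Lib.Helper6.CechED
import Groth.Agent.Lib.Helper6.AugQI
import Mathlib.CategoryTheory.Sites.Adjunction
import Mathlib.CategoryTheory.Sites.LocallyBijective
import Mathlib.CategoryTheory.Subfunctor.Image

/-!
# The free Čech nerve resolution, transported along a left exact functor to sheaves of sets (helper6)

`T : 𝒜 ⥤ Sheaf J (Type u)` preserving the wide pullbacks of the Čech nerve of `f : K' ⟶ K` in `𝒜`, with
`T.map f` an epimorphism: then `ℤ[T(Čech nerve of f)] → ℤ[T K]` is a quasi-isomorphism.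
-/

universe v₁ u₁ u

open CategoryTheory Limits Opposite Simplicial AlgebraicTopology

namespace Groth.Agent.Lib.Helper6.CechResT

variable {C : Type u} [SmallCategory C] (J : GrothendieckTopology C)
  {𝒜 : Type u₁} [Category.{v₁} 𝒜] [HasFiniteLimits 𝒜] (T : 𝒜 ⥤ Sheaf J (Type u))
  [PreservesFiniteLimits T] {K' K : 𝒜} (f : K' ⟶ K)

instance (n : ℕ) : PreservesLimit (WidePullbackShape.wideCospan (Arrow.mk f).right
    (fun _ : Fin (n + 1) => (Arrow.mk f).left) fun _ => (Arrow.mk f).hom)
    (T ⋙ sheafToPresheaf J (Type u)) := inferInstance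

/-- the presheaf-level augmented simplicial object, augmented to the presheaf image -/
noncomputable abbrev Y0 : SimplicialObject.Augmented (Cᵒᵖ ⥤ Type u) :=
  CechED.aug (F := Arrow.mk f) (G := T ⋙ sheafToPresheaf J (Type u))
    (Subfunctor.toRange (T.map f).hom) (Subfunctor.range (T.map f).hom).ι
    (Subfunctor.toRange_ι (T.map f).hom)

/-- sections over `U` -/
noncomputable abbrev Γ (U : Cᵒᵖ) : 𝒜 ⥤ Type u :=
  T ⋙ sheafToPresheaf J (Type u) ⋙ (evaluation Cᵒᵖ (Type u)).obj U

instance (n : ℕ) (U : Cᵒᵖ) : PreservesLimit (WidePullbackShape.wideCospan (Arrow.mk f).right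
    (fun _ : Fin (n + 1) => (Arrow.mk f).left) fun _ => (Arrow.mk f).hom)
    (Γ J T U) := inferInstance

/-- the objectwise augmented simplicial set -/
noncomputable abbrev YU (U : Cᵒᵖ) : SimplicialObject.Augmented (Type u) :=
  CechED.aug (F := Arrow.mk f) (G := Γ J T U)
    ((Subfunctor.toRange (T.map f).hom).app U) ((Subfunctor.range (T.map f).hom).ι.app U)
    (congr_app (Subfunctor.toRange_ι (T.map f).hom) U)

/-- a set-theoretic section of the corestriction -/
noncomputable def σU (U : Cᵒᵖ) :
    (Subfunctor.range (T.map f).hom).toFunctor.obj U ⟶ (T.obj K').obj.obj U :=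
  ↾(fun y => y.2.choose)

lemma σU_comp (U : Cᵒᵖ) : σU J T f U ≫ (Subfunctor.toRange (T.map f).hom).app U = 𝟙 _ := by
  ext y
  apply Subtype.ext
  have := y.2.choose_spec
  simpa [σU, Subfunctor.toRange_app_val] using this

/-- the objectwise extra degeneracy -/
noncomputable def edU (U : Cᵒᵖ) : SimplicialObject.Augmented.ExtraDegeneracy (YU J T f U) :=
  CechED.extraDegeneracy _ _ _ (σU J T f U) (σU_comp J T f U)

/-- the augmented simplicial presheaf of abelian groups `ℤ[Čech nerve] → ℤ[image]` -/
noncomputable abbrev Y'' : SimplicialObject.Augmented (Cᵒᵖ ⥤ AddCommGrpCat.{u}) :=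
  ((SimplicialObject.Augmented.whiskering _ _).obj
    ((Functor.whiskeringRight Cᵒᵖ (Type u) AddCommGrpCat.{u}).obj AddCommGrpCat.free.{u})).obj (Y0 J T f)

/-- objectwise extra degeneracy of `Y''` -/
noncomputable def edY'' (U : Cᵒᵖ) : SimplicialObject.Augmented.ExtraDegeneracy
    (((SimplicialObject.Augmented.whiskering _ _).obj
      ((evaluation Cᵒᵖ AddCommGrpCat.{u}).obj U)).obj (Y'' J T f)) :=
  (edU J T f U).map AddCommGrpCat.free.{u}

instance quasiIso_ε_Y'' : QuasiIso (AlternatingFaceMapComplex.ε.app (Y'' J T f)) :=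
  AugQI.quasiIso_ε_of_evaluation _
    (fun U => AugQI.quasiIso_ε_of_extraDegeneracy (edY'' J T f U))

/-- the sheafified augmented simplicial object -/
noncomputable abbrev aY'' : SimplicialObject.Augmented (Sheaf J AddCommGrpCat.{u}) :=
  ((SimplicialObject.Augmented.whiskering _ _).obj (presheafToSheaf J AddCommGrpCat.{u})).obj (Y'' J T f)

instance quasiIso_ε_aY'' : QuasiIso (AlternatingFaceMapComplex.ε.app (aY'' J T f)) :=
  AugQI.quasiIso_ε_whiskering (presheafToSheaf J AddCommGrpCat.{u}) (Y'' J T f)

omit [HasFiniteLimits 𝒜] [PreservesFiniteLimits T] in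
lemma W_range_ι [Epi (T.map f)] : J.W (Subfunctor.range (T.map f).hom).ι := by
  have h1 : Presheaf.IsLocallySurjective J (T.map f).hom :=
    (Sheaf.isLocallySurjective_iff_epi (T.map f)).2 inferInstance
  have h2 : Presheaf.IsLocallySurjective J (Subfunctor.range (T.map f).hom).ι :=
    Presheaf.isLocallySurjective_of_isLocallySurjective_fac J (Subfunctor.toRange_ι (T.map f).hom)
  have h3 : Presheaf.IsLocallyInjective J (Subfunctor.range (T.map f).hom).ι := inferInstance
  exact J.W_of_isLocallyBijective _

omit [HasFiniteLimits 𝒜] [PreservesFiniteLimits T] in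
instance isIso_sheafify_free_ι [Epi (T.map f)] :
    IsIso ((presheafToSheaf J AddCommGrpCat.{u}).map
      (Functor.whiskerRight (Subfunctor.range (T.map f).hom).ι AddCommGrpCat.free.{u})) := by
  rw [← J.W_iff]
  exact J.W_of_preservesSheafification _ _ (W_range_ι J T f)

/-- the free abelian sheaf functor -/
noncomputable abbrev Φ : Sheaf J (Type u) ⥤ Sheaf J AddCommGrpCat.{u} :=
  Sheaf.composeAndSheafify J AddCommGrpCat.free.{u}

/-- the target augmented simplicial object -/
noncomputable abbrev Tg : SimplicialObject.Augmented (Sheaf J AddCommGrpCat.{u}) :=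
  ((SimplicialObject.Augmented.whiskering _ _).obj (T ⋙ Φ J)).obj (Arrow.mk f).augmentedCechNerve

/-- the comparison morphism of augmented simplicial objects -/
noncomputable def g : aY'' J T f ⟶ Tg J T f where
  left := 𝟙 _
  right := (presheafToSheaf J AddCommGrpCat.{u}).map
      (Functor.whiskerRight (Subfunctor.range (T.map f).hom).ι AddCommGrpCat.free.{u})
  w := by
    refine NatTrans.ext (funext fun n => ?_)
    change 𝟙 _ ≫ ((Φ J).map (T.map
        (WidePullback.base (fun _ : Fin (n.unop.len + 1) => f))) ≫ 𝟙 _) =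
      ((presheafToSheaf J AddCommGrpCat.{u}).map (Functor.whiskerRight
        ((sheafToPresheaf J (Type u)).map (T.map (WidePullback.π (fun _ : Fin (n.unop.len + 1) => f) 0)) ≫
          Subfunctor.toRange (T.map f).hom) AddCommGrpCat.free.{u}) ≫ 𝟙 _) ≫
        (presheafToSheaf J AddCommGrpCat.{u}).map
          (Functor.whiskerRight (Subfunctor.range (T.map f).hom).ι AddCommGrpCat.free.{u})
    rw [Category.id_comp, Category.comp_id, Category.comp_id, ← Functor.map_comp,
      ← Functor.whiskerRight_comp, Category.assoc, Subfunctor.toRange_ι]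
    change _ = (presheafToSheaf J AddCommGrpCat.{u}).map (Functor.whiskerRight
        ((sheafToPresheaf J (Type u)).map (T.map (WidePullback.π (fun _ : Fin (n.unop.len + 1) => f) 0)) ≫
          (sheafToPresheaf J (Type u)).map (T.map f)) AddCommGrpCat.free.{u})
    rw [← Functor.map_comp, ← Functor.map_comp]
    have := WidePullback.π_arrow (fun _ : Fin (n.unop.len + 1) => f) 0
    rw [this]
    rfl

/-- **Free Čech nerve resolution (transported)** -/
theorem quasiIso_ε [Epi (T.map f)] : QuasiIso (AlternatingFaceMapComplex.ε.app (Tg J T f)) := by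
  have nat := AlternatingFaceMapComplex.ε.naturality (g J T f)
  have h1 : IsIso ((SimplicialObject.Augmented.drop ⋙ alternatingFaceMapComplex _).map (g J T f)) := by
    have : (SimplicialObject.Augmented.drop ⋙ alternatingFaceMapComplex _).map (g J T f) = 𝟙 _ := by
      change (alternatingFaceMapComplex _).map (𝟙 _) = 𝟙 _
      exact (alternatingFaceMapComplex _).map_id _
    rw [this]
    exact IsIso.id _
  have h2 : IsIso ((SimplicialObject.Augmented.point ⋙ ChainComplex.single₀ _).map (g J T f)) := by
    change IsIso ((ChainComplex.single₀ _).map ((presheafToSheaf J AddCommGrpCat.{u}).map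
      (Functor.whiskerRight (Subfunctor.range (T.map f).hom).ι AddCommGrpCat.free.{u})))
    infer_instance
  have h3 : QuasiIso (AlternatingFaceMapComplex.ε.app (aY'' J T f) ≫
      (SimplicialObject.Augmented.point ⋙ ChainComplex.single₀ _).map (g J T f)) := inferInstance
  rw [← nat] at h3
  exact (quasiIso_iff_comp_left _ _).1 h3

end Groth.Agent.Lib.Helper6.CechResT
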