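import Groth.Prelude.Def_CohCx
import Groth.Agent.Lib.Helper6.CohSiteOver
import Groth.Agent.Lib.Helper6.ExtAdj
import Mathlib.CategoryTheory.Sites.Adjunction

/-!
# Localization of a small site at an object: sheaves of sets and total acyclicity (helper6)
-/

universe u

open CategoryTheory Limits Opposite Abelian

namespace Groth.Agent.Lib.Helper6.CohSiteOverSet

open MultiAdj CohSiteOver

variable {C : Type u} [SmallCategory C] (J : GrothendieckTopology C) (U : C)

/-- restriction to `C/U` for sheaves of sets -/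
abbrev Rset : Sheaf J (Type u) ⥤ Sheaf (J.over U) (Type u) :=
  (Over.forget U).sheafPushforwardContinuous (Type u) (J.over U) J

/-- extension by the empty set -/
noncomputable abbrev Lset : Sheaf (J.over U) (Type u) ⥤ Sheaf J (Type u) :=
  MultiAdj.shriek (OverShriek.overForget U) (J.over U) J (A := Type u)

/-- `j_! ⊣ j^*` for sheaves of sets -/
noncomputable abbrev adjSet : Lset J U ⊣ Rset J U :=
  MultiAdj.adj (OverShriek.overForget U) (J.over U) J (A := Type u)

/-- the free abelian sheaf functor -/
noncomputable abbrev ZF {D : Type u} [SmallCategory D] (K : GrothendieckTopology D) :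
    Sheaf K (Type u) ⥤ Sheaf K AddCommGrpCat.{u} :=
  Sheaf.composeAndSheafify K AddCommGrpCat.free.{u}

/-- free ⊣ forget on sheaves -/
noncomputable abbrev adjZ {D : Type u} [SmallCategory D] (K : GrothendieckTopology D) :
    ZF K ⊣ sheafCompose K (forget AddCommGrpCat.{u}) :=
  Sheaf.adjunction K AddCommGrpCat.adj

/-- restriction commutes with the forgetful functors -/
noncomputable def rightIso :
    R J U ⋙ sheafCompose (J.over U) (forget AddCommGrpCat.{u}) ≅
      sheafCompose J (forget AddCommGrpCat.{u}) ⋙ Rset J U :=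
  Iso.refl _

/-- extension by zero commutes with the free functors -/
noncomputable def leftIso : ZF (J.over U) ⋙ L J U ≅ Lset J U ⋙ ZF J :=
  ((adjZ (J.over U)).comp (adj J U)).leftAdjointUniq
    (((adjSet J U).comp (adjZ J)).ofNatIsoRight (rightIso J U).symm)

lemma subsingleton_ext_of_iso {𝒜 : Type*} [Category 𝒜] [Abelian 𝒜] [HasExt.{u} 𝒜] {A A' F : 𝒜}
    (e : A ≅ A') (n : ℕ) (h : Subsingleton (Ext A' F n)) : Subsingleton (Ext A F n) := by
  have ha : ∀ a : Ext A F n, a = 0 := by
    intro a
    have h1 : (Ext.mk₀ e.inv).comp a (zero_add _) = 0 := h.elim _ _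
    have h2 := congrArg (fun z => (Ext.mk₀ e.hom).comp z (zero_add n)) h1
    simpa [Ext.mk₀_comp_mk₀_assoc, Ext.mk₀_id_comp] using h2
  exact ⟨fun a b => (ha a).trans (ha b).symm⟩

theorem totallyAcyclic_R {F : Sheaf J AddCommGrpCat.{u}} (hF : CohCx.IsTotallyAcyclic F) :
    CohCx.IsTotallyAcyclic ((R J U).obj F) := by
  intro K p
  obtain ⟨e⟩ := ExtAdj.nonempty_ext_addEquiv (adj J U) ((ZF (J.over U)).obj K) F (p + 1)
  have h : Subsingleton (Ext ((ZF J).obj ((Lset J U).obj K)) F (p + 1)) :=
    hF ((Lset J U).obj K) p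
  have h' : Subsingleton (Ext ((L J U).obj ((ZF (J.over U)).obj K)) F (p + 1)) :=
    subsingleton_ext_of_iso ((leftIso J U).app K) (p + 1) h
  exact e.symm.toEquiv.subsingleton

end Groth.Agent.Lib.Helper6.CohSiteOverSet
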