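import Mathlib
import Groth.Agent.Lib.Helper6.CechResT
import Groth.Agent.Lib.Helper6.CechCartan
import Groth.Agent.Lib.Helper6.CechAcyc
import Groth.Agent.Lib.Helper6.CohSiteOverSet
import Groth.Agent.Lib.Helper6.LeftAcyc
import Groth.Agent.Lib.Helper6.AugQI

/-!
# Injective sheaves of modules are totally acyclic (helper6)

For a sheaf of rings `R` on a small site and an injective object `I` of `SheafOfModules R`, the
underlying abelian sheaf of `I` is totally acyclic.  Route: `I` is injective as a presheaf of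
modules; the Čech complex of `I` for `K' ⟶ K` is `Hom(R[Čech nerve], I)` computed in presheaves of
modules, and `R[Čech nerve]` is exact in positive degrees (objectwise extra degeneracy);
conclude by Cartan's criterion.
-/

universe u

open CategoryTheory Limits Opposite Simplicial AlgebraicTopology

namespace Groth.Agent.Lib.Helper6.InjModTotAcyc

open CohSiteOverSet (ZF)

variable {C : Type u} [SmallCategory C] {J : GrothendieckTopology C} (R : Sheaf J RingCat.{u})

/-- the underlying presheaf of modules -/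
noncomputable abbrev I₀ (I : SheafOfModules.{u} R) : PresheafOfModules.{u} R.obj :=
  (SheafOfModules.forget R ⋙ PresheafOfModules.restrictScalars (𝟙 R.obj)).obj I

noncomputable instance (I : SheafOfModules.{u} R) [Injective I] : Injective (I₀ R I) :=
  Injective.injective_of_adjoint (PresheafOfModules.sheafificationAdjunction (𝟙 R.obj)) I

/-- free presheaf of modules on a sheaf of sets -/
noncomputable abbrev Fr : Sheaf J (Type u) ⥤ PresheafOfModules.{u} R.obj :=
  sheafToPresheaf J (Type u) ⋙ PresheafOfModules.free R.obj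

/-- free abelian presheaf on a presheaf of sets -/
noncomputable abbrev Z₀ : (Cᵒᵖ ⥤ Type u) ⥤ (Cᵒᵖ ⥤ AddCommGrpCat.{u}) :=
  (Functor.whiskeringRight Cᵒᵖ (Type u) AddCommGrpCat.{u}).obj AddCommGrpCat.free.{u}

/-- the adjunction free ⊣ forget for presheaves of abelian groups -/
noncomputable abbrev adjZ₀ :
    (Z₀ (C := C)) ⊣ (Functor.whiskeringRight Cᵒᵖ AddCommGrpCat.{u} (Type u)).obj (forget _) :=
  AddCommGrpCat.adj.whiskerRight Cᵒᵖ

/-- the bijection `Hom(R[P], M) ≃ Hom(ℤ[P], M)` -/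
noncomputable def ψ₀ (P : Cᵒᵖ ⥤ Type u) (M : PresheafOfModules.{u} R.obj) :
    ((PresheafOfModules.free R.obj).obj P ⟶ M) ≃
      (Z₀.obj P ⟶ (PresheafOfModules.toPresheaf R.obj).obj M) :=
  ((PresheafOfModules.freeAdjunction R.obj).homEquiv P M).trans
    (adjZ₀.homEquiv P ((PresheafOfModules.toPresheaf R.obj).obj M)).symm

lemma ψ₀_naturality_right (P : Cᵒᵖ ⥤ Type u) {M M' : PresheafOfModules.{u} R.obj}
    (y : (PresheafOfModules.free R.obj).obj P ⟶ M) (g : M ⟶ M') :
    ψ₀ R P M' (y ≫ g) = ψ₀ R P M y ≫ (PresheafOfModules.toPresheaf R.obj).map g := by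
  dsimp only [ψ₀, Equiv.trans_apply]
  rw [Adjunction.homEquiv_naturality_right, ← Adjunction.homEquiv_naturality_right_symm]
  rfl

lemma ψ₀_naturality_left {P P' : Cᵒᵖ ⥤ Type u} (h : P' ⟶ P) (M : PresheafOfModules.{u} R.obj)
    (y : (PresheafOfModules.free R.obj).obj P ⟶ M) :
    ψ₀ R P' M ((PresheafOfModules.free R.obj).map h ≫ y) = Z₀.map h ≫ ψ₀ R P M y := by
  dsimp only [ψ₀, Equiv.trans_apply]
  rw [Adjunction.homEquiv_naturality_left, Adjunction.homEquiv_naturality_left_symm]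

/-- the comparison `ℤ[P] ⟶ R[P]` -/
noncomputable def η (P : Cᵒᵖ ⥤ Type u) :
    Z₀.obj P ⟶ (PresheafOfModules.toPresheaf R.obj).obj ((PresheafOfModules.free R.obj).obj P) :=
  ψ₀ R P _ (𝟙 _)

lemma ψ₀_eq (P : Cᵒᵖ ⥤ Type u) (M : PresheafOfModules.{u} R.obj)
    (y : (PresheafOfModules.free R.obj).obj P ⟶ M) :
    ψ₀ R P M y = η R P ≫ (PresheafOfModules.toPresheaf R.obj).map y := by
  rw [η, ← ψ₀_naturality_right, Category.id_comp]

lemma ψ₀_add (P : Cᵒᵖ ⥤ Type u) (M : PresheafOfModules.{u} R.obj)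
    (y y' : (PresheafOfModules.free R.obj).obj P ⟶ M) :
    ψ₀ R P M (y + y') = ψ₀ R P M y + ψ₀ R P M y' := by
  rw [ψ₀_eq, ψ₀_eq, ψ₀_eq, Functor.map_add, Preadditive.comp_add]

/-- `ψ₀` as an additive equivalence -/
noncomputable def ψ₀Add (P : Cᵒᵖ ⥤ Type u) (M : PresheafOfModules.{u} R.obj) :
    ((PresheafOfModules.free R.obj).obj P ⟶ M) ≃+
      (Z₀.obj P ⟶ (PresheafOfModules.toPresheaf R.obj).obj M) :=
  { ψ₀ R P M with map_add' := ψ₀_add R P M }

variable (I : SheafOfModules.{u} R)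

/-- sheafification adjunction, with the target presheaf written through `toPresheaf` -/
noncomputable def σ (K : Sheaf J (Type u)) :
    ((ZF J).obj K ⟶ (SheafOfModules.toSheaf R).obj I) ≃+
      (Z₀.obj K.obj ⟶ (PresheafOfModules.toPresheaf R.obj).obj (I₀ R I)) :=
  (sheafificationAdjunction J AddCommGrpCat.{u}).homAddEquiv (Z₀.obj K.obj)
    ((SheafOfModules.toSheaf R).obj I)

lemma σ_naturality {K K' : Sheaf J (Type u)} (g : K' ⟶ K)
    (x : (ZF J).obj K ⟶ (SheafOfModules.toSheaf R).obj I) :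
    σ R I K' ((ZF J).map g ≫ x) = Z₀.map g.hom ≫ σ R I K x :=
  (sheafificationAdjunction J AddCommGrpCat.{u}).homEquiv_naturality_left _ _

/-- the additive bijection `Hom(ℤ[K], I) ≃ Hom(R[K], I)` -/
noncomputable def θ (K : Sheaf J (Type u)) :
    ((ZF J).obj K ⟶ (SheafOfModules.toSheaf R).obj I) ≃+ ((Fr R).obj K ⟶ I₀ R I) :=
  (σ R I K).trans (ψ₀Add R K.obj (I₀ R I)).symm

lemma ψ₀_θ (K : Sheaf J (Type u)) (x : (ZF J).obj K ⟶ (SheafOfModules.toSheaf R).obj I) :
    ψ₀ R K.obj (I₀ R I) (θ R I K x) = σ R I K x :=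
  (ψ₀Add R K.obj (I₀ R I)).apply_symm_apply _

lemma θ_naturality {K K' : Sheaf J (Type u)} (g : K' ⟶ K)
    (x : (ZF J).obj K ⟶ (SheafOfModules.toSheaf R).obj I) :
    θ R I K' ((ZF J).map g ≫ x) = (Fr R).map g ≫ θ R I K x := by
  apply (ψ₀ R K'.obj (I₀ R I)).injective
  rw [ψ₀_θ, σ_naturality]
  refine Eq.trans ?_ (ψ₀_naturality_left R g.hom (I₀ R I) (θ R I K x)).symm
  rw [ψ₀_θ]

section Cech

variable {K' K : Sheaf J (Type u)} (f : K' ⟶ K)

/-- the augmented simplicial presheaf of modules `R[Čech nerve] → R[image]` -/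
noncomputable abbrev YR : SimplicialObject.Augmented (PresheafOfModules.{u} R.obj) :=
  ((SimplicialObject.Augmented.whiskering _ _).obj (PresheafOfModules.free R.obj)).obj
    (CechResT.Y0 J (𝟭 (Sheaf J (Type u))) f)

/-- the chain complex of free presheaves of modules on the Čech nerve -/
noncomputable abbrev PR : ChainComplex (PresheafOfModules.{u} R.obj) ℕ :=
  (alternatingFaceMapComplex _).obj (YR R f).left

/-- objectwise extra degeneracy -/
noncomputable def edYR (U : Cᵒᵖ) : SimplicialObject.Augmented.ExtraDegeneracy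
    (((SimplicialObject.Augmented.whiskering _ _).obj
      ((evaluation Cᵒᵖ AddCommGrpCat.{u}).obj U)).obj
      (((SimplicialObject.Augmented.whiskering _ _).obj
        (PresheafOfModules.toPresheaf R.obj)).obj (YR R f))) :=
  (CechResT.edU J (𝟭 (Sheaf J (Type u))) f U).map
    (ModuleCat.free (R.obj.obj U) ⋙ forget₂ _ AddCommGrpCat.{u})

instance quasiIso_ε_YR : QuasiIso (AlternatingFaceMapComplex.ε.app (YR R f)) := by
  have h1 : QuasiIso (AlternatingFaceMapComplex.ε.app
      (((SimplicialObject.Augmented.whiskering _ _).obj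
        (PresheafOfModules.toPresheaf R.obj)).obj (YR R f))) :=
    AugQI.quasiIso_ε_of_evaluation _
      (fun U => AugQI.quasiIso_ε_of_extraDegeneracy (edYR R f U))
  rw [← AugQI.quasiIso_map_ε_iff (PresheafOfModules.toPresheaf R.obj)] at h1
  exact (HomologicalComplex.quasiIso_map_iff_of_preservesHomology _
    (PresheafOfModules.toPresheaf R.obj)).1 h1

variable (I : SheafOfModules.{u} R)

lemma θ_sum {L₁ L₂ : Sheaf J (Type u)} {ι : Type} [Fintype ι] (c : ι → ℤ) (g : ι → (L₁ ⟶ L₂))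
    (x : (ZF J).obj L₂ ⟶ (SheafOfModules.toSheaf R).obj I) :
    θ R I L₁ ((∑ i, c i • (ZF J).map (g i)) ≫ x) =
      (∑ i, c i • (Fr R).map (g i)) ≫ θ R I L₂ x := by
  rw [Preadditive.sum_comp, Preadditive.sum_comp, map_sum]
  refine Finset.sum_congr rfl (fun i _ => ?_)
  rw [Preadditive.zsmul_comp, Preadditive.zsmul_comp, map_zsmul, θ_naturality]

lemma θ_d (n : ℕ) (x : (CechAcyc.P f).X n ⟶ (SheafOfModules.toSheaf R).obj I) :
    θ R I ((Arrow.mk f).cechNerve.obj (op ⦋n + 1⦌)) ((CechAcyc.P f).d (n + 1) n ≫ x) =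
      (PR R f).d (n + 1) n ≫ θ R I ((Arrow.mk f).cechNerve.obj (op ⦋n⦌)) x := by
  have h1 : (CechAcyc.P f).d (n + 1) n =
      ∑ i : Fin (n + 2), ((-1 : ℤ) ^ (i : ℕ)) • (ZF J).map ((Arrow.mk f).cechNerve.δ i) :=
    AlternatingFaceMapComplex.obj_d_eq _ _
  have h2 : (PR R f).d (n + 1) n =
      ∑ i : Fin (n + 2), ((-1 : ℤ) ^ (i : ℕ)) • (Fr R).map ((Arrow.mk f).cechNerve.δ i) :=
    AlternatingFaceMapComplex.obj_d_eq _ _
  have h3 := θ_sum R I (fun i : Fin (n + 2) => (-1 : ℤ) ^ (i : ℕ))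
    (fun i => (Arrow.mk f).cechNerve.δ i) x
  refine Eq.trans ?_ (h3.trans ?_)
  · exact congrArg (fun d => θ R I ((Arrow.mk f).cechNerve.obj (op ⦋n + 1⦌)) (d ≫ x)) h1
  · exact congrArg (fun d => d ≫ θ R I ((Arrow.mk f).cechNerve.obj (op ⦋n⦌)) x) h2.symm

end Cech

/-- an injective sheaf of modules is Čech-acyclic -/
theorem cechAcyclic (I : SheafOfModules.{u} R) [Injective I] :
    CechCartan.CechAcyclic ((SheafOfModules.toSheaf R).obj I) := by
  intro K' K f _ q
  apply CechAcyc.isZero_of_exists_factor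
  intro x hx
  have hx' : (PR R f).d (q + 2) (q + 1) ≫
      θ R I ((Arrow.mk f).cechNerve.obj (op ⦋q + 1⦌)) x = 0 :=
    (θ_d R f I (q + 1) x).symm.trans
      ((congrArg (θ R I ((Arrow.mk f).cechNerve.obj (op ⦋q + 1 + 1⦌))) hx).trans (map_zero _))
  have hex : (PR R f).ExactAt (q + 1) :=
    LeftAcyc.exactAt_succ (PR R f) (AlternatingFaceMapComplex.ε.app (YR R f)) q
  rw [HomologicalComplex.exactAt_iff' _ (q + 2) (q + 1) q (by simp) (by simp)] at hex
  refine ⟨(θ R I ((Arrow.mk f).cechNerve.obj (op ⦋q⦌))).symm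
    (hex.descToInjective (θ R I ((Arrow.mk f).cechNerve.obj (op ⦋q + 1⦌)) x) hx'), ?_⟩
  apply (θ R I ((Arrow.mk f).cechNerve.obj (op ⦋q + 1⦌))).injective
  refine (θ_d R f I q _).trans ?_
  refine (congrArg (fun t => (PR R f).d (q + 1) q ≫ t)
    ((θ R I ((Arrow.mk f).cechNerve.obj (op ⦋q⦌))).apply_symm_apply _)).trans ?_
  exact hex.comp_descToInjective _ _

/-- **an injective sheaf of modules is totally acyclic** -/
theorem totallyAcyclic (I : SheafOfModules.{u} R) [Injective I] :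
    CohCx.IsTotallyAcyclic ((SheafOfModules.toSheaf R).obj I) :=
  CechCartan.totallyAcyclic_of_cechAcyclic _ (cechAcyclic R I)

end Groth.Agent.Lib.Helper6.InjModTotAcyc
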