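import Mathlib
import Groth.Agent.Lib.Helper6.InjModTotAcyc
import Groth.Agent.Lib.Helper6.ExtAdj
import Groth.Agent.Lib.Helper8.SheafModGroth
import Groth.Agent.Lib.lead.SheafModRestrict

/-!
# Cohomology of sheaves of modules vs. cohomology of the underlying abelian sheaf (helper6)
-/

universe u

open CategoryTheory Limits Opposite Abelian

namespace Groth.Agent.Lib.Helper6.ModAbCoh

open DeltaCompare

variable {C : Type u} [SmallCategory C] {J : GrothendieckTopology C}

/-- the constant sheaf `ℤ` -/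
noncomputable abbrev ZZ : Sheaf J AddCommGrpCat.{u} :=
  (presheafToSheaf J AddCommGrpCat.{u}).obj
    ((Functor.const Cᵒᵖ).obj (AddCommGrpCat.of (ULift.{u} ℤ)))

section TotAcyc

/-- the terminal sheaf of sets -/
abbrev pt : Sheaf J (Type u) := Sheaf.terminal J Types.isTerminalPUnit

/-- `ℤ[pt] ≅ ℤ` -/
noncomputable def freePtIso :
    (presheafToSheaf J AddCommGrpCat.{u}).obj ((pt (J := J)).obj ⋙ AddCommGrpCat.free.{u}) ≅
      ZZ (J := J) :=
  (presheafToSheaf J AddCommGrpCat.{u}).mapIso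
    (Functor.constComp _ _ _ ≪≫ (Functor.const Cᵒᵖ).mapIso
      ((FreeAbelianGroup.uniqueEquiv PUnit.{u + 1}).trans AddEquiv.ulift.symm).toAddCommGrpIso)

/-- a totally acyclic abelian sheaf has no higher cohomology -/
theorem subsingleton_H {F : Sheaf J AddCommGrpCat.{u}} (hF : CohCx.IsTotallyAcyclic F) (n : ℕ) :
    Subsingleton (Sheaf.H F (n + 1)) :=
  CohSiteOverSet.subsingleton_ext_of_iso (freePtIso (J := J)).symm (n + 1) (hF pt n)

end TotAcyc

variable (R : Sheaf J RingCat.{u})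

instance : PreservesFiniteColimits (SheafOfModules.toSheaf.{u} R) := by
  constructor
  intro K _ _
  have := Groth.Agent.Lib.lead.SheafModRestrict.toSheaf_preservesColimitsOfShape R
    (ULiftHom.{u} (ULift.{u} K))
  exact preservesColimitsOfShape_of_equiv (ULiftHomULiftCategory.equiv.{u, u} K).symm _

/-- `ℤ ⟶ R`, at the presheaf level -/
noncomputable def c₀ : (Functor.const Cᵒᵖ).obj (AddCommGrpCat.of (ULift.{u} ℤ)) ⟶
    ((SheafOfModules.toSheaf R).obj (SheafOfModules.unit R)).obj where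
  app X := AddCommGrpCat.ofHom
    ((Int.castAddHom (R.obj.obj X)).comp AddEquiv.ulift.toAddMonoidHom)
  naturality X Y f := by
    ext x
    exact (map_intCast (R.obj.map f).hom x.down).symm

/-- `ℤ ⟶ R` -/
noncomputable def c : ZZ (J := J) ⟶ (SheafOfModules.toSheaf R).obj (SheafOfModules.unit R) :=
  ((sheafificationAdjunction J AddCommGrpCat.{u}).homEquiv _ _).symm (c₀ R)

/-- the value at `1` of a morphism out of the constant sheaf `ℤ` -/
noncomputable def ev1 (F : Sheaf J AddCommGrpCat.{u}) (ψ : ZZ (J := J) ⟶ F) (X : Cᵒᵖ) :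
    F.obj.obj X :=
  ((sheafificationAdjunction J AddCommGrpCat.{u}).homEquiv
    ((Functor.const Cᵒᵖ).obj (AddCommGrpCat.of (ULift.{u} ℤ))) F ψ).app X ⟨1⟩

lemma ev1_injective (F : Sheaf J AddCommGrpCat.{u}) (ψ ψ' : ZZ (J := J) ⟶ F)
    (h : ∀ X, ev1 F ψ X = ev1 F ψ' X) : ψ = ψ' := by
  apply ((sheafificationAdjunction J AddCommGrpCat.{u}).homEquiv
    ((Functor.const Cᵒᵖ).obj (AddCommGrpCat.of (ULift.{u} ℤ))) F).injective
  ext X x
  obtain ⟨n⟩ := x
  have h1 : (⟨n⟩ : ULift.{u} ℤ) = n • (⟨1⟩ : ULift.{u} ℤ) := by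
    apply ULift.ext
    simp
  rw [h1, map_zsmul, map_zsmul]
  exact congrArg (fun t => n • t) (h X)

lemma ev1_comp {F G : Sheaf J AddCommGrpCat.{u}} (ψ : ZZ (J := J) ⟶ F) (g : F ⟶ G) (X : Cᵒᵖ) :
    ev1 G (ψ ≫ g) X = g.hom.app X (ev1 F ψ X) := by
  unfold ev1
  rw [Adjunction.homEquiv_naturality_right]
  rfl

lemma ev1_c (X : Cᵒᵖ) : ev1 _ (c R) X = (1 : R.obj.obj X) := by
  unfold ev1 c
  rw [Equiv.apply_symm_apply]
  change ((1 : ℤ) : R.obj.obj X) = 1
  simp

/-- `Hom_R(R, M) → Hom(ℤ, M)` -/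
noncomputable def α (M : SheafOfModules.{u} R) :
    (SheafOfModules.unit R ⟶ M) →+ (ZZ (J := J) ⟶ (SheafOfModules.toSheaf R).obj M) where
  toFun φ := c R ≫ (SheafOfModules.toSheaf R).map φ
  map_zero' := by simp
  map_add' φ φ' := by rw [Functor.map_add, Preadditive.comp_add]

lemma ev1_α (M : SheafOfModules.{u} R) (φ : SheafOfModules.unit R ⟶ M) (X : Cᵒᵖ) :
    ev1 _ (α R M φ) X = (M.unitHomEquiv φ).val X := by
  change ev1 _ (c R ≫ (SheafOfModules.toSheaf R).map φ) X = _
  rw [ev1_comp, ev1_c]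
  rfl

lemma α_bijective (M : SheafOfModules.{u} R) : Function.Bijective (α R M) := by
  constructor
  · intro φ φ' h
    apply M.unitHomEquiv.injective
    apply PresheafOfModules.sections_ext
    intro X
    rw [← ev1_α, ← ev1_α, h]
  · intro ψ
    have hs : ∀ ⦃X Y : Cᵒᵖ⦄ (f : X ⟶ Y), M.val.map f (ev1 _ ψ X) = ev1 _ ψ Y := by
      intro X Y f
      have := NatTrans.naturality_apply ((sheafificationAdjunction J AddCommGrpCat.{u}).homEquiv
        ((Functor.const Cᵒᵖ).obj (AddCommGrpCat.of (ULift.{u} ℤ))) _ ψ) f ⟨1⟩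
      exact this.symm
    refine ⟨M.unitHomEquiv.symm (PresheafOfModules.sectionsMk (fun X => ev1 _ ψ X) hs), ?_⟩
    apply ev1_injective
    intro X
    rw [ev1_α, Equiv.apply_symm_apply]
    rfl

variable [HasExt.{u} (SheafOfModules.{u} R)]

/-- degree zero -/
noncomputable def equiv₀ (M : SheafOfModules.{u} R) :
    Ext (SheafOfModules.unit R) M 0 ≃+ Ext (ZZ (J := J)) ((SheafOfModules.toSheaf R).obj M) 0 :=
  Ext.addEquiv₀.trans
    ((AddEquiv.ofBijective (α R M) (α_bijective R M)).trans Ext.addEquiv₀.symm)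

lemma equiv₀_naturality {M M' : SheafOfModules.{u} R} (g : M ⟶ M')
    (x : Ext (SheafOfModules.unit R) M 0) :
    equiv₀ R M' (x.comp (Ext.mk₀ g) (add_zero 0)) =
      (equiv₀ R M x).comp (Ext.mk₀ ((SheafOfModules.toSheaf R).map g)) (add_zero 0) := by
  obtain ⟨φ, rfl⟩ := Ext.addEquiv₀.symm.surjective x
  simp only [equiv₀, AddEquiv.trans_apply, Ext.addEquiv₀_symm_apply, Ext.mk₀_comp_mk₀,
    ExtAdj.addEquiv₀_mk₀, AddEquiv.ofBijective_apply]
  congr 1

/-- the natural isomorphism in degree zero -/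
noncomputable def θ₀ : extFunctorObj (SheafOfModules.unit R) 0 ≅
    SheafOfModules.toSheaf R ⋙ extFunctorObj (ZZ (J := J)) 0 :=
  NatIso.ofComponents (fun M => (equiv₀ R M).toAddCommGrpIso) (fun {M M'} g => by
    ext x
    exact equiv₀_naturality R g x)

/-- **`Ext^n_R(R, M) ≃ H^n(M_ab)`** -/
theorem nonempty_ext_addEquiv (M : SheafOfModules.{u} R) (n : ℕ) :
    Nonempty (Ext (SheafOfModules.unit R) M n ≃+
      Sheaf.H.{u} ((SheafOfModules.toSheaf R).obj M) n) := by
  have := Groth.Agent.Lib.Helper8.SheafModGroth.enoughInjectives J R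
  obtain ⟨e⟩ := delta_compare
    (fun n => extFunctorObj (SheafOfModules.unit R) n)
    (fun n => SheafOfModules.toSheaf R ⋙ extFunctorObj (ZZ (J := J)) n) (θ₀ R)
    (fun _ => True) (fun G _ => by
      have hE := ExtAcyc.sesUnder_shortExact G
      have hI : Injective (ExtAcyc.sesUnder G).X₂ := inferInstance
      refine ⟨_, _, (ExtAcyc.sesUnder G).f, (ExtAcyc.sesUnder G).g, trivial,
        ExtShift.hasShift_ext _ _ hE (fun n x => Ext.eq_zero_of_injective x),
        ExtShift.hasShift_ext_comp (SheafOfModules.toSheaf R) (ZZ (J := J)) _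
          (hE.map_of_exact (SheafOfModules.toSheaf R)) (fun n x => ?_)⟩
      have h := subsingleton_H (InjModTotAcyc.totallyAcyclic R (ExtAcyc.sesUnder G).X₂) n
      exact @Subsingleton.elim _ h _ _) n M trivial
  exact ⟨e.addCommGroupIsoToAddEquiv⟩

end Groth.Agent.Lib.Helper6.ModAbCoh
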