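import Mathlib.Algebra.Homology.Factorizations.CM5a
import Mathlib.Algebra.Homology.DerivedCategory.HomologySequence
import Mathlib.Algebra.Homology.HomotopyCategory.KInjective
import Mathlib.Algebra.Homology.HomotopyCategory.Plus

/-!
# A tower of injective resolutions of the truncations of a complex (helper6)

For a bounded below complex `K` (in degrees `≥ 0`) in an abelian category with enough injectives we
build a tower `J 0 ⟶ J 1 ⟶ ⋯` of complexes of injectives, `J q` in degrees `≥ q`, with a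
quasi-isomorphism `K ⟶ J 0`, such that `J q ⟶ J (q+1)` induces isomorphisms in cohomology in degrees
`≥ q + 1`.  The cone of `J q ⟶ J (q + 1)` then has cohomology concentrated in degree `q - 1`,
where it is `H^q(K)`.
-/

universe v u

open CategoryTheory Limits HomologicalComplex

namespace Groth.Agent.Lib.Helper6.HyperTower

variable {𝒜 : Type u} [Category.{v} 𝒜] [Abelian 𝒜]

section Cone

variable {J J' : CochainComplex 𝒜 ℤ} (φ : J ⟶ J')

lemma exactAt_mappingCone (n : ℤ) (h1 : Epi (homologyMap φ n))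
    (h2 : Mono (homologyMap φ (n + 1))) : (CochainComplex.mappingCone φ).ExactAt n := by
  let _ : HasDerivedCategory.{max u v} 𝒜 := HasDerivedCategory.standard 𝒜
  let T := CochainComplex.mappingCone.triangle φ
  have hT := DerivedCategory.mappingCone_triangle_distinguished φ
  have e2 := CochainComplex.homologyMap_exact₂_of_distTriang T hT n
  have e3 := CochainComplex.homologyMap_exact₃_of_distTriang T hT n (n + 1) rfl
  have e1 := CochainComplex.homologyMap_exact₁_of_distTriang T hT n (n + 1) rfl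
  have z2 : homologyMap T.mor₂ n = 0 := (e2.epi_f_iff).1 h1
  have m3 : Mono (CochainComplex.homologyδOfTriangle T n (n + 1) rfl) := (e3.mono_g_iff).2 z2
  have z1 : CochainComplex.homologyδOfTriangle T n (n + 1) rfl = 0 := (e1.mono_g_iff).1 h2
  rw [exactAt_iff_isZero_homology]
  exact @IsZero.of_mono_eq_zero _ _ _ _ _ _ m3 z1

lemma nonempty_homology_mappingCone_iso (n₀ n₁ : ℤ) (h : n₀ + 1 = n₁)
    (h0 : IsZero (J'.homology n₀)) (h1 : IsZero (J'.homology n₁)) :
    Nonempty ((CochainComplex.mappingCone φ).homology n₀ ≅ J.homology n₁) := by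
  let _ : HasDerivedCategory.{max u v} 𝒜 := HasDerivedCategory.standard 𝒜
  let T := CochainComplex.mappingCone.triangle φ
  have hT := DerivedCategory.mappingCone_triangle_distinguished φ
  have e3 := CochainComplex.homologyMap_exact₃_of_distTriang T hT n₀ n₁ h
  have e1 := CochainComplex.homologyMap_exact₁_of_distTriang T hT n₀ n₁ h
  have m3 : Mono (CochainComplex.homologyδOfTriangle T n₀ n₁ h) :=
    (e3.mono_g_iff).2 (h0.eq_of_src _ _)
  have p1 : Epi (CochainComplex.homologyδOfTriangle T n₀ n₁ h) :=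
    (e1.epi_f_iff).2 (h1.eq_of_tgt _ _)
  have hi : IsIso (CochainComplex.homologyδOfTriangle T n₀ n₁ h) :=
    @isIso_of_mono_of_epi _ _ _ _ _ _ m3 p1
  exact ⟨@asIso _ _ _ _ _ hi⟩

instance injective_mappingCone_X [∀ n, Injective (J.X n)] [∀ n, Injective (J'.X n)] (n : ℤ) :
    Injective ((CochainComplex.mappingCone φ).X n) :=
  Injective.of_iso (homotopyCofiber.XIsoBiprod φ n (n + 1) rfl).symm inferInstance

end Cone

section Tower

variable [EnoughInjectives 𝒜]

/-- a stage of the tower -/
structure Stg (𝒜 : Type u) [Category.{v} 𝒜] [Abelian 𝒜] (q : ℕ) where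
  /-- the complex -/
  J : CochainComplex 𝒜 ℤ
  inj : ∀ n, Injective (J.X n)
  ge : J.IsStrictlyGE q

lemma exists_next (q : ℕ) (s : Stg 𝒜 q) :
    ∃ (t : Stg 𝒜 (q + 1)) (φ : s.J ⟶ t.J), ∀ n : ℤ, (q : ℤ) + 1 ≤ n → QuasiIsoAt φ n := by
  obtain ⟨L, i, hi, hL, hL'⟩ :=
    CochainComplex.Plus.modelCategoryQuillen.exists_quasiIso_injective
      (s.J.truncGE ((q : ℤ) + 1)) ((q : ℤ) + 1)
  refine ⟨⟨L, hL, by exact_mod_cast hL'⟩, s.J.πTruncGE ((q : ℤ) + 1) ≫ i, ?_⟩
  intro n hn
  have h1 := CochainComplex.quasiIsoAt_πTruncGE s.J ((q : ℤ) + 1) n hn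
  have h2 : QuasiIsoAt i n := inferInstance
  exact quasiIsoAt_comp _ _ _

/-- the next stage -/
noncomputable def next (q : ℕ) (s : Stg 𝒜 q) : Stg 𝒜 (q + 1) := (exists_next q s).choose

/-- the transition map -/
noncomputable def nextMap (q : ℕ) (s : Stg 𝒜 q) : s.J ⟶ (next q s).J :=
  (exists_next q s).choose_spec.choose

lemma quasiIsoAt_nextMap (q : ℕ) (s : Stg 𝒜 q) (n : ℤ) (hn : (q : ℤ) + 1 ≤ n) :
    QuasiIsoAt (nextMap q s) n :=
  (exists_next q s).choose_spec.choose_spec n hn

variable (K : CochainComplex 𝒜 ℤ) [K.IsStrictlyGE 0]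

lemma exists_base : ∃ (s : Stg 𝒜 0) (i : K ⟶ s.J), QuasiIso i := by
  obtain ⟨L, i, hi, hL, hL'⟩ :=
    CochainComplex.Plus.modelCategoryQuillen.exists_quasiIso_injective K 0
  exact ⟨⟨L, hL, by exact_mod_cast hL'⟩, i, hi⟩

/-- the first stage -/
noncomputable def base : Stg 𝒜 0 := (exists_base K).choose

/-- the resolution map -/
noncomputable def baseMap : K ⟶ (base K).J := (exists_base K).choose_spec.choose

instance quasiIso_baseMap : QuasiIso (baseMap K) := (exists_base K).choose_spec.choose_spec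

/-- the tower of stages -/
noncomputable def tower : ∀ q : ℕ, Stg 𝒜 q
  | 0 => base K
  | q + 1 => next q (tower q)

/-- the complexes of the tower -/
noncomputable def J (q : ℕ) : CochainComplex 𝒜 ℤ := (tower K q).J

instance injective_J_X (q : ℕ) (n : ℤ) : Injective ((J K q).X n) := (tower K q).inj n

instance isStrictlyGE_J (q : ℕ) : (J K q).IsStrictlyGE q := (tower K q).ge

/-- the transition maps of the tower -/
noncomputable def φ (q : ℕ) : J K q ⟶ J K (q + 1) := nextMap q (tower K q)

lemma quasiIsoAt_φ (q : ℕ) (n : ℤ) (hn : (q : ℤ) + 1 ≤ n) : QuasiIsoAt (φ K q) n :=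
  quasiIsoAt_nextMap q (tower K q) n hn

/-- the augmentation `K ⟶ J 0` -/
noncomputable def aug : K ⟶ J K 0 := baseMap K

instance quasiIso_aug : QuasiIso (aug K) := quasiIso_baseMap K

lemma nonempty_homology_J_iso (q : ℕ) : ∀ (n : ℤ), (q : ℤ) ≤ n →
    Nonempty ((J K q).homology n ≅ K.homology n) := by
  induction q with
  | zero =>
    intro n _
    exact ⟨(asIso (homologyMap (aug K) n)).symm⟩
  | succ q ih =>
    intro n hn
    obtain ⟨e⟩ := ih n (by push_cast at hn; lia)
    have := quasiIsoAt_φ K q n (by push_cast at hn; lia)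
    exact ⟨(asIso (homologyMap (φ K q) n)).symm ≪≫ e⟩

lemma isZero_homology_J (q : ℕ) (n : ℤ) (hn : n < q) : IsZero ((J K q).homology n) :=
  (exactAt_iff_isZero_homology _ _).1
    (ExactAt.of_isZero (CochainComplex.isZero_of_isStrictlyGE (J K q) q n hn))

/-- the cone of the transition map -/
noncomputable def cone (q : ℕ) : CochainComplex 𝒜 ℤ := CochainComplex.mappingCone (φ K q)

instance injective_cone_X (q : ℕ) (n : ℤ) : Injective ((cone K q).X n) :=
  injective_mappingCone_X (φ K q) n

instance isStrictlyGE_J_succ (q : ℕ) : (J K (q + 1)).IsStrictlyGE ((q : ℤ) + 1) := by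
  have := isStrictlyGE_J K (q + 1)
  exact_mod_cast this

instance isStrictlyGE_cone (q : ℕ) : (cone K q).IsStrictlyGE ((q : ℤ) - 1) :=
  CochainComplex.isStrictlyGE_mappingCone (φ K q) q ((q : ℤ) + 1) ((q : ℤ) - 1)
    (by lia) (by lia)

instance isKInjective_cone (q : ℕ) : (cone K q).IsKInjective :=
  CochainComplex.isKInjective_of_injective (cone K q) ((q : ℤ) - 1)

lemma exactAt_cone (q : ℕ) (n : ℤ) (hn : n ≠ (q : ℤ) - 1) : (cone K q).ExactAt n := by
  by_cases h : n < (q : ℤ) - 1
  · exact ExactAt.of_isZero (CochainComplex.isZero_of_isStrictlyGE (cone K q) ((q : ℤ) - 1) n h)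
  · have hq : (q : ℤ) ≤ n := by lia
    apply exactAt_mappingCone
    · by_cases h' : n = q
      · have hz : IsZero ((J K (q + 1)).homology n) :=
          isZero_homology_J K (q + 1) n (by push_cast; lia)
        exact ⟨fun _ _ _ => hz.eq_of_src _ _⟩
      · have := quasiIsoAt_φ K q n (by lia)
        infer_instance
    · have := quasiIsoAt_φ K q (n + 1) (by lia)
      infer_instance

lemma nonempty_homology_cone_iso (q : ℕ) :
    Nonempty ((cone K q).homology ((q : ℤ) - 1) ≅ K.homology q) := by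
  obtain ⟨e⟩ := nonempty_homology_mappingCone_iso (φ K q) ((q : ℤ) - 1) q (by lia)
    (isZero_homology_J K (q + 1) _ (by push_cast; lia))
    (isZero_homology_J K (q + 1) _ (by push_cast; lia))
  obtain ⟨e'⟩ := nonempty_homology_J_iso K q q le_rfl
  exact ⟨e ≪≫ e'⟩

end Tower

end Groth.Agent.Lib.Helper6.HyperTower
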