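import Groth.Agent.Lib.Helper6.RDBridge
import Mathlib.Algebra.Homology.DerivedCategory.KInjective
import Mathlib.Algebra.Homology.DerivedCategory.TStructure
import Mathlib.CategoryTheory.Abelian.Injective.Extend
import Mathlib.CategoryTheory.Abelian.RightDerived
import Mathlib.Algebra.Homology.SingleHomology

/-!
# K-injective complexes with cohomology concentrated in one degree (helper6)

If `X` is a K-injective cochain complex whose cohomology is concentrated in degree `m`, then for an
additive functor `S`, `H^{m+p}(S X) ≅ R^p S (H^m X)`.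
-/

universe v' u' v u

open CategoryTheory Limits

namespace Groth.Agent.Lib.Helper6.KInjSingle

variable {𝒜 : Type u} [Category.{v} 𝒜] [Abelian 𝒜] {ℬ : Type u'} [Category.{v'} ℬ] [Abelian ℬ]

/-- an additive functor sends a quasi-isomorphism between K-injective complexes to a
quasi-isomorphism -/
lemma quasiIso_map_of_isKInjective (S : 𝒜 ⥤ ℬ) [S.Additive] {X X' : CochainComplex 𝒜 ℤ}
    [X.IsKInjective] [X'.IsKInjective] (f : X ⟶ X') (hf : QuasiIso f) :
    QuasiIso ((S.mapHomologicalComplex (ComplexShape.up ℤ)).map f) := by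
  obtain ⟨e, he⟩ := (CochainComplex.IsKInjective.quasiIso_iff f).1 hf
  have h : QuasiIso (S.mapHomotopyEquiv e).hom := inferInstance
  rw [← he]
  exact h

section

variable {Y : 𝒜} (R : InjectiveResolution Y) (m : ℤ)

/-- an injective resolution placed in degrees `≥ m` -/
noncomputable def W : CochainComplex 𝒜 ℤ := R.cocomplex.extend (ComplexShape.embeddingUpIntGE m)

instance : (W R m).IsStrictlyGE m := by
  dsimp [W]
  infer_instance

instance (n : ℤ) : Injective ((W R m).X n) := by
  dsimp [W]
  infer_instance

instance : (W R m).IsKInjective := CochainComplex.isKInjective_of_injective (W R m) m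

/-- the augmentation -/
noncomputable def ιW : (CochainComplex.singleFunctor 𝒜 m).obj Y ⟶ W R m :=
  (HomologicalComplex.extendSingleIso (ComplexShape.embeddingUpIntGE m) Y 0 m (by simp)).inv ≫
    ((ComplexShape.embeddingUpIntGE m).extendFunctor 𝒜).map R.ι

instance : QuasiIso (ιW R m) := by
  have h1 : QuasiIso (HomologicalComplex.extendMap R.ι (ComplexShape.embeddingUpIntGE m)) :=
    inferInstance
  have h3 : IsIso (HomologicalComplex.extendSingleIso (ComplexShape.embeddingUpIntGE m) Y 0 m
    (by simp)).inv := inferInstance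
  have h2 : QuasiIso (HomologicalComplex.extendSingleIso (ComplexShape.embeddingUpIntGE m) Y 0 m
    (by simp)).inv := by
    rw [quasiIso_iff]
    intro i
    rw [quasiIsoAt_iff_isIso_homologyMap]
    infer_instance
  unfold ιW
  exact @quasiIso_comp _ _ _ _ _ _ _ _ _ _ _ _ _ h2 h1

end

/-- A K-injective complex with cohomology concentrated in degree `m` receives... more precisely it
maps quasi-isomorphically to an injective resolution of some object placed in degree `m`. -/
lemma exists_quasiIso_W [HasInjectiveResolutions 𝒜] (X : CochainComplex 𝒜 ℤ) (m : ℤ)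
    (hX : ∀ n, n ≠ m → X.ExactAt n) :
    ∃ (Y : 𝒜) (R : InjectiveResolution Y) (g : X ⟶ W R m), QuasiIso g := by
  let _ : HasDerivedCategory.{max u v} 𝒜 := HasDerivedCategory.standard 𝒜
  have hGE : X.IsGE m := by
    rw [CochainComplex.isGE_iff]
    intro i hi
    exact hX i (by lia)
  have hLE : X.IsLE m := by
    rw [CochainComplex.isLE_iff]
    intro i hi
    exact hX i (by lia)
  obtain ⟨Y, ⟨α⟩⟩ :=
    DerivedCategory.exists_iso_singleFunctor_obj_of_isGE_of_isLE (DerivedCategory.Q.obj X) m
  let R : InjectiveResolution Y := injectiveResolution Y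
  let β : DerivedCategory.Q.obj X ≅ DerivedCategory.Q.obj (W R m) :=
    α ≪≫ (DerivedCategory.singleFunctorIsoCompQ 𝒜 m).app Y ≪≫
      asIso (DerivedCategory.Q.map (ιW R m))
  obtain ⟨g, hg⟩ := (CochainComplex.IsKInjective.Qh_map_bijective
    ((HomotopyCategory.quotient _ _).obj X) (W R m)).surjective
    ((DerivedCategory.quotientCompQhIso 𝒜).hom.app X ≫ β.hom ≫
      (DerivedCategory.quotientCompQhIso 𝒜).inv.app (W R m))
  obtain ⟨g₀, rfl⟩ := (HomotopyCategory.quotient _ _).map_surjective g
  refine ⟨Y, R, g₀, ?_⟩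
  have hQ : DerivedCategory.Q.map g₀ = β.hom := by
    have h := DerivedCategory.quotientCompQhIso_hom_naturality g₀
    rw [hg] at h
    simp only [Category.assoc, Iso.inv_hom_id_app, Category.comp_id] at h
    exact ((cancel_epi _).1 h).symm
  rw [← DerivedCategory.isIso_Q_map_iff_quasiIso, hQ]
  infer_instance

/-- **Cohomology of `S` applied to a K-injective complex with cohomology concentrated in one
degree.** -/
theorem nonempty_homology_iso [HasInjectiveResolutions 𝒜] (S : 𝒜 ⥤ ℬ) [S.Additive]
    (X : CochainComplex 𝒜 ℤ) [X.IsKInjective] (m : ℤ)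
    (hX : ∀ n, n ≠ m → X.ExactAt n) (p : ℕ) (n : ℤ) (hn : m + p = n) :
    Nonempty (((S.mapHomologicalComplex (ComplexShape.up ℤ)).obj X).homology n ≅
      (S.rightDerived p).obj (X.homology m)) := by
  obtain ⟨Y, R, g, hg⟩ := exists_quasiIso_W X m hX
  have hS := quasiIso_map_of_isKInjective S g hg
  let em := ComplexShape.embeddingUpIntGE m
  have h0 : em.f 0 = m := by simp [em]
  have hp : em.f p = n := by simp [em, hn]
  -- `Y ≅ H^m(X)`
  have : QuasiIso R.ι := R.quasiIso
  let eY : X.homology m ≅ Y :=
    asIso (HomologicalComplex.homologyMap g m) ≪≫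
      HomologicalComplex.extendHomologyIso R.cocomplex em h0 ≪≫
      (asIso (HomologicalComplex.homologyMap R.ι 0)).symm ≪≫
      HomologicalComplex.singleObjHomologySelfIso (ComplexShape.up ℕ) 0 Y
  let e1 : ((S.mapHomologicalComplex (ComplexShape.up ℤ)).obj X).homology n ≅
      ((S.mapHomologicalComplex (ComplexShape.up ℤ)).obj (W R m)).homology n :=
    asIso (HomologicalComplex.homologyMap ((S.mapHomologicalComplex (ComplexShape.up ℤ)).map g) n)
  let e2 : ((S.mapHomologicalComplex (ComplexShape.up ℤ)).obj (W R m)).homology n ≅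
      (((S.mapHomologicalComplex (ComplexShape.up ℕ)).obj R.cocomplex).extend em).homology n :=
    (HomologicalComplex.homologyFunctor ℬ (ComplexShape.up ℤ) n).mapIso
      (RDBridge.mapExtendIso S em R.cocomplex)
  let e3 := HomologicalComplex.extendHomologyIso
    ((S.mapHomologicalComplex (ComplexShape.up ℕ)).obj R.cocomplex) em hp
  let e4 := (R.isoRightDerivedObj S p).symm
  exact ⟨e1 ≪≫ e2 ≪≫ e3 ≪≫ e4 ≪≫ (S.rightDerived p).mapIso eY.symm⟩

end Groth.Agent.Lib.Helper6.KInjSingle
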