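import Groth.Agent.Lib.Helper6.RDAcyc
import Mathlib.Algebra.Homology.HomologySequenceLemmas
import Mathlib.Algebra.Homology.Factorizations.CM5a

/-!
# Leray's acyclicity lemma for `F.rightDerivedFunctorPlus` (helper6)

`leray`: for a left exact `F` and a bounded below complex `K` whose terms are right `F`-acyclic
(`RDAcyc.Acyc`), the unit `F(K) ⟶ RF(K)` is an isomorphism.
-/

universe w w' v v' u u'

open CategoryTheory Limits HomologicalComplex

namespace Groth.Agent.Lib.Helper6.Leray

section L5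

variable {C : Type u} [Category.{v} C] [Abelian C]

/-- In a short exact sequence of cochain complexes with acyclic cokernel, the first map is a
quasi-isomorphism. -/
lemma quasiIso_f_of_acyclic_X₃ {S : ShortComplex (CochainComplex C ℤ)} (hS : S.ShortExact)
    (h₃ : S.X₃.Acyclic) : QuasiIso S.f := by
  rw [quasiIso_iff]
  intro i
  rw [quasiIsoAt_iff_isIso_homologyMap]
  have hmono : Mono (HomologicalComplex.homologyMap S.f i) := by
    have hij : (ComplexShape.up ℤ).Rel (i - 1) i := by simp
    have e := hS.homology_exact₁ (i - 1) i hij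
    exact e.mono_g (((h₃ (i - 1)).isZero_homology).eq_of_src _ _)
  have hepi : Epi (HomologicalComplex.homologyMap S.f i) := by
    have e := hS.homology_exact₂ i
    exact e.epi_f (((h₃ i).isZero_homology).eq_of_tgt _ _)
  exact isIso_of_mono_of_epi _

end L5

section Cycles

variable {A : Type u} [Category.{v} A] [Abelian A]

lemma epi_toCycles_iff {ι : Type*} {c : ComplexShape ι} (K : HomologicalComplex A c) (i j : ι)
    (hij : c.prev j = i) : Epi (K.toCycles i j) ↔ K.ExactAt j := by
  subst hij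
  exact (ShortComplex.exact_iff_epi_toCycles _).symm

/-- `0 ⟶ Z^m ⟶ C^m ⟶ Z^{m+1} ⟶ 0`. -/
noncomputable def cyclesSC (C : CochainComplex A ℤ) (m : ℤ) : ShortComplex A :=
  ShortComplex.mk (C.iCycles m) (C.toCycles m (m + 1)) (by
    rw [← cancel_mono (C.iCycles (m + 1)), Category.assoc, toCycles_i, iCycles_d, zero_comp])

lemma cyclesSC_shortExact (C : CochainComplex A ℤ) (hC : C.Acyclic) (m : ℤ) :
    (cyclesSC C m).ShortExact where
  mono_f := inferInstanceAs (Mono (C.iCycles m))
  epi_g := (epi_toCycles_iff C m (m + 1) (by simp)).2 (hC (m + 1))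
  exact := by
    let S₂ : ShortComplex A := ShortComplex.mk (C.iCycles m) (C.d m (m + 1)) (C.iCycles_d m (m + 1))
    let φ : cyclesSC C m ⟶ S₂ :=
      { τ₁ := 𝟙 _
        τ₂ := 𝟙 _
        τ₃ := C.iCycles (m + 1)
        comm₁₂ := by simp [cyclesSC, S₂]
        comm₂₃ := by simp [cyclesSC, S₂] }
    have : Epi φ.τ₁ := inferInstanceAs (Epi (𝟙 _))
    have : IsIso φ.τ₂ := inferInstanceAs (IsIso (𝟙 _))
    have : Mono φ.τ₃ := inferInstanceAs (Mono (C.iCycles (m + 1)))
    rw [ShortComplex.exact_iff_of_epi_of_isIso_of_mono φ]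
    exact ShortComplex.exact_of_f_is_kernel _ (C.cyclesIsKernel m (m + 1) (by simp))

end Cycles

section L4

open RDAcyc

variable {A : Type u} {B : Type u'} [Category.{v} A] [Category.{v'} B] [Abelian A] [Abelian B]
  [HasDerivedCategory.{w} A] [HasDerivedCategory.{w'} B] [EnoughInjectives A]
  (F : A ⥤ B) [F.Additive]

lemma acyc_of_injective (X : A) [Injective X] : Acyc F X := by
  have : ∀ n, Injective (((sP A).obj X).obj.X n) := fun n =>
    inferInstanceAs (Injective (((HomologicalComplex.single A (ComplexShape.up ℤ) 0).obj X).X n))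
  dsimp only [Acyc]
  infer_instance

lemma acyc_of_isZero (X : A) (hX : IsZero X) : Acyc F X := by
  have := hX.injective
  exact acyc_of_injective F X

variable [PreservesFiniteLimits F]

lemma acyc_cycles (C : CochainComplex A ℤ) (hC : C.Acyclic) (n₀ : ℤ) [C.IsStrictlyGE n₀]
    (hA : ∀ m, Acyc F (C.X m)) (m : ℤ) : Acyc F (C.cycles m) := by
  have hlow : ∀ m, m < n₀ → Acyc F (C.cycles m) := fun m hm =>
    acyc_of_isZero F _ (IsZero.of_mono (C.iCycles m)
      (CochainComplex.isZero_of_isStrictlyGE C n₀ m hm))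
  have hstep : ∀ k, Acyc F (C.cycles k) → Acyc F (C.cycles (k + 1)) := fun k hk =>
    acyc_X₃ F (cyclesSC_shortExact C hC k) hk (hA k)
  have hhigh : ∀ m, n₀ ≤ m → Acyc F (C.cycles m) := by
    intro m hm
    induction m, hm using Int.leInduction with
    | base =>
      have h := hstep (n₀ - 1) (hlow _ (by lia))
      have e : n₀ - 1 + 1 = n₀ := by lia
      rwa [e] at h
    | succ k hk ih => exact hstep k ih
  by_cases hm : m < n₀
  · exact hlow m hm
  · exact hhigh m (not_lt.1 hm)

lemma map_acyclic (C : CochainComplex A ℤ) (hC : C.Acyclic) (n₀ : ℤ) [C.IsStrictlyGE n₀]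
    (hA : ∀ m, Acyc F (C.X m)) :
    ((F.mapHomologicalComplex (ComplexShape.up ℤ)).obj C).Acyclic := by
  intro j
  obtain ⟨m, rfl⟩ : ∃ m, j = m + 1 := ⟨j - 1, by lia⟩
  rw [exactAt_iff' _ m (m + 1) (m + 1 + 1) (by simp) (by simp)]
  have hepi : Epi (F.map (C.toCycles m (m + 1))) :=
    epi_map_g_of_acyc_X₁ F (cyclesSC_shortExact C hC m) (acyc_cycles F C hC n₀ hA m)
  let S₀ : ShortComplex A := ShortComplex.mk (C.iCycles (m + 1)) (C.d (m + 1) (m + 1 + 1))
    (C.iCycles_d _ _)
  have hS₀ : S₀.Exact := ShortComplex.exact_of_f_is_kernel _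
    (C.cyclesIsKernel (m + 1) (m + 1 + 1) (by simp))
  have hS₀' : (S₀.map F).Exact := by
    have h31 : PreservesFiniteLimits F → ∀ (S : ShortComplex A), S.Exact ∧ Mono S.f →
        (S.map F).Exact ∧ Mono (F.map S.f) :=
      ((Functor.preservesFiniteLimits_tfae F).out 3 1).1
    exact (h31 inferInstance S₀ ⟨hS₀, inferInstanceAs (Mono (C.iCycles (m + 1)))⟩).1
  let φ : ((F.mapHomologicalComplex (ComplexShape.up ℤ)).obj C).sc' m (m + 1) (m + 1 + 1) ⟶
      S₀.map F :=
    { τ₁ := F.map (C.toCycles m (m + 1))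
      τ₂ := 𝟙 _
      τ₃ := 𝟙 _
      comm₁₂ := by
        change F.map (C.toCycles m (m + 1)) ≫ F.map (C.iCycles (m + 1)) =
          F.map (C.d m (m + 1)) ≫ 𝟙 _
        rw [← F.map_comp, toCycles_i, Category.comp_id]
      comm₂₃ := by
        change 𝟙 _ ≫ F.map (C.d (m + 1) (m + 1 + 1)) = F.map (C.d (m + 1) (m + 1 + 1)) ≫ 𝟙 _
        rw [Category.id_comp, Category.comp_id] }
  have : Epi φ.τ₁ := hepi
  have : IsIso φ.τ₂ := inferInstanceAs (IsIso (𝟙 _))
  have : Mono φ.τ₃ := inferInstanceAs (Mono (𝟙 _))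
  exact (ShortComplex.exact_iff_of_epi_of_isIso_of_mono φ).2 hS₀'

/-- **Leray's acyclicity lemma** (for `F.rightDerivedFunctorPlus`): if all terms of the bounded
below complex `K` are right `F`-acyclic, the unit `F(K) ⟶ RF(K)` is an isomorphism. -/
theorem leray (K : CochainComplex.Plus A) (hK : ∀ m, Acyc F (K.obj.X m)) :
    IsIso (F.rightDerivedFunctorPlusUnit.app ((HomotopyCategory.Plus.quotient A).obj K)) := by
  obtain ⟨n, hn⟩ := K.property
  have : K.obj.IsStrictlyGE n := hn
  obtain ⟨L, i, hi, hi', hL, hL'⟩ :=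
    CochainComplex.Plus.modelCategoryQuillen.exists_mono_quasiIso_injective K.obj (n - 1) n (by lia)
  let J : CochainComplex.Plus A := ⟨L, n - 1, hL'⟩
  let iP : K ⟶ J := ObjectProperty.homMk i
  have : ∀ m, Injective (J.obj.X m) := hL
  rw [RDBridge.unit_isIso_iff F iP hi']
  change QuasiIso ((F.mapHomologicalComplex (ComplexShape.up ℤ)).map i)
  let S : ShortComplex (CochainComplex A ℤ) :=
    ShortComplex.mk i (cokernel.π i) (cokernel.condition i)
  have hS : S.ShortExact :=
    { exact := ShortComplex.exact_cokernel i, mono_f := hi, epi_g := inferInstanceAs (Epi (cokernel.π i)) }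
  have hC : S.X₃.Acyclic := hS.acyclic_X₃ hi'
  have hSm : ∀ m, (S.map (HomologicalComplex.eval A (ComplexShape.up ℤ) m)).ShortExact :=
    fun m => hS.map_of_exact _
  have hCge : S.X₃.IsStrictlyGE (n - 1) := by
    rw [CochainComplex.isStrictlyGE_iff]
    intro m hm
    have hepi : Epi ((S.map (HomologicalComplex.eval A (ComplexShape.up ℤ) m)).g) := (hSm m).epi_g
    exact @IsZero.of_epi _ _ _ _ _ ((S.map (HomologicalComplex.eval A (ComplexShape.up ℤ) m)).g)
      hepi (CochainComplex.isZero_of_isStrictlyGE L (n - 1) m hm)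
  have hCm : ∀ m, Acyc F (S.X₃.X m) := fun m =>
    acyc_X₃ F (hSm m) (hK m) (acyc_of_injective F (L.X m))
  have hFC := map_acyclic F S.X₃ hC (n - 1) hCm
  have hFS : (S.map (F.mapHomologicalComplex (ComplexShape.up ℤ))).ShortExact := by
    apply HomologicalComplex.shortExact_of_degreewise_shortExact
    intro m
    exact map_shortExact F (hSm m) (epi_map_g_of_acyc_X₁ F (hSm m) (hK m))
  exact quasiIso_f_of_acyclic_X₃ hFS hFC

end L4

section Comp

open RDAcyc

variable {A B C : Type u} [Category.{v} A] [Category.{v} B] [Category.{v} C]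
  [Abelian A] [Abelian B] [Abelian C]
  [HasDerivedCategory.{w} A] [HasDerivedCategory.{w} B] [HasDerivedCategory.{w} C]
  [EnoughInjectives A] [EnoughInjectives B]
  (F : A ⥤ B) [F.Additive] (G : B ⥤ C) [G.Additive] [PreservesFiniteLimits G]
  (H : A ⥤ C) [H.Additive] (e : F ⋙ G ≅ H)

/-- The comparison `H ⟶ R⁺F ⋙ R⁺G` on `K⁺`, for `e : F ⋙ G ≅ H`. -/
noncomputable def compUnit :
    H.mapHomotopyCategoryPlus ⋙ DerivedCategory.Plus.Qh ⟶
      DerivedCategory.Plus.Qh ⋙ F.rightDerivedFunctorPlus ⋙ G.rightDerivedFunctorPlus :=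
  Functor.whiskerRight (Functor.mapHomotopyCategoryPlusCompIso e).inv DerivedCategory.Plus.Qh
    ≫ (Functor.associator _ _ _).hom
    ≫ Functor.whiskerLeft F.mapHomotopyCategoryPlus G.rightDerivedFunctorPlusUnit
    ≫ (Functor.associator _ _ _).inv
    ≫ Functor.whiskerRight F.rightDerivedFunctorPlusUnit G.rightDerivedFunctorPlus
    ≫ (Functor.associator _ _ _).hom

include e in
/-- Grothendieck composition of derived functors: if `F` sends injectives to right `G`-acyclic
objects, then `R⁺F ⋙ R⁺G` is a right derived functor of `H ≅ F ⋙ G`. -/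
theorem comp_isRightDerivedFunctor (hFG : ∀ I : A, Injective I → Acyc G (F.obj I)) :
    (F.rightDerivedFunctorPlus ⋙ G.rightDerivedFunctorPlus).IsRightDerivedFunctor
      (compUnit F G H e) (HomotopyCategory.Plus.quasiIso A) := by
  apply (HomotopyCategory.Plus.localizerMorphism_derives _).isRightDerivedFunctor_of_isIso
  intro I
  obtain ⟨L, rfl⟩ := HomotopyCategory.Plus.quotient_obj_surjective I
  let Y : HomotopyCategory.Plus A := (HomotopyCategory.Plus.localizerMorphism A).functor.obj
    ((HomotopyCategory.Plus.quotient (InjectiveObject A)).obj L)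
  let K : CochainComplex.Plus B :=
    F.mapCochainComplexPlus.obj ((InjectiveObject.ι A).mapCochainComplexPlus.obj L)
  have h3 : IsIso (G.rightDerivedFunctorPlusUnit.app (F.mapHomotopyCategoryPlus.obj Y)) := by
    change IsIso (G.rightDerivedFunctorPlusUnit.app ((HomotopyCategory.Plus.quotient B).obj K))
    apply leray G K
    intro m
    exact hFG ((L.obj.X m).obj) (L.obj.X m).property
  have h5 : IsIso (F.rightDerivedFunctorPlusUnit.app Y) := by
    change IsIso (F.rightDerivedFunctorPlusUnit.app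
      ((InjectiveObject.ι A).mapHomotopyCategoryPlus.obj
        ((HomotopyCategory.Plus.quotient (InjectiveObject A)).obj L)))
    infer_instance
  have h5' : IsIso (G.rightDerivedFunctorPlus.map (F.rightDerivedFunctorPlusUnit.app Y)) :=
    inferInstance
  change IsIso (DerivedCategory.Plus.Qh.map
      ((Functor.mapHomotopyCategoryPlusCompIso e).inv.app Y) ≫
    𝟙 _ ≫ G.rightDerivedFunctorPlusUnit.app (F.mapHomotopyCategoryPlus.obj Y) ≫ 𝟙 _ ≫
      G.rightDerivedFunctorPlus.map (F.rightDerivedFunctorPlusUnit.app Y) ≫ 𝟙 _)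
  infer_instance

include e in
/-- `R⁺F ⋙ R⁺G ≅ R⁺H`. -/
theorem nonempty_comp_iso (hFG : ∀ I : A, Injective I → Acyc G (F.obj I)) :
    Nonempty (F.rightDerivedFunctorPlus ⋙ G.rightDerivedFunctorPlus ≅ H.rightDerivedFunctorPlus) := by
  have := comp_isRightDerivedFunctor F G H e hFG
  exact ⟨Functor.rightDerivedUnique _ _ (compUnit F G H e) H.rightDerivedFunctorPlusUnit
    (HomotopyCategory.Plus.quasiIso A)⟩

end Comp

end Groth.Agent.Lib.Helper6.Leray
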