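import Groth.Agent.Lib.Helper6.RDAdapted

/-!
# Natural comparison `Φ F k ≅ F.rightDerived k` (helper6)

`Φ F n X = H^n(RF(X[0]))` (derived category version) is compared, naturally in `X`, with
Mathlib's `F.rightDerived k` (defined with injective resolutions).  As a consequence we get the long
exact sequence for `F.rightDerived`.
-/

universe w w' v v' u u'

open CategoryTheory Limits HomologicalComplex

namespace Groth.Agent.Lib.Helper6.RDNat

open RDAcyc

variable {A : Type u} {B : Type u'} [Category.{v} A] [Category.{v'} B] [Abelian A] [Abelian B]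
  [HasDerivedCategory.{w} A] [HasDerivedCategory.{w'} B] [EnoughInjectives A]
  (F : A ⥤ B) [F.Additive]

section

variable {X Y : A} {R : InjectiveResolution X} {R' : InjectiveResolution Y} {f : X ⟶ Y}
  (φ : InjectiveResolution.Hom R R' f)

/-- the map of bounded below complexes induced by a morphism of resolutions -/
noncomputable def resMap : resJ R ⟶ resJ R' := ObjectProperty.homMk φ.hom'

omit [HasDerivedCategory.{w} A] [EnoughInjectives A] in
lemma resι_comp_resMap : resι R ≫ resMap φ = (sP A).map f ≫ resι R' := by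
  apply ObjectProperty.hom_ext
  exact φ.ι'_comp_hom'

end

section

variable {X : A} (R : InjectiveResolution X)

lemma isIso_Q_resι : IsIso (DerivedCategory.Plus.Q.map (resι R)) :=
  (RDBridge.isIso_plusQ_map_iff (resι R)).2 (inferInstanceAs (QuasiIso R.ι'))

instance isIso_unit_resJ :
    IsIso (F.rightDerivedFunctorPlusUnit.app
      ((HomotopyCategory.Plus.quotient A).obj (resJ R))) := inferInstance

instance isIso_H_unit_resJ (n : ℤ) :
    IsIso ((DerivedCategory.Plus.homologyFunctor B n).map
      (F.rightDerivedFunctorPlusUnit.app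
        ((HomotopyCategory.Plus.quotient A).obj (resJ R)))) := by
  have := isIso_unit_resJ F R
  exact Functor.map_isIso _ _

/-- `H^n(unit)` at the resolution, as an isomorphism -/
noncomputable def uIso (n : ℤ) :
    (DerivedCategory.Plus.homologyFunctor B n).obj
      (DerivedCategory.Plus.Q.obj (F.mapCochainComplexPlus.obj (resJ R))) ≅
    (DerivedCategory.Plus.homologyFunctor B n).obj
      (F.rightDerivedFunctorPlus.obj (DerivedCategory.Plus.Q.obj (resJ R))) :=
  @asIso _ _ _ _ ((DerivedCategory.Plus.homologyFunctor B n).map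
      (F.rightDerivedFunctorPlusUnit.app ((HomotopyCategory.Plus.quotient A).obj (resJ R))))
      (isIso_H_unit_resJ F R n)

/-- `H^n(RF(Q(X[0] ⟶ R)))`, as an isomorphism -/
noncomputable def rIso (n : ℤ) :
    Φ F n X ≅ (DerivedCategory.Plus.homologyFunctor B n).obj
      (F.rightDerivedFunctorPlus.obj (DerivedCategory.Plus.Q.obj (resJ R))) :=
  (DerivedCategory.Plus.homologyFunctor B n).mapIso (F.rightDerivedFunctorPlus.mapIso
    (@asIso _ _ _ _ (DerivedCategory.Plus.Q.map (resι R)) (isIso_Q_resι R)))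

/-- `Φ F n X ≅ H^n(F(R))` -/
noncomputable def aIso (n : ℤ) :
    Φ F n X ≅ (HomologicalComplex.homologyFunctor B (ComplexShape.up ℤ) n).obj
      ((F.mapHomologicalComplex (ComplexShape.up ℤ)).obj R.cochainComplex) :=
  rIso F R n ≪≫ (uIso F R n).symm ≪≫ plusHomologyIso (F.mapCochainComplexPlus.obj (resJ R)) n

end

section Nat

variable {X Y : A} {R : InjectiveResolution X} {R' : InjectiveResolution Y} {f : X ⟶ Y}
  (φ : InjectiveResolution.Hom R R' f)

lemma rIso_naturality (n : ℤ) :
    Φmap F n f ≫ (rIso F R' n).hom = (rIso F R n).hom ≫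
      (DerivedCategory.Plus.homologyFunctor B n).map
        (F.rightDerivedFunctorPlus.map (DerivedCategory.Plus.Q.map (resMap φ))) := by
  change (DerivedCategory.Plus.homologyFunctor B n).map
        (F.rightDerivedFunctorPlus.map (DerivedCategory.Plus.Q.map ((sP A).map f))) ≫
      (DerivedCategory.Plus.homologyFunctor B n).map
        (F.rightDerivedFunctorPlus.map (DerivedCategory.Plus.Q.map (resι R'))) =
    (DerivedCategory.Plus.homologyFunctor B n).map
        (F.rightDerivedFunctorPlus.map (DerivedCategory.Plus.Q.map (resι R))) ≫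
      (DerivedCategory.Plus.homologyFunctor B n).map
        (F.rightDerivedFunctorPlus.map (DerivedCategory.Plus.Q.map (resMap φ)))
  rw [← Functor.map_comp, ← Functor.map_comp, ← Functor.map_comp, ← Functor.map_comp,
    ← Functor.map_comp, ← Functor.map_comp, resι_comp_resMap]

lemma uIso_naturality (n : ℤ) :
    (DerivedCategory.Plus.homologyFunctor B n).map
        (DerivedCategory.Plus.Q.map (F.mapCochainComplexPlus.map (resMap φ))) ≫
        (uIso F R' n).hom =
      (uIso F R n).hom ≫ (DerivedCategory.Plus.homologyFunctor B n).map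
        (F.rightDerivedFunctorPlus.map (DerivedCategory.Plus.Q.map (resMap φ))) := by
  have := F.rightDerivedFunctorPlusUnit.naturality
    ((HomotopyCategory.Plus.quotient A).map (resMap φ))
  change (DerivedCategory.Plus.homologyFunctor B n).map
      ((F.mapHomotopyCategoryPlus ⋙ DerivedCategory.Plus.Qh).map
        ((HomotopyCategory.Plus.quotient A).map (resMap φ))) ≫
    (DerivedCategory.Plus.homologyFunctor B n).map (F.rightDerivedFunctorPlusUnit.app _) =
    (DerivedCategory.Plus.homologyFunctor B n).map (F.rightDerivedFunctorPlusUnit.app _) ≫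
      (DerivedCategory.Plus.homologyFunctor B n).map
        ((DerivedCategory.Plus.Qh ⋙ F.rightDerivedFunctorPlus).map
          ((HomotopyCategory.Plus.quotient A).map (resMap φ)))
  rw [← Functor.map_comp, ← Functor.map_comp, this]

lemma aIso_naturality (n : ℤ) :
    Φmap F n f ≫ (aIso F R' n).hom = (aIso F R n).hom ≫
      (HomologicalComplex.homologyFunctor B (ComplexShape.up ℤ) n).map
        ((F.mapHomologicalComplex (ComplexShape.up ℤ)).map φ.hom') := by
  have h1 := rIso_naturality F φ n
  have h2 := uIso_naturality F φ n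
  have h3 := plusHomologyIso_hom_naturality (F.mapCochainComplexPlus.map (resMap φ)) n
  have h2' : (DerivedCategory.Plus.homologyFunctor B n).map
        (F.rightDerivedFunctorPlus.map (DerivedCategory.Plus.Q.map (resMap φ))) ≫
        (uIso F R' n).inv =
      (uIso F R n).inv ≫ (DerivedCategory.Plus.homologyFunctor B n).map
        (DerivedCategory.Plus.Q.map (F.mapCochainComplexPlus.map (resMap φ))) := by
    rw [← cancel_mono (uIso F R' n).hom, Category.assoc, Iso.inv_hom_id, Category.comp_id,
      Category.assoc, h2, Iso.inv_hom_id_assoc]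
  dsimp only [aIso, Iso.trans_hom, Iso.symm_hom]
  rw [reassoc_of% h1, reassoc_of% h2', Category.assoc, Category.assoc]
  congr 2

end Nat

section CIso

omit [HasDerivedCategory.{w} A] [HasDerivedCategory.{w'} B] [EnoughInjectives A]

/-- `H^k(F(K extended to ℤ)) ≅ H^k(F(K))` -/
noncomputable def cIso (K : CochainComplex A ℕ) (k : ℕ) :
    (HomologicalComplex.homologyFunctor B (ComplexShape.up ℤ) (k : ℤ)).obj
      ((F.mapHomologicalComplex (ComplexShape.up ℤ)).obj
        (K.extend ComplexShape.embeddingUpNat)) ≅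
    (HomologicalComplex.homologyFunctor B (ComplexShape.up ℕ) k).obj
      ((F.mapHomologicalComplex (ComplexShape.up ℕ)).obj K) :=
  (HomologicalComplex.homologyFunctor B (ComplexShape.up ℤ) (k : ℤ)).mapIso
      (RDBridge.mapExtendIso F ComplexShape.embeddingUpNat K) ≪≫
    HomologicalComplex.extendHomologyIso
      ((F.mapHomologicalComplex (ComplexShape.up ℕ)).obj K)
      ComplexShape.embeddingUpNat (show ComplexShape.embeddingUpNat.f k = (k : ℤ) from rfl)

lemma cIso_naturality {K L : CochainComplex A ℕ} (ψ : K ⟶ L) (k : ℕ) :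
    (HomologicalComplex.homologyFunctor B (ComplexShape.up ℤ) (k : ℤ)).map
        ((F.mapHomologicalComplex (ComplexShape.up ℤ)).map
          (extendMap ψ ComplexShape.embeddingUpNat)) ≫ (cIso F L k).hom =
      (cIso F K k).hom ≫ (HomologicalComplex.homologyFunctor B (ComplexShape.up ℕ) k).map
        ((F.mapHomologicalComplex (ComplexShape.up ℕ)).map ψ) := by
  have h1 := RDBridge.mapExtendIso_hom_naturality F ComplexShape.embeddingUpNat ψ
  have h2 := HomologicalComplex.extendHomologyIso_hom_naturality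
    ((F.mapHomologicalComplex (ComplexShape.up ℕ)).map ψ) ComplexShape.embeddingUpNat
    (show ComplexShape.embeddingUpNat.f k = (k : ℤ) from rfl)
  dsimp only [cIso, Iso.trans_hom, Functor.mapIso_hom]
  rw [← Category.assoc, ← Functor.map_comp, h1, Functor.map_comp, Category.assoc, Category.assoc]
  congr 1

end CIso

section BIso

variable {X Y : A} (R : InjectiveResolution X) (k : ℕ)

/-- `H^k(F(R)) ≅ (F.rightDerived k).obj X` -/
noncomputable def bIso :
    (HomologicalComplex.homologyFunctor B (ComplexShape.up ℤ) (k : ℤ)).obj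
      ((F.mapHomologicalComplex (ComplexShape.up ℤ)).obj R.cochainComplex) ≅
    (F.rightDerived k).obj X :=
  cIso F R.cocomplex k ≪≫ (R.isoRightDerivedObj F k).symm

variable {R} {R' : InjectiveResolution Y} {f : X ⟶ Y} (φ : InjectiveResolution.Hom R R' f)

omit [HasDerivedCategory.{w} A] [HasDerivedCategory.{w'} B] in
lemma bIso_naturality :
    (HomologicalComplex.homologyFunctor B (ComplexShape.up ℤ) (k : ℤ)).map
        ((F.mapHomologicalComplex (ComplexShape.up ℤ)).map φ.hom') ≫ (bIso F R' k).hom =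
      (bIso F R k).hom ≫ (F.rightDerived k).map f := by
  have h1 := cIso_naturality F φ.hom k
  have h3 := InjectiveResolution.isoRightDerivedObj_inv_naturality f R R' φ.hom
    (by simpa using φ.ι_f_zero_comp_hom_f_zero) F k
  change (HomologicalComplex.homologyFunctor B (ComplexShape.up ℤ) (k : ℤ)).map
        ((F.mapHomologicalComplex (ComplexShape.up ℤ)).map
          (extendMap φ.hom ComplexShape.embeddingUpNat)) ≫
      ((cIso F R'.cocomplex k).hom ≫ (R'.isoRightDerivedObj F k).inv) =
    ((cIso F R.cocomplex k).hom ≫ (R.isoRightDerivedObj F k).inv) ≫ (F.rightDerived k).map f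
  rw [reassoc_of% h1, Category.assoc, h3]
  rfl

end BIso

section Main

/-- `Φ F n` as a functor -/
noncomputable def ΦFunctor (n : ℤ) : A ⥤ B :=
  sP A ⋙ DerivedCategory.Plus.Q ⋙ F.rightDerivedFunctorPlus ⋙
    DerivedCategory.Plus.homologyFunctor B n

lemma ΦFunctor_obj (n : ℤ) (X : A) : (ΦFunctor F n).obj X = Φ F n X := rfl

lemma ΦFunctor_map (n : ℤ) {X Y : A} (f : X ⟶ Y) : (ΦFunctor F n).map f = Φmap F n f := rfl

omit [HasDerivedCategory.{w} A] [EnoughInjectives A] in
/-- a morphism of resolutions lifting `f` -/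
noncomputable def homOf {X Y : A} (f : X ⟶ Y) (R : InjectiveResolution X)
    (R' : InjectiveResolution Y) : InjectiveResolution.Hom R R' f :=
  ⟨InjectiveResolution.desc f R' R, by
    rw [CochainComplex.single₀_map_f_zero]
    exact InjectiveResolution.desc_commutes_zero f R' R⟩

/-- `Φ F k X ≅ (F.rightDerived k).obj X`, computed with the resolution `R` -/
noncomputable def compIso {X : A} (R : InjectiveResolution X) (k : ℕ) :
    Φ F (k : ℤ) X ≅ (F.rightDerived k).obj X :=
  aIso F R k ≪≫ bIso F R k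

lemma compIso_naturality {X Y : A} {R : InjectiveResolution X} {R' : InjectiveResolution Y}
    {f : X ⟶ Y} (φ : InjectiveResolution.Hom R R' f) (k : ℕ) :
    Φmap F (k : ℤ) f ≫ (compIso F R' k).hom = (compIso F R k).hom ≫ (F.rightDerived k).map f := by
  dsimp only [compIso, Iso.trans_hom]
  rw [reassoc_of% (aIso_naturality F φ (k : ℤ)), bIso_naturality F k φ, Category.assoc]

/-- The natural isomorphism `Φ F k ≅ F.rightDerived k`. -/
noncomputable def natIso (k : ℕ) : ΦFunctor F (k : ℤ) ≅ F.rightDerived k :=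
  NatIso.ofComponents (fun X => compIso F (injectiveResolution X) k)
    (fun {X Y} f => compIso_naturality F (homOf f _ _) k)

omit [HasDerivedCategory.{w} A] [HasDerivedCategory.{w'} B] [EnoughInjectives A] [Abelian A] in
/-- Transport of a piece of long exact sequence along natural isomorphisms. -/
lemma les_transport [HasZeroMorphisms A] {G G' G₁ G₁' : A ⥤ B} (e : G ≅ G') (e' : G₁ ≅ G₁')
    (S : ShortComplex A)
    (h : ∃ (δ : G.obj S.X₃ ⟶ G₁.obj S.X₁) (w₀ : G.map S.f ≫ G.map S.g = 0)
      (w₁ : G.map S.g ≫ δ = 0) (w₂ : δ ≫ G₁.map S.f = 0),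
      (ShortComplex.mk _ _ w₀).Exact ∧ (ShortComplex.mk _ _ w₁).Exact ∧
        (ShortComplex.mk _ _ w₂).Exact) :
    ∃ (δ : G'.obj S.X₃ ⟶ G₁'.obj S.X₁) (w₀ : G'.map S.f ≫ G'.map S.g = 0)
      (w₁ : G'.map S.g ≫ δ = 0) (w₂ : δ ≫ G₁'.map S.f = 0),
      (ShortComplex.mk _ _ w₀).Exact ∧ (ShortComplex.mk _ _ w₁).Exact ∧
        (ShortComplex.mk _ _ w₂).Exact := by
  obtain ⟨δ, w₀, w₁, w₂, e₀, e₁, e₂⟩ := h
  have nf : G.map S.f ≫ e.hom.app S.X₂ = e.hom.app S.X₁ ≫ G'.map S.f := e.hom.naturality S.f
  have ng : G.map S.g ≫ e.hom.app S.X₃ = e.hom.app S.X₂ ≫ G'.map S.g := e.hom.naturality S.g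
  have nf' : G₁.map S.f ≫ e'.hom.app S.X₂ = e'.hom.app S.X₁ ≫ G₁'.map S.f :=
    e'.hom.naturality S.f
  have hδ : δ ≫ e'.hom.app S.X₁ = e.hom.app S.X₃ ≫ (e.inv.app S.X₃ ≫ δ ≫ e'.hom.app S.X₁) := by
    simp
  have w₀' : G'.map S.f ≫ G'.map S.g = 0 := by
    rw [← cancel_epi (e.hom.app S.X₁), comp_zero, ← reassoc_of% nf, ← ng, reassoc_of% w₀,
      zero_comp]
  have w₁' : G'.map S.g ≫ (e.inv.app S.X₃ ≫ δ ≫ e'.hom.app S.X₁) = 0 := by
    rw [← cancel_epi (e.hom.app S.X₂), comp_zero, ← reassoc_of% ng, ← hδ, reassoc_of% w₁,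
      zero_comp]
  have w₂' : (e.inv.app S.X₃ ≫ δ ≫ e'.hom.app S.X₁) ≫ G₁'.map S.f = 0 := by
    rw [← cancel_epi (e.hom.app S.X₃), comp_zero]
    simp only [Category.assoc, Iso.hom_inv_id_app_assoc]
    rw [← nf', reassoc_of% w₂, zero_comp]
  refine ⟨e.inv.app S.X₃ ≫ δ ≫ e'.hom.app S.X₁, w₀', w₁', w₂', ?_, ?_, ?_⟩
  · exact (ShortComplex.exact_iff_of_iso
      (ShortComplex.isoMk (e.app S.X₁) (e.app S.X₂) (e.app S.X₃) nf.symm ng.symm)).1 e₀
  · exact (ShortComplex.exact_iff_of_iso
      (ShortComplex.isoMk (e.app S.X₂) (e.app S.X₃) (e'.app S.X₁) ng.symm hδ.symm)).1 e₁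
  · exact (ShortComplex.exact_iff_of_iso
      (ShortComplex.isoMk (e.app S.X₃) (e'.app S.X₁) (e'.app S.X₂) hδ.symm nf'.symm)).1 e₂

/-- The long exact sequence of the right derived functors `F.rightDerived k`. -/
theorem rightDerived_les {S : ShortComplex A} (hS : S.ShortExact) (k : ℕ) :
    ∃ (δ : (F.rightDerived k).obj S.X₃ ⟶ (F.rightDerived (k + 1)).obj S.X₁)
      (w₀ : (F.rightDerived k).map S.f ≫ (F.rightDerived k).map S.g = 0)
      (w₁ : (F.rightDerived k).map S.g ≫ δ = 0)
      (w₂ : δ ≫ (F.rightDerived (k + 1)).map S.f = 0),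
      (ShortComplex.mk _ _ w₀).Exact ∧ (ShortComplex.mk _ _ w₁).Exact ∧
        (ShortComplex.mk _ _ w₂).Exact :=
  les_transport (natIso F k) (natIso F (k + 1)) S
    (Φ_les F hS (k : ℤ) ((k + 1 : ℕ) : ℤ) (by push_cast; rfl))

end Main

end Groth.Agent.Lib.Helper6.RDNat
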