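import Groth.Agent.Lib.Helper6.TowerSO
import Groth.Agent.Lib.Helper6.HyperTower
import Groth.Agent.Lib.Helper6.KInjSingle
import Groth.Agent.Lib.Helper6.Leray
import Groth.Agent.Lib.Helper6.RDNat

/-!
# The Grothendieck spectral sequence (helper6)
-/

universe v u

open CategoryTheory Limits HomologicalComplex

namespace Groth.Agent.Lib.Helper6.GrothSS

section EI

variable {𝒜 : Type u} [Category.{v} 𝒜] [Abelian 𝒜]

lemma enoughInjectives_of_hasInjectiveResolutions [HasInjectiveResolutions 𝒜] :
    EnoughInjectives 𝒜 :=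
  ⟨fun X => ⟨{
    J := (injectiveResolution X).cocomplex.X 0
    injective := inferInstance
    f := (HomologicalComplex.singleObjXSelf (ComplexShape.up ℕ) 0 X).inv ≫
      (injectiveResolution X).ι.f 0
    mono := inferInstance }⟩⟩

end EI

section Main

variable {C C' C'' : Type u} [Category.{v} C] [Category.{v} C'] [Category.{v} C'']
  [Abelian C] [Abelian C'] [Abelian C''] [EnoughInjectives C] [EnoughInjectives C']
  (T : C ⥤ C') [T.Additive] (S : C' ⥤ C'') [S.Additive]
  (A : C)

/-- the complex `T(I^•)` -/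
noncomputable def K : CochainComplex C' ℤ :=
  (T.mapHomologicalComplex (ComplexShape.up ℤ)).obj (injectiveResolution A).cochainComplex

instance : (K T A).IsStrictlyGE 0 := by
  dsimp [K]
  infer_instance

/-- the tower -/
noncomputable def L (q : ℕ) : CochainComplex C'' ℤ :=
  (S.mapHomologicalComplex (ComplexShape.up ℤ)).obj (HyperTower.J (K T A) q)

/-- the transition maps -/
noncomputable def ψ (q : ℕ) : L T S A q ⟶ L T S A (q + 1) :=
  (S.mapHomologicalComplex (ComplexShape.up ℤ)).map (HyperTower.φ (K T A) q)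

instance (q : ℕ) : (L T S A q).IsStrictlyGE q := by
  dsimp [L]
  infer_instance

variable [PreservesFiniteLimits S]
  (hT : ∀ Q : C, Injective Q → ∀ q : ℕ, 0 < q → IsZero ((S.rightDerived q).obj (T.obj Q)))

include hT in
lemma quasiIso_map_aug :
    QuasiIso ((S.mapHomologicalComplex (ComplexShape.up ℤ)).map (HyperTower.aug (K T A))) := by
  let _ : HasDerivedCategory.{max u v} C' := HasDerivedCategory.standard C'
  let _ : HasDerivedCategory.{max u v} C'' := HasDerivedCategory.standard C''
  let KP : CochainComplex.Plus C' := ⟨K T A, 0, inferInstance⟩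
  let JP : CochainComplex.Plus C' := ⟨HyperTower.J (K T A) 0, 0, by
    exact_mod_cast HyperTower.isStrictlyGE_J (K T A) 0⟩
  let iP : KP ⟶ JP := ObjectProperty.homMk (HyperTower.aug (K T A))
  have : ∀ n, Injective (JP.obj.X n) := fun n => HyperTower.injective_J_X (K T A) 0 n
  have hK : ∀ m, RDAcyc.Acyc S (KP.obj.X m) := by
    intro m
    rw [RDAcyc.acyc_iff_isZero_rightDerived]
    intro k
    exact hT _ (inferInstance : Injective ((injectiveResolution A).cochainComplex.X m)) (k + 1)
      (by lia)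
  have h := Leray.leray S KP hK
  exact (RDBridge.unit_isIso_iff S iP (HyperTower.quasiIso_aug _)).1 h

include hT in
lemma nonempty_abut_iso (k : ℕ) :
    Nonempty ((L T S A 0).homology k ≅ ((T ⋙ S).rightDerived k).obj A) := by
  have := quasiIso_map_aug T S A hT
  let e1 := asIso (homologyMap
    ((S.mapHomologicalComplex (ComplexShape.up ℤ)).map (HyperTower.aug (K T A))) k)
  let e2 : ((S.mapHomologicalComplex (ComplexShape.up ℤ)).obj (K T A)).homology k ≅
      ((T ⋙ S).rightDerived k).obj A := RDNat.bIso (T ⋙ S) (injectiveResolution A) k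
  exact ⟨e1.symm ≪≫ e2⟩

omit [PreservesFiniteLimits S] in
lemma isZero_L_homology (n : ℤ) (hn : n < 0) : IsZero ((L T S A 0).homology n) :=
  (exactAt_iff_isZero_homology _ _).1
    (ExactAt.of_isZero (CochainComplex.isZero_of_isStrictlyGE (L T S A 0) ((0 : ℕ) : ℤ) n
      (by simpa using hn)))

omit [PreservesFiniteLimits S] in
lemma nonempty_E2_iso (k : ℕ) (p : ℕ) (n : ℤ) (hn : (p : ℤ) + k + -1 = n) :
    Nonempty ((CochainComplex.mappingCone (ψ T S A k)).homology n ≅
      (S.rightDerived p).obj ((T.rightDerived k).obj A)) := by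
  let e0 := (HomologicalComplex.homologyFunctor C'' (ComplexShape.up ℤ) n).mapIso
    (CochainComplex.mappingCone.mapHomologicalComplexIso (HyperTower.φ (K T A) k) S)
  obtain ⟨e1⟩ := KInjSingle.nonempty_homology_iso S (HyperTower.cone (K T A) k) ((k : ℤ) - 1)
    (HyperTower.exactAt_cone (K T A) k) p n (by lia)
  obtain ⟨e2⟩ := HyperTower.nonempty_homology_cone_iso (K T A) k
  let e3 : (K T A).homology k ≅ (T.rightDerived k).obj A :=
    RDNat.bIso T (injectiveResolution A) k
  exact ⟨e0.symm ≪≫ e1 ≪≫ (S.rightDerived p).mapIso (e2 ≪≫ e3)⟩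

end Main

section Final

open scoped ZeroObject

/-- **The Grothendieck spectral sequence.** -/
theorem exists_spectralSequence {C C' C'' : Type u} [Category.{v} C] [Category.{v} C']
    [Category.{v} C''] [Abelian C] [Abelian C'] [Abelian C''] [HasInjectiveResolutions C]
    [HasInjectiveResolutions C'] (T : C ⥤ C') [T.Additive] (S : C' ⥤ C'') [S.Additive]
    [PreservesFiniteLimits S]
    (hT : ∀ Q : C, Injective Q → ∀ q : ℕ, 0 < q → IsZero ((S.rightDerived q).obj (T.obj Q)))
    (A : C) :
    ∃ (E : E₂CohomologicalSpectralSequence C'')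
      (a : SpSeq.Abutment E
        (fun n : ℤ => if 0 ≤ n then ((T ⋙ S).rightDerived n.toNat).obj A else 0)),
      (∀ n, a.IsFinite n) ∧ SpSeq.IsBounded E ∧
      ∀ p q : ℤ, Nonempty ((E.page 2 le_rfl).X (p, q) ≅
        (if 0 ≤ p ∧ 0 ≤ q then (S.rightDerived p.toNat).obj ((T.rightDerived q.toNat).obj A)
          else 0)) := by
  have : EnoughInjectives C := enoughInjectives_of_hasInjectiveResolutions
  have : EnoughInjectives C' := enoughInjectives_of_hasInjectiveResolutions
  have hN : ∀ n : ℤ, Nonempty ((L T S A 0).homology n ≅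
      (if 0 ≤ n then ((T ⋙ S).rightDerived n.toNat).obj A else 0)) := by
    intro n
    by_cases hn : 0 ≤ n
    · obtain ⟨k, rfl⟩ := Int.eq_ofNat_of_zero_le hn
      refine ⟨(nonempty_abut_iso T S A hT k).some ≪≫ eqToIso ?_⟩
      simp
    · refine ⟨IsZero.iso (isZero_L_homology T S A n (by lia)) ?_⟩
      rw [if_neg hn]
      exact isZero_zero _
  refine TowerSO.exists_spectralSequence (L T S A) (ψ T S A) (fun q => inferInstance)
    (fun n : ℤ => if 0 ≤ n then ((T ⋙ S).rightDerived n.toNat).obj A else 0)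
    (fun n => (hN n).some)
    (fun p q : ℤ => if 0 ≤ p ∧ 0 ≤ q then
      (S.rightDerived p.toNat).obj ((T.rightDerived q.toNat).obj A) else 0) ?_ ?_
  · intro k p hp
    obtain ⟨p', rfl⟩ := Int.eq_ofNat_of_zero_le hp
    obtain ⟨e⟩ := nonempty_E2_iso T S A k p' ((p' : ℤ) + k + -1) rfl
    refine ⟨e ≪≫ eqToIso ?_⟩
    simp
  · intro p q h
    rw [if_neg h]
    exact isZero_zero _

/-- **The Grothendieck spectral sequence**, flexible form: the abutment `H'` and the `E₂`-terms `E2`
are only required to be isomorphic to the derived functors. -/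
theorem exists_spectralSequence' {C C' C'' : Type u} [Category.{v} C] [Category.{v} C']
    [Category.{v} C''] [Abelian C] [Abelian C'] [Abelian C''] [HasInjectiveResolutions C]
    [HasInjectiveResolutions C'] (T : C ⥤ C') [T.Additive] (S : C' ⥤ C'') [S.Additive]
    [PreservesFiniteLimits S]
    (hT : ∀ Q : C, Injective Q → ∀ q : ℕ, 0 < q → IsZero ((S.rightDerived q).obj (T.obj Q)))
    (A : C) (H' : ℤ → C'')
    (hH : ∀ n : ℕ, Nonempty (((T ⋙ S).rightDerived n).obj A ≅ H' n))
    (hHz : ∀ n : ℤ, n < 0 → IsZero (H' n))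
    (E2 : ℤ → ℤ → C'')
    (hE2 : ∀ p q : ℕ, Nonempty ((S.rightDerived p).obj ((T.rightDerived q).obj A) ≅ E2 p q))
    (hE2z : ∀ p q : ℤ, ¬ (0 ≤ p ∧ 0 ≤ q) → IsZero (E2 p q)) :
    ∃ (E : E₂CohomologicalSpectralSequence C'') (a : SpSeq.Abutment E H'),
      (∀ n, a.IsFinite n) ∧ SpSeq.IsBounded E ∧
      ∀ p q : ℤ, Nonempty ((E.page 2 le_rfl).X (p, q) ≅ E2 p q) := by
  have : EnoughInjectives C := enoughInjectives_of_hasInjectiveResolutions
  have : EnoughInjectives C' := enoughInjectives_of_hasInjectiveResolutions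
  have hN : ∀ n : ℤ, Nonempty ((L T S A 0).homology n ≅ H' n) := by
    intro n
    by_cases hn : 0 ≤ n
    · obtain ⟨k, rfl⟩ := Int.eq_ofNat_of_zero_le hn
      exact ⟨(nonempty_abut_iso T S A hT k).some ≪≫ (hH k).some⟩
    · exact ⟨IsZero.iso (isZero_L_homology T S A n (by lia)) (hHz n (by lia))⟩
  refine TowerSO.exists_spectralSequence (L T S A) (ψ T S A) (fun q => inferInstance)
    H' (fun n => (hN n).some) E2 ?_ hE2z
  intro k p hp
  obtain ⟨p', rfl⟩ := Int.eq_ofNat_of_zero_le hp
  obtain ⟨e⟩ := nonempty_E2_iso T S A k p' ((p' : ℤ) + k + -1) rfl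
  exact ⟨e ≪≫ (hE2 p' k).some⟩

end Final

section NatIso

variable {𝒜 : Type*} [Category 𝒜] [Abelian 𝒜] [HasInjectiveResolutions 𝒜]
  {ℬ : Type*} [Category ℬ] [Abelian ℬ]

/-- right derived functors of isomorphic functors are isomorphic -/
noncomputable def rightDerivedIsoOfIso {F G : 𝒜 ⥤ ℬ} [F.Additive] [G.Additive] (e : F ≅ G) (n : ℕ) :
    F.rightDerived n ≅ G.rightDerived n where
  hom := NatTrans.rightDerived e.hom n
  inv := NatTrans.rightDerived e.inv n
  hom_inv_id := by rw [← NatTrans.rightDerived_comp, e.hom_inv_id, NatTrans.rightDerived_id]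
  inv_hom_id := by rw [← NatTrans.rightDerived_comp, e.inv_hom_id, NatTrans.rightDerived_id]

end NatIso

end Groth.Agent.Lib.Helper6.GrothSS
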