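import Groth.Agent.Lib.Helper6.CohPresheaf
import Groth.Prelude.Def_CohSite

/-!
# `R^i f_* F` is the sheafification of `V ↦ H^i(u V, F)`, for sites (helper6)
-/

universe u

open CategoryTheory Limits Opposite

namespace Groth.Agent.Lib.Helper6.CohSiteSheafify

open CohPresheaf DeltaCompare

variable {C D : Type u} [SmallCategory C] [SmallCategory D]
  (J : GrothendieckTopology C) (K : GrothendieckTopology D) (u : D ⥤ C) [u.IsContinuous K J]

instance push_pfl : PreservesFiniteLimits (CohSite.push J K u) := by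
  have : (CohSite.push J K u).IsRightAdjoint := by
    dsimp only [CohSite.push]
    infer_instance
  have := (Adjunction.ofIsRightAdjoint (CohSite.push J K u)).rightAdjoint_preservesLimits
  exact PreservesLimits.preservesFiniteLimits _

/-- presheaf on `C` ↦ sheafification of its pushforward -/
noncomputable abbrev Ψ : (Cᵒᵖ ⥤ AddCommGrpCat.{u}) ⥤ Sheaf K AddCommGrpCat.{u} :=
  (Functor.whiskeringLeft _ _ _).obj u.op ⋙ presheafToSheaf K AddCommGrpCat.{u}

instance : (Ψ K u).Additive := by
  have : ((Functor.whiskeringLeft Dᵒᵖ Cᵒᵖ AddCommGrpCat.{u}).obj u.op).Additive := { }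
  infer_instance

instance : PreservesFiniteLimits (Ψ K u) := by
  dsimp only [Ψ]
  infer_instance

instance : PreservesFiniteColimits (Ψ K u) := by
  dsimp only [Ψ]
  infer_instance

/-- `f_* ≅ sheafify ∘ f_* ∘ forget` -/
noncomputable def pushIso : CohSite.push J K u ≅
    sheafToPresheaf J AddCommGrpCat.{u} ⋙ Ψ K u :=
  (CohSite.push J K u).rightUnitor.symm ≪≫
    Functor.isoWhiskerLeft (CohSite.push J K u)
      (asIso (sheafificationAdjunction K AddCommGrpCat.{u}).counit).symm ≪≫
    (Functor.associator _ _ _).symm ≪≫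
    Functor.isoWhiskerRight (NatIso.ofComponents (fun F => Iso.refl _) :
      CohSite.push J K u ⋙ sheafToPresheaf K AddCommGrpCat.{u} ≅
        sheafToPresheaf J AddCommGrpCat.{u} ⋙ (Functor.whiskeringLeft _ _ _).obj u.op)
      (presheafToSheaf K AddCommGrpCat.{u}) ≪≫
    Functor.associator _ _ _

/-- `R^0 f_* ≅ sheafify (V ↦ H^0(u V, -))` -/
noncomputable def θ : CohSite.Rpush J K u 0 ≅ P J 0 ⋙ Ψ K u :=
  Functor.rightDerivedZeroIsoSelf (CohSite.push J K u) ≪≫ pushIso J K u ≪≫
    Functor.isoWhiskerRight (Piso₀ J).symm (Ψ K u)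

/-- `R^i f_* F` is the sheafification of `V ↦ H^i(u V, F)`. -/
theorem nonempty_Rpush_iso_sheafify (F : Sheaf J AddCommGrpCat.{u}) (i : ℕ) :
    Nonempty ((CohSite.Rpush J K u i).obj F ≅
      (presheafToSheaf K AddCommGrpCat.{u}).obj (u.op ⋙ F.cohomologyPresheaf i)) :=
  delta_compare (fun n => CohSite.Rpush J K u n)
    (fun n => P J n ⋙ Ψ K u) (θ J K u) (fun _ => True) (fun G _ => by
      have hE := ExtAcyc.sesUnder_shortExact G
      have hI : Injective (ExtAcyc.sesUnder G).X₂ := inferInstance
      exact ⟨_, _, (ExtAcyc.sesUnder G).f, (ExtAcyc.sesUnder G).g, trivial,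
        RDShift.hasShift_rightDerived _ _ hE
          (fun n => Functor.isZero_rightDerived_obj_injective_succ _ n _),
        RDShift.HasShift.comp_exact (hasShift_P _ hE) (Ψ K u)⟩) i F trivial

end Groth.Agent.Lib.Helper6.CohSiteSheafify
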