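import Groth.Agent.Lib.Helper6.CohPresheafDelta
import Groth.Agent.Lib.Helper6.CohSiteSheafify
import Groth.Agent.S16463
import Groth.Agent.S16465
import Groth.Agent.S6773
import Groth.Agent.S6774

/-!
# `R^n f_*` is NATURALLY the sheafification of `V ↦ H^n(u V, -)` (helper6)

Uses helper8's delta-functor structure on right derived functors and universality.
-/

universe u

open CategoryTheory Limits Opposite

namespace Groth.Agent.Lib.Helper6.RpushNatIso

open CohPresheaf CohSiteSheafify CohPresheafDelta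

variable {C D : Type u} [SmallCategory C] [SmallCategory D]
  (J : GrothendieckTopology C) (K : GrothendieckTopology D) (u : D ⥤ C) [u.IsContinuous K J]

/-- a general principle: a right-derived functor family is naturally isomorphic to any
effaceable delta-functor with the same degree-zero part -/
theorem nonempty_iso_of_effaceable {𝒜 : Type*} [Category 𝒜] [Abelian 𝒜] [EnoughInjectives 𝒜]
    {ℬ : Type*} [Category ℬ] [Abelian ℬ] (F : 𝒜 ⥤ ℬ) [F.Additive]
    (T' : DeltaF.CohDeltaFunctor 𝒜 ℬ ℕ) (hT' : T'.IsEffaceable)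
    (e : F.rightDerived 0 ≅ T'.F 0) (n : ℕ) :
    Nonempty (F.rightDerived n ≅ T'.F n) := by
  obtain ⟨Δ⟩ := Groth.Agent.S16463.result F
  have hT : Δ.toCohDeltaFunctor.IsUniversal := Groth.Agent.S16465.result F Δ
  have hT'u : T'.IsUniversal := Groth.Agent.S6773.result T' hT'
  obtain ⟨φ, -, -⟩ := Groth.Agent.S6774.result Δ.toCohDeltaFunctor T' hT hT'u e
  refine ⟨{ hom := φ.hom.app n, inv := φ.inv.app n, hom_inv_id := ?_, inv_hom_id := ?_ }⟩
  · exact congrArg (fun τ => DeltaF.CohDeltaFunctor.Hom.app τ n) φ.hom_inv_id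
  · exact congrArg (fun τ => DeltaF.CohDeltaFunctor.Hom.app τ n) φ.inv_hom_id

/-- `R^n f_* ≅ sheafify ∘ (V ↦ H^n(u V, -))`, naturally -/
theorem nonempty_natIso (n : ℕ) :
    Nonempty (CohSite.Rpush J K u n ≅ P J n ⋙ Ψ K u) :=
  nonempty_iso_of_effaceable (CohSite.push J K u) (deltaFunctor J (Ψ K u))
    (deltaFunctor_isEffaceable J (Ψ K u)) (θ J K u) n

end Groth.Agent.Lib.Helper6.RpushNatIso
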