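import Groth.Prelude.Def_CohCx
import Groth.Agent.Lib.Helper6.SheafCoh
import Mathlib.CategoryTheory.Sites.Adjunction

/-!
# Totally acyclic sheaves are acyclic on objects (helper6)
-/

universe u
open CategoryTheory Limits Opposite Abelian

namespace Groth.Agent.Lib.Helper6.TotAcyc

variable {C : Type u} [SmallCategory C] (J : GrothendieckTopology C)

/-- free-then-sheafify is left adjoint to forget -/
noncomputable def adjA :
    (Functor.whiskeringRight Cᵒᵖ _ _).obj AddCommGrpCat.free.{u} ⋙
      presheafToSheaf J AddCommGrpCat.{u} ⊣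
      sheafToPresheaf J AddCommGrpCat.{u} ⋙
        (Functor.whiskeringRight Cᵒᵖ _ _).obj (forget AddCommGrpCat.{u}) :=
  (AddCommGrpCat.adj.whiskerRight Cᵒᵖ).comp (sheafificationAdjunction J AddCommGrpCat.{u})

/-- sheafify-free-sheafify is left adjoint to forget -/
noncomputable def adjB :
    presheafToSheaf J (Type u) ⋙ Sheaf.composeAndSheafify J AddCommGrpCat.free.{u} ⊣
      sheafCompose J (forget AddCommGrpCat.{u}) ⋙ sheafToPresheaf J (Type u) :=
  (sheafificationAdjunction J (Type u)).comp (Sheaf.adjunction J AddCommGrpCat.adj)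

/-- the two left adjoints agree -/
noncomputable def isoAB :
    (Functor.whiskeringRight Cᵒᵖ _ _).obj AddCommGrpCat.free.{u} ⋙
      presheafToSheaf J AddCommGrpCat.{u} ≅
    presheafToSheaf J (Type u) ⋙ Sheaf.composeAndSheafify J AddCommGrpCat.free.{u} :=
  (adjA J).leftAdjointUniq (adjB J)

/-- the free abelian sheaf on `U` is the free abelian sheaf on the sheafified representable -/
noncomputable def freeIso (U : C) :
    SheafCoh.Zfree J U ≅
      (presheafToSheaf J AddCommGrpCat.{u}).obj
        (((presheafToSheaf J (Type u)).obj (yoneda.obj U)).obj ⋙ AddCommGrpCat.free.{u}) :=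
  (isoAB J).app (yoneda.obj U)

theorem subsingleton_HU {F : Sheaf J AddCommGrpCat.{u}} (hF : CohCx.IsTotallyAcyclic F) (U : C)
    (p : ℕ) : Subsingleton (CohSite.HU F (p + 1) U) := by
  have h := hF ((presheafToSheaf J (Type u)).obj (yoneda.obj U)) p
  refine ⟨fun a b => ?_⟩
  have ha : ∀ a : Ext (SheafCoh.Zfree J U) F (p + 1), a = 0 := by
    intro a
    have h1 : (Ext.mk₀ (freeIso J U).inv).comp a (zero_add _) = 0 := h.elim _ _
    have h2 := congrArg (fun z => (Ext.mk₀ (freeIso J U).hom).comp z (zero_add (p + 1))) h1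
    simpa [Ext.mk₀_comp_mk₀_assoc, Ext.mk₀_id_comp] using h2
  exact (ha a).trans (ha b).symm

end Groth.Agent.Lib.Helper6.TotAcyc
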