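import Mathlib
import Groth.Prelude.Def_Coh
import Groth.Agent.Lib.Helper6.RpushNatIso
import Groth.Agent.Lib.Helper6.TotAcyc
import Groth.Agent.Lib.Helper6.InjModTotAcyc
import Groth.Agent.Lib.Helper6.ModAbCoh
import Groth.Agent.Lib.Helper6.RDShift
import Groth.Agent.Lib.Helper6.ExtAcyc
import Groth.Agent.Lib.Helper6.GrothSS

/-!
# Higher direct images of modules vs. of the underlying abelian sheaves (helper6)
-/

universe u

open CategoryTheory Limits Opposite

namespace Groth.Agent.Lib.Helper6.ModAbPush

open DeltaCompare

section Site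

variable {C D : Type u} [SmallCategory C] [SmallCategory D]
  (J : GrothendieckTopology C) (K : GrothendieckTopology D) (u : D ⥤ C) [u.IsContinuous K J]

/-- totally acyclic sheaves have no higher direct images -/
lemma isZero_Rpush_of_totallyAcyclic (F : Sheaf J AddCommGrpCat.{u})
    (hF : CohCx.IsTotallyAcyclic F) (p : ℕ) :
    IsZero ((CohSite.Rpush J K u (p + 1)).obj F) := by
  obtain ⟨e⟩ := RpushNatIso.nonempty_natIso J K u (p + 1)
  refine IsZero.of_iso ?_ (e.app F)
  apply Functor.map_isZero (CohSiteSheafify.Ψ K u)
  apply Functor.isZero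
  intro U
  have := TotAcyc.subsingleton_HU J hF U.unop p
  exact AddCommGrpCat.isZero_of_subsingleton _

end Site

section Scheme

open AlgebraicGeometry

variable (X : Scheme.{u})

/-- the underlying abelian sheaf functor, typed on `X.Modules` -/
noncomputable abbrev tS : X.Modules ⥤ Sheaf (Opens.grothendieckTopology X) AddCommGrpCat.{u} :=
  SheafOfModules.toSheaf.{u} X.ringCatSheaf

instance : (tS X).Additive := inferInstanceAs (SheafOfModules.toSheaf.{u} X.ringCatSheaf).Additive

instance : PreservesFiniteLimits (tS X) :=
  inferInstanceAs (PreservesFiniteLimits (SheafOfModules.toSheaf.{u} X.ringCatSheaf))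

instance : PreservesFiniteColimits (tS X) :=
  inferInstanceAs (PreservesFiniteColimits (SheafOfModules.toSheaf.{u} X.ringCatSheaf))

/-- injective `O_X`-modules are totally acyclic -/
lemma totallyAcyclic_of_injective (I : X.Modules) (hI : Injective I) :
    CohCx.IsTotallyAcyclic ((tS X).obj I) :=
  @InjModTotAcyc.totallyAcyclic _ _ _ X.ringCatSheaf I hI

end Scheme

end Groth.Agent.Lib.Helper6.ModAbPush
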