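import Mathlib
import Groth.Agent.Lib.Helper6.ModAbCoh

/-!
# `Ext^p_O(O[K], F) ≃ H^p(K, F_ab)` (helper6)
-/

universe u

open CategoryTheory Limits Opposite Abelian

namespace Groth.Agent.Lib.Helper6.ModAbCohK

open DeltaCompare InjModTotAcyc
open CohSiteOverSet (ZF)

variable {C : Type u} [SmallCategory C] {J : GrothendieckTopology C} (R : Sheaf J RingCat.{u})
  (K : Sheaf J (Type u))

/-- the free sheaf of modules on a sheaf of sets -/
noncomputable abbrev Ψ : SheafOfModules.{u} R :=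
  (PresheafOfModules.sheafification.{u} (𝟙 R.obj)).obj ((Fr R).obj K)

instance : (PresheafOfModules.sheafification.{u} (𝟙 R.obj)).Additive :=
  (PresheafOfModules.sheafificationAdjunction (𝟙 R.obj)).left_adjoint_additive

/-- sheafification adjunction for modules -/
noncomputable def β (M : SheafOfModules.{u} R) :
    (Ψ R K ⟶ M) ≃+ ((Fr R).obj K ⟶ I₀ R M) :=
  (PresheafOfModules.sheafificationAdjunction (𝟙 R.obj)).homAddEquiv ((Fr R).obj K) M

lemma β_naturality {M M' : SheafOfModules.{u} R} (g : M ⟶ M') (φ : Ψ R K ⟶ M) :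
    β R K M' (φ ≫ g) = β R K M φ ≫
      (SheafOfModules.forget R ⋙ PresheafOfModules.restrictScalars (𝟙 R.obj)).map g :=
  (PresheafOfModules.sheafificationAdjunction (𝟙 R.obj)).homEquiv_naturality_right _ _

lemma σ_naturality_right {M M' : SheafOfModules.{u} R} (g : M ⟶ M')
    (x : (ZF J).obj K ⟶ (SheafOfModules.toSheaf R).obj M) :
    σ R M' K (x ≫ (SheafOfModules.toSheaf R).map g) =
      σ R M K x ≫ (PresheafOfModules.toPresheaf R.obj).map
        ((SheafOfModules.forget R ⋙ PresheafOfModules.restrictScalars (𝟙 R.obj)).map g) :=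
  (sheafificationAdjunction J AddCommGrpCat.{u}).homEquiv_naturality_right _ _

lemma θ_naturality_right {M M' : SheafOfModules.{u} R} (g : M ⟶ M')
    (x : (ZF J).obj K ⟶ (SheafOfModules.toSheaf R).obj M) :
    θ R M' K (x ≫ (SheafOfModules.toSheaf R).map g) =
      θ R M K x ≫ (SheafOfModules.forget R ⋙ PresheafOfModules.restrictScalars (𝟙 R.obj)).map g := by
  apply (ψ₀ R K.obj (I₀ R M')).injective
  rw [ψ₀_θ, σ_naturality_right, ψ₀_naturality_right, ψ₀_θ]

/-- `Hom_R(R[K], M) ≃ Hom(ℤ[K], M_ab)` -/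
noncomputable def α (M : SheafOfModules.{u} R) :
    (Ψ R K ⟶ M) ≃+ ((ZF J).obj K ⟶ (SheafOfModules.toSheaf R).obj M) :=
  (β R K M).trans (θ R M K).symm

lemma α_naturality {M M' : SheafOfModules.{u} R} (g : M ⟶ M') (φ : Ψ R K ⟶ M) :
    α R K M' (φ ≫ g) = α R K M φ ≫ (SheafOfModules.toSheaf R).map g := by
  apply (θ R M' K).injective
  rw [θ_naturality_right]
  change θ R M' K ((θ R M' K).symm (β R K M' (φ ≫ g))) =
    θ R M K ((θ R M K).symm (β R K M φ)) ≫ _
  rw [AddEquiv.apply_symm_apply, AddEquiv.apply_symm_apply, β_naturality]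

variable [HasExt.{u} (SheafOfModules.{u} R)]

/-- degree zero -/
noncomputable def equiv₀ (M : SheafOfModules.{u} R) :
    Ext (Ψ R K) M 0 ≃+ Ext ((ZF J).obj K) ((SheafOfModules.toSheaf R).obj M) 0 :=
  Ext.addEquiv₀.trans ((α R K M).trans Ext.addEquiv₀.symm)

lemma equiv₀_naturality {M M' : SheafOfModules.{u} R} (g : M ⟶ M') (x : Ext (Ψ R K) M 0) :
    equiv₀ R K M' (x.comp (Ext.mk₀ g) (add_zero 0)) =
      (equiv₀ R K M x).comp (Ext.mk₀ ((SheafOfModules.toSheaf R).map g)) (add_zero 0) := by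
  obtain ⟨φ, rfl⟩ := Ext.addEquiv₀.symm.surjective x
  simp only [equiv₀, AddEquiv.trans_apply, Ext.addEquiv₀_symm_apply, Ext.mk₀_comp_mk₀,
    ExtAdj.addEquiv₀_mk₀]
  rw [α_naturality]

/-- the natural isomorphism in degree zero -/
noncomputable def θ₀ : extFunctorObj (Ψ R K) 0 ≅
    SheafOfModules.toSheaf R ⋙ extFunctorObj ((ZF J).obj K) 0 :=
  NatIso.ofComponents (fun M => (equiv₀ R K M).toAddCommGrpIso) (fun {M M'} g => by
    ext x
    exact equiv₀_naturality R K g x)

/-- **`Ext^n_R(R[K], M) ≃ H^n(K, M_ab)`** -/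
theorem nonempty_ext_addEquiv (M : SheafOfModules.{u} R) (n : ℕ) :
    Nonempty (Ext (Ψ R K) M n ≃+ CohCx.HK K ((SheafOfModules.toSheaf R).obj M) n) := by
  have := Groth.Agent.Lib.Helper8.SheafModGroth.enoughInjectives J R
  obtain ⟨e⟩ := delta_compare
    (fun n => extFunctorObj (Ψ R K) n)
    (fun n => SheafOfModules.toSheaf R ⋙ extFunctorObj ((ZF J).obj K) n) (θ₀ R K)
    (fun _ => True) (fun G _ => by
      have hE := ExtAcyc.sesUnder_shortExact G
      have hI : Injective (ExtAcyc.sesUnder G).X₂ := inferInstance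
      refine ⟨_, _, (ExtAcyc.sesUnder G).f, (ExtAcyc.sesUnder G).g, trivial,
        ExtShift.hasShift_ext _ _ hE (fun n x => Ext.eq_zero_of_injective x),
        ExtShift.hasShift_ext_comp (SheafOfModules.toSheaf R) ((ZF J).obj K) _
          (hE.map_of_exact (SheafOfModules.toSheaf R)) (fun n x => ?_)⟩
      have h := InjModTotAcyc.totallyAcyclic R (ExtAcyc.sesUnder G).X₂ K n
      exact @Subsingleton.elim _ h _ _) n M trivial
  exact ⟨e.addCommGroupIsoToAddEquiv⟩

end Groth.Agent.Lib.Helper6.ModAbCohK
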