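import Mathlib
import Groth.Prelude.Def_ModSite2
import Groth.Agent.Lib.Helper6.ModAbCohK
import Groth.Agent.Lib.Helper1.TensorLoc

/-!
# `ℋom_O(F, G)` is totally acyclic for `G` injective (helper6)
-/

universe u

open CategoryTheory Limits Opposite Simplicial AlgebraicTopology MonoidalCategory

namespace Groth.Agent.Lib.Helper6.SheafHomTotAcyc

open InjModTotAcyc ModAbCohK
open CohSiteOverSet (ZF)

variable {C : Type u} [SmallCategory C] {J : GrothendieckTopology C} (O : Sheaf J CommRingCat.{u})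

/-- presheaves of modules over the underlying presheaf of rings -/
abbrev PM := PresheafOfModules.{u} (O.obj ⋙ forget₂ CommRingCat.{u} RingCat.{u})

/-- sheafification -/
noncomputable abbrev a : PM O ⥤ ModSite.Mod O := ModSite.sheafify O

/-- the underlying presheaf of modules -/
noncomputable abbrev fg : ModSite.Mod O ⥤ PM O := SheafOfModules.forget (ModSite.ringSh O)

/-- free presheaf of modules on a sheaf of sets -/
noncomputable abbrev FrO : Sheaf J (Type u) ⥤ PM O := Fr (ModSite.ringSh O)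

/-- the underlying presheaf of modules (through `restrictScalars (𝟙 _)`) -/
noncomputable abbrev I₀O (G : ModSite.Mod O) : PM O := I₀ (ModSite.ringSh O) G

/-- sheafification adjunction, typed over `PM O` -/
noncomputable def βO (P : PM O) (G : ModSite.Mod O) :
    ((a O).obj P ⟶ G) ≃+ (P ⟶ I₀O O G) :=
  (PresheafOfModules.sheafificationAdjunction (𝟙 (ModSite.ringSh O).obj)).homAddEquiv P G

lemma βO_naturality_left {P P' : PM O} (h : P' ⟶ P) (G : ModSite.Mod O)
    (χ : (a O).obj P ⟶ G) :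
    βO O P' G ((a O).map h ≫ χ) = h ≫ βO O P G χ :=
  (PresheafOfModules.sheafificationAdjunction
    (𝟙 (ModSite.ringSh O).obj)).homEquiv_naturality_left _ _

variable (F : ModSite.Mod O)

/-- `- ⊗ F` -/
noncomputable abbrev T : ModSite.Mod O ⥤ ModSite.Mod O := (ModSite.tensorBi O).flip.obj F

/-- the unit of sheafification -/
noncomputable abbrev η (P : PM O) : P ⟶ (fg O).obj ((a O).obj P) :=
  (PresheafOfModules.sheafificationAdjunction (𝟙 (ModSite.ringSh O).obj)).unit.app P

/-- the comparison `a(P ⊗ F) ⟶ a(P) ⊗ F` -/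
noncomputable def κ (P : PM O) : (a O).obj (P ⊗ (fg O).obj F) ⟶ (T O F).obj ((a O).obj P) :=
  (a O).map (η O P ▷ (fg O).obj F)

instance (P : PM O) : IsIso (κ O F P) := by
  have hi : Presheaf.IsLocallyInjective J ((PresheafOfModules.toPresheaf _).map (η O P)) := by
    show Presheaf.IsLocallyInjective J (toSheafify J P.presheaf)
    infer_instance
  have hs : Presheaf.IsLocallySurjective J ((PresheafOfModules.toPresheaf _).map (η O P)) := by
    show Presheaf.IsLocallySurjective J (toSheafify J P.presheaf)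
    infer_instance
  have hs1 : Presheaf.IsLocallySurjective J ((PresheafOfModules.toPresheaf _).map
      (𝟙 ((fg O).obj F))) := by
    rw [CategoryTheory.Functor.map_id]
    infer_instance
  refine Groth.Agent.Lib.Helper1.TensorLoc.isIso_sheafification_map
    (𝟙 (ModSite.ringSh O).obj) _
    (Groth.Agent.Lib.Helper1.TensorLoc.isLocallyInjective_whiskerRight (R := O.obj) J _ hi hs _) ?_
  have := Groth.Agent.Lib.Helper1.TensorLoc.isLocallySurjective_tensorHom (R := O.obj) J
    (η O P) (𝟙 ((fg O).obj F)) hs hs1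
  rwa [tensorHom_id] at this

lemma κ_naturality {P P' : PM O} (h : P' ⟶ P) :
    (a O).map (h ▷ (fg O).obj F) ≫ κ O F P = κ O F P' ≫ (T O F).map ((a O).map h) := by
  have hη : h ≫ η O P = η O P' ≫ (fg O).map ((a O).map h) :=
    (PresheafOfModules.sheafificationAdjunction (𝟙 (ModSite.ringSh O).obj)).unit.naturality h
  change (a O).map (h ▷ (fg O).obj F) ≫ (a O).map (η O P ▷ (fg O).obj F) =
    (a O).map (η O P' ▷ (fg O).obj F) ≫ (a O).map ((fg O).map ((a O).map h) ▷ (fg O).obj F)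
  rw [← CategoryTheory.Functor.map_comp, ← CategoryTheory.Functor.map_comp, ← comp_whiskerRight,
    ← comp_whiskerRight, hη]

section Cech

variable {K' K : Sheaf J (Type u)} (f : K' ⟶ K)

/-- the augmented simplicial presheaf of modules `R[Čech nerve] ⊗ F → R[image] ⊗ F` -/
noncomputable abbrev YRF : SimplicialObject.Augmented (PM O) :=
  ((SimplicialObject.Augmented.whiskering _ _).obj (tensorRight ((fg O).obj F))).obj
    (YR (ModSite.ringSh O) f)

/-- the chain complex `R[Čech nerve] ⊗ F` -/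
noncomputable abbrev PRF : ChainComplex (PM O) ℕ :=
  (alternatingFaceMapComplex _).obj (YRF O F f).left

/-- objectwise extra degeneracy -/
noncomputable def edYRF (U : Cᵒᵖ) : SimplicialObject.Augmented.ExtraDegeneracy
    (((SimplicialObject.Augmented.whiskering _ _).obj
      ((evaluation Cᵒᵖ AddCommGrpCat.{u}).obj U)).obj
      (((SimplicialObject.Augmented.whiskering _ _).obj
        (PresheafOfModules.toPresheaf _)).obj (YRF O F f))) :=
  (CechResT.edU J (𝟭 (Sheaf J (Type u))) f U).map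
    (ModuleCat.free (O.obj.obj U) ⋙ tensorRight (((fg O).obj F).obj U) ⋙
      forget₂ _ AddCommGrpCat.{u})

instance quasiIso_ε_YRF : QuasiIso (AlternatingFaceMapComplex.ε.app (YRF O F f)) := by
  have h1 : QuasiIso (AlternatingFaceMapComplex.ε.app
      (((SimplicialObject.Augmented.whiskering _ _).obj
        (PresheafOfModules.toPresheaf _)).obj (YRF O F f))) :=
    AugQI.quasiIso_ε_of_evaluation _
      (fun U => AugQI.quasiIso_ε_of_extraDegeneracy (edYRF O F f U))
  rw [← AugQI.quasiIso_map_ε_iff (PresheafOfModules.toPresheaf _)] at h1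
  exact (HomologicalComplex.quasiIso_map_iff_of_preservesHomology _
    (PresheafOfModules.toPresheaf _)).1 h1

end Cech

section Theta

variable [ModSite.HasSheafHom F] (G : ModSite.Mod O)

instance : (T O F).Additive := (ModSite.sheafHomAdj F).left_adjoint_additive

lemma α_naturality_left (M : ModSite.Mod O) {K K' : Sheaf J (Type u)} (g : K' ⟶ K)
    (φ : Ψ (ModSite.ringSh O) K ⟶ M) :
    α (ModSite.ringSh O) K' M ((a O).map ((Fr (ModSite.ringSh O)).map g) ≫ φ) =
      (ZF J).map g ≫ α (ModSite.ringSh O) K M φ := by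
  apply (θ (ModSite.ringSh O) M K').injective
  rw [θ_naturality]
  change θ (ModSite.ringSh O) M K' ((θ (ModSite.ringSh O) M K').symm
      (β (ModSite.ringSh O) K' M ((a O).map ((Fr (ModSite.ringSh O)).map g) ≫ φ))) =
    (Fr (ModSite.ringSh O)).map g ≫ θ (ModSite.ringSh O) M K
      ((θ (ModSite.ringSh O) M K).symm (β (ModSite.ringSh O) K M φ))
  rw [AddEquiv.apply_symm_apply, AddEquiv.apply_symm_apply]
  exact (PresheafOfModules.sheafificationAdjunction
    (𝟙 (ModSite.ringSh O).obj)).homEquiv_naturality_left _ _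

/-- precomposition with `κ` -/
noncomputable def precompκ (P : PM O) :
    ((T O F).obj ((a O).obj P) ⟶ G) ≃+ ((a O).obj (P ⊗ (fg O).obj F) ⟶ G) where
  toFun ψ := κ O F P ≫ ψ
  invFun χ := inv (κ O F P) ≫ χ
  left_inv ψ := by simp
  right_inv χ := by simp
  map_add' ψ ψ' := Preadditive.comp_add _ _ _ _ _ _

/-- the additive bijection `Hom(ℤ[K], ℋom(F, G)) ≃ Hom(R[K] ⊗ F, G)` -/
noncomputable def Θ (K : Sheaf J (Type u)) :
    ((ZF J).obj K ⟶ ModSite.toAb ((ModSite.sheafHom F).obj G)) ≃+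
      ((FrO O).obj K ⊗ (fg O).obj F ⟶ I₀O O G) :=
  (α (ModSite.ringSh O) K ((ModSite.sheafHom F).obj G)).symm.trans
    (((ModSite.sheafHomAdj F).homAddEquiv (Ψ (ModSite.ringSh O) K) G).symm.trans
      ((precompκ O F G ((FrO O).obj K)).trans
        (βO O ((FrO O).obj K ⊗ (fg O).obj F) G)))

lemma Θ_naturality {K K' : Sheaf J (Type u)} (g : K' ⟶ K)
    (x : (ZF J).obj K ⟶ ModSite.toAb ((ModSite.sheafHom F).obj G)) :
    Θ O F G K' ((ZF J).map g ≫ x) =
      ((FrO O).map g ▷ (fg O).obj F) ≫ Θ O F G K x := by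
  obtain ⟨φ, rfl⟩ := (α (ModSite.ringSh O) K ((ModSite.sheafHom F).obj G)).surjective x
  rw [← α_naturality_left]
  simp only [Θ, AddEquiv.trans_apply, AddEquiv.symm_apply_apply]
  have h2 : ((ModSite.sheafHomAdj F).homAddEquiv (Ψ (ModSite.ringSh O) K') G).symm
      ((a O).map ((Fr (ModSite.ringSh O)).map g) ≫ φ) =
      (T O F).map ((a O).map ((FrO O).map g)) ≫
        ((ModSite.sheafHomAdj F).homAddEquiv (Ψ (ModSite.ringSh O) K) G).symm φ :=
    (ModSite.sheafHomAdj F).homEquiv_naturality_left_symm _ _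
  rw [h2]
  change βO O _ G (κ O F ((FrO O).obj K') ≫ (T O F).map ((a O).map ((FrO O).map g)) ≫ _) =
    _ ≫ βO O _ G (κ O F ((FrO O).obj K) ≫ _)
  rw [← Category.assoc, ← κ_naturality, Category.assoc, βO_naturality_left]

lemma Θ_sum {L₁ L₂ : Sheaf J (Type u)} {ι : Type} [Fintype ι] (c : ι → ℤ) (g : ι → (L₁ ⟶ L₂))
    (x : (ZF J).obj L₂ ⟶ ModSite.toAb ((ModSite.sheafHom F).obj G)) :
    Θ O F G L₁ ((∑ i, c i • (ZF J).map (g i)) ≫ x) =
      (∑ i, c i • ((FrO O).map (g i) ▷ (fg O).obj F)) ≫ Θ O F G L₂ x := by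
  rw [Preadditive.sum_comp, Preadditive.sum_comp, map_sum]
  refine Finset.sum_congr rfl (fun i _ => ?_)
  rw [Preadditive.zsmul_comp, Preadditive.zsmul_comp, map_zsmul, Θ_naturality]

variable {K' K : Sheaf J (Type u)} (f : K' ⟶ K)

lemma Θ_d (n : ℕ) (x : (CechAcyc.P f).X n ⟶ ModSite.toAb ((ModSite.sheafHom F).obj G)) :
    Θ O F G ((Arrow.mk f).cechNerve.obj (op ⦋n + 1⦌)) ((CechAcyc.P f).d (n + 1) n ≫ x) =
      (PRF O F f).d (n + 1) n ≫ Θ O F G ((Arrow.mk f).cechNerve.obj (op ⦋n⦌)) x := by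
  have h1 : (CechAcyc.P f).d (n + 1) n =
      ∑ i : Fin (n + 2), ((-1 : ℤ) ^ (i : ℕ)) • (ZF J).map ((Arrow.mk f).cechNerve.δ i) :=
    AlternatingFaceMapComplex.obj_d_eq _ _
  have h2 : (PRF O F f).d (n + 1) n =
      ∑ i : Fin (n + 2), ((-1 : ℤ) ^ (i : ℕ)) •
        ((FrO O).map ((Arrow.mk f).cechNerve.δ i) ▷ (fg O).obj F) :=
    AlternatingFaceMapComplex.obj_d_eq _ _
  have h3 := Θ_sum O F G (fun i : Fin (n + 2) => (-1 : ℤ) ^ (i : ℕ))
    (fun i => (Arrow.mk f).cechNerve.δ i) x
  refine Eq.trans ?_ (h3.trans ?_)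
  · exact congrArg (fun d => Θ O F G ((Arrow.mk f).cechNerve.obj (op ⦋n + 1⦌)) (d ≫ x)) h1
  · exact congrArg (fun d => d ≫ Θ O F G ((Arrow.mk f).cechNerve.obj (op ⦋n⦌)) x) h2.symm

end Theta

/-- `ℋom(F, G)` is Čech-acyclic for `G` injective -/
theorem cechAcyclic (G : ModSite.Mod O) [ModSite.HasSheafHom F] [Injective G] :
    CechCartan.CechAcyclic (ModSite.toAb ((ModSite.sheafHom F).obj G)) := by
  intro K' K f _ q
  apply CechAcyc.isZero_of_exists_factor
  intro x hx
  have hx' : (PRF O F f).d (q + 2) (q + 1) ≫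
      Θ O F G ((Arrow.mk f).cechNerve.obj (op ⦋q + 1⦌)) x = 0 :=
    (Θ_d O F G f (q + 1) x).symm.trans
      ((congrArg (Θ O F G ((Arrow.mk f).cechNerve.obj (op ⦋q + 1 + 1⦌))) hx).trans (map_zero _))
  have hex : (PRF O F f).ExactAt (q + 1) :=
    LeftAcyc.exactAt_succ (PRF O F f) (AlternatingFaceMapComplex.ε.app (YRF O F f)) q
  rw [HomologicalComplex.exactAt_iff' _ (q + 2) (q + 1) q (by simp) (by simp)] at hex
  have : Injective (I₀O O G) := inferInstanceAs (Injective (I₀ (ModSite.ringSh O) G))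
  refine ⟨(Θ O F G ((Arrow.mk f).cechNerve.obj (op ⦋q⦌))).symm
    (hex.descToInjective (Θ O F G ((Arrow.mk f).cechNerve.obj (op ⦋q + 1⦌)) x) hx'), ?_⟩
  apply (Θ O F G ((Arrow.mk f).cechNerve.obj (op ⦋q + 1⦌))).injective
  refine (Θ_d O F G f q _).trans ?_
  refine (congrArg (fun t => (PRF O F f).d (q + 1) q ≫ t)
    ((Θ O F G ((Arrow.mk f).cechNerve.obj (op ⦋q⦌))).apply_symm_apply _)).trans ?_
  exact hex.comp_descToInjective _ _

/-- **`ℋom(F, G)` is totally acyclic for `G` injective** -/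
theorem totallyAcyclic (G : ModSite.Mod O) [ModSite.HasSheafHom F] [Injective G] :
    CohCx.IsTotallyAcyclic (ModSite.toAb ((ModSite.sheafHom F).obj G)) :=
  CechCartan.totallyAcyclic_of_cechAcyclic _ (cechAcyclic O F G)

end Groth.Agent.Lib.Helper6.SheafHomTotAcyc
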