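import Mathlib
import Groth.Prelude.Def_ExtSupp
import Groth.Agent.Lib.Helper1.ShriekProj
import Groth.Agent.Lib.Helper1.TensorRestr
import Groth.Agent.Lib.Helper1.TensorAdj
import Groth.Agent.Lib.Helper1.RestrExact
import Groth.Agent.Lib.Helper6.SheafHomTotAcyc

/-!
# `quotOn ⊣ sectOn`, torsion objects, and `Γ_Z ℋom(M, -) ≅ ℋom(M/M_U, -)` (helper6)
-/

universe u

open CategoryTheory Limits Opposite MonoidalCategory

namespace Groth.Agent.Lib.Helper6.QuotSect

open SheafHomTotAcyc (PM a fg T)

variable {C : Type u} [SmallCategory C] {J : GrothendieckTopology C} (O : Sheaf J CommRingCat.{u})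
  (U : C)

section Adj

variable [ModSite.HasPushOver O U]

instance : (ModSite.pushOver O U).Additive :=
  (ModSite.restrPushOverAdj O U).right_adjoint_additive

/-- `ψ ≫ η = 0 ↔ ψ|_U = 0` -/
lemma comp_unit_eq_zero_iff {T F : ModSite.Mod O} (ψ : T ⟶ F) :
    ψ ≫ (ModSite.restrPushOverAdj O U).unit.app F = 0 ↔ (ModSite.restr O U).map ψ = 0 := by
  let adj := ModSite.restrPushOverAdj O U
  have key : adj.homEquiv _ _ ((ModSite.restr O U).map ψ) = ψ ≫ adj.unit.app F := by
    rw [adj.homEquiv_unit]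
    exact (adj.unit.naturality ψ).symm
  have key0 : adj.homEquiv T ((ModSite.restr O U).obj F) 0 = 0 := by
    rw [adj.homEquiv_unit, Functor.map_zero, comp_zero]
  constructor
  · intro h
    apply (adj.homEquiv _ _).injective
    rw [key, key0, h]
  · intro h
    rw [← key, h, key0]

/-- `c ≫ ψ = 0 ↔ ψ|_U = 0` -/
lemma counit_comp_eq_zero_iff {T F : ModSite.Mod O} (ψ : T ⟶ F) :
    (ModSite.extZeroAdj O U).counit.app T ≫ ψ = 0 ↔ (ModSite.restr O U).map ψ = 0 :=
  (ExtSupp.mem_homZ_iff U ψ).symm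

lemma counit_π (T : ModSite.Mod O) :
    (ModSite.extZeroAdj O U).counit.app T ≫ (ModSite.quotOnπ O U).app T = 0 :=
  cokernel.condition _

lemma ι_unit (F : ModSite.Mod O) :
    (ModSite.sectOnι O U).app F ≫ (ModSite.restrPushOverAdj O U).unit.app F = 0 :=
  kernel.condition _

instance (T : ModSite.Mod O) : Epi ((ModSite.quotOnπ O U).app T) :=
  inferInstanceAs (Epi (cokernel.π _))

instance (F : ModSite.Mod O) : Mono ((ModSite.sectOnι O U).app F) :=
  inferInstanceAs (Mono (kernel.ι _))

/-- lift to `Γ_Z` -/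
noncomputable def liftS {T F : ModSite.Mod O} (ψ : T ⟶ F) (h : (ModSite.restr O U).map ψ = 0) :
    T ⟶ (ModSite.sectOn O U).obj F :=
  kernel.lift _ ψ ((comp_unit_eq_zero_iff O U ψ).2 h)

@[reassoc (attr := simp)]
lemma liftS_ι {T F : ModSite.Mod O} (ψ : T ⟶ F) (h : (ModSite.restr O U).map ψ = 0) :
    liftS O U ψ h ≫ (ModSite.sectOnι O U).app F = ψ :=
  kernel.lift_ι _ _ _

/-- descend to the quotient -/
noncomputable def descQ {T F : ModSite.Mod O} (ψ : T ⟶ F) (h : (ModSite.restr O U).map ψ = 0) :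
    (ModSite.quotOn O U).obj T ⟶ F :=
  cokernel.desc _ ψ ((counit_comp_eq_zero_iff O U ψ).2 h)

@[reassoc (attr := simp)]
lemma π_descQ {T F : ModSite.Mod O} (ψ : T ⟶ F) (h : (ModSite.restr O U).map ψ = 0) :
    (ModSite.quotOnπ O U).app T ≫ descQ O U ψ h = ψ :=
  cokernel.π_desc _ _ _

lemma restr_π_comp {T F : ModSite.Mod O} (g : (ModSite.quotOn O U).obj T ⟶ F) :
    (ModSite.restr O U).map ((ModSite.quotOnπ O U).app T ≫ g) = 0 := by
  rw [← counit_comp_eq_zero_iff, ← Category.assoc]
  exact (congrArg (fun k => k ≫ g) (counit_π O U T)).trans zero_comp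

lemma restr_comp_ι {T F : ModSite.Mod O} (h : T ⟶ (ModSite.sectOn O U).obj F) :
    (ModSite.restr O U).map (h ≫ (ModSite.sectOnι O U).app F) = 0 := by
  rw [← comp_unit_eq_zero_iff, Category.assoc]
  exact (congrArg (fun k => h ≫ k) (ι_unit O U F)).trans comp_zero

/-- the hom-set bijection of `quotOn ⊣ sectOn` -/
noncomputable def homEquiv (T F : ModSite.Mod O) :
    ((ModSite.quotOn O U).obj T ⟶ F) ≃ (T ⟶ (ModSite.sectOn O U).obj F) where
  toFun g := liftS O U ((ModSite.quotOnπ O U).app T ≫ g) (restr_π_comp O U g)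
  invFun h := descQ O U (h ≫ (ModSite.sectOnι O U).app F) (restr_comp_ι O U h)
  left_inv g := by
    rw [← cancel_epi ((ModSite.quotOnπ O U).app T), π_descQ, liftS_ι]
  right_inv h := by
    rw [← cancel_mono ((ModSite.sectOnι O U).app F), liftS_ι, π_descQ]

lemma homEquiv_apply {T F : ModSite.Mod O} (g : (ModSite.quotOn O U).obj T ⟶ F) :
    homEquiv O U T F g =
      liftS O U ((ModSite.quotOnπ O U).app T ≫ g) (restr_π_comp O U g) := rfl

lemma homEquiv_symm_apply {T F : ModSite.Mod O} (h : T ⟶ (ModSite.sectOn O U).obj F) :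
    (homEquiv O U T F).symm h =
      descQ O U (h ≫ (ModSite.sectOnι O U).app F) (restr_comp_ι O U h) := rfl

/-- `quotOn ⊣ sectOn` -/
noncomputable def adj : ModSite.quotOn O U ⊣ ModSite.sectOn O U :=
  Adjunction.mkOfHomEquiv
    { homEquiv := homEquiv O U
      homEquiv_naturality_left_symm := by
        intro T' T F f g
        have nat : (ModSite.quotOnπ O U).app T' ≫ (ModSite.quotOn O U).map f =
            f ≫ (ModSite.quotOnπ O U).app T := ((ModSite.quotOnπ O U).naturality f).symm
        rw [← cancel_epi ((ModSite.quotOnπ O U).app T')]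
        rw [homEquiv_symm_apply, homEquiv_symm_apply, π_descQ, reassoc_of% nat, π_descQ,
          Category.assoc]
      homEquiv_naturality_right := by
        intro T F F' f g
        have nat : (ModSite.sectOn O U).map g ≫ (ModSite.sectOnι O U).app F' =
            (ModSite.sectOnι O U).app F ≫ g := (ModSite.sectOnι O U).naturality g
        rw [← cancel_mono ((ModSite.sectOnι O U).app F')]
        rw [homEquiv_apply, homEquiv_apply, liftS_ι, Category.assoc, nat, liftS_ι_assoc,
          Category.assoc] }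

lemma adj_homEquiv_apply {T F : ModSite.Mod O} (g : (ModSite.quotOn O U).obj T ⟶ F) :
    (adj O U).homEquiv T F g ≫ (ModSite.sectOnι O U).app F =
      (ModSite.quotOnπ O U).app T ≫ g := by
  rw [adj, Adjunction.mkOfHomEquiv_homEquiv, homEquiv_apply, liftS_ι]

/-! ### torsion objects -/

/-- `Y` has no nonzero map to a module null on `U` -/
def IsTors (Y : ModSite.Mod O) : Prop :=
  ∀ (N : ModSite.Mod O), ModSite.IsNullOn O U N → ∀ f : Y ⟶ N, f = 0

omit [ModSite.HasPushOver O U] in
lemma isTors_extZero (P : ModSite.Mod (O.over U)) :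
    IsTors O U ((ModSite.extZero O U).obj P) := by
  intro N hN f
  apply ((ModSite.extZeroAdj O U).homEquiv _ _).injective
  exact hN.eq_of_tgt _ _

omit [ModSite.HasPushOver O U] in
lemma IsTors.of_iso {Y Y' : ModSite.Mod O} (h : IsTors O U Y) (e : Y ≅ Y') : IsTors O U Y' := by
  intro N hN f
  have := h N hN (e.hom ≫ f)
  rw [← cancel_epi e.hom, this, comp_zero]

omit [ModSite.HasPushOver O U] in
lemma counit_comp_eq_zero_of_isNullOn {X Q : ModSite.Mod O} (p : X ⟶ Q)
    (hQ : ModSite.IsNullOn O U Q) : (ModSite.extZeroAdj O U).counit.app X ≫ p = 0 :=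
  isTors_extZero O U _ Q hQ _

/-- forward map of `isoOfCokernel` -/
noncomputable def homOfCokernel {Y X Q : ModSite.Mod O} (g : Y ⟶ X) (p : X ⟶ Q) (w : g ≫ p = 0)
    (hc : IsColimit (CokernelCofork.ofπ p w)) (hY : IsTors O U Y) :
    Q ⟶ (ModSite.quotOn O U).obj X :=
  (CokernelCofork.IsColimit.desc' hc ((ModSite.quotOnπ O U).app X)
      (hY _ (ExtSupp.isNullOn_quotOn O U X) _)).1

lemma π_homOfCokernel {Y X Q : ModSite.Mod O} (g : Y ⟶ X) (p : X ⟶ Q) (w : g ≫ p = 0)
    (hc : IsColimit (CokernelCofork.ofπ p w)) (hY : IsTors O U Y) :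
    p ≫ homOfCokernel O U g p w hc hY = (ModSite.quotOnπ O U).app X :=
  (CokernelCofork.IsColimit.desc' hc ((ModSite.quotOnπ O U).app X)
      (hY _ (ExtSupp.isNullOn_quotOn O U X) _)).2

/-- backward map of `isoOfCokernel` -/
noncomputable def invOfCokernel {X Q : ModSite.Mod O} (p : X ⟶ Q)
    (hQ : ModSite.IsNullOn O U Q) : (ModSite.quotOn O U).obj X ⟶ Q :=
  cokernel.desc _ p (counit_comp_eq_zero_of_isNullOn O U p hQ)

lemma π_invOfCokernel {X Q : ModSite.Mod O} (p : X ⟶ Q)
    (hQ : ModSite.IsNullOn O U Q) :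
    (ModSite.quotOnπ O U).app X ≫ invOfCokernel O U p hQ = p :=
  cokernel.π_desc _ _ _

/-- a cokernel of a map from a torsion object, null on `U`, is `quotOn` -/
noncomputable def isoOfCokernel {Y X Q : ModSite.Mod O} (g : Y ⟶ X) (p : X ⟶ Q) (w : g ≫ p = 0)
    (hc : IsColimit (CokernelCofork.ofπ p w)) (hY : IsTors O U Y)
    (hQ : ModSite.IsNullOn O U Q) : Q ≅ (ModSite.quotOn O U).obj X :=
  haveI : Epi p := epi_of_isColimit_cofork hc
  { hom := homOfCokernel O U g p w hc hY
    inv := invOfCokernel O U p hQ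
    hom_inv_id := by
      rw [← cancel_epi p, ← Category.assoc, π_homOfCokernel, π_invOfCokernel, Category.comp_id]
    inv_hom_id := by
      rw [← cancel_epi ((ModSite.quotOnπ O U).app X), ← Category.assoc, π_invOfCokernel,
        π_homOfCokernel, Category.comp_id]
      rfl }

lemma π_isoOfCokernel_hom {Y X Q : ModSite.Mod O} (g : Y ⟶ X) (p : X ⟶ Q) (w : g ≫ p = 0)
    (hc : IsColimit (CokernelCofork.ofπ p w)) (hY : IsTors O U Y)
    (hQ : ModSite.IsNullOn O U Q) :
    p ≫ (isoOfCokernel O U g p w hc hY hQ).hom = (ModSite.quotOnπ O U).app X :=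
  π_homOfCokernel O U g p w hc hY

end Adj

/-! ### tensor products -/

section Tensor

open Groth.Agent.Lib.Helper1

instance T_isLeftAdjoint (M : ModSite.Mod O) : (T O M).IsLeftAdjoint :=
  TensorAdj.hasSheafHom O M

instance T_additive (M : ModSite.Mod O) : (T O M).Additive :=
  haveI := preservesBinaryBiproducts_of_preservesBinaryCoproducts (T O M)
  Functor.additive_of_preservesBinaryBiproducts _

lemma isNullOn_tensor_of_left (Q M : ModSite.Mod O) (hQ : ModSite.IsNullOn O U Q) :
    ModSite.IsNullOn O U ((T O M).obj Q) := by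
  refine IsZero.of_iso ?_ (TensorRestr.restrTensorIso O U Q M)
  exact Functor.map_isZero (T (O.over U) ((ModSite.restr O U).obj M)) hQ

lemma isTors_tensor_extZero (P : ModSite.Mod (O.over U)) (M : ModSite.Mod O) :
    IsTors O U ((T O M).obj ((ModSite.extZero O U).obj P)) :=
  (isTors_extZero O U _).of_iso O U (ShriekProj.projIso O U P M)

variable [ModSite.HasPushOver O U]

/-- `(A/A_U) ⊗ M ≅ (A ⊗ M)/(A ⊗ M)_U` -/
noncomputable def quotTensorIso (A M : ModSite.Mod O) :
    (T O M).obj ((ModSite.quotOn O U).obj A) ≅ (ModSite.quotOn O U).obj ((T O M).obj A) :=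
  isoOfCokernel O U ((T O M).map ((ModSite.extZeroAdj O U).counit.app A))
    ((T O M).map ((ModSite.quotOnπ O U).app A))
    (by rw [← Functor.map_comp, counit_π, Functor.map_zero])
    (CokernelCofork.mapIsColimit
      (CokernelCofork.ofπ ((ModSite.quotOnπ O U).app A) (counit_π O U A))
      (cokernelIsCokernel _) (T O M))
    (isTors_tensor_extZero O U _ M)
    (isNullOn_tensor_of_left O U _ M (ExtSupp.isNullOn_quotOn O U A))

lemma π_quotTensorIso_hom (A M : ModSite.Mod O) :
    (T O M).map ((ModSite.quotOnπ O U).app A) ≫ (quotTensorIso O U A M).hom =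
      (ModSite.quotOnπ O U).app ((T O M).obj A) :=
  π_isoOfCokernel_hom O U _ _ _ _ _ _

omit [ModSite.HasPushOver O U] in
/-- the braiding of the tensor product of sheaves of modules -/
noncomputable def braid (A B : ModSite.Mod O) : (T O B).obj A ≅ (T O A).obj B :=
  (a O).mapIso (β_ ((fg O).obj A) ((fg O).obj B))

omit [ModSite.HasPushOver O U] in
lemma braid_naturality_left {A A' : ModSite.Mod O} (f : A ⟶ A') (B : ModSite.Mod O) :
    (T O B).map f ≫ (braid O A' B).hom =
      (braid O A B).hom ≫ ((ModSite.tensorBi O).obj B).map f := by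
  change (a O).map ((fg O).map f ▷ (fg O).obj B) ≫ (a O).map (β_ _ _).hom =
    (a O).map (β_ _ _).hom ≫ (a O).map ((fg O).obj B ◁ (fg O).map f)
  rw [← Functor.map_comp, ← Functor.map_comp, BraidedCategory.braiding_naturality_left]

omit [ModSite.HasPushOver O U] in
lemma braid_naturality_right (A : ModSite.Mod O) {B B' : ModSite.Mod O} (f : B ⟶ B') :
    ((ModSite.tensorBi O).obj A).map f ≫ (braid O A B').hom =
      (braid O A B).hom ≫ (T O A).map f := by
  change (a O).map ((fg O).obj A ◁ (fg O).map f) ≫ (a O).map (β_ _ _).hom =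
    (a O).map (β_ _ _).hom ≫ (a O).map ((fg O).map f ▷ (fg O).obj A)
  rw [← Functor.map_comp, ← Functor.map_comp, BraidedCategory.braiding_naturality_right]

omit [ModSite.HasPushOver O U] in
lemma braid_symm (A B : ModSite.Mod O) : (braid O A B).hom ≫ (braid O B A).hom = 𝟙 _ := by
  change (a O).map (β_ _ _).hom ≫ (a O).map (β_ _ _).hom = 𝟙 _
  rw [← Functor.map_comp, SymmetricCategory.symmetry, CategoryTheory.Functor.map_id]

/-- `A ⊗ (M/M_U) ≅ (A ⊗ M)/(A ⊗ M)_U` -/
noncomputable def quotTensorIso₂ (A M : ModSite.Mod O) :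
    (T O ((ModSite.quotOn O U).obj M)).obj A ≅ (ModSite.quotOn O U).obj ((T O M).obj A) :=
  braid O A ((ModSite.quotOn O U).obj M) ≪≫ quotTensorIso O U M A ≪≫
    (ModSite.quotOn O U).mapIso (braid O M A)

lemma π_quotTensorIso₂_hom (A M : ModSite.Mod O) :
    ((ModSite.tensorBi O).obj A).map ((ModSite.quotOnπ O U).app M) ≫
      (quotTensorIso₂ O U A M).hom = (ModSite.quotOnπ O U).app ((T O M).obj A) := by
  have h1 := braid_naturality_right O A ((ModSite.quotOnπ O U).app M)
  have h2 := π_quotTensorIso_hom O U M A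
  have h3 : (ModSite.quotOnπ O U).app ((T O A).obj M) ≫
      (ModSite.quotOn O U).map (braid O M A).hom =
      (braid O M A).hom ≫ (ModSite.quotOnπ O U).app ((T O M).obj A) :=
    ((ModSite.quotOnπ O U).naturality (braid O M A).hom).symm
  have h4 := braid_symm O A M
  change _ ≫ (braid O A ((ModSite.quotOn O U).obj M)).hom ≫ (quotTensorIso O U M A).hom ≫
    (ModSite.quotOn O U).map (braid O M A).hom = _
  rw [reassoc_of% h1, reassoc_of% h2, h3, reassoc_of% h4]

/-- `(A/A_U) ⊗ M ≅ A ⊗ (M/M_U)`, naturally in `A` -/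
noncomputable def ν (M : ModSite.Mod O) :
    ModSite.quotOn O U ⋙ T O M ≅ T O ((ModSite.quotOn O U).obj M) :=
  NatIso.ofComponents (fun A => quotTensorIso O U A M ≪≫ (quotTensorIso₂ O U A M).symm)
    (fun {A A'} f => by
      have hepi : Epi ((T O M).map ((ModSite.quotOnπ O U).app A)) :=
        (T O M).map_epi _
      rw [← cancel_epi ((T O M).map ((ModSite.quotOnπ O U).app A))]
      have e1 : (T O M).map ((ModSite.quotOnπ O U).app A) ≫
          (T O M).map ((ModSite.quotOn O U).map f) =
          (T O M).map f ≫ (T O M).map ((ModSite.quotOnπ O U).app A') := by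
        rw [← Functor.map_comp, ← Functor.map_comp]
        exact congrArg (T O M).map ((ModSite.quotOnπ O U).naturality f).symm
      have e2 : ∀ B : ModSite.Mod O, (ModSite.quotOnπ O U).app ((T O M).obj B) ≫
          (quotTensorIso₂ O U B M).inv =
          ((ModSite.tensorBi O).obj B).map ((ModSite.quotOnπ O U).app M) := by
        intro B
        rw [← π_quotTensorIso₂_hom, Category.assoc, Iso.hom_inv_id, Category.comp_id]
      have e3 := π_quotTensorIso_hom O U A M
      have e3' := π_quotTensorIso_hom O U A' M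
      have e4 : ((ModSite.tensorBi O).obj A).map ((ModSite.quotOnπ O U).app M) ≫
          (T O ((ModSite.quotOn O U).obj M)).map f =
          (T O M).map f ≫ ((ModSite.tensorBi O).obj A').map ((ModSite.quotOnπ O U).app M) :=
        ((ModSite.tensorBi O).map f).naturality ((ModSite.quotOnπ O U).app M)
      dsimp only [Functor.comp_obj, Functor.comp_map, Iso.trans_hom, Iso.symm_hom]
      simp only [Category.assoc]
      rw [reassoc_of% e1, reassoc_of% e3', e2, reassoc_of% e3, reassoc_of% (e2 A), e4])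

/-- `Γ_Z ℋom(M, -) ≅ ℋom(M/M_U, -)` -/
noncomputable def sheafHomSectIso (M : ModSite.Mod O) [ModSite.HasSheafHom M]
    [ModSite.HasSheafHom ((ModSite.quotOn O U).obj M)] :
    ModSite.sheafHom M ⋙ ModSite.sectOn O U ≅
      ModSite.sheafHom ((ModSite.quotOn O U).obj M) :=
  ((((adj O U).comp (ModSite.sheafHomAdj M)).ofNatIsoLeft (ν O U M)).rightAdjointUniq
    (ModSite.sheafHomAdj ((ModSite.quotOn O U).obj M)))

/-- `(A/A_U) ⊗ M ≅ (A ⊗ M)/(A ⊗ M)_U`, naturally in `A` -/
noncomputable def ν' (M : ModSite.Mod O) :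
    ModSite.quotOn O U ⋙ T O M ≅ T O M ⋙ ModSite.quotOn O U :=
  NatIso.ofComponents (fun A => quotTensorIso O U A M)
    (fun {A A'} f => by
      have hepi : Epi ((T O M).map ((ModSite.quotOnπ O U).app A)) :=
        (T O M).map_epi _
      rw [← cancel_epi ((T O M).map ((ModSite.quotOnπ O U).app A))]
      have e1 : (T O M).map ((ModSite.quotOnπ O U).app A) ≫
          (T O M).map ((ModSite.quotOn O U).map f) =
          (T O M).map f ≫ (T O M).map ((ModSite.quotOnπ O U).app A') := by
        rw [← Functor.map_comp, ← Functor.map_comp]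
        exact congrArg (T O M).map ((ModSite.quotOnπ O U).naturality f).symm
      have e3 := π_quotTensorIso_hom O U A M
      have e3' := π_quotTensorIso_hom O U A' M
      have e4 : (ModSite.quotOnπ O U).app ((T O M).obj A) ≫
          (ModSite.quotOn O U).map ((T O M).map f) =
          (T O M).map f ≫ (ModSite.quotOnπ O U).app ((T O M).obj A') :=
        ((ModSite.quotOnπ O U).naturality ((T O M).map f)).symm
      dsimp only [Functor.comp_obj, Functor.comp_map]
      rw [reassoc_of% e1, e3', reassoc_of% e3, e4])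

/-- `Γ_Z ℋom(M, -) ≅ ℋom(M, Γ_Z -)` -/
noncomputable def sheafHomSectIso' (M : ModSite.Mod O) [ModSite.HasSheafHom M] :
    ModSite.sheafHom M ⋙ ModSite.sectOn O U ≅ ModSite.sectOn O U ⋙ ModSite.sheafHom M :=
  ((((adj O U).comp (ModSite.sheafHomAdj M)).ofNatIsoLeft (ν' O U M)).rightAdjointUniq
    ((ModSite.sheafHomAdj M).comp (adj O U)))

end Tensor

end Groth.Agent.Lib.Helper6.QuotSect
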