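import Groth.Prelude.Def_CohCx
import Mathlib.CategoryTheory.Sites.Adjunction
import Mathlib.Algebra.Homology.CommSq
import Mathlib.Algebra.Homology.DerivedCategory.Ext.ExactSequences

/-!
# Restriction along monomorphisms for totally acyclic sheaves (helper6)
-/

universe u
open CategoryTheory Limits Opposite Abelian

namespace Groth.Agent.Lib.Helper6.TotAcycMono

variable {C : Type u} [SmallCategory C] (J : GrothendieckTopology C)

/-- the free abelian sheaf functor on sheaves of sets -/
noncomputable abbrev Φ : Sheaf J (Type u) ⥤ Sheaf J AddCommGrpCat.{u} :=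
  Sheaf.composeAndSheafify J AddCommGrpCat.free.{u}

instance : PreservesColimitsOfSize.{0, 0} (Φ J) :=
  (Sheaf.adjunction J AddCommGrpCat.adj).leftAdjoint_preservesColimits

lemma mono_Φ_map {Y X : Sheaf J (Type u)} (ι : Y ⟶ X) [Mono ι] : Mono ((Φ J).map ι) := by
  have h1 : Mono ((sheafToPresheaf J (Type u)).map ι) := inferInstance
  have h2 : Mono (Functor.whiskerRight ((sheafToPresheaf J (Type u)).map ι)
      AddCommGrpCat.free.{u}) := by
    rw [NatTrans.mono_iff_mono_app]
    intro W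
    have : Mono (((sheafToPresheaf J (Type u)).map ι).app W) :=
      (NatTrans.mono_iff_mono_app _).1 h1 W
    dsimp
    infer_instance
  change Mono ((presheafToSheaf J AddCommGrpCat.{u}).map
    (Functor.whiskerRight ((sheafToPresheaf J (Type u)).map ι) AddCommGrpCat.free.{u}))
  infer_instance

theorem surjective_restrict {F : Sheaf J AddCommGrpCat.{u}} (hF : CohCx.IsTotallyAcyclic F)
    {Y X : Sheaf J (Type u)} (ι : Y ⟶ X) [Mono ι] (y : (Φ J).obj Y ⟶ F) :
    ∃ x : (Φ J).obj X ⟶ F, (Φ J).map ι ≫ x = y := by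
  let t := terminal.from Y
  let tX := terminal.from X
  have sq : IsPushout ι t (pushout.inl ι t) (pushout.inr ι t) := IsPushout.of_hasPushout ι t
  have sqΦ := sq.map (Φ J)
  have hmono := mono_Φ_map J ι
  have hS : sqΦ.shortComplex.ShortExact :=
    { exact := ShortComplex.exact_of_g_is_cokernel _ sqΦ.isColimitCokernelCofork
      mono_f := by
        have : biprod.lift ((Φ J).map ι) (-(Φ J).map t) ≫ biprod.fst = (Φ J).map ι := by simp
        exact @mono_of_mono_fac _ _ _ _ _ _ _ _ hmono this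
      epi_g := sqΦ.epi_shortComplex_g }
  have hvan : hS.extClass.comp (Ext.mk₀ y) (add_zero 1) = 0 := (hF _ 0).elim _ _
  obtain ⟨x₂, hx₂⟩ := Ext.contravariant_sequence_exact₁ hS F (Ext.mk₀ y) (add_zero 1) hvan
  obtain ⟨w', rfl⟩ := (Ext.mk₀_bijective _ _).2 x₂
  rw [Ext.mk₀_comp_mk₀] at hx₂
  let w : (Φ J).obj X ⊞ (Φ J).obj (⊤_ Sheaf J (Type u)) ⟶ F := w'
  have hw : biprod.lift ((Φ J).map ι) (-(Φ J).map t) ≫ w = y := (Ext.mk₀_bijective _ _).1 hx₂
  refine ⟨biprod.inl ≫ w - (Φ J).map tX ≫ biprod.inr ≫ w, ?_⟩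
  have ht : (Φ J).map t = (Φ J).map ι ≫ (Φ J).map tX := by
    rw [← Functor.map_comp]
    congr 1
    exact Subsingleton.elim _ _
  rw [← hw, biprod.lift_eq, ht]
  simp only [Preadditive.add_comp, Preadditive.neg_comp, Category.assoc,
    sub_eq_add_neg, Preadditive.comp_add, Preadditive.comp_neg]

end Groth.Agent.Lib.Helper6.TotAcycMono
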