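import Groth.Agent.Lib.Helper6.ExtZeroVanish
import Groth.Agent.Lib.Helper6.QuotSect
import Groth.Agent.Lib.Helper6.TotAcycMono
import Groth.Agent.Lib.Helper6.TotAcyc
import Groth.Agent.Lib.Helper6.SieveExt
import Groth.Agent.Lib.Helper6.ModAbCoh
import Groth.Agent.Lib.Helper6.RDAdapted
import Groth.Agent.Lib.Helper6.GrothSS
import Groth.Agent.Lib.Helper6.InjModTotAcyc

/-!
# `Γ_Z` is right exact on short exact sequences with flasque kernel (helper6)
-/

set_option autoImplicit false
universe u
open CategoryTheory CategoryTheory.Limits Opposite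

namespace Groth.Agent.Lib.Helper6.SectOnEpi

open Groth.Agent.Lib.Helper1

/-- a map out of the unit module vanishes at `X` as soon as it kills `1` -/
lemma app_unit_eq_zero {D : Type u} [SmallCategory D] {K : GrothendieckTopology D}
    {R : Sheaf K RingCat.{u}} {N : SheafOfModules.{u} R} (f : SheafOfModules.unit R ⟶ N)
    (X : Dᵒᵖ) (h : f.val.app X (1 : R.obj.obj X) = 0) (x : R.obj.obj X) :
    f.val.app X x = 0 := by
  have e : x = x • (1 : R.obj.obj X) := (mul_one x).symm
  have h1 := (ConcreteCategory.hom (f.val.app X)).map_smul x (1 : R.obj.obj X)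
  refine (congrArg (ConcreteCategory.hom (f.val.app X)) e).trans (h1.trans ?_)
  rw [h]
  exact smul_zero _

variable {C : Type u} [SmallCategory C] {J : GrothendieckTopology C} (O : Sheaf J CommRingCat.{u})
  (V U : C)

/-- the generator of `freeOn O V` -/
noncomputable def gen : (ModSite.freeOn O V).val.obj (op V) :=
  ModSiteFree.homEquiv O V _ (𝟙 _)

lemma homEquiv_eq (M : ModSite.Mod O) (a : ModSite.freeOn O V ⟶ M) :
    ModSiteFree.homEquiv O V M a = a.val.app (op V) (gen O V) := by
  have := ModSiteFree.homEquiv_comp O V (𝟙 _) a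
  rwa [Category.id_comp] at this

/-- a map out of `freeOn O V` vanishing on `U` has section vanishing on all `W ⟶ V` over `U` -/
lemma map_homEquiv_eq_zero {M : ModSite.Mod O} (a : ModSite.freeOn O V ⟶ M)
    (h : (ModSite.restr O U).map a = 0) {W : C} (v : W ⟶ V) (hW : Nonempty (W ⟶ U)) :
    M.val.map v.op (ModSiteFree.homEquiv O V M a) = 0 := by
  obtain ⟨k⟩ := hW
  rw [homEquiv_eq]
  have h1 := PresheafOfModules.naturality_apply a.val v.op (gen O V)
  refine h1.symm.trans ?_
  exact congrArg (fun ψ : (ModSite.restr O U).obj _ ⟶ (ModSite.restr O U).obj M =>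
    (ψ.val.app (op (Over.mk k))).hom ((ModSite.freeOn O V).val.map v.op (gen O V))) h

/-- a map out of `freeOn O V` whose section vanishes on all `W ⟶ V` over `U` vanishes on `U` -/
lemma restr_eq_zero_of_vanish {M : ModSite.Mod O} (a : ModSite.freeOn O V ⟶ M)
    (h : ∀ (W : C) (v : W ⟶ V), Nonempty (W ⟶ U) →
      M.val.map v.op (ModSiteFree.homEquiv O V M a) = 0) :
    (ModSite.restr O U).map a = 0 := by
  refine ExtZeroVanish.extZero_vanish O V U (SheafOfModules.unit _) M a ?_
  intro W v hW x
  have h2 : ((ModSite.extZeroAdj O V).homEquiv (SheafOfModules.unit _) M a).val.app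
      (op (Over.mk v)) (1 : (ModSite.ringSh (O.over V)).obj.obj (op (Over.mk v))) =
      M.val.map v.op (ModSiteFree.homEquiv O V M a) := by
    have := (SheafOfModules.unitHomEquiv _
      ((ModSite.extZeroAdj O V).homEquiv (SheafOfModules.unit _) M a)).2
      (ModSiteFree.toTop V (Over.mk v)).op
    exact this.symm
  refine app_unit_eq_zero ((ModSite.extZeroAdj O V).homEquiv (SheafOfModules.unit _) M a)
    (op (Over.mk v)) ?_ x
  exact h2.trans (h W v hW)

section Ext

variable (J)

instance mono_sheafify_incl {V : C} (R : Sieve V) :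
    Mono ((presheafToSheaf J (Type u)).map R.functorInclusion) := inferInstance

/-- extension of a family on a sieve to a section, for totally acyclic sheaves -/
theorem exists_extension {F : Sheaf J AddCommGrpCat.{u}} (hF : CohCx.IsTotallyAcyclic F) {V : C}
    (R : Sieve V) (φ : R.functor ⟶ F.obj ⋙ forget AddCommGrpCat.{u}) :
    ∃ m : F.obj.obj (op V), ∀ (W : C) (w : W ⟶ V) (hw : R w),
      F.obj.map w.op m = φ.app (op W) ⟨w, hw⟩ := by
  let ι := (presheafToSheaf J (Type u)).map R.functorInclusion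
  let y : (TotAcycMono.Φ J).obj ((presheafToSheaf J (Type u)).obj R.functor) ⟶ F :=
    ((TotAcyc.adjB J).homEquiv R.functor F).symm φ
  obtain ⟨x, hx⟩ := TotAcycMono.surjective_restrict J hF ι y
  let x' : yoneda.obj V ⟶ F.obj ⋙ forget AddCommGrpCat.{u} :=
    (TotAcyc.adjB J).homEquiv (yoneda.obj V) F x
  have hx' : R.functorInclusion ≫ x' = φ := by
    have := (TotAcyc.adjB J).homEquiv_naturality_left R.functorInclusion x
    refine this.symm.trans ?_
    have h2 : (presheafToSheaf J (Type u) ⋙ Sheaf.composeAndSheafify J AddCommGrpCat.free.{u}).map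
        R.functorInclusion ≫ x = y := hx
    rw [h2]
    exact Equiv.apply_symm_apply _ _
  refine ⟨yonedaEquiv x', ?_⟩
  intro W w hw
  subst hx'
  have h1 := yonedaEquiv_naturality x' w
  have h2 : yonedaEquiv (yoneda.map w ≫ x') = x'.app (op W) w := by
    rw [yonedaEquiv_comp, yonedaEquiv_yoneda_map]
  exact h1.trans h2
end Ext

section Key

variable {O}

/-- a map of modules through which every section lifts is an epimorphism -/
lemma epi_of_forall_lift {A B : ModSite.Mod O} (f : A ⟶ B)
    (h : ∀ (V : C) (b : ModSite.freeOn O V ⟶ B), ∃ a : ModSite.freeOn O V ⟶ A, a ≫ f = b) :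
    Epi f := by
  have key : ∀ (V : C) (t : B.val.obj (op V)), ∃ x : A.val.obj (op V),
      f.val.app (op V) x = t := by
    intro V t
    obtain ⟨a, ha⟩ := h V ((ModSiteFree.homEquiv O V B).symm t)
    refine ⟨ModSiteFree.homEquiv O V A a, ?_⟩
    have := ModSiteFree.homEquiv_comp O V a f
    rw [ha, Equiv.apply_symm_apply] at this
    exact this.symm
  have : Epi ((SheafOfModules.toSheaf (ModSite.ringSh O)).map f) := by
    apply TotAcycProd.epi_of_sections_surjective
    intro V t
    exact key V t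
  exact (SheafOfModules.toSheaf (ModSite.ringSh O)).epi_of_epi_map this

/-- exactness on sections -/
lemma exists_of_g_eq_zero {S : ShortComplex (ModSite.Mod O)} (hS : S.ShortExact) (W : C)
    (x : S.X₂.val.obj (op W)) (hx : S.g.val.app (op W) x = 0) :
    ∃ n : S.X₁.val.obj (op W), S.f.val.app (op W) n = x := by
  have : (SheafOfModules.evaluation (ModSite.ringSh O) (op W)).Additive :=
    inferInstanceAs ((SheafOfModules.forget _ ⋙ PresheafOfModules.evaluation _ (op W)).Additive)
  have hE : (S.map (SheafOfModules.evaluation (ModSite.ringSh O) (op W))).Exact :=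
    hS.exact.map_of_mono_of_preservesKernel _ hS.mono_f inferInstance
  rw [ShortComplex.moduleCat_exact_iff] at hE
  exact hE x hx

/-- the sieve of arrows whose source maps to `U` -/
def sieveTo (V : C) : Sieve V where
  arrows W _ := Nonempty (W ⟶ U)
  downward_closed := fun ⟨k⟩ g => ⟨g ≫ k⟩

theorem epi_sectOn_map_g [ModSite.HasPushOver O U] {S : ShortComplex (ModSite.Mod O)}
    (hS : S.ShortExact) (h₁ : CohCx.IsTotallyAcyclic (ModSite.toAb S.X₁)) :
    Epi ((ModSite.sectOn O U).map S.g) := by
  apply epi_of_forall_lift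
  intro V b
  have hψ0 : (ModSite.restr O U).map (b ≫ (ModSite.sectOnι O U).app S.X₃) = 0 :=
    QuotSect.restr_comp_ι O U b
  -- sections surjective
  have hE := hS.map_of_exact (SheafOfModules.toSheaf (ModSite.ringSh O))
  have hsurj := SieveExt.surjective_of_H1_vanish J hE V
    (fun x => (TotAcyc.subsingleton_HU J h₁ V 0).elim _ _)
  have hsurj' : ∀ t : S.X₃.val.obj (op V), ∃ s : S.X₂.val.obj (op V),
      S.g.val.app (op V) s = t := fun t => hsurj t
  obtain ⟨s, hs⟩ := hsurj' (ModSiteFree.homEquiv O V S.X₃ (b ≫ (ModSite.sectOnι O U).app S.X₃))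
  have hker : ∀ (W : C) (w : W ⟶ V), Nonempty (W ⟶ U) →
      S.g.val.app (op W) (S.X₂.val.map w.op s) = 0 := by
    intro W w hw
    have h1 := PresheafOfModules.naturality_apply S.g.val w.op s
    refine h1.trans ?_
    rw [hs]
    exact map_homEquiv_eq_zero O V U _ hψ0 w hw
  have hn : ∀ (W : C) (w : W ⟶ V) (hw : Nonempty (W ⟶ U)), ∃ n : S.X₁.val.obj (op W),
      S.f.val.app (op W) n = S.X₂.val.map w.op s :=
    fun W w hw => exists_of_g_eq_zero hS W _ (hker W w hw)
  choose n hn using hn
  have hinj : ∀ W : C, Function.Injective (S.f.val.app (op W)) := fun W =>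
    haveI := hS.mono_f
    QuotExact.injective_of_mono S.f W
  have hcomp : ∀ (W W' : C) (k : W' ⟶ W) (w : W ⟶ V) (hw : Nonempty (W ⟶ U))
      (hw' : Nonempty (W' ⟶ U)), S.X₁.val.map k.op (n W w hw) = n W' (k ≫ w) hw' := by
    intro W W' k w hw hw'
    apply hinj W'
    have h1 := PresheafOfModules.naturality_apply S.f.val k.op (n W w hw)
    refine h1.trans ?_
    rw [hn W w hw, hn W' (k ≫ w) hw']
    have h2 : S.X₂.val.map (k ≫ w).op s = S.X₂.val.map k.op (S.X₂.val.map w.op s) := by
      rw [op_comp, PresheafOfModules.map_comp]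
      rfl
    exact h2.symm
  -- the family on the sieve
  let φ : (sieveTo U V).functor ⟶ (ModSite.toAb S.X₁).obj ⋙ forget AddCommGrpCat.{u} :=
    { app := fun W => TypeCat.ofHom (fun x => n W.unop x.1 x.2)
      naturality := by
        intro W W' k
        ext x
        exact (hcomp W.unop W'.unop k.unop x.1 x.2 _).symm }
  obtain ⟨m, hm⟩ := exists_extension J h₁ (sieveTo U V) φ
  have hm' : ∃ m' : S.X₁.val.obj (op V), ∀ (W : C) (w : W ⟶ V) (hw : Nonempty (W ⟶ U)),
      S.X₁.val.map w.op m' = n W w hw := ⟨m, fun W w hw => hm W w hw⟩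
  obtain ⟨m', hm'⟩ := hm'
  have hfg : ∀ y : S.X₁.val.obj (op V), S.g.val.app (op V) (S.f.val.app (op V) y) = 0 := by
    intro y
    have := congrArg (fun ψ : S.X₁ ⟶ S.X₃ => ψ.val.app (op V) y) S.zero
    exact this
  let a₀ : ModSite.freeOn O V ⟶ S.X₂ :=
    (ModSiteFree.homEquiv O V S.X₂).symm (s - S.f.val.app (op V) m')
  have ha₀ : (ModSite.restr O U).map a₀ = 0 := by
    apply restr_eq_zero_of_vanish
    intro W w hw
    rw [Equiv.apply_symm_apply, map_sub, sub_eq_zero, ← hn W w hw]
    have h1 := PresheafOfModules.naturality_apply S.f.val w.op m'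
    rw [← hm' W w hw]
    exact h1
  have hg : a₀ ≫ S.g = b ≫ (ModSite.sectOnι O U).app S.X₃ := by
    apply (ModSiteFree.homEquiv O V S.X₃).injective
    rw [ModSiteFree.homEquiv_comp, Equiv.apply_symm_apply, map_sub, hs, hfg, sub_zero]
  refine ⟨QuotSect.liftS O U a₀ ha₀, ?_⟩
  rw [← cancel_mono ((ModSite.sectOnι O U).app S.X₃), Category.assoc]
  have nat : (ModSite.sectOn O U).map S.g ≫ (ModSite.sectOnι O U).app S.X₃ =
      (ModSite.sectOnι O U).app S.X₂ ≫ S.g := (ModSite.sectOnι O U).naturality S.g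
  rw [nat, QuotSect.liftS_ι_assoc, hg]

/-- total acyclicity passes to cokernels -/
lemma totallyAcyclic_X₃ {E : ShortComplex (Sheaf J AddCommGrpCat.{u})} (hE : E.ShortExact)
    (h₁ : CohCx.IsTotallyAcyclic E.X₁) (h₂ : CohCx.IsTotallyAcyclic E.X₂) :
    CohCx.IsTotallyAcyclic E.X₃ := by
  intro K p
  have key : ∀ x : CohCx.HK K E.X₃ (p + 1), x = 0 := by
    intro x
    obtain ⟨y, rfl⟩ := Abelian.Ext.covariant_sequence_exact₃ _ hE x
      (rfl : p + 1 + 1 = p + 1 + 1) ((h₁ K (p + 1)).elim _ _)
    rw [(h₂ K p).elim y 0, Abelian.Ext.zero_comp]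
  exact ⟨fun a b => (key a).trans (key b).symm⟩

section Acyc

attribute [local instance] HasDerivedCategory.standard

variable (O) [ModSite.HasPushOver O U] [EnoughInjectives (ModSite.Mod O)]

instance preservesFiniteLimits_sectOn : PreservesFiniteLimits (ModSite.sectOn O U) :=
  (QuotSect.adj O U).rightAdjoint_preservesLimits.{0, 0}.preservesFiniteLimits

/-- modules with totally acyclic underlying abelian sheaf are acyclic for `Γ_Z` -/
theorem acyc_sectOn (M : ModSite.Mod O) (hM : CohCx.IsTotallyAcyclic (ModSite.toAb M)) :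
    RDAcyc.Acyc (ModSite.sectOn O U) M := by
  refine RDAdapted.acyc_of_adapted (ModSite.sectOn O U)
    (fun G : ModSite.Mod O => CohCx.IsTotallyAcyclic (ModSite.toAb G)) ?_ ?_ hM
  · intro G
    exact ⟨Injective.under G, Injective.ι G, InjModTotAcyc.totallyAcyclic _ _, inferInstance⟩
  · intro S hS h₁ h₂
    exact ⟨totallyAcyclic_X₃ (hS.map_of_exact (SheafOfModules.toSheaf (ModSite.ringSh O))) h₁ h₂,
      RDAcyc.map_shortExact _ hS (epi_sectOn_map_g U hS h₁)⟩

/-- `ℋ^{q+1}_Z(M) = 0` for `M` with totally acyclic underlying abelian sheaf -/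
theorem isZero_HZsh [HasInjectiveResolutions (ModSite.Mod O)] (M : ModSite.Mod O) (hM : CohCx.IsTotallyAcyclic (ModSite.toAb M)) (q : ℕ) :
    IsZero ((ModSite.HZsh O U (q + 1)).obj M) :=
  (RDAcyc.acyc_iff_isZero_rightDerived (ModSite.sectOn O U) M).1 (acyc_sectOn O U M hM) q

end Acyc

end Key

end Groth.Agent.Lib.Helper6.SectOnEpi
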