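import Groth.Agent.Lib.Helper6.DevCore
import Mathlib
set_option backward.isDefEq.respectTransparency.types false
set_option autoImplicit false

/-!
# The inductive step of devissage through the graph trick
-/

universe u
open CategoryTheory CategoryTheory.Limits AlgebraicGeometry Opposite TopologicalSpace
open Groth.Agent.Lib.Helper17.CohKer Groth.Agent.Lib.Helper17.StalkExact Groth.Agent.Lib.Helper28.QCohLoc

namespace Groth.Agent.Lib.Helper6.DevStep
open Groth.Agent.Lib.Helper6.DevSub Groth.Agent.Lib.Helper6.DevCore Groth.Agent.Lib.Helper6.DevSoc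

variable {X : Scheme.{u}}

theorem smul_eq_zero_iff_mem {R M : Type*} [CommRing R] [IsLocalRing R] [AddCommGroup M] [Module R M]
    (m : M) (hm : m ≠ 0) (hmm : ∀ a ∈ IsLocalRing.maximalIdeal R, a • m = 0) (c : R) :
    c • m = 0 ↔ c ∈ IsLocalRing.maximalIdeal R := by
  refine ⟨fun h => ?_, hmm c⟩
  by_contra hc
  obtain ⟨u, rfl⟩ := IsLocalRing.notMem_maximalIdeal.1 hc
  apply hm
  have := congrArg (fun z => (↑u⁻¹ : R) • z) h
  simpa [smul_smul] using this

theorem notMem_support_kernel {H B : X.Modules} (r : H ⟶ B) (y : X)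
    (hinj : ∀ h : H.presheaf.stalk y, stalkHom r y h = 0 → h = 0) : y ∉ CohB1.support (kernel r) := by
  intro hy
  apply hy
  refine ⟨fun k₁ k₂ => ?_⟩
  have key : ∀ k : (kernel r).presheaf.stalk y, k = 0 := by
    intro k
    apply stalkHom_injective_of_mono (kernel.ι r) y
    rw [map_zero]
    apply hinj
    rw [← stalkHom_comp, kernel.condition, stalkHom_zero]
  rw [key k₁, key k₂]

theorem notMem_support_cokernel {H B : X.Modules} (r : H ⟶ B) (y : X)
    (hsurj : Function.Surjective (stalkHom r y)) : y ∉ CohB1.support (cokernel r) := by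
  intro hy
  apply hy
  refine ⟨fun k₁ k₂ => ?_⟩
  have key : ∀ k : (cokernel r).presheaf.stalk y, k = 0 := by
    intro k
    obtain ⟨b, rfl⟩ := stalkHom_surjective_of_epi (cokernel.π r) y k
    obtain ⟨h, rfl⟩ := hsurj b
    rw [← stalkHom_comp, cokernel.condition, stalkHom_zero]
  rw [key k₁, key k₂]

theorem mem_support_image {H Q : X.Modules} (p : H ⟶ Q) (y : X)
    (h : ∃ h : H.presheaf.stalk y, stalkHom p y h ≠ 0) : y ∈ CohB1.support (Abelian.image p) := by
  obtain ⟨h, hh⟩ := h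
  intro hsub
  apply hh
  rw [← Abelian.image.fac p, stalkHom_comp, hsub.elim (stalkHom (Abelian.factorThruImage p) y h) 0, map_zero]

theorem support_biprod_subset (A B : X.Modules) :
    CohB1.support (A ⊞ B) ⊆ CohB1.support A ∪ CohB1.support B := by
  let S : ShortComplex X.Modules := ShortComplex.mk (biprod.inl : A ⟶ A ⊞ B) biprod.snd (by simp)
  have spl : S.Splitting := ShortComplex.Splitting.ofHasBinaryBiproduct _ _
  exact (Groth.Agent.S0796.support_eq_union S spl.shortExact).le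

/-- the short exact sequence `ker f ⟶ A ⟶ coim f` -/
noncomputable def sc1 {A B : X.Modules} (f : A ⟶ B) : ShortComplex X.Modules :=
  ShortComplex.mk (kernel.ι f) (cokernel.π (kernel.ι f)) (cokernel.condition _)

theorem sc1_shortExact {A B : X.Modules} (f : A ⟶ B) : (sc1 f).ShortExact :=
  ShortComplex.ShortExact.mk' (ShortComplex.exact_of_g_is_cokernel _ (cokernelIsCokernel (kernel.ι f)))
    equalizer.ι_mono coequalizer.π_epi

/-- the short exact sequence `im f ⟶ B ⟶ coker f` -/
noncomputable def sc2 {A B : X.Modules} (f : A ⟶ B) : ShortComplex X.Modules :=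
  ShortComplex.mk (Abelian.image.ι f) (cokernel.π f) (kernel.condition _)

theorem sc2_shortExact {A B : X.Modules} (f : A ⟶ B) : (sc2 f).ShortExact :=
  ShortComplex.ShortExact.mk' (ShortComplex.exact_of_f_is_kernel _ (kernelIsKernel (cokernel.π f)))
    equalizer.ι_mono coequalizer.π_epi

theorem isCoh_coimage [IsLocallyNoetherian X] {A B : X.Modules} (f : A ⟶ B) (hA : Coh.IsCoh A)
    (hB : Coh.IsCoh B) : Coh.IsCoh (Abelian.coimage f) :=
  isCoh_cokernel _ (isCoh_kernel f hA hB) hA

section twoOfThree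

variable [IsNoetherian X] (K' : ObjectProperty X.Modules) [K'.IsClosedUnderIsomorphisms]
  (hex : ∀ S : ShortComplex X.Modules, S.ShortExact → Coh.IsCoh S.X₁ → Coh.IsCoh S.X₂ → Coh.IsCoh S.X₃ →
      (K' S.X₁ → K' S.X₂ → K' S.X₃) ∧ (K' S.X₁ → K' S.X₃ → K' S.X₂) ∧ (K' S.X₂ → K' S.X₃ → K' S.X₁))

include hex in
theorem mem_of_ker_coker {A B : X.Modules} (f : A ⟶ B) (hA : Coh.IsCoh A) (hB : Coh.IsCoh B)
    (h1 : K' (kernel f)) (h2 : K' (cokernel f)) (h3 : K' B) : K' A := by
  have hi : K' (Abelian.image f) :=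
    (hex (sc2 f) (sc2_shortExact f) (isCoh_image f hA hB) hB (isCoh_cokernel f hA hB)).2.2 h3 h2
  have hc : K' (Abelian.coimage f) := K'.prop_of_iso (Abelian.coimageIsoImage f).symm hi
  exact (hex (sc1 f) (sc1_shortExact f) (isCoh_kernel f hA hB) hA (isCoh_coimage f hA hB)).2.1 h1 hc

include hex in
theorem image_mem_of_ker {A B : X.Modules} (f : A ⟶ B) (hA : Coh.IsCoh A) (hB : Coh.IsCoh B)
    (h1 : K' (kernel f)) (h2 : K' A) : K' (Abelian.image f) := by
  have hc : K' (Abelian.coimage f) :=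
    (hex (sc1 f) (sc1_shortExact f) (isCoh_kernel f hA hB) hA (isCoh_coimage f hA hB)).1 h1 h2
  exact K'.prop_of_iso (Abelian.coimageIsoImage f) hc

include hex in
/-- **the step for a class with two-out-of-three**, using a module `G` of the class whose stalk at `y` is cyclic and
killed by the maximal ideal. -/
theorem step_simple (Z : Set X) (y : X) (hZ : closure {y} = Z)
    (IH : ∀ N : X.Modules, Coh.IsCoh N → CohB1.support N ⊆ Z → y ∉ CohB1.support N → K' N)
    (G : X.Modules) (hG : Coh.IsCoh G) (hKG : K' G) (hGZ : CohB1.support G ⊆ Z)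
    (g : G.presheaf.stalk y) (hg0 : g ≠ 0)
    (hgm : ∀ a ∈ IsLocalRing.maximalIdeal (X.presheaf.stalk y), a • g = 0)
    (hgen : ∀ g' : G.presheaf.stalk y, ∃ c : X.presheaf.stalk y, g' = c • g)
    (Q : X.Modules) (hQ : Coh.IsCoh Q) (hQZ : CohB1.support Q ⊆ Z) (hyQ : y ∈ CohB1.support Q) :
    ∃ (S : X.Modules) (i : S ⟶ Q), Mono i ∧ Coh.IsCoh S ∧ K' S ∧ y ∈ CohB1.support S := by
  obtain ⟨q, hq0, hqm⟩ := exists_socle Q hQ y (hZ ▸ hQZ) hyQ
  obtain ⟨H, ι, hι, hH, h₀, hp, hr, hcyc, hzero⟩ := exists_graph Q G hQ hG y q g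
  have hHZ : CohB1.support H ⊆ Z :=
    (support_subset_of_mono ι).trans ((support_biprod_subset Q G).trans (Set.union_subset hQZ hGZ))
  have hpinj : ∀ h : H.presheaf.stalk y, stalkHom (ι ≫ biprod.fst) y h = 0 → h = 0 := by
    intro h hh
    obtain ⟨c, rfl⟩ := hcyc h
    rw [stalkHom_smul, hp] at hh
    have hc := (smul_eq_zero_iff_mem q hq0 hqm c).1 hh
    exact hzero c hh (hgm c hc)
  have hrinj : ∀ h : H.presheaf.stalk y, stalkHom (ι ≫ biprod.snd) y h = 0 → h = 0 := by
    intro h hh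
    obtain ⟨c, rfl⟩ := hcyc h
    rw [stalkHom_smul, hr] at hh
    have hc := (smul_eq_zero_iff_mem g hg0 hgm c).1 hh
    exact hzero c (hqm c hc) hh
  have hrsurj : Function.Surjective (stalkHom (ι ≫ biprod.snd) y) := by
    intro g'
    obtain ⟨c, rfl⟩ := hgen g'
    exact ⟨c • h₀, by rw [stalkHom_smul, hr]⟩
  have hK1 : K' (kernel (ι ≫ biprod.snd)) := IH _ (isCoh_kernel _ hH hG)
    ((support_subset_of_mono (kernel.ι _)).trans hHZ) (notMem_support_kernel _ y hrinj)
  have hK2 : K' (cokernel (ι ≫ biprod.snd)) := IH _ (isCoh_cokernel _ hH hG)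
    ((support_subset_of_epi (cokernel.π _)).trans hGZ) (notMem_support_cokernel _ y hrsurj)
  have hKH : K' H := mem_of_ker_coker K' hex (ι ≫ biprod.snd) hH hG hK1 hK2 hKG
  have hK3 : K' (kernel (ι ≫ biprod.fst)) := IH _ (isCoh_kernel _ hH hQ)
    ((support_subset_of_mono (kernel.ι _)).trans hHZ) (notMem_support_kernel _ y hpinj)
  refine ⟨Abelian.image (ι ≫ biprod.fst), Abelian.image.ι _, inferInstance, isCoh_image _ hH hQ,
    image_mem_of_ker K' hex _ hH hQ hK3 hKH, mem_support_image _ y ⟨h₀, ?_⟩⟩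
  rw [hp]
  exact hq0

end twoOfThree

/-- a simple module over a local ring is cyclic, generated by an element killed by the maximal ideal -/
theorem exists_gen_of_isSimpleModule (R M : Type*) [CommRing R] [IsLocalRing R] [AddCommGroup M] [Module R M]
    [IsSimpleModule R M] :
    ∃ g : M, g ≠ 0 ∧ (∀ a ∈ IsLocalRing.maximalIdeal R, a • g = 0) ∧ ∀ g' : M, ∃ c : R, g' = c • g := by
  haveI := IsSimpleModule.nontrivial R M
  obtain ⟨g, hg⟩ := exists_ne (0 : M)
  refine ⟨g, hg, fun a ha => ?_, fun g' => ?_⟩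
  · have hmax := IsSimpleModule.ker_toSpanSingleton_isMaximal R hg
    have heq := IsLocalRing.eq_maximalIdeal hmax
    rw [← heq] at ha
    exact ha
  · obtain ⟨c, hc⟩ := IsSimpleModule.toSpanSingleton_surjective R hg g'
    exact ⟨c, hc.symm⟩

/-- a module isomorphic to the residue field of a local ring is cyclic, generated by an element killed by the maximal
ideal -/
theorem exists_gen_of_equiv_residueField (R M : Type*) [CommRing R] [IsLocalRing R] [AddCommGroup M] [Module R M]
    (e : M ≃ₗ[R] IsLocalRing.ResidueField R) :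
    ∃ g : M, g ≠ 0 ∧ (∀ a ∈ IsLocalRing.maximalIdeal R, a • g = 0) ∧ ∀ g' : M, ∃ c : R, g' = c • g := by
  have hsm : ∀ c : R, c • (1 : IsLocalRing.ResidueField R) = IsLocalRing.residue R c := by
    intro c
    rw [Algebra.smul_def, mul_one]
    rfl
  refine ⟨e.symm 1, ?_, fun a ha => ?_, fun g' => ?_⟩
  · intro h
    have := congrArg e h
    rw [LinearEquiv.apply_symm_apply, map_zero] at this
    exact one_ne_zero this
  · rw [← map_smul, hsm, (IsLocalRing.residue_eq_zero_iff a).2 ha, map_zero]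
  · obtain ⟨c, hc⟩ := IsLocalRing.residue_surjective (e g')
    refine ⟨c, ?_⟩
    rw [← map_smul, hsm, hc, LinearEquiv.symm_apply_apply]

section serre

variable [IsNoetherian X] (P : ObjectProperty X.Modules)
  (hP : ∀ S : ShortComplex X.Modules, S.ShortExact → Coh.IsCoh S.X₁ → Coh.IsCoh S.X₂ → Coh.IsCoh S.X₃ →
      (P S.X₂ ↔ P S.X₁ ∧ P S.X₃))

include hP in
/-- a Serre class containing a coherent module contains the coherent zero modules -/
theorem serre_zero (F : X.Modules) (hF : Coh.IsCoh F) (hPF : P F) (M : X.Modules) (hM : Coh.IsCoh M)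
    (hz : IsZero M) : P M := by
  let S : ShortComplex X.Modules := ShortComplex.mk (0 : M ⟶ F) (𝟙 F) (by simp)
  have hmono : Mono (0 : M ⟶ F) := ⟨fun g h _ => hz.eq_of_tgt g h⟩
  have hS : S.ShortExact :=
    ShortComplex.ShortExact.mk' ((S.exact_iff_mono rfl).2 (inferInstanceAs (Mono (𝟙 F)))) hmono
      (inferInstanceAs (Epi (𝟙 F)))
  exact ((hP S hS hM hF hF).1 hPF).1

include hP in
/-- a Serre class is closed under isomorphisms of coherent modules -/
theorem serre_iso (F : X.Modules) (hF : Coh.IsCoh F) (hPF : P F) {M N : X.Modules} (e : M ≅ N)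
    (hM : Coh.IsCoh M) (hPM : P M) : P N := by
  have hN : Coh.IsCoh N := isCoh_of_iso e hM
  have hC : Coh.IsCoh (cokernel e.hom) := isCoh_cokernel e.hom hM hN
  have hz : IsZero (cokernel e.hom) := isZero_cokernel_of_epi e.hom
  let S : ShortComplex X.Modules := ShortComplex.mk e.hom (cokernel.π e.hom) (cokernel.condition _)
  have hS : S.ShortExact :=
    ShortComplex.ShortExact.mk' (ShortComplex.exact_of_g_is_cokernel _ (cokernelIsCokernel e.hom))
      (inferInstanceAs (Mono e.hom)) coequalizer.π_epi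
  exact (hP S hS hM hN hC).2 ⟨hPM, serre_zero P hP F hF hPF _ hC hz⟩

include hP in
/-- **the step for a Serre class** containing a coherent module `F` whose support contains `Z`. -/
theorem step_serre (F : X.Modules) (hF : Coh.IsCoh F) (hPF : P F) (Z : Set X) (y : X)
    (hZ : closure {y} = Z) (hyF : y ∈ CohB1.support F)
    (IH : ∀ N : X.Modules, Coh.IsCoh N → CohB1.support N ⊆ Z → y ∉ CohB1.support N → P N)
    (Q : X.Modules) (hQ : Coh.IsCoh Q) (hQZ : CohB1.support Q ⊆ Z) (hyQ : y ∈ CohB1.support Q) :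
    ∃ (S : X.Modules) (i : S ⟶ Q), Mono i ∧ Coh.IsCoh S ∧ P S ∧ y ∈ CohB1.support S := by
  obtain ⟨q, hq0, hqm⟩ := exists_socle Q hQ y (hZ ▸ hQZ) hyQ
  haveI : Nontrivial (F.presheaf.stalk y) := not_subsingleton_iff_nontrivial.1 hyF
  obtain ⟨a, ha0⟩ := exists_ne (0 : F.presheaf.stalk y)
  obtain ⟨H, ι, hι, hH, h₀, hp, hr, hcyc, hzero⟩ := exists_graph F Q hF hQ y a q
  have hpinj : ∀ h : H.presheaf.stalk y, stalkHom (ι ≫ biprod.fst) y h = 0 → h = 0 := by
    intro h hh
    obtain ⟨c, rfl⟩ := hcyc h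
    rw [stalkHom_smul, hp] at hh
    have hc : c ∈ IsLocalRing.maximalIdeal (X.presheaf.stalk y) := by
      by_contra hc
      obtain ⟨u, rfl⟩ := IsLocalRing.notMem_maximalIdeal.1 hc
      apply ha0
      have := congrArg (fun z => (↑u⁻¹ : X.presheaf.stalk y) • z) hh
      simpa [smul_smul] using this
    exact hzero c hh (hqm c hc)
  -- the kernel of `p` embeds in `Q`
  have hmono : Mono (kernel.ι (ι ≫ biprod.fst) ≫ ι ≫ biprod.snd) := by
    apply Preadditive.mono_of_cancel_zero
    intro T x hx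
    rw [← cancel_mono (kernel.ι (ι ≫ biprod.fst)), ← cancel_mono ι, zero_comp, zero_comp]
    apply biprod.hom_ext
    · rw [Category.assoc, Category.assoc, zero_comp, kernel.condition, comp_zero]
    · rw [Category.assoc, Category.assoc, zero_comp]
      exact hx
  have hK1 : P (kernel (ι ≫ biprod.fst)) := IH _ (isCoh_kernel _ hH hF)
    ((support_subset_of_mono (kernel.ι (ι ≫ biprod.fst) ≫ ι ≫ biprod.snd)).trans hQZ)
    (notMem_support_kernel _ y hpinj)
  have hPi : P (Abelian.image (ι ≫ biprod.fst)) :=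
    ((hP (sc2 (ι ≫ biprod.fst)) (sc2_shortExact _) (isCoh_image _ hH hF) hF
      (isCoh_cokernel _ hH hF)).1 hPF).1
  have hPc : P (Abelian.coimage (ι ≫ biprod.fst)) :=
    serre_iso P hP F hF hPF (Abelian.coimageIsoImage (ι ≫ biprod.fst)).symm (isCoh_image _ hH hF) hPi
  have hPH : P H :=
    (hP (sc1 (ι ≫ biprod.fst)) (sc1_shortExact _) (isCoh_kernel _ hH hF) hH (isCoh_coimage _ hH hF)).2
      ⟨hK1, hPc⟩
  have hPc' : P (Abelian.coimage (ι ≫ biprod.snd)) :=
    ((hP (sc1 (ι ≫ biprod.snd)) (sc1_shortExact _) (isCoh_kernel _ hH hQ) hH (isCoh_coimage _ hH hQ)).1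
      hPH).2
  have hPi' : P (Abelian.image (ι ≫ biprod.snd)) :=
    serre_iso P hP F hF hPF (Abelian.coimageIsoImage (ι ≫ biprod.snd)) (isCoh_coimage _ hH hQ) hPc'
  refine ⟨Abelian.image (ι ≫ biprod.snd), Abelian.image.ι _, inferInstance, isCoh_image _ hH hQ, hPi',
    mem_support_image _ y ⟨h₀, ?_⟩⟩
  rw [hr]
  exact hq0

end serre

end Groth.Agent.Lib.Helper6.DevStep
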