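import Groth.Agent.Lib.Helper6.K0Op
import Groth.Agent.Lib.Helper24.Cat.StalkDim
import Groth.Agent.Lib.Helper3.SchemeDim
import Mathlib
set_option backward.isDefEq.respectTransparency.types false
set_option autoImplicit false
set_option linter.style.haveILetI false

/-!
# More on the operators `[M ⊗ -]`: multiplicativity, and vanishing of the bottom of the `δ`-filtration
-/

universe u
open CategoryTheory CategoryTheory.Limits AlgebraicGeometry Opposite TopologicalSpace MonoidalCategory

namespace Groth.Agent.Lib.Helper6.K0Op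
open Groth.Agent.Lib.Helper6.K0Filt Groth.Agent.Lib.Helper6.K0Len Groth.Agent.Lib.Helper6.K0Delta
  Groth.Agent.Lib.Helper6.K0Tensor

variable {X : Scheme.{u}}

/-- two endomorphisms of `K'_0` agreeing on the classes of coherent modules are equal -/
theorem end_ext (f g : AddMonoid.End (KZero.K0sub (fun G : X.Modules => Coh.IsCoh G)))
    (h : ∀ G : X.Modules, Coh.IsCoh G → f (cls G) = g (cls G)) : f = g := by
  apply AddMonoidHom.ext
  intro c
  induction c using QuotientAddGroup.induction_on with
  | H z =>
    induction z using FreeAbelianGroup.induction_on with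
    | zero => rw [QuotientAddGroup.mk_zero, map_zero, map_zero]
    | of x =>
      have := h x.1 x.2
      rw [cls, Groth.Agent.Lib.Helper16.K0Db.clSub_of _ _ x.2] at this
      exact this
    | neg x ih => rw [QuotientAddGroup.mk_neg, map_neg, map_neg, ih]
    | add x y ihx ihy => rw [QuotientAddGroup.mk_add, map_add, map_add, ihx, ihy]

theorem Top_tensorMod (A B : X.Modules) (hA : PicF.IsInvertible A) (hB : PicF.IsInvertible B) :
    Top (CohB1.tensorMod A B) = Top A * Top B := by
  apply end_ext
  intro G hG
  have hBG : Coh.IsCoh (CohB1.tensorMod B G) := isCoh_tensorMod _ _ (isCoh_of_isInvertible B hB) hG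
  have e : CohB1.tensorMod (CohB1.tensorMod A B) G ≅ CohB1.tensorMod A (CohB1.tensorMod B G) :=
    Groth.Agent.Lib.Helper16.TA.assocIso A B G
  rw [Top_cls _ (Groth.Agent.Lib.Helper28.GenLocus.isInvertible_tensorMod hA hB) G hG,
    cls_iso e (Groth.Agent.Lib.Helper6.DevCore.isCoh_of_iso e.symm
      (isCoh_tensorMod _ _ (isCoh_of_isInvertible A hA) hBG))]
  change _ = Top A (Top B (cls G))
  rw [Top_cls B hB G hG, Top_cls A hA _ hBG]

/-- if `δ ≥ 0` then there is no nonzero coherent module of negative `δ`-dimension -/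
theorem Hle_neg_one (δ : X → ℤ) (h0 : ∀ x : X, 0 ≤ δ x) : Hle δ (-1) = ⊥ := by
  unfold Hle
  rw [AddSubgroup.closure_eq_bot_iff]
  rintro c ⟨G, hG, rfl⟩
  rw [cohLe_iff] at hG
  have : CohB1.support G = ∅ := by
    rw [Set.eq_empty_iff_forall_notMem]
    intro x hx
    have := hG.2 x hx
    have := h0 x
    omega
  exact Groth.Agent.Lib.Helper16.K0Db.clSub_isZero _ _
    (Groth.Agent.Lib.Helper6.DevCore.isZero_of_support_eq_empty G this)

/-- on an integral scheme whose dimension is `δ(generic point)`, a dimension function is nonnegative -/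
theorem delta_nonneg [IsIntegral X] (δ : X → ℤ) (hδ : Cyc.IsDimFun X δ) (n : ℕ)
    (hdim : topologicalKrullDim X = n) (hη : δ (genericPoint X) = n) (x : X) : 0 ≤ δ x := by
  obtain ⟨k, hk1, hk2⟩ := Groth.Agent.Lib.Helper24.StalkDim.ringKrullDim_stalk_eq δ hδ x
  have h1 : ringKrullDim (X.presheaf.stalk x) ≤ topologicalKrullDim X := by
    rw [Groth.Agent.Lib.Helper3.topologicalKrullDim_eq_iSup_stalk]
    exact le_iSup (fun y : X => ringKrullDim (X.presheaf.stalk y)) x
  rw [hk1, hdim] at h1
  have h2 : k ≤ n := by exact_mod_cast h1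
  omega

end Groth.Agent.Lib.Helper6.K0Op
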