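import Groth.Agent.Lib.Helper6.DevIdeal
import Mathlib
set_option backward.isDefEq.respectTransparency.types false
set_option autoImplicit false

/-!
# Devissage with kernels of epimorphisms, extensions and roots of powers (EGA III 3.1.2 variant)
-/

universe u
open CategoryTheory CategoryTheory.Limits AlgebraicGeometry Opposite TopologicalSpace
open Groth.Agent.Lib.Helper17.CohKer Groth.Agent.Lib.Helper17.StalkExact Groth.Agent.Lib.Helper28.QCohLoc

namespace Groth.Agent.Lib.Helper6.DevRoots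
open Groth.Agent.Lib.Helper6.DevSub Groth.Agent.Lib.Helper6.DevCore Groth.Agent.Lib.Helper6.DevSoc
  Groth.Agent.Lib.Helper6.DevRed Groth.Agent.Lib.Helper6.DevSum Groth.Agent.Lib.Helper17.Serre
  Groth.Agent.Lib.Helper6.DevStep Groth.Agent.Lib.Helper6.DevExt Groth.Agent.Lib.Helper6.DevPow
  Groth.Agent.Lib.Helper6.IdealMul Groth.Agent.Lib.Helper6.DevFin

variable {X : Scheme.{u}}

/-- near a point off `V(J)`, the ideal `J` is the unit ideal on small affine opens -/
theorem exists_basicOpen_ideal_eq_top (J : X.IdealSheafData) (y : X) (hy : y ∉ (J.support : Set X)) :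
    ∃ V : X.Opens, y ∈ V ∧ ∀ U : X.affineOpens, U.1 ≤ V → J.ideal U = ⊤ := by
  obtain ⟨_, ⟨U₀, hU₀, rfl⟩, hyU₀, -⟩ :=
    X.isBasis_affineOpens.exists_subset_of_mem_open (Set.mem_univ y) isOpen_univ
  have hy0 : y ∉ X.zeroLocus (U := U₀) (J.ideal ⟨U₀, hU₀⟩) := fun h =>
    hy ((Scheme.IdealSheafData.mem_support_iff_of_mem (U := ⟨U₀, hU₀⟩) hyU₀).2 h)
  rw [Scheme.mem_zeroLocus_iff] at hy0
  push_neg at hy0
  obtain ⟨a, ha, hya⟩ := hy0
  refine ⟨X.basicOpen a, hya, fun U hU => ?_⟩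
  have hle : U ≤ (⟨U₀, hU₀⟩ : X.affineOpens) := hU.trans (X.basicOpen_le a)
  have h1 := J.ideal_le_comap_ideal hle ha
  rw [Ideal.mem_comap] at h1
  refine Ideal.eq_top_of_isUnit_mem _ h1 ?_
  have h2 : IsUnit (X.presheaf.map (homOfLE (X.basicOpen_le a)).op a) :=
    X.toRingedSpace.isUnit_res_basicOpen a
  have h3 : (X.presheaf.map (homOfLE hle).op).hom a =
      (X.presheaf.map (homOfLE hU).op).hom ((X.presheaf.map (homOfLE (X.basicOpen_le a)).op).hom a) := by
    rw [← ConcreteCategory.comp_apply, ← Functor.map_comp]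
    rfl
  rw [h3]
  exact h2.map _

/-- the inclusion `J · G ⟶ G` is bijective on the stalk at a point off `V(J)` -/
theorem stalkHom_idealMulι_bijective (J : X.IdealSheafData) (G : X.Modules) (y : X)
    (hy : y ∉ (J.support : Set X)) : Function.Bijective (stalkHom (Dual3.idealMulι J G) y) := by
  refine ⟨stalkHom_injective_of_mono _ y, fun z => ?_⟩
  obtain ⟨V, hyV, hV⟩ := exists_basicOpen_ideal_eq_top J y hy
  obtain ⟨U₂, hyU₂, s, rfl⟩ := TopCat.Presheaf.exists_germ_eq G.presheaf z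
  obtain ⟨_, ⟨U, hU, rfl⟩, hyU, hUU⟩ := X.isBasis_affineOpens.exists_subset_of_mem_open
    (show y ∈ ((U₂ ⊓ V : X.Opens) : Set X) from ⟨hyU₂, hyV⟩) (U₂ ⊓ V).2
  have hUU₂ : U ≤ U₂ := fun x hx => (hUU hx).1
  have hUV : U ≤ V := fun x hx => (hUU hx).2
  have hmem : res G hUU₂ s ∈ (J.ideal ⟨U, hU⟩) • (⊤ : Submodule Γ(X, U) Γ(G, U)) := by
    rw [hV ⟨U, hU⟩ hUV, Submodule.top_smul]
    trivial
  obtain ⟨s', hs'⟩ := exists_idealMul_app_eq J G ⟨U, hU⟩ _ hmem
  refine ⟨((Dual3.idealMul J).obj G).presheaf.germ U y hyU s', ?_⟩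
  rw [stalkHom_germ, hs', germ_res']

/-- the stalk of a direct image along an embedding is nontrivial where the stalk of the module is -/
theorem nontrivial_stalk_push {Z' : Scheme.{u}} (i : Z' ⟶ X) (hi : Topology.IsInducing i) (H : Z'.Modules) (z : Z')
    (hz : Nontrivial (H.presheaf.stalk z)) : Nontrivial (((Coh.push i).obj H).presheaf.stalk (i z)) := by
  rw [← not_subsingleton_iff_nontrivial] at hz ⊢
  intro hsub
  apply hz
  suffices h0 : ∀ h : H.presheaf.stalk z, h = 0 from ⟨fun a b => by rw [h0 a, h0 b]⟩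
  intro h
  obtain ⟨V, hzV, t, rfl⟩ := TopCat.Presheaf.exists_germ_eq H.presheaf h
  obtain ⟨U, hU, hUV⟩ := hi.isOpen_iff.1 V.2
  have hV : i ⁻¹ᵁ (⟨U, hU⟩ : X.Opens) = V := Opens.ext hUV
  subst hV
  have hzU : i z ∈ (⟨U, hU⟩ : X.Opens) := hzV
  have h1 : ((Coh.push i).obj H).presheaf.germ ⟨U, hU⟩ (i z) hzU t =
      ((Coh.push i).obj H).presheaf.germ ⟨U, hU⟩ (i z) hzU 0 := hsub.elim _ _
  obtain ⟨W, hzW, i₁, i₂, hW⟩ := TopCat.Presheaf.germ_eq _ _ _ _ _ _ h1
  have hle : i ⁻¹ᵁ W ≤ i ⁻¹ᵁ (⟨U, hU⟩ : X.Opens) := i.preimage_mono i₁.le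
  rw [← germ_res' H z hle hzW]
  have h3 : res H hle t = 0 := by
    have := hW
    rw [map_zero] at this
    exact this
  rw [h3]
  exact map_zero _

/-- the stalk at the generic point of a direct image from the reduced induced subscheme is killed by the maximal
ideal -/
theorem maximalIdeal_smul_push_subscheme (Z : Closeds X) (y : X) (hy : closure {y} = (Z : Set X))
    (H : (Scheme.IdealSheafData.vanishingIdeal Z).subscheme.Modules)
    (a : X.presheaf.stalk y) (ha : a ∈ IsLocalRing.maximalIdeal (X.presheaf.stalk y))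
    (m : ((Coh.push (Scheme.IdealSheafData.vanishingIdeal Z).subschemeι).obj H).presheaf.stalk y) :
    a • m = 0 := by
  obtain ⟨U₂, h₂, t, rfl⟩ := TopCat.Presheaf.exists_germ_eq
    ((Coh.push (Scheme.IdealSheafData.vanishingIdeal Z).subschemeι).obj H).presheaf m
  obtain ⟨U₁, h₁, s, rfl⟩ := TopCat.Presheaf.exists_germ_eq X.presheaf a
  obtain ⟨_, ⟨U, hU, rfl⟩, hyU, hUU⟩ :=
    X.isBasis_affineOpens.exists_subset_of_mem_open (show y ∈ U₁ ⊓ U₂ from ⟨h₁, h₂⟩) (U₁ ⊓ U₂).2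
  have hU₁ : U ≤ U₁ := fun z hz => (hUU hz).1
  have hU₂ : U ≤ U₂ := fun z hz => (hUU hz).2
  have e1 : X.presheaf.germ U₁ y h₁ s = X.presheaf.germ U y hyU (resO hU₁ s) :=
    (TopCat.Presheaf.germ_res_apply X.presheaf (homOfLE hU₁) y hyU s).symm
  rw [e1] at ha ⊢
  rw [← germ_res' ((Coh.push (Scheme.IdealSheafData.vanishingIdeal Z).subschemeι).obj H) y hU₂ hyU,
    ← germ_smul']
  have hmem : resO hU₁ s ∈ (Scheme.IdealSheafData.vanishingIdeal Z).ideal ⟨U, hU⟩ :=
    mem_vanishingIdeal_of_germ_mem Z y hy ⟨U, hU⟩ hyU _ ha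
  have h0 : (Scheme.IdealSheafData.vanishingIdeal Z).subschemeι.app U (resO hU₁ s) = 0 := by
    have : resO hU₁ s ∈ RingHom.ker ((Scheme.IdealSheafData.vanishingIdeal Z).subschemeι.app U).hom := by
      rw [(Scheme.IdealSheafData.vanishingIdeal Z).ker_subschemeι_app ⟨U, hU⟩]; exact hmem
    exact this
  have h1 : (resO hU₁ s •
      res ((Coh.push (Scheme.IdealSheafData.vanishingIdeal Z).subschemeι).obj H) hU₂ t :
      Γ((Coh.push (Scheme.IdealSheafData.vanishingIdeal Z).subschemeι).obj H, U)) = 0 := by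
    have : (resO hU₁ s •
        res ((Coh.push (Scheme.IdealSheafData.vanishingIdeal Z).subschemeι).obj H) hU₂ t :
        Γ((Coh.push (Scheme.IdealSheafData.vanishingIdeal Z).subschemeι).obj H, U)) =
        (((Scheme.IdealSheafData.vanishingIdeal Z).subschemeι.app U).hom (resO hU₁ s) •
          (show Γ(H, (Scheme.IdealSheafData.vanishingIdeal Z).subschemeι ⁻¹ᵁ U) from
            res ((Coh.push (Scheme.IdealSheafData.vanishingIdeal Z).subschemeι).obj H) hU₂ t) :
          Γ(H, (Scheme.IdealSheafData.vanishingIdeal Z).subschemeι ⁻¹ᵁ U)) := rfl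
    rw [this, h0, zero_smul]
    rfl
  rw [h1]
  exact map_zero _

end Groth.Agent.Lib.Helper6.DevRoots
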