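import Groth.Agent.Lib.Helper6.DevChev
import Groth.Agent.Lib.Helper28.GenLocus
import Groth.Agent.Lib.Helper6.DevRoots
import Mathlib
set_option backward.isDefEq.respectTransparency.types false
set_option autoImplicit false

/-!
# Generic structure of a coherent module killed by the maximal ideal at a generic point
-/

universe u
open CategoryTheory CategoryTheory.Limits AlgebraicGeometry Opposite TopologicalSpace
open Groth.Agent.Lib.Helper17.CohKer Groth.Agent.Lib.Helper17.StalkExact Groth.Agent.Lib.Helper28.QCohLoc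

namespace Groth.Agent.Lib.Helper6.DevGen
open Groth.Agent.Lib.Helper6.DevSub Groth.Agent.Lib.Helper6.DevCore Groth.Agent.Lib.Helper6.DevSoc
  Groth.Agent.Lib.Helper6.DevRed Groth.Agent.Lib.Helper6.DevSum Groth.Agent.Lib.Helper17.Serre
  Groth.Agent.Lib.Helper6.DevStep Groth.Agent.Lib.Helper6.DevExt Groth.Agent.Lib.Helper6.DevPow
  Groth.Agent.Lib.Helper6.IdealMul Groth.Agent.Lib.Helper6.DevFin Groth.Agent.Lib.Helper6.DevRoots
  Groth.Agent.Lib.Helper6.DevChev Groth.Agent.Lib.Helper6.DevIdeal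

variable {X : Scheme.{u}}

/-- a monomorphism is injective on sections -/
theorem app_injective_of_mono {A F : X.Modules} (φ : A ⟶ F) [Mono φ] (W : X.Opens) :
    Function.Injective (φ.app W) := by
  rw [injective_iff_map_eq_zero]
  intro s hs
  obtain ⟨k, hk⟩ := exists_kernel_app_eq φ W s hs
  have h0 : kernel.ι φ = 0 := by
    rw [← cancel_mono φ, kernel.condition, zero_comp]
  rw [← hk, h0]
  rfl

/-- a monomorphism of coherent modules which is surjective on the stalk at a point is an isomorphism near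
that point -/
theorem exists_nhd_isIso_restrict {A F : X.Modules} (φ : A ⟶ F) [Mono φ] (hA : Coh.IsCoh A)
    (hF : Coh.IsCoh F) (ξ : X) (hsurj : Function.Surjective (stalkHom φ ξ)) :
    ∃ U : X.Opens, ξ ∈ U ∧ IsIso ((Scheme.Modules.restrictFunctor U.ι).map φ) := by
  have hC : Coh.IsCoh (cokernel φ) := isCoh_cokernel φ hA hF
  have hξC : ξ ∉ CohB1.support (cokernel φ) := notMem_support_cokernel φ ξ hsurj
  refine ⟨⟨(CohB1.support (cokernel φ))ᶜ, (isClosed_support _ hC).isOpen_compl⟩, hξC, ?_⟩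
  rw [Groth.Agent.Lib.Helper28.GenLocus.isIso_restrict_iff]
  intro W hW
  refine ⟨app_injective_of_mono φ W, fun s => ?_⟩
  have h0 : (cokernel.π φ).app W s = 0 :=
    section_eq_zero_of_notMem_support (cokernel φ) W (fun x hx => hW hx) _
  exact exists_app_eq_of_cokernel F φ W s h0

section lift

variable [IsNoetherian X]

open Groth.Agent.Lib.Helper17.AnnIdeal in
/-- **the lifting lemma**: if `p : H ⟶ F` and `q : H ⟶ B` are bijective on the stalks at `ξ`, then, for an ideal `J`
not vanishing at `ξ`, there is a morphism `J · B ⟶ F` which is bijective on the stalks at `ξ`. -/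
theorem exists_idealMul_hom {H F B : X.Modules} (hH : Coh.IsCoh H) (hB : Coh.IsCoh B)
    (p : H ⟶ F) (q : H ⟶ B) (ξ : X) (hp : Function.Bijective (stalkHom p ξ))
    (hq : Function.Bijective (stalkHom q ξ)) :
    ∃ (J : X.IdealSheafData) (ψ : (Dual3.idealMul J).obj B ⟶ F), ξ ∉ (J.support : Set X) ∧
      Function.Bijective (stalkHom ψ ξ) := by
  classical
  have : H.IsQuasicoherent := hH.1
  have : SheafOfModules.IsFiniteType.{u} (R := X.ringCatSheaf) H := hH.2
  have : B.IsQuasicoherent := hB.1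
  have : SheafOfModules.IsFiniteType.{u} (R := X.ringCatSheaf) B := hB.2
  -- the kernel of `q`
  have hT : Coh.IsCoh (kernel q) := isCoh_kernel q hH hB
  have hξT : ξ ∉ CohB1.support (kernel q) :=
    notMem_support_kernel q ξ (fun h hh => hq.1 (hh.trans (map_zero _).symm))
  haveI : (kernel q).IsQuasicoherent := hT.1
  haveI : SheafOfModules.IsFiniteType.{u} (R := X.ringCatSheaf) (kernel q : X.Modules) := hT.2
  obtain ⟨n, hn⟩ := exists_pow_inf_eq_zero H hH (kernel.ι q) (annIdeal (kernel q)) (fun U a ha s => by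
    rw [annIdeal_ideal] at ha
    exact Module.mem_annihilator.1 ha s)
  let J₂ := annIdeal (kernel q)
  have hJ'le : J₂ ^ (n + 1) ≤ J₂ ^ n := by
    rw [Scheme.IdealSheafData.le_def]
    intro U
    change (J₂.ideal U) ^ (n + 1) ≤ (J₂.ideal U) ^ n
    exact Ideal.pow_le_pow_right (Nat.le_succ n)
  have hξJ' : ξ ∉ ((J₂ ^ (n + 1)).support : Set X) := by
    rw [Scheme.IdealSheafData.support_pow_succ, support_annIdeal]
    exact hξT
  -- `q` restricted to `J₂ ^ (n + 1) · H` is a monomorphism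
  haveI hq'mono : Mono (Dual3.idealMulι (J₂ ^ (n + 1)) H ≫ q) := by
    apply Preadditive.mono_of_cancel_zero
    intro K x hx
    let b : K ⟶ kernel q := kernel.lift q (x ≫ Dual3.idealMulι (J₂ ^ (n + 1)) H) (by
      rw [Category.assoc]; exact hx)
    have hb : b ≫ kernel.ι q = x ≫ Dual3.idealMulι (J₂ ^ (n + 1)) H := kernel.lift_ι _ _ _
    have hb0 : b = 0 := hn (J₂ ^ (n + 1)) hJ'le K x b hb.symm
    rw [← cancel_mono (Dual3.idealMulι (J₂ ^ (n + 1)) H), zero_comp, ← hb, hb0, zero_comp]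
  have hH' : Coh.IsCoh ((Dual3.idealMul (J₂ ^ (n + 1))).obj H) :=
    ⟨inferInstance, isFiniteType_of_mono (Dual3.idealMulι (J₂ ^ (n + 1)) H)⟩
  have hιHb := stalkHom_idealMulι_bijective (J₂ ^ (n + 1)) H ξ hξJ'
  -- the cokernel
  have hC : Coh.IsCoh (cokernel (Dual3.idealMulι (J₂ ^ (n + 1)) H ≫ q)) := isCoh_cokernel _ hH' hB
  have hq'surj : Function.Surjective (stalkHom (Dual3.idealMulι (J₂ ^ (n + 1)) H ≫ q) ξ) := by
    intro z
    obtain ⟨h, rfl⟩ := hq.2 z
    obtain ⟨h', rfl⟩ := hιHb.2 h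
    exact ⟨h', stalkHom_comp _ _ _ _⟩
  have hξC := notMem_support_cokernel _ ξ hq'surj
  haveI : (cokernel (Dual3.idealMulι (J₂ ^ (n + 1)) H ≫ q)).IsQuasicoherent := hC.1
  haveI : SheafOfModules.IsFiniteType.{u} (R := X.ringCatSheaf)
    (cokernel (Dual3.idealMulι (J₂ ^ (n + 1)) H ≫ q) : X.Modules) := hC.2
  let J₁ := annIdeal (cokernel (Dual3.idealMulι (J₂ ^ (n + 1)) H ≫ q))
  have hξJ₁ : ξ ∉ (J₁.support : Set X) := by
    rw [support_annIdeal]
    exact hξC
  have hkill : Dual3.idealMulι J₁ B ≫ cokernel.π (Dual3.idealMulι (J₂ ^ (n + 1)) H ≫ q) = 0 :=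
    idealMulι_comp_eq_zero J₁ B (fun U a ha s => by
      rw [annIdeal_ideal] at ha
      exact Module.mem_annihilator.1 ha s) _
  let lam : (Dual3.idealMul J₁).obj B ⟶ (Dual3.idealMul (J₂ ^ (n + 1))).obj H :=
    Abelian.monoLift (Dual3.idealMulι (J₂ ^ (n + 1)) H ≫ q) (Dual3.idealMulι J₁ B) hkill
  have hlam : lam ≫ Dual3.idealMulι (J₂ ^ (n + 1)) H ≫ q = Dual3.idealMulι J₁ B :=
    Abelian.monoLift_comp _ _ _
  have hιBb := stalkHom_idealMulι_bijective J₁ B ξ hξJ₁
  have hq'inj := stalkHom_injective_of_mono (Dual3.idealMulι (J₂ ^ (n + 1)) H ≫ q) ξ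
  have e1 : ∀ z, stalkHom (Dual3.idealMulι J₁ B) ξ z =
      stalkHom (Dual3.idealMulι (J₂ ^ (n + 1)) H ≫ q) ξ (stalkHom lam ξ z) := by
    intro z
    rw [← stalkHom_comp, hlam]
  have hlamb : Function.Bijective (stalkHom lam ξ) := by
    constructor
    · intro x y hxy
      apply hιBb.1
      rw [e1 x, e1 y, hxy]
    · intro h'
      obtain ⟨z, hz⟩ := hιBb.2 (stalkHom (Dual3.idealMulι (J₂ ^ (n + 1)) H ≫ q) ξ h')
      refine ⟨z, hq'inj ?_⟩
      rw [← stalkHom_comp, hlam, hz]
  refine ⟨J₁, lam ≫ Dual3.idealMulι (J₂ ^ (n + 1)) H ≫ p, hξJ₁, ?_⟩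
  have h1 : ∀ z, stalkHom (lam ≫ Dual3.idealMulι (J₂ ^ (n + 1)) H ≫ p) ξ z =
      stalkHom p ξ (stalkHom (Dual3.idealMulι (J₂ ^ (n + 1)) H) ξ (stalkHom lam ξ z)) := by
    intro z
    rw [stalkHom_comp, stalkHom_comp]
  constructor
  · intro x y hxy
    rw [h1, h1] at hxy
    exact hlamb.1 (hιHb.1 (hp.1 hxy))
  · intro f
    obtain ⟨h, rfl⟩ := hp.2 f
    obtain ⟨h', rfl⟩ := hιHb.2 h
    obtain ⟨z, rfl⟩ := hlamb.2 h'
    exact ⟨z, h1 z⟩

end lift

section pack

variable {Z : Scheme.{u}} (i : Z ⟶ X) [IsClosedImmersion i] (J : X.IdealSheafData)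

/-- the closed subscheme `V(i.ker ⊔ J)`, seen in `Z` -/
noncomputable def cZ : (i.ker ⊔ J).subscheme ⟶ Z :=
  Scheme.IdealSheafData.inclusion (le_sup_left : i.ker ≤ i.ker ⊔ J) ≫ inv i.toImage

theorem cZ_comp : cZ i J ≫ i = (i.ker ⊔ J).subschemeι := by
  unfold cZ
  have h : inv i.toImage ≫ i = i.ker.subschemeι := by
    rw [IsIso.inv_comp_eq]
    exact i.toImage_imageι.symm
  rw [Category.assoc, h]
  exact Scheme.IdealSheafData.inclusion_subschemeι _

/-- the ideal of `Z` generated by `J` -/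
noncomputable def KZ : Z.IdealSheafData := (cZ i J).ker

theorem KZ_map : (KZ i J).map i = i.ker ⊔ J := by
  unfold KZ
  rw [Scheme.IdealSheafData.map_ker, cZ_comp, Scheme.IdealSheafData.ker_subschemeι]

theorem mem_KZ_iff (U : X.affineOpens) (a : Γ(X, U.1)) :
    (i.app U.1).hom a ∈ (KZ i J).ideal ⟨i ⁻¹ᵁ U.1, U.2.preimage i⟩ ↔ a ∈ i.ker.ideal U ⊔ J.ideal U := by
  have h := Scheme.IdealSheafData.ideal_map_of_isAffineHom (KZ i J) i U
  rw [KZ_map] at h
  change i.ker.ideal U ⊔ J.ideal U = _ at h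
  rw [h, Ideal.mem_comap]

/-- elements of the ideal of `Z` generated by `J` come from `J` -/
theorem exists_mem_of_mem_KZ (U : X.affineOpens) (b : Γ(Z, i ⁻¹ᵁ U.1))
    (hb : b ∈ (KZ i J).ideal ⟨i ⁻¹ᵁ U.1, U.2.preimage i⟩) : ∃ a ∈ J.ideal U, (i.app U.1).hom a = b := by
  obtain ⟨a₀, rfl⟩ := i.app_surjective U.1 U.2 b
  rw [mem_KZ_iff, Submodule.mem_sup] at hb
  obtain ⟨a₁, ha₁, a₂, ha₂, rfl⟩ := hb
  refine ⟨a₂, ha₂, ?_⟩
  rw [Scheme.Hom.ker_apply, RingHom.mem_ker] at ha₁
  rw [map_add, ha₁, zero_add]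

/-- where `J` is the unit ideal, so is the ideal of `Z` generated by `J` -/
theorem KZ_eq_top (U : X.affineOpens) (hU : J.ideal U = ⊤) :
    (KZ i J).ideal ⟨i ⁻¹ᵁ U.1, U.2.preimage i⟩ = ⊤ := by
  rw [Ideal.eq_top_iff_one]
  have h1 : (i.app U.1).hom 1 ∈ (KZ i J).ideal ⟨i ⁻¹ᵁ U.1, U.2.preimage i⟩ := by
    rw [mem_KZ_iff, hU]
    exact Submodule.mem_sup_right trivial
  rwa [map_one] at h1

end pack

section idealMod

variable {Z : Scheme.{u}} (K : Z.IdealSheafData)

instance mono_idealModι : Mono (ClSub.idealModι K) := by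
  unfold ClSub.idealModι
  exact equalizer.ι_mono

theorem idealModι_comp : ClSub.idealModι K ≫ ClSub.toSubscheme K = 0 := by
  unfold ClSub.idealModι
  exact kernel.condition _

/-- sections of the ideal module over an affine open lie in the ideal -/
theorem idealModι_app_mem (V : Z.affineOpens) (s : Γ(ClSub.idealMod K, V.1)) :
    (show Γ(Z, V.1) from (ClSub.idealModι K).app V.1 s) ∈ K.ideal V := by
  have h0 : (ClSub.toSubscheme K).app V.1 ((ClSub.idealModι K).app V.1 s) = 0 :=
    congrArg (fun φ : ClSub.idealMod K ⟶ ClSub.quotMod K => φ.app V.1 s) (idealModι_comp K)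
  rw [← K.ker_subschemeι_app V, RingHom.mem_ker]
  exact h0

/-- elements of the ideal are sections of the ideal module -/
theorem exists_idealModι_app_eq (V : Z.affineOpens) (t : Γ(Z, V.1)) (ht : t ∈ K.ideal V) :
    ∃ s : Γ(ClSub.idealMod K, V.1), (ClSub.idealModι K).app V.1 s = (show Γ(Coh.structureModule Z, V.1) from t) := by
  have h0 : (ClSub.toSubscheme K).app V.1 (show Γ(Coh.structureModule Z, V.1) from t) = 0 := by
    rw [← K.ker_subschemeι_app V, RingHom.mem_ker] at ht
    exact ht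
  exact exists_kernel_app_eq (ClSub.toSubscheme K) V.1 _ h0

end idealMod

section pack2

variable {Z : Scheme.{u}} (i : Z ⟶ X) [IsClosedImmersion i] (J : X.IdealSheafData)

/-- the direct image of the ideal of `Z` generated by `J` lies in `J · i_* O_Z` -/
theorem pushι_app_mem (U : X.affineOpens)
    (s : Γ((Coh.push i).obj (ClSub.idealMod (KZ i J)), U.1)) :
    ((Coh.push i).map (ClSub.idealModι (KZ i J))).app U.1 s ∈
      (J.ideal U) • (⊤ : Submodule Γ(X, U.1) Γ((Coh.push i).obj (Coh.structureModule Z), U.1)) := by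
  have hV : IsAffineOpen (i ⁻¹ᵁ U.1) := U.2.preimage i
  have h1 := idealModι_app_mem (KZ i J) ⟨i ⁻¹ᵁ U.1, hV⟩ s
  obtain ⟨a, ha, hab⟩ := exists_mem_of_mem_KZ i J U _ h1
  have h2 : ((Coh.push i).map (ClSub.idealModι (KZ i J))).app U.1 s =
      (a • (show Γ((Coh.push i).obj (Coh.structureModule Z), U.1) from (1 : Γ(Z, i ⁻¹ᵁ U.1))) :
        Γ((Coh.push i).obj (Coh.structureModule Z), U.1)) := by
    have h3 : (a • (show Γ((Coh.push i).obj (Coh.structureModule Z), U.1) from (1 : Γ(Z, i ⁻¹ᵁ U.1))) :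
        Γ((Coh.push i).obj (Coh.structureModule Z), U.1)) =
        ((i.app U.1).hom a • (show Γ(Coh.structureModule Z, i ⁻¹ᵁ U.1) from (1 : Γ(Z, i ⁻¹ᵁ U.1))) :
          Γ(Coh.structureModule Z, i ⁻¹ᵁ U.1)) := rfl
    rw [h3, structureModule_smul, hab]
    exact (mul_one (show Γ(Z, i ⁻¹ᵁ U.1) from (ClSub.idealModι (KZ i J)).app (i ⁻¹ᵁ U.1) s)).symm
  rw [h2]
  exact Submodule.smul_mem_smul ha trivial

/-- off `V(J)`, the direct image of the ideal of `Z` generated by `J` is all of `i_* O_Z` -/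
theorem stalkHom_pushι_surjective (ξ : X) (hξ : ξ ∉ (J.support : Set X)) :
    Function.Surjective (stalkHom ((Coh.push i).map (ClSub.idealModι (KZ i J))) ξ) := by
  intro z
  obtain ⟨V, hξV, hV⟩ := exists_basicOpen_ideal_eq_top J ξ hξ
  obtain ⟨U₂, hξU₂, t, rfl⟩ :=
    TopCat.Presheaf.exists_germ_eq ((Coh.push i).obj (Coh.structureModule Z)).presheaf z
  obtain ⟨_, ⟨U, hU, rfl⟩, hξU, hUU⟩ := X.isBasis_affineOpens.exists_subset_of_mem_open
    (show ξ ∈ ((U₂ ⊓ V : X.Opens) : Set X) from ⟨hξU₂, hξV⟩) (U₂ ⊓ V).2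
  have hUU₂ : U ≤ U₂ := fun x hx => (hUU hx).1
  have hUV : U ≤ V := fun x hx => (hUU hx).2
  have hK := KZ_eq_top i J ⟨U, hU⟩ (hV ⟨U, hU⟩ hUV)
  obtain ⟨s, hs⟩ := exists_idealModι_app_eq (KZ i J) ⟨i ⁻¹ᵁ U, hU.preimage i⟩
    (show Γ(Z, i ⁻¹ᵁ U) from res ((Coh.push i).obj (Coh.structureModule Z)) hUU₂ t) (by rw [hK]; trivial)
  refine ⟨((Coh.push i).obj (ClSub.idealMod (KZ i J))).presheaf.germ U ξ hξU s, ?_⟩
  rw [stalkHom_germ]
  have h1 : ((Coh.push i).map (ClSub.idealModι (KZ i J))).app U s =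
      res ((Coh.push i).obj (Coh.structureModule Z)) hUU₂ t := hs
  rw [h1, germ_res']

end pack2

section pack3

attribute [local instance] Abelian.hasFiniteBiproducts

variable {Z : Scheme.{u}} (i : Z ⟶ X) [IsClosedImmersion i] (J : X.IdealSheafData) (r : ℕ)

/-- the `k`-th projection of a finite coproduct -/
noncomputable def pr {Z : Scheme.{u}} (I : Z.Modules) (r : ℕ) (k : Fin r) : (∐ fun _ : Fin r => I) ⟶ I :=
  (biproduct.isoCoproduct (fun _ : Fin r => I)).inv ≫ biproduct.π (fun _ : Fin r => I) k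

theorem ι_pr_self {Z : Scheme.{u}} (I : Z.Modules) (r : ℕ) (k : Fin r) :
    Sigma.ι (fun _ : Fin r => I) k ≫ pr I r k = 𝟙 I := by
  unfold pr
  rw [biproduct.isoCoproduct_inv, ← Category.assoc, Sigma.ι_desc, biproduct.ι_π_self]

theorem ι_pr_ne {Z : Scheme.{u}} (I : Z.Modules) (r : ℕ) {k k' : Fin r} (h : k ≠ k') :
    Sigma.ι (fun _ : Fin r => I) k ≫ pr I r k' = 0 := by
  unfold pr
  rw [biproduct.isoCoproduct_inv, ← Category.assoc, Sigma.ι_desc, biproduct.ι_π_ne _ h]

theorem pr_ext {Z : Scheme.{u}} (I : Z.Modules) (r : ℕ) {W : Z.Modules} (x : W ⟶ ∐ fun _ : Fin r => I)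
    (h : ∀ k, x ≫ pr I r k = 0) : x = 0 := by
  rw [← cancel_mono (biproduct.isoCoproduct (fun _ : Fin r => I)).inv, zero_comp]
  apply biproduct.hom_ext
  intro k
  rw [Category.assoc, zero_comp]
  exact h k

/-- **the packaging**: the direct image of a power of the ideal of `Z` generated by `J` maps into `J · (i_* O_Z)^r`,
by a monomorphism which is surjective on the stalks off `V(J)`. -/
theorem exists_push_ideal_pow (ξ : X) (hξ : ξ ∉ (J.support : Set X)) :
    ∃ θ : (Coh.push i).obj (∐ fun _ : Fin r => ClSub.idealMod (KZ i J)) ⟶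
        (Dual3.idealMul J).obj (⨁ fun _ : Fin r => (Coh.push i).obj (Coh.structureModule Z)),
      Mono θ ∧ Function.Surjective (stalkHom θ ξ) := by
  classical
  obtain ⟨θ₁, hθ₁⟩ := exists_lift_idealMul J ((Coh.push i).obj (Coh.structureModule Z))
    ((Coh.push i).map (ClSub.idealModι (KZ i J))) (pushι_app_mem i J)
  let θ : (Coh.push i).obj (∐ fun _ : Fin r => ClSub.idealMod (KZ i J)) ⟶
      (Dual3.idealMul J).obj (⨁ fun _ : Fin r => (Coh.push i).obj (Coh.structureModule Z)) :=
    ∑ k : Fin r, (Coh.push i).map (pr (ClSub.idealMod (KZ i J)) r k) ≫ θ₁ ≫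
      (Dual3.idealMul J).map (biproduct.ι (fun _ : Fin r => (Coh.push i).obj (Coh.structureModule Z)) k)
  have hθ : ∀ k', θ ≫ Dual3.idealMulι J (⨁ fun _ : Fin r => (Coh.push i).obj (Coh.structureModule Z)) ≫
      biproduct.π (fun _ : Fin r => (Coh.push i).obj (Coh.structureModule Z)) k' =
      (Coh.push i).map (pr (ClSub.idealMod (KZ i J)) r k') ≫
        (Coh.push i).map (ClSub.idealModι (KZ i J)) := by
    intro k'
    simp only [θ, Preadditive.sum_comp, Category.assoc]
    rw [Finset.sum_eq_single k']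
    · rw [Dual3.idealMul_map_ι_assoc, biproduct.ι_π_self, Category.comp_id, hθ₁]
    · intro k _ hk
      rw [Dual3.idealMul_map_ι_assoc, biproduct.ι_π_ne _ hk, comp_zero, comp_zero, comp_zero]
    · intro h
      exact absurd (Finset.mem_univ k') h
  refine ⟨θ, ?_, ?_⟩
  · apply Preadditive.mono_of_cancel_zero
    intro W x hx
    let adj := Scheme.Modules.pullbackPushforwardAdjunction i
    have h1 : ∀ k', (adj.homEquiv W _).symm x ≫ pr (ClSub.idealMod (KZ i J)) r k' = 0 := by
      intro k'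
      rw [← cancel_mono (ClSub.idealModι (KZ i J)), zero_comp, Category.assoc,
        ← adj.homEquiv_naturality_right_symm]
      have h2 : x ≫ (Scheme.Modules.pushforward i).map
          (pr (ClSub.idealMod (KZ i J)) r k' ≫ ClSub.idealModι (KZ i J)) = 0 := by
        rw [Functor.map_comp]
        have := hθ k'
        change _ = (Scheme.Modules.pushforward i).map _ ≫ (Scheme.Modules.pushforward i).map _ at this
        rw [← this, ← Category.assoc, hx, zero_comp]
      rw [h2]
      exact adj.homAddEquiv_symm_zero W _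
    have h3 : (adj.homEquiv W _).symm x = 0 := pr_ext _ r _ h1
    have h4 : x = adj.homEquiv W _ ((adj.homEquiv W _).symm x) := ((adj.homEquiv W _).apply_symm_apply x).symm
    rw [h4, h3]
    exact adj.homAddEquiv_zero W _
  · intro z
    have hS1 := stalkHom_pushι_surjective i J ξ hξ
    choose y hy using fun k : Fin r => hS1 (stalkHom (biproduct.π
      (fun _ : Fin r => (Coh.push i).obj (Coh.structureModule Z)) k) ξ
      (stalkHom (Dual3.idealMulι J (⨁ fun _ : Fin r => (Coh.push i).obj (Coh.structureModule Z))) ξ z))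
    refine ⟨∑ k, stalkHom ((Coh.push i).map (Sigma.ι (fun _ : Fin r => ClSub.idealMod (KZ i J)) k)) ξ (y k), ?_⟩
    apply (stalkHom_idealMulι_bijective J _ ξ hξ).1
    rw [stalk_biproduct_total _ ξ (stalkHom (Dual3.idealMulι J
        (⨁ fun _ : Fin r => (Coh.push i).obj (Coh.structureModule Z))) ξ z),
      stalk_biproduct_total _ ξ (stalkHom (Dual3.idealMulι J
        (⨁ fun _ : Fin r => (Coh.push i).obj (Coh.structureModule Z))) ξ (stalkHom θ ξ _))]
    refine Finset.sum_congr rfl fun k' _ => ?_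
    congr 1
    rw [← stalkHom_comp, ← stalkHom_comp, hθ k', stalkHom_comp, ← hy k']
    congr 1
    rw [map_sum, Finset.sum_eq_single k']
    · rw [← stalkHom_comp, ← Functor.map_comp, ι_pr_self, CategoryTheory.Functor.map_id, stalkHom_id]
    · intro k _ hk
      rw [← stalkHom_comp, ← Functor.map_comp, ι_pr_ne _ r hk, Functor.map_zero, stalkHom_zero]
    · intro h
      exact absurd (Finset.mem_univ k') h

end pack3

section gen

variable {Z : Scheme.{u}} (i : Z ⟶ X) [IsClosedImmersion i]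

/-- the range of a closed immersion, as a closed subset -/
def rangeCl : Closeds X := ⟨Set.range i, i.isClosedEmbedding.isClosed_range⟩

theorem ker_eq_vanishingIdeal [IsReduced Z] :
    i.ker = Scheme.IdealSheafData.vanishingIdeal (rangeCl i) := by
  have h1 : i.ker.support = rangeCl i := by
    apply SetLike.coe_injective
    rw [Scheme.Hom.support_ker]
    exact i.isClosedEmbedding.isClosed_range.closure_eq
  rw [← h1, Scheme.IdealSheafData.vanishingIdeal_support]
  apply Scheme.IdealSheafData.ext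
  funext U
  rw [Scheme.IdealSheafData.radical_ideal, Scheme.Hom.ker_apply]
  symm
  apply Ideal.IsRadical.radical
  rw [RingHom.ker_isRadical_iff_reduced_of_surjective (i.app_surjective U.1 U.2)]
  infer_instance

theorem ker_subschemeι_vanishingIdeal [IsReduced Z] :
    (Scheme.IdealSheafData.vanishingIdeal (rangeCl i)).subschemeι.ker = i.ker := by
  rw [Scheme.IdealSheafData.ker_subschemeι, ker_eq_vanishingIdeal]

/-- the comparison with the reduced induced subscheme on the range -/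
noncomputable def toVan [IsReduced Z] : Z ⟶ (Scheme.IdealSheafData.vanishingIdeal (rangeCl i)).subscheme :=
  IsClosedImmersion.lift (Scheme.IdealSheafData.vanishingIdeal (rangeCl i)).subschemeι i
    (ker_subschemeι_vanishingIdeal i).le

theorem toVan_fac [IsReduced Z] :
    toVan i ≫ (Scheme.IdealSheafData.vanishingIdeal (rangeCl i)).subschemeι = i :=
  IsClosedImmersion.lift_fac _ _ _

instance isIso_toVan [IsReduced Z] : IsIso (toVan i) :=
  IsClosedImmersion.isIso_of_ker_eq i (Scheme.IdealSheafData.vanishingIdeal (rangeCl i)).subschemeι (toVan i)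
    (toVan_fac i) (ker_subschemeι_vanishingIdeal i).symm

theorem isIso_unitToPush {Y Y' : Scheme.{u}} (e : Y ⟶ Y') [IsIso e] : IsIso (ClSub.unitToPush e) := by
  apply Groth.Agent.Lib.Helper28.TensorIso.isIso_of_bijective_on_basis _ (fun _ => True)
    (fun U x hx => ⟨U, trivial, hx, le_rfl⟩)
  intro W _
  exact ConcreteCategory.bijective_of_isIso (e.app W)

/-- `i_* O_Z` is `O_X / I` for the ideal `I` of the range -/
noncomputable def pushIso [IsReduced Z] :
    ClSub.quotMod (Scheme.IdealSheafData.vanishingIdeal (rangeCl i)) ≅ (Coh.push i).obj (Coh.structureModule Z) :=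
  haveI := isIso_unitToPush (toVan i)
  (Scheme.Modules.pushforward (Scheme.IdealSheafData.vanishingIdeal (rangeCl i)).subschemeι).mapIso
      (asIso (ClSub.unitToPush (toVan i))) ≪≫
    (Scheme.Modules.pushforwardComp (toVan i)
      (Scheme.IdealSheafData.vanishingIdeal (rangeCl i)).subschemeι).app (Coh.structureModule Z) ≪≫
    (Scheme.Modules.pushforwardCongr (toVan_fac i)).app (Coh.structureModule Z)

end gen

section main

attribute [local instance] Abelian.hasFiniteBiproducts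

variable [IsNoetherian X] {Z : Scheme.{u}} (i : Z ⟶ X) [IsClosedImmersion i] [IsIntegral Z]

theorem isZero_sigma_fin_zero {Z : Scheme.{u}} (I : Z.Modules) : IsZero (∐ fun _ : Fin 0 => I) := by
  rw [IsZero.iff_id_eq_zero]
  apply Sigma.hom_ext
  intro k
  exact Fin.elim0 k

theorem isCoh_idealMod [IsLocallyNoetherian Z] (K : Z.IdealSheafData) : Coh.IsCoh (ClSub.idealMod K) := by
  unfold ClSub.idealMod
  exact isCoh_kernel _ isCoh_structureModule (isCoh_quotMod K)

/-- **generic structure of a coherent module killed by the maximal ideal at the generic point of an integral closed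
subscheme.** -/
theorem exists_mono_push_ideal_pow (F : X.Modules) (hF : Coh.IsCoh F)
    (hann : ∀ a ∈ IsLocalRing.maximalIdeal (X.presheaf.stalk (i (genericPoint Z))),
      ∀ m : ↑(F.presheaf.stalk (i (genericPoint Z))), a • m = 0) :
    ∃ (r : ℕ) (I : Z.Modules) (ι : I ⟶ Coh.structureModule Z)
      (φ : (Coh.push i).obj (∐ fun _ : Fin r => I) ⟶ F),
      Mono ι ∧ Coh.IsCoh I ∧ Mono φ ∧
      ∃ U : X.Opens, i (genericPoint Z) ∈ U ∧ IsIso ((Scheme.Modules.restrictFunctor U.ι).map φ) := by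
  classical
  haveI : IsLocallyNoetherian Z := LocallyOfFiniteType.isLocallyNoetherian i
  set ξ := i (genericPoint Z) with hξdef
  have hN : Coh.IsCoh ((Coh.push i).obj (Coh.structureModule Z)) :=
    isCoh_push_of_isFinite i _ isCoh_structureModule
  by_cases hξF : ξ ∈ CohB1.support F
  swap
  · -- the trivial case
    have hz : IsZero ((Coh.push i).obj (∐ fun _ : Fin 0 => Coh.structureModule Z)) :=
      (Coh.push i).map_isZero (isZero_sigma_fin_zero _)
    refine ⟨0, Coh.structureModule Z, 𝟙 _, 0, inferInstance, isCoh_structureModule, hz.mono _,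
      ⟨(CohB1.support F)ᶜ, (isClosed_support F hF).isOpen_compl⟩, hξF, ?_⟩
    rw [Groth.Agent.Lib.Helper28.GenLocus.isIso_restrict_iff]
    intro W hW
    have h0 : ∀ s : Γ((Coh.push i).obj (∐ fun _ : Fin 0 => Coh.structureModule Z), W), s = 0 := by
      intro s
      have h1 : (𝟙 ((Coh.push i).obj (∐ fun _ : Fin 0 => Coh.structureModule Z)) : _ ⟶ _) = 0 :=
        hz.eq_of_src _ _
      have h2 := congrArg (fun φ : (Coh.push i).obj (∐ fun _ : Fin 0 => Coh.structureModule Z) ⟶
        (Coh.push i).obj (∐ fun _ : Fin 0 => Coh.structureModule Z) => φ.app W s) h1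
      exact h2
    refine ⟨fun a b _ => (h0 a).trans (h0 b).symm, fun t => ⟨0, ?_⟩⟩
    rw [section_eq_zero_of_notMem_support F W (fun x hx => hW hx) t]
    exact map_zero _
  -- the main case
  have hcl : closure {ξ} = ((rangeCl i : Closeds X) : Set X) := by
    have h := (genericPoint_spec Z).image i.continuous
    rw [Set.image_univ, i.isClosedEmbedding.isClosed_range.closure_eq] at h
    exact h.def
  have hirr : IsIrreducible ((rangeCl i : Closeds X) : Set X) := by
    rw [← hcl]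
    exact isIrreducible_singleton.closure
  haveI hint := isIntegral_subscheme_vanishingIdeal (rangeCl i) hirr
  have hy' : closure {ξ} = ((Scheme.IdealSheafData.vanishingIdeal (rangeCl i)).support : Set X) := by
    rw [Scheme.IdealSheafData.coe_support_vanishingIdeal]; exact hcl
  -- the generator
  obtain ⟨g, hg0, hgm, hgcyc⟩ := exists_gen_quotMod (rangeCl i) ξ hcl
  have hjinj : Function.Injective (stalkHom (pushIso i).hom ξ) := stalkHom_injective_of_mono _ ξ
  have hjinv : ∀ n, stalkHom (pushIso i).hom ξ (stalkHom (pushIso i).inv ξ n) = n := by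
    intro n
    rw [← stalkHom_comp, Iso.inv_hom_id, stalkHom_id]
  obtain ⟨r, hr, H, ι, hι, hH, hpb, hqb⟩ := exists_graph_pow ξ F ((Coh.push i).obj (Coh.structureModule Z)) hF hN
    hann hξF (stalkHom (pushIso i).hom ξ g)
    (fun h => hg0 (hjinj (h.trans (map_zero _).symm)))
    (fun a ha => by rw [← stalkHom_smul, hgm a ha, map_zero])
    (fun n => by
      obtain ⟨d, hd⟩ := hgcyc (stalkHom (pushIso i).inv ξ n)
      refine ⟨d, ?_⟩
      rw [← stalkHom_smul, ← hd, hjinv])
  have hB : Coh.IsCoh (⨁ fun _ : Fin r => (Coh.push i).obj (Coh.structureModule Z)) :=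
    isCoh_of_iso (biproduct.isoCoproduct _).symm (isCoh_sigma_fin r _ (fun _ => hN))
  obtain ⟨J, ψ, hξJ, hψ⟩ := exists_idealMul_hom hH hB (ι ≫ biprod.fst) (ι ≫ biprod.snd) ξ hpb hqb
  obtain ⟨θ, hθm, hθs⟩ := exists_push_ideal_pow i J r ξ hξJ
  have hI : Coh.IsCoh (ClSub.idealMod (KZ i J)) := isCoh_idealMod _
  have hA : Coh.IsCoh ((Coh.push i).obj (∐ fun _ : Fin r => ClSub.idealMod (KZ i J))) :=
    isCoh_push_of_isFinite i _ (isCoh_sigma_fin r _ (fun _ => hI))
  have hinj : Function.Injective (stalkHom (θ ≫ ψ) ξ) := by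
    intro x y hxy
    rw [stalkHom_comp, stalkHom_comp] at hxy
    exact stalkHom_injective_of_mono θ ξ (hψ.1 hxy)
  have hsurj : Function.Surjective (stalkHom (θ ≫ ψ) ξ) := by
    intro f
    obtain ⟨b, rfl⟩ := hψ.2 f
    obtain ⟨a, rfl⟩ := hθs b
    exact ⟨a, stalkHom_comp _ _ _ _⟩
  haveI hmono : Mono (θ ≫ ψ) := by
    have hkz : IsZero (kernel (θ ≫ ψ)) :=
      isZero_of_mono_biproduct (Scheme.IdealSheafData.vanishingIdeal (rangeCl i)) ξ hy' (pushIso i).inv
        (kernel.ι (θ ≫ ψ) ≫ θ ≫ Dual3.idealMulι J _)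
        (notMem_support_kernel _ ξ (fun h hh => hinj (hh.trans (map_zero _).symm)))
    exact Preadditive.mono_of_kernel_zero (hkz.eq_of_src _ _)
  obtain ⟨U, hξU, hU⟩ := exists_nhd_isIso_restrict (θ ≫ ψ) hA hF ξ hsurj
  exact ⟨r, ClSub.idealMod (KZ i J), ClSub.idealModι (KZ i J), θ ≫ ψ, inferInstance, hI, hmono, U, hξU, hU⟩

end main

end Groth.Agent.Lib.Helper6.DevGen
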