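import Groth.Agent.Lib.Helper6.CohPresheaf
import Groth.Prelude.Def_DeltaF

/-!
# Cohomology presheaves followed by an exact functor, as a delta-functor (helper6)
-/

universe v u v' u'

open CategoryTheory Limits Opposite Abelian

namespace Groth.Agent.Lib.Helper6.CohPresheafDelta

open CohPresheaf SheafCoh

variable {C : Type u} [Category.{v} C] (J : GrothendieckTopology C)
  [HasSheafify J AddCommGrpCat.{v}] [HasExt.{v} (Sheaf J AddCommGrpCat.{v})]
  {ℬ : Type u'} [Category.{v'} ℬ] [Abelian ℬ]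
  (Ψ : (Cᵒᵖ ⥤ AddCommGrpCat.{v}) ⥤ ℬ) [Ψ.Additive] [PreservesFiniteLimits Ψ]
  [PreservesFiniteColimits Ψ]

instance P_additive (n : ℕ) : (P J n).Additive where
  map_add {F G f g} := by
    ext U x
    have key : ∀ y : Ext (Zfree J U.unop) F n, y.comp (Ext.mk₀ (f + g)) (add_zero n) =
        y.comp (Ext.mk₀ f) (add_zero n) + y.comp (Ext.mk₀ g) (add_zero n) := fun y => by
      rw [Ext.mk₀_add, Ext.comp_add]
    exact key x

variable {J}

lemma δP_natural {S S' : ShortComplex (Sheaf J AddCommGrpCat.{v})} (hS : S.ShortExact)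
    (hS' : S'.ShortExact) (φ : S ⟶ S') (n : ℕ) :
    (P J n).map φ.τ₃ ≫ δP S' hS' n = δP S hS n ≫ (P J (n + 1)).map φ.τ₁ := by
  ext U x
  have key : ∀ y : Ext (Zfree J U.unop) S.X₃ n,
      (y.comp (Ext.mk₀ φ.τ₃) (add_zero n)).comp hS'.extClass rfl =
      (y.comp hS.extClass rfl).comp (Ext.mk₀ φ.τ₁) (add_zero (n + 1)) := fun y => by
    rw [Ext.comp_assoc_of_second_deg_zero, Ext.comp_assoc_of_third_deg_zero,
      ShortComplex.ShortExact.extClass_naturality hS hS' φ]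
  exact key x

lemma P_exact₂ (S : ShortComplex (Sheaf J AddCommGrpCat.{v})) (hS : S.ShortExact) (n : ℕ) :
    (ShortComplex.mk ((P J n).map S.f) ((P J n).map S.g)
      (by rw [← Functor.map_comp, S.zero, Functor.map_zero])).Exact := by
  apply exact_of_evaluation
  intro U
  exact Ext.covariant_sequence_exact₂' (Zfree J U.unop) hS n

lemma P_exact₃ (S : ShortComplex (Sheaf J AddCommGrpCat.{v})) (hS : S.ShortExact) (n : ℕ) :
    (ShortComplex.mk _ _ (P_map_g_δP S hS n)).Exact := by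
  apply exact_of_evaluation
  intro U
  exact Ext.covariant_sequence_exact₃' (Zfree J U.unop) hS n (n + 1) rfl

lemma P_exact₁ (S : ShortComplex (Sheaf J AddCommGrpCat.{v})) (hS : S.ShortExact) (n : ℕ) :
    (ShortComplex.mk _ _ (δP_P_map_f S hS n)).Exact := by
  apply exact_of_evaluation
  intro U
  exact Ext.covariant_sequence_exact₁' (Zfree J U.unop) hS n (n + 1) rfl

/-- the connecting homomorphism of cohomology presheaves, for general consecutive degrees -/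
noncomputable def δP' (E : ShortComplex (Sheaf J AddCommGrpCat.{v})) (hE : E.ShortExact)
    (n₀ n₁ : ℕ) (h : n₀ + 1 = n₁) :
    (P J n₀).obj E.X₃ ⟶ (P J n₁).obj E.X₁ where
  app U := AddCommGrpCat.ofHom (hE.extClass.postcomp (Zfree J U.unop) h)
  naturality U V i := by
    subst h
    exact (δP E hE n₀).naturality i

lemma δP'_rfl (E : ShortComplex (Sheaf J AddCommGrpCat.{v})) (hE : E.ShortExact) (n : ℕ) :
    δP' E hE n (n + 1) rfl = δP E hE n := rfl

section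

variable (S : ShortComplex (Sheaf J AddCommGrpCat.{v})) (hS : S.ShortExact) (n₀ n₁ : ℕ)
  (h : n₀ + 1 = n₁)

lemma Ψ_δ_natural {S S' : ShortComplex (Sheaf J AddCommGrpCat.{v})} (hS : S.ShortExact)
    (hS' : S'.ShortExact) (φ : S ⟶ S') (n₀ n₁ : ℕ) (h : n₀ + 1 = n₁) :
    Ψ.map ((P J n₀).map φ.τ₃) ≫ Ψ.map (δP' S' hS' n₀ n₁ h) =
      Ψ.map (δP' S hS n₀ n₁ h) ≫ Ψ.map ((P J n₁).map φ.τ₁) := by
  subst h
  rw [δP'_rfl, δP'_rfl, ← Ψ.map_comp, ← Ψ.map_comp, δP_natural hS hS' φ n₀]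

lemma Ψ_comp_δ : Ψ.map ((P J n₀).map S.g) ≫ Ψ.map (δP' S hS n₀ n₁ h) = 0 := by
  subst h
  rw [δP'_rfl, ← Ψ.map_comp, P_map_g_δP, Ψ.map_zero]

lemma Ψ_exact₃ : (ShortComplex.mk _ _ (Ψ_comp_δ Ψ S hS n₀ n₁ h)).Exact := by
  subst h
  exact (P_exact₃ S hS n₀).map Ψ

lemma Ψ_δ_comp : Ψ.map (δP' S hS n₀ n₁ h) ≫ Ψ.map ((P J n₁).map S.f) = 0 := by
  subst h
  rw [δP'_rfl, ← Ψ.map_comp, δP_P_map_f, Ψ.map_zero]

lemma Ψ_exact₁ : (ShortComplex.mk _ _ (Ψ_δ_comp Ψ S hS n₀ n₁ h)).Exact := by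
  subst h
  exact (P_exact₁ S hS n₀).map Ψ

end

variable (J)

set_option maxHeartbeats 1600000 in
/-- the delta-functor `n ↦ (F ↦ Ψ (U ↦ H^n(U, F)))` -/
noncomputable def deltaFunctor : DeltaF.CohDeltaFunctor (Sheaf J AddCommGrpCat.{v}) ℬ ℕ where
  F n := P J n ⋙ Ψ
  additive n := inferInstance
  δ S hS n₀ n₁ h := Ψ.map (δP' S hS n₀ n₁ h)
  δ_natural {S S'} hS hS' φ n₀ n₁ h := Ψ_δ_natural Ψ hS hS' φ n₀ n₁ h
  exact₂ S hS n := (P_exact₂ S hS n).map Ψ
  comp_δ S hS n₀ n₁ h := Ψ_comp_δ Ψ S hS n₀ n₁ h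
  exact₃ S hS n₀ n₁ h := Ψ_exact₃ Ψ S hS n₀ n₁ h
  δ_comp S hS n₀ n₁ h := Ψ_δ_comp Ψ S hS n₀ n₁ h
  exact₁ S hS n₀ n₁ h := Ψ_exact₁ Ψ S hS n₀ n₁ h

lemma deltaFunctor_isEffaceable [EnoughInjectives (Sheaf J AddCommGrpCat.{v})] :
    (deltaFunctor J Ψ).IsEffaceable := by
  intro n X
  refine ⟨Injective.under X, Injective.ι X, inferInstance, ?_⟩
  have hz : IsZero ((P J (n + 1)).obj (Injective.under X)) := by
    rw [Functor.isZero_iff]
    intro U
    have : Subsingleton (Ext (Zfree J U.unop) (Injective.under X) (n + 1)) :=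
      subsingleton_of_forall_eq 0 (fun x => Ext.eq_zero_of_injective x)
    exact AddCommGrpCat.isZero_of_subsingleton
      (AddCommGrpCat.of (Ext (Zfree J U.unop) (Injective.under X) (n + 1)))
  change Ψ.map ((P J (n + 1)).map (Injective.ι X)) = 0
  rw [hz.eq_of_tgt ((P J (n + 1)).map (Injective.ι X)) 0, Ψ.map_zero]

end Groth.Agent.Lib.Helper6.CohPresheafDelta
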