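import Groth.Prelude.Def_CohSite
import Groth.Agent.Lib.Helper6.ExtAdj
import Mathlib.CategoryTheory.Sites.Pullback
import Mathlib.CategoryTheory.Sites.CoverLifting
import Mathlib.CategoryTheory.Sites.ConstantSheaf
import Mathlib.CategoryTheory.Functor.Flat

/-!
# Cohomology and continuous, cocontinuous, left exact functors of sites (helper6)
-/

universe u

open CategoryTheory Limits Opposite Abelian

namespace Groth.Agent.Lib.Helper6.CohSiteBigger

/-- `Ext` in the first variable along an isomorphism -/
noncomputable def extAddEquivOfIso {𝒜 : Type*} [Category 𝒜] [Abelian 𝒜] [HasExt.{u} 𝒜]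
    {A A' : 𝒜} (e : A ≅ A') (F : 𝒜) (n : ℕ) : Ext A F n ≃+ Ext A' F n where
  toFun x := (Ext.mk₀ e.inv).comp x (zero_add n)
  invFun y := (Ext.mk₀ e.hom).comp y (zero_add n)
  left_inv x := by simp [Ext.mk₀_comp_mk₀_assoc, Ext.mk₀_id_comp]
  right_inv y := by simp [Ext.mk₀_comp_mk₀_assoc, Ext.mk₀_id_comp]
  map_add' x y := by simp

variable {C D : Type u} [SmallCategory C] [SmallCategory D]
  (J : GrothendieckTopology C) (K : GrothendieckTopology D) (u : C ⥤ D)
  [u.IsCocontinuous J K] [u.IsContinuous J K] [HasFiniteLimits C] [PreservesFiniteLimits u]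

/-- restriction along `u` -/
noncomputable abbrev R : Sheaf K AddCommGrpCat.{u} ⥤ Sheaf J AddCommGrpCat.{u} :=
  CohSite.push K J u

/-- its left adjoint -/
noncomputable abbrev L : Sheaf J AddCommGrpCat.{u} ⥤ Sheaf K AddCommGrpCat.{u} :=
  u.sheafPullback AddCommGrpCat.{u} J K

/-- the adjunction -/
noncomputable abbrev adj : L J K u ⊣ R J K u :=
  u.sheafAdjunctionContinuous AddCommGrpCat.{u} J K

instance : PreservesFiniteLimits (L J K u) := by
  have : RepresentablyFlat u := flat_of_preservesFiniteLimits u
  exact CategoryTheory.Functor.SmallCategories.instPreservesFiniteLimitsSheafSheafPullbackOfRepresentablyFlat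
    u AddCommGrpCat.{u} J K

instance : (L J K u).Additive := (adj J K u).left_adjoint_additive

instance : PreservesFiniteLimits (R J K u) := by
  have := (adj J K u).rightAdjoint_preservesLimits
  exact PreservesLimits.preservesFiniteLimits _

instance : PreservesFiniteColimits (R J K u) := by
  have := (u.sheafAdjunctionCocontinuous AddCommGrpCat.{u} J K).leftAdjoint_preservesColimits
  exact PreservesColimits.preservesFiniteColimits _

variable {T : C} (hT : IsTerminal T)

/-- the inverse image of the constant sheaf is the constant sheaf -/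
noncomputable def constIso :
    constantSheaf J AddCommGrpCat.{u} ⋙ L J K u ≅ constantSheaf K AddCommGrpCat.{u} :=
  ((constantSheafAdj J AddCommGrpCat.{u} hT).comp (adj J K u)).leftAdjointUniq
    ((constantSheafAdj K AddCommGrpCat.{u} (hT.isTerminalObj u T)).ofNatIsoRight
      (Iso.refl _ : (sheafSections K AddCommGrpCat.{u}).obj (op (u.obj T)) ≅
        R J K u ⋙ (sheafSections J AddCommGrpCat.{u}).obj (op T)))

include hT in
theorem nonempty_H_addEquiv (F : Sheaf K AddCommGrpCat.{u}) (p : ℕ) :
    Nonempty (Sheaf.H ((R J K u).obj F) p ≃+ Sheaf.H F p) := by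
  obtain ⟨e⟩ := ExtAdj.nonempty_ext_addEquiv (adj J K u)
    ((constantSheaf J AddCommGrpCat.{u}).obj (AddCommGrpCat.of (ULift ℤ))) F p
  exact ⟨e.symm.trans (extAddEquivOfIso ((constIso J K u hT).app _) F p)⟩

end Groth.Agent.Lib.Helper6.CohSiteBigger
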