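import Mathlib

/-!
# Change of universe for `Ext` is additive (helper6)
-/

universe w w' v u

open CategoryTheory Abelian

namespace Groth.Agent.Lib.Helper6.ExtChgUniv

variable {C : Type u} [Category.{v} C] [Abelian C]

/-- `Ext` is small in any larger universe -/
lemma hasExt_max [HasExt.{w} C] : HasExt.{max w w'} C := by
  refine (hasExt_iff_small_ext.{max w w', w} C).2 ?_
  intro X Y n
  exact small_max.{w', w} (Ext.{w} X Y n)

variable [HasExt.{w} C] [HasExt.{w'} C] {X Y : C} {n : ℕ}

/-- change of universe, as an additive equivalence -/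
noncomputable def chgUnivAddEquiv : Ext.{w} X Y n ≃+ Ext.{w'} X Y n where
  toEquiv := Ext.chgUniv.{w'}
  map_add' a b := by
    let := HasDerivedCategory.standard C
    apply Ext.homEquiv.injective
    change Ext.homEquiv (Ext.chgUniv.{w'} (a + b)) = (Ext.chgUniv.{w'} a + Ext.chgUniv.{w'} b).hom
    rw [Ext.homEquiv_chgUniv, Ext.add_hom]
    change (a + b).hom = Ext.homEquiv (Ext.chgUniv.{w'} a) + Ext.homEquiv (Ext.chgUniv.{w'} b)
    rw [Ext.homEquiv_chgUniv, Ext.homEquiv_chgUniv, Ext.add_hom]

end Groth.Agent.Lib.Helper6.ExtChgUniv
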