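import Groth.Agent.Lib.Helper6.RDMayerVietoris
import Groth.Agent.Lib.Helper6.SheafCoh
import Groth.Prelude.Def_CohCx
import Mathlib.Topology.Sheaves.SheafCondition.PairwiseIntersections

/-!
# Relative Mayer–Vietoris for abelian sheaves on spaces (helper6)
-/

set_option autoImplicit false
universe u
open CategoryTheory CategoryTheory.Limits Opposite TopologicalSpace

namespace Groth.Agent.Lib.Helper6.CohTopMV

open Groth.Agent.Lib.Helper6

variable {X Y : TopCat.{u}}

/-- sheaf condition for two opens, in a form robust to propositional equalities of opens -/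
lemma isPullback_of_eq (F : CohTop.Ab X) {P Q R S : Opens X}
    (hP : P = Q ⊔ R) (hS : S = Q ⊓ R) (a : Q ⟶ P) (b : R ⟶ P) (c : S ⟶ Q) (d : S ⟶ R) :
    IsPullback (F.obj.map a.op) (F.obj.map b.op) (F.obj.map c.op) (F.obj.map d.op) := by
  subst hP hS
  have h := IsPullback.of_isLimit (TopCat.Sheaf.isLimitPullbackCone F Q R)
  have ha : a = homOfLE le_sup_left := Subsingleton.elim _ _
  have hb : b = homOfLE le_sup_right := Subsingleton.elim _ _
  have hc : c = homOfLE inf_le_left := Subsingleton.elim _ _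
  have hd : d = homOfLE inf_le_right := Subsingleton.elim _ _
  subst ha hb hc hd
  exact h

variable (f : X ⟶ Y) (U V : Opens X)

lemma comm : CohCx.pushToRestrPush f U ≫ CohCx.restrPushToRestrPush f (inf_le_left : U ⊓ V ≤ U) =
    CohCx.pushToRestrPush f V ≫ CohCx.restrPushToRestrPush f (inf_le_right : U ⊓ V ≤ V) := by
  ext F : 2
  apply Sheaf.hom_ext
  ext W : 2
  change F.obj.map _ ≫ F.obj.map _ = F.obj.map _ ≫ F.obj.map _
  rw [← F.obj.map_comp, ← F.obj.map_comp]
  rfl

/-- the open `U ∩ f⁻¹ W` of `X` as it appears in `(f|_U)_* (F|_U)` -/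
abbrev UW (W : Opens Y) : Opens X :=
  U.isOpenEmbedding.isOpenMap.functor.obj ((Opens.map (CohCx.incl U ≫ f)).obj W)

lemma mem_UW (W : Opens Y) (x : X) : x ∈ UW f U W ↔ x ∈ U ∧ f x ∈ W := by
  constructor
  · rintro ⟨y, hy, rfl⟩
    exact ⟨y.2, hy⟩
  · rintro ⟨hx, hfx⟩
    exact ⟨⟨x, hx⟩, hfx, rfl⟩

variable {U V} in
lemma sup_eq (hUV : U ⊔ V = ⊤) (W : Opens Y) :
    (Opens.map f).obj W = UW f U W ⊔ UW f V W := by
  ext x
  have hx : x ∈ U ⊔ V := by rw [hUV]; trivial
  constructor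
  · intro h
    rcases hx with hx | hx
    · exact Or.inl ((mem_UW f U W x).2 ⟨hx, h⟩)
    · exact Or.inr ((mem_UW f V W x).2 ⟨hx, h⟩)
  · rintro (h | h)
    · exact ((mem_UW f U W x).1 h).2
    · exact ((mem_UW f V W x).1 h).2

lemma inf_eq (W : Opens Y) : UW f (U ⊓ V) W = UW f U W ⊓ UW f V W := by
  ext x
  constructor
  · intro h
    obtain ⟨hx, hfx⟩ := (mem_UW f (U ⊓ V) W x).1 h
    exact ⟨(mem_UW f U W x).2 ⟨hx.1, hfx⟩, (mem_UW f V W x).2 ⟨hx.2, hfx⟩⟩
  · rintro ⟨h1, h2⟩
    obtain ⟨hx1, hfx⟩ := (mem_UW f U W x).1 h1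
    obtain ⟨hx2, _⟩ := (mem_UW f V W x).1 h2
    exact (mem_UW f (U ⊓ V) W x).2 ⟨⟨hx1, hx2⟩, hfx⟩

variable {U V} in
lemma isPullback (hUV : U ⊔ V = ⊤) (I : CohTop.Ab X) :
    IsPullback ((CohCx.pushToRestrPush f U).app I) ((CohCx.pushToRestrPush f V).app I)
      ((CohCx.restrPushToRestrPush f (inf_le_left : U ⊓ V ≤ U)).app I)
      ((CohCx.restrPushToRestrPush f (inf_le_right : U ⊓ V ≤ V)).app I) := by
  have hc : (CohCx.pushToRestrPush f U).app I ≫
      (CohCx.restrPushToRestrPush f (inf_le_left : U ⊓ V ≤ U)).app I =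
      (CohCx.pushToRestrPush f V).app I ≫
      (CohCx.restrPushToRestrPush f (inf_le_right : U ⊓ V ≤ V)).app I := by
    rw [← NatTrans.comp_app, comm, NatTrans.comp_app]
  refine IsPullback.of_map (sheafToPresheaf _ _) hc ?_
  refine IsPullback.of_forall_isPullback_app (fun W => ?_)
  exact isPullback_of_eq I (sup_eq f hUV W.unop) (inf_eq f U V W.unop) _ _ _ _

lemma epi (I : CohTop.Ab X) [TopCat.Sheaf.IsFlasque I] {U' : Opens X} (h : U' ≤ U) :
    Epi ((CohCx.restrPushToRestrPush f h).app I) := by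
  haveI : Epi ((sheafToPresheaf _ _).map ((CohCx.restrPushToRestrPush f h).app I)) := by
    haveI : ∀ W, Epi (((sheafToPresheaf _ _).map
        ((CohCx.restrPushToRestrPush f h).app I)).app W) := by
      intro W
      exact TopCat.Presheaf.IsFlasque.epi (F := I.obj) _
    exact NatTrans.epi_of_epi_app _
  exact (sheafToPresheaf _ _).epi_of_epi_map inferInstance

end Groth.Agent.Lib.Helper6.CohTopMV
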