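import Groth.Agent.Lib.Helper6.RDSesLES
import Mathlib.Algebra.Homology.Square
import Mathlib.Algebra.Homology.ExactSequence

/-!
# Mayer–Vietoris sequence for derived functors (helper6)

`A, B₁, B₂, C : 𝒜 ⥤ ℬ` additive, `α₁ : A ⟶ B₁`, `α₂ : A ⟶ B₂`, `β₁ : B₁ ⟶ C`, `β₂ : B₂ ⟶ C` a
commutative square which on injectives is a pullback square with `β₁` epi.  Then there is a long
exact sequence `0 ⟶ R⁰A ⟶ R⁰B₁ ⊞ R⁰B₂ ⟶ R⁰C ⟶ R¹A ⟶ ⋯` (objectwise).
-/

universe v v' u u'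

open CategoryTheory Limits

namespace Groth.Agent.Lib.Helper6.RDMV

open Groth.Agent.Lib.Helper6.RDSes

variable {𝒜 : Type u} [Category.{v} 𝒜] [Abelian 𝒜] [HasInjectiveResolutions 𝒜]
  {ℬ : Type u'} [Category.{v'} ℬ] [Abelian ℬ]

/-- the functor `B₁ ⊞ B₂` -/
@[reducible, simps]
noncomputable def Bsum (B₁ B₂ : 𝒜 ⥤ ℬ) : 𝒜 ⥤ ℬ where
  obj X := B₁.obj X ⊞ B₂.obj X
  map f := biprod.map (B₁.map f) (B₂.map f)
  map_id X := by
    apply biprod.hom_ext <;> simp
  map_comp f g := by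
    apply biprod.hom_ext <;> simp

variable {A B₁ B₂ C : 𝒜 ⥤ ℬ} [A.Additive] [B₁.Additive] [B₂.Additive] [C.Additive]

instance : (Bsum B₁ B₂).Additive where
  map_add {X Y f g} := by
    dsimp
    apply biprod.hom_ext <;> simp [Functor.map_add]

variable (B₁ B₂) in
@[simps]
noncomputable def π₁ : Bsum B₁ B₂ ⟶ B₁ where
  app X := biprod.fst
  naturality X Y f := by simp

variable (B₁ B₂) in
@[simps]
noncomputable def π₂ : Bsum B₁ B₂ ⟶ B₂ where
  app X := biprod.snd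
  naturality X Y f := by simp

variable (B₁ B₂) in
@[simps]
noncomputable def ι₁ : B₁ ⟶ Bsum B₁ B₂ where
  app X := biprod.inl
  naturality X Y f := by simp

variable (B₁ B₂) in
@[simps]
noncomputable def ι₂ : B₂ ⟶ Bsum B₁ B₂ where
  app X := biprod.inr
  naturality X Y f := by simp

lemma ι₁_π₁ : ι₁ B₁ B₂ ≫ π₁ B₁ B₂ = 𝟙 B₁ := by ext X; simp
lemma ι₂_π₂ : ι₂ B₁ B₂ ≫ π₂ B₁ B₂ = 𝟙 B₂ := by ext X; simp
lemma ι₁_π₂ : ι₁ B₁ B₂ ≫ π₂ B₁ B₂ = 0 := by ext X; simp
lemma ι₂_π₁ : ι₂ B₁ B₂ ≫ π₁ B₁ B₂ = 0 := by ext X; simp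
lemma total : π₁ B₁ B₂ ≫ ι₁ B₁ B₂ + π₂ B₁ B₂ ≫ ι₂ B₁ B₂ = 𝟙 (Bsum B₁ B₂) := by
  apply NatTrans.ext
  funext X
  simp only [NatTrans.app_add, NatTrans.comp_app, π₁_app, ι₁_app, π₂_app, ι₂_app, NatTrans.id_app]
  exact biprod.total

variable (α₁ : A ⟶ B₁) (α₂ : A ⟶ B₂) (β₁ : B₁ ⟶ C) (β₂ : B₂ ⟶ C)

@[simps]
noncomputable def αs : A ⟶ Bsum B₁ B₂ where
  app X := biprod.lift (α₁.app X) (α₂.app X)
  naturality X Y f := by
    dsimp
    apply biprod.hom_ext <;> simp

@[simps]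
noncomputable def βs : Bsum B₁ B₂ ⟶ C where
  app X := biprod.desc (β₁.app X) (-β₂.app X)
  naturality X Y f := by
    dsimp
    apply biprod.hom_ext' <;> simp

lemma αs_π₁ : αs α₁ α₂ ≫ π₁ B₁ B₂ = α₁ := by ext X; simp
lemma αs_π₂ : αs α₁ α₂ ≫ π₂ B₁ B₂ = α₂ := by ext X; simp
lemma ι₁_βs : ι₁ B₁ B₂ ≫ βs β₁ β₂ = β₁ := by ext X; simp
lemma ι₂_βs : ι₂ B₁ B₂ ≫ βs β₁ β₂ = -β₂ := by ext X; simp

variable (comm : α₁ ≫ β₁ = α₂ ≫ β₂)

include comm in
lemma hw : αs α₁ α₂ ≫ βs β₁ β₂ = 0 := by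
  ext X
  have h : α₁.app X ≫ β₁.app X = α₂.app X ≫ β₂.app X := by
    rw [← NatTrans.comp_app, comm, NatTrans.comp_app]
  simp [biprod.lift_desc, h]

variable (hpb : ∀ I : 𝒜, Injective I → IsPullback (α₁.app I) (α₂.app I) (β₁.app I) (β₂.app I))
  (hepi : ∀ I : 𝒜, Injective I → Epi (β₁.app I))

include hpb hepi in
lemma hses (I : 𝒜) (hI : Injective I) :
    (sc (αs α₁ α₂) (βs β₁ β₂) (hw α₁ α₂ β₁ β₂ comm) I).ShortExact := by
  let sq : Square ℬ := ⟨α₁.app I, α₂.app I, β₁.app I, β₂.app I, (hpb I hI).w⟩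
  have hsq : sq.IsPullback := hpb I hI
  have hlim : IsLimit sq.kernelFork := hsq.isLimitKernelFork
  have hex : (sc (αs α₁ α₂) (βs β₁ β₂) (hw α₁ α₂ β₁ β₂ comm) I).Exact :=
    ShortComplex.exact_of_f_is_kernel _ hlim
  have hmono : Mono (sc (αs α₁ α₂) (βs β₁ β₂) (hw α₁ α₂ β₁ β₂ comm) I).f :=
    mono_of_isLimit_fork hlim
  have hepi' : Epi (sc (αs α₁ α₂) (βs β₁ β₂) (hw α₁ α₂ β₁ β₂ comm) I).g := by
    have hfac : biprod.inl ≫ (sc (αs α₁ α₂) (βs β₁ β₂) (hw α₁ α₂ β₁ β₂ comm) I).g = β₁.app I :=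
      biprod.inl_desc _ _
    haveI : Epi (biprod.inl ≫ (sc (αs α₁ α₂) (βs β₁ β₂) (hw α₁ α₂ β₁ β₂ comm) I).g) := by
      rw [hfac]
      exact hepi I hI
    exact epi_of_epi biprod.inl _
  exact { exact := hex }

/-- the comparison `Rⁱ(B₁ ⊞ B₂) X ≅ RⁱB₁ X ⊞ RⁱB₂ X` -/
noncomputable def e (i : ℕ) (X : 𝒜) :
    ((Bsum B₁ B₂).rightDerived i).obj X ≅
      (B₁.rightDerived i).obj X ⊞ (B₂.rightDerived i).obj X where
  hom := biprod.lift ((NatTrans.rightDerived (π₁ B₁ B₂) i).app X)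
    ((NatTrans.rightDerived (π₂ B₁ B₂) i).app X)
  inv := biprod.desc ((NatTrans.rightDerived (ι₁ B₁ B₂) i).app X)
    ((NatTrans.rightDerived (ι₂ B₁ B₂) i).app X)
  hom_inv_id := by
    rw [biprod.lift_desc, ← NatTrans.comp_app, ← NatTrans.comp_app, ← NatTrans.rightDerived_comp,
      ← NatTrans.rightDerived_comp, ← NatTrans.app_add, ← rightDerived_add, total,
      NatTrans.rightDerived_id]
    rfl
  inv_hom_id := by
    apply biprod.hom_ext' <;> apply biprod.hom_ext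
    · rw [biprod.inl_desc_assoc, Category.assoc, biprod.lift_fst, Category.comp_id,
        biprod.inl_fst, ← NatTrans.comp_app, ← NatTrans.rightDerived_comp, ι₁_π₁,
        NatTrans.rightDerived_id]
      rfl
    · rw [biprod.inl_desc_assoc, Category.assoc, biprod.lift_snd, Category.comp_id,
        biprod.inl_snd, ← NatTrans.comp_app, ← NatTrans.rightDerived_comp, ι₁_π₂,
        rightDerived_zero]
      rfl
    · rw [biprod.inr_desc_assoc, Category.assoc, biprod.lift_fst, Category.comp_id,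
        biprod.inr_fst, ← NatTrans.comp_app, ← NatTrans.rightDerived_comp, ι₂_π₁,
        rightDerived_zero]
      rfl
    · rw [biprod.inr_desc_assoc, Category.assoc, biprod.lift_snd, Category.comp_id,
        biprod.inr_snd, ← NatTrans.comp_app, ← NatTrans.rightDerived_comp, ι₂_π₂,
        NatTrans.rightDerived_id]
      rfl

lemma αs_e (i : ℕ) (X : 𝒜) :
    (NatTrans.rightDerived (αs α₁ α₂) i).app X ≫ (e (B₁ := B₁) (B₂ := B₂) i X).hom =
      biprod.lift ((NatTrans.rightDerived α₁ i).app X) ((NatTrans.rightDerived α₂ i).app X) := by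
  dsimp only [e]
  apply biprod.hom_ext
  · rw [Category.assoc, biprod.lift_fst, biprod.lift_fst, ← NatTrans.comp_app,
      ← NatTrans.rightDerived_comp, αs_π₁]
  · rw [Category.assoc, biprod.lift_snd, biprod.lift_snd, ← NatTrans.comp_app,
      ← NatTrans.rightDerived_comp, αs_π₂]

lemma e_βs (i : ℕ) (X : 𝒜) :
    (e (B₁ := B₁) (B₂ := B₂) i X).inv ≫ (NatTrans.rightDerived (βs β₁ β₂) i).app X =
      biprod.desc ((NatTrans.rightDerived β₁ i).app X) (-(NatTrans.rightDerived β₂ i).app X) := by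
  dsimp only [e]
  apply biprod.hom_ext'
  · rw [biprod.inl_desc_assoc, biprod.inl_desc, ← NatTrans.comp_app,
      ← NatTrans.rightDerived_comp, ι₁_βs]
  · rw [biprod.inr_desc_assoc, biprod.inr_desc, ← NatTrans.comp_app,
      ← NatTrans.rightDerived_comp, ι₂_βs, rightDerived_neg]
    rfl

include comm hpb hepi in
/-- **Mayer–Vietoris** for derived functors. -/
theorem main (F : 𝒜) :
    ∃ δ : ∀ n : ℕ, (C.rightDerived n).obj F ⟶ (A.rightDerived (n + 1)).obj F,
      Mono (biprod.lift ((NatTrans.rightDerived α₁ 0).app F)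
        ((NatTrans.rightDerived α₂ 0).app F)) ∧
      ∀ n : ℕ,
        (ComposableArrows.mk₂
          (biprod.lift ((NatTrans.rightDerived α₁ n).app F) ((NatTrans.rightDerived α₂ n).app F))
          (biprod.desc ((NatTrans.rightDerived β₁ n).app F)
            (-((NatTrans.rightDerived β₂ n).app F)))).Exact ∧
        (ComposableArrows.mk₂
          (biprod.desc ((NatTrans.rightDerived β₁ n).app F)
            (-((NatTrans.rightDerived β₂ n).app F)))
          (δ n)).Exact ∧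
        (ComposableArrows.mk₂ (δ n)
          (biprod.lift ((NatTrans.rightDerived α₁ (n + 1)).app F)
            ((NatTrans.rightDerived α₂ (n + 1)).app F))).Exact := by
  have hW := hw α₁ α₂ β₁ β₂ comm
  have hS := hses α₁ α₂ β₁ β₂ comm hpb hepi
  refine ⟨fun n => δApp (αs α₁ α₂) (βs β₁ β₂) hW hS n F, ?_, fun n => ⟨?_, ?_, ?_⟩⟩
  · rw [← αs_e]
    haveI := mono_rightDerived_zero_app (αs α₁ α₂) (βs β₁ β₂) hW hS F
    infer_instance
  · have h := exact_at_B (αs α₁ α₂) (βs β₁ β₂) hW hS n F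
    have w' : biprod.lift ((NatTrans.rightDerived α₁ n).app F)
        ((NatTrans.rightDerived α₂ n).app F) ≫
        biprod.desc ((NatTrans.rightDerived β₁ n).app F)
          (-((NatTrans.rightDerived β₂ n).app F)) = 0 := by
      rw [← αs_e, ← e_βs, Category.assoc, Iso.hom_inv_id_assoc]
      exact rightDerived_comp_app _ _ hW n F
    have h' : (ShortComplex.mk _ _ w').Exact := by
      refine ShortComplex.exact_of_iso (S₁ := ShortComplex.mk _ _
        (rightDerived_comp_app (αs α₁ α₂) (βs β₁ β₂) hW n F))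
        (ShortComplex.isoMk (Iso.refl _) (e n F) (Iso.refl _) ?_ ?_) h
      · dsimp
        rw [Category.id_comp, αs_e]
      · dsimp
        rw [Category.comp_id, ← e_βs, Iso.hom_inv_id_assoc]
    exact h'.exact_toComposableArrows
  · have h := exact_at_C (αs α₁ α₂) (βs β₁ β₂) hW hS n F
    have w' : biprod.desc ((NatTrans.rightDerived β₁ n).app F)
          (-((NatTrans.rightDerived β₂ n).app F)) ≫
        δApp (αs α₁ α₂) (βs β₁ β₂) hW hS n F = 0 := by
      rw [← e_βs, Category.assoc, rightDerived_comp_δApp', comp_zero]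
    have h' : (ShortComplex.mk _ _ w').Exact := by
      refine ShortComplex.exact_of_iso (S₁ := ShortComplex.mk _ _
        (rightDerived_comp_δApp' (αs α₁ α₂) (βs β₁ β₂) hW hS n F))
        (ShortComplex.isoMk (e n F) (Iso.refl _) (Iso.refl _) ?_ ?_) h
      · dsimp
        rw [Category.comp_id, ← e_βs, Iso.hom_inv_id_assoc]
      · dsimp
        rw [Category.id_comp, Category.comp_id]
    exact h'.exact_toComposableArrows
  · have h := exact_at_A (αs α₁ α₂) (βs β₁ β₂) hW hS n F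
    have w' : δApp (αs α₁ α₂) (βs β₁ β₂) hW hS n F ≫
        biprod.lift ((NatTrans.rightDerived α₁ (n + 1)).app F)
          ((NatTrans.rightDerived α₂ (n + 1)).app F) = 0 := by
      rw [← αs_e, ← Category.assoc, δApp_comp_rightDerived, zero_comp]
    have h' : (ShortComplex.mk _ _ w').Exact := by
      refine ShortComplex.exact_of_iso (S₁ := ShortComplex.mk _ _
        (δApp_comp_rightDerived (αs α₁ α₂) (βs β₁ β₂) hW hS n F))
        (ShortComplex.isoMk (Iso.refl _) (Iso.refl _) (e (n + 1) F) ?_ ?_) h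
      · dsimp
        rw [Category.id_comp, Category.comp_id]
      · dsimp
        rw [Category.id_comp, αs_e]
    exact h'.exact_toComposableArrows

end Groth.Agent.Lib.Helper6.RDMV
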