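import Groth.Agent.Lib.Helper6.IdealMul
import Mathlib
set_option backward.isDefEq.respectTransparency.types false
set_option autoImplicit false

/-!
# Finite powers of a coherent module, and a graph construction
-/

universe u
open CategoryTheory CategoryTheory.Limits AlgebraicGeometry Opposite TopologicalSpace
open Groth.Agent.Lib.Helper17.CohKer Groth.Agent.Lib.Helper17.StalkExact Groth.Agent.Lib.Helper28.QCohLoc

namespace Groth.Agent.Lib.Helper6.DevPow
open Groth.Agent.Lib.Helper6.DevSub Groth.Agent.Lib.Helper6.DevCore Groth.Agent.Lib.Helper6.DevSoc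
  Groth.Agent.Lib.Helper6.DevRed Groth.Agent.Lib.Helper6.DevSum Groth.Agent.Lib.Helper17.Serre

section algebra

/-- a basis over the residue field, phrased over the local ring -/
theorem exists_basis_of_killed {R V : Type*} [CommRing R] [IsLocalRing R] [AddCommGroup V] [Module R V]
    [Module.Finite R V] (hm : ∀ a ∈ IsLocalRing.maximalIdeal R, ∀ v : V, a • v = 0) :
    ∃ (r : ℕ) (b : Fin r → V), (∀ v : V, ∃ c : Fin r → R, v = ∑ k, c k • b k) ∧
      ∀ c : Fin r → R, ∑ k, c k • b k = 0 → ∀ k, c k ∈ IsLocalRing.maximalIdeal R := by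
  have htors : Module.IsTorsionBySet R V (IsLocalRing.maximalIdeal R : Set R) := fun v a => hm a.1 a.2 v
  letI : Module (R ⧸ IsLocalRing.maximalIdeal R) V := htors.module
  letI : Field (R ⧸ IsLocalRing.maximalIdeal R) := Ideal.Quotient.field _
  haveI : IsScalarTower R (R ⧸ IsLocalRing.maximalIdeal R) V := htors.isScalarTower
  haveI : Module.Finite (R ⧸ IsLocalRing.maximalIdeal R) V := Module.Finite.of_restrictScalars_finite R _ V
  let B := Module.finBasis (R ⧸ IsLocalRing.maximalIdeal R) V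
  have hsm : ∀ (c : R) (v : V), (Ideal.Quotient.mk (IsLocalRing.maximalIdeal R) c) • v = c • v :=
    fun c v => Module.IsTorsionBySet.mk_smul htors c v
  refine ⟨_, B, fun v => ?_, fun c hc k => ?_⟩
  · choose c hc using fun k => Ideal.Quotient.mk_surjective (B.repr v k)
    refine ⟨c, ?_⟩
    conv_lhs => rw [← B.sum_repr v]
    refine Finset.sum_congr rfl fun k _ => ?_
    rw [← hc k, hsm]
  · have h1 : ∑ k, (Ideal.Quotient.mk (IsLocalRing.maximalIdeal R) (c k)) • B k = 0 := by
      rw [← hc]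
      exact Finset.sum_congr rfl fun k _ => hsm _ _
    have h2 := (Fintype.linearIndependent_iff.1 B.linearIndependent) _ h1 k
    exact Ideal.Quotient.eq_zero_iff_mem.1 h2

end algebra

section pow

variable {X : Scheme.{u}}

attribute [local instance] Abelian.hasFiniteBiproducts

theorem stalkHom_sum {F G : X.Modules} {ι : Type*} (s : Finset ι) (φ : ι → (F ⟶ G)) (x : X)
    (m : F.presheaf.stalk x) : stalkHom (∑ k ∈ s, φ k) x m = ∑ k ∈ s, stalkHom (φ k) x m := by
  classical
  induction s using Finset.induction_on with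
  | empty => rw [Finset.sum_empty, Finset.sum_empty, stalkHom_zero]
  | insert a s ha ih => rw [Finset.sum_insert ha, Finset.sum_insert ha, stalkHom_add, ih]

theorem stalk_biproduct_total {r : ℕ} (f : Fin r → X.Modules) (x : X) (z : (⨁ f).presheaf.stalk x) :
    z = ∑ k, stalkHom (biproduct.ι f k) x (stalkHom (biproduct.π f k) x z) := by
  have h := stalkHom_sum Finset.univ (fun k => biproduct.π f k ≫ biproduct.ι f k) x z
  rw [biproduct.total, stalkHom_id] at h
  refine h.trans ?_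
  exact Finset.sum_congr rfl fun k _ => stalkHom_comp _ _ _ _

theorem stalkHom_ι_π_self {r : ℕ} (f : Fin r → X.Modules) (x : X) (k : Fin r) (n : (f k).presheaf.stalk x) :
    stalkHom (biproduct.π f k) x (stalkHom (biproduct.ι f k) x n) = n := by
  rw [← stalkHom_comp, biproduct.ι_π_self, stalkHom_id]

theorem stalkHom_ι_π_ne {r : ℕ} (f : Fin r → X.Modules) (x : X) {k k' : Fin r} (h : k ≠ k')
    (n : (f k).presheaf.stalk x) :
    stalkHom (biproduct.π f k') x (stalkHom (biproduct.ι f k) x n) = 0 := by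
  rw [← stalkHom_comp, biproduct.ι_π_ne f h, stalkHom_zero]

/-- finite coproducts of coherent modules are coherent -/
theorem isCoh_sigma_fin : ∀ (r : ℕ) (f : Fin r → X.Modules), (∀ k, Coh.IsCoh (f k)) → Coh.IsCoh (∐ f)
  | 0, f, _ => by
    apply isCoh_of_isZero
    rw [IsZero.iff_id_eq_zero]
    apply Sigma.hom_ext
    intro k
    exact Fin.elim0 k
  | r + 1, f, hf => by
    have ih := isCoh_sigma_fin r (fun i => f i.succ) (fun i => hf i.succ)
    let c₁ : Cofan fun i : Fin r => f i.succ := Cofan.mk (∐ fun i : Fin r => f i.succ) (Sigma.ι _)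
    have t₁ : IsColimit c₁ := coproductIsCoproduct _
    let c₂ : BinaryCofan (f 0) c₁.pt := BinaryBicone.toCocone (BinaryBiproduct.bicone (f 0) c₁.pt)
    have t₂ : IsColimit c₂ := BinaryBiproduct.isColimit (f 0) c₁.pt
    have t := extendCofanIsColimit f t₁ t₂
    let e : (f 0 ⊞ ∐ fun i : Fin r => f i.succ) ≅ ∐ f :=
      t.coconePointUniqueUpToIso (coproductIsCoproduct f)
    haveI : (f 0).IsQuasicoherent := (hf 0).1
    haveI : (∐ fun i : Fin r => f i.succ).IsQuasicoherent := ih.1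
    haveI : SheafOfModules.IsFiniteType.{u} (R := X.ringCatSheaf) (f 0) := (hf 0).2
    haveI : SheafOfModules.IsFiniteType.{u} (R := X.ringCatSheaf) (∐ fun i : Fin r => f i.succ) := ih.2
    exact isCoh_of_iso e ⟨inferInstance,
      @Groth.Agent.Lib.Helper17.QCAlgGen.isFiniteType_biprod X (f 0) (∐ fun i : Fin r => f i.succ) _ _ (hf 0).2 ih.2⟩

/-- the support of a finite power -/
theorem support_biproduct_subset {r : ℕ} (N : X.Modules) :
    CohB1.support (⨁ fun _ : Fin r => N) ⊆ CohB1.support N := by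
  intro x hx hN
  apply hx
  refine ⟨fun z z' => ?_⟩
  rw [stalk_biproduct_total _ x z, stalk_biproduct_total _ x z']
  refine Finset.sum_congr rfl fun k _ => ?_
  rw [hN.elim (stalkHom (biproduct.π (fun _ : Fin r => N) k) x z)
    (stalkHom (biproduct.π (fun _ : Fin r => N) k) x z')]

/-- **the graph of an isomorphism between the stalks of `G` and of a power of `N`.** -/
theorem exists_graph_pow [IsNoetherian X] (ξ : X) (G N : X.Modules) (hG : Coh.IsCoh G) (hN : Coh.IsCoh N)
    (hGm : ∀ a ∈ IsLocalRing.maximalIdeal (X.presheaf.stalk ξ), ∀ m : G.presheaf.stalk ξ, a • m = 0)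
    (hξG : ξ ∈ CohB1.support G)
    (n₀ : N.presheaf.stalk ξ) (hn₀ : n₀ ≠ 0)
    (hn₀m : ∀ a ∈ IsLocalRing.maximalIdeal (X.presheaf.stalk ξ), a • n₀ = 0)
    (hn₀c : ∀ n : N.presheaf.stalk ξ, ∃ d : X.presheaf.stalk ξ, n = d • n₀) :
    ∃ (r : ℕ), 1 ≤ r ∧ ∃ (H : X.Modules) (ι : H ⟶ G ⊞ ⨁ fun _ : Fin r => N), Mono ι ∧ Coh.IsCoh H ∧
      Function.Bijective (stalkHom (ι ≫ biprod.fst) ξ) ∧ Function.Bijective (stalkHom (ι ≫ biprod.snd) ξ) := by
  classical
  haveI := isNoetherian_stalk G hG ξ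
  obtain ⟨r, b, hbspan, hbind⟩ := exists_basis_of_killed hGm
  have hr : 1 ≤ r := by
    by_contra h
    have h0 : r = 0 := by omega
    subst h0
    apply hξG
    refine ⟨fun v v' => ?_⟩
    obtain ⟨c, hc⟩ := hbspan v
    obtain ⟨c', hc'⟩ := hbspan v'
    rw [hc, hc', Finset.univ_eq_empty, Finset.sum_empty, Finset.sum_empty]
  refine ⟨r, hr, ?_⟩
  let B : X.Modules := ⨁ fun _ : Fin r => N
  have hB : Coh.IsCoh B :=
    isCoh_of_iso (biproduct.isoCoproduct (fun _ : Fin r => N)).symm (isCoh_sigma_fin r _ (fun _ => hN))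
  haveI : G.IsQuasicoherent := hG.1
  haveI : B.IsQuasicoherent := hB.1
  have hE : Coh.IsCoh (G ⊞ B) :=
    ⟨inferInstance, @Groth.Agent.Lib.Helper17.QCAlgGen.isFiniteType_biprod X G B _ _ hG.2 hB.2⟩
  let w : Fin r → (G ⊞ B).presheaf.stalk ξ := fun k =>
    stalkHom (biprod.inl : G ⟶ G ⊞ B) ξ (b k) +
      stalkHom (biprod.inr : B ⟶ G ⊞ B) ξ (stalkHom (biproduct.ι (fun _ : Fin r => N) k) ξ n₀)
  obtain ⟨H, ι, hι, hH, hHW⟩ := exists_sub_of_fg (G ⊞ B) hE ξ (Submodule.span _ (Set.range w))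
    (Submodule.fg_span (Set.finite_range w))
  have hιinj := stalkHom_injective_of_mono ι ξ
  have hw1 : ∀ k, stalkHom (biprod.fst : G ⊞ B ⟶ G) ξ (w k) = b k := by
    intro k
    simp only [w, map_add]
    rw [← stalkHom_comp, ← stalkHom_comp, biprod.inl_fst, biprod.inr_fst, stalkHom_id, stalkHom_zero, add_zero]
  have hw2 : ∀ k, stalkHom (biprod.snd : G ⊞ B ⟶ B) ξ (w k) =
      stalkHom (biproduct.ι (fun _ : Fin r => N) k) ξ n₀ := by
    intro k
    simp only [w, map_add]
    rw [← stalkHom_comp, ← stalkHom_comp, biprod.inl_snd, biprod.inr_snd, stalkHom_id, stalkHom_zero, zero_add]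
  have hrep : ∀ h : H.presheaf.stalk ξ, ∃ c : Fin r → X.presheaf.stalk ξ,
      stalkHom ι ξ h = ∑ k, c k • w k := by
    intro h
    have := (hHW (stalkHom ι ξ h)).2 ⟨h, rfl⟩
    obtain ⟨c, hc⟩ := (Submodule.mem_span_range_iff_exists_fun _).1 this
    exact ⟨c, hc.symm⟩
  have hhit : ∀ c : Fin r → X.presheaf.stalk ξ, ∃ h : H.presheaf.stalk ξ,
      stalkHom ι ξ h = ∑ k, c k • w k := by
    intro c
    exact (hHW _).1 ((Submodule.mem_span_range_iff_exists_fun _).2 ⟨c, rfl⟩)
  have hzero : ∀ c : Fin r → X.presheaf.stalk ξ,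
      (∀ k, c k ∈ IsLocalRing.maximalIdeal (X.presheaf.stalk ξ)) → ∑ k, c k • w k = 0 := by
    intro c hc
    refine Finset.sum_eq_zero fun k _ => ?_
    simp only [w, smul_add]
    rw [← stalkHom_smul, ← stalkHom_smul, ← stalkHom_smul, hGm _ (hc k), hn₀m _ (hc k), map_zero, map_zero,
      map_zero, add_zero]
  have hp : ∀ (h : H.presheaf.stalk ξ) (c : Fin r → X.presheaf.stalk ξ), stalkHom ι ξ h = ∑ k, c k • w k →
      stalkHom (ι ≫ biprod.fst) ξ h = ∑ k, c k • b k := by
    intro h c hc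
    rw [stalkHom_comp, hc, map_sum]
    refine Finset.sum_congr rfl fun k _ => ?_
    rw [stalkHom_smul, hw1]
  have hq : ∀ (h : H.presheaf.stalk ξ) (c : Fin r → X.presheaf.stalk ξ), stalkHom ι ξ h = ∑ k, c k • w k →
      stalkHom (ι ≫ biprod.snd) ξ h =
        ∑ k, c k • stalkHom (biproduct.ι (fun _ : Fin r => N) k) ξ n₀ := by
    intro h c hc
    rw [stalkHom_comp, hc, map_sum]
    refine Finset.sum_congr rfl fun k _ => ?_
    rw [stalkHom_smul, hw2]
  refine ⟨H, ι, hι, hH, ⟨?_, ?_⟩, ⟨?_, ?_⟩⟩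
  · rw [injective_iff_map_eq_zero]
    intro h hh
    obtain ⟨c, hc⟩ := hrep h
    rw [hp h c hc] at hh
    apply hιinj
    rw [hc, map_zero]
    exact hzero c (hbind c hh)
  · intro v
    obtain ⟨c, hc⟩ := hbspan v
    obtain ⟨h, hh⟩ := hhit c
    exact ⟨h, by rw [hp h c hh, hc]⟩
  · rw [injective_iff_map_eq_zero]
    intro h hh
    obtain ⟨c, hc⟩ := hrep h
    rw [hq h c hc] at hh
    apply hιinj
    rw [hc, map_zero]
    refine hzero c fun k' => ?_
    have h1 := congrArg (stalkHom (biproduct.π (fun _ : Fin r => N) k') ξ) hh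
    rw [map_sum, map_zero, Finset.sum_eq_single k'] at h1
    · rw [stalkHom_smul, stalkHom_ι_π_self] at h1
      exact (Groth.Agent.Lib.Helper6.DevStep.smul_eq_zero_iff_mem n₀ hn₀ hn₀m _).1 h1
    · intro k _ hk
      rw [stalkHom_smul, stalkHom_ι_π_ne _ ξ hk, smul_zero]
    · intro hk
      exact absurd (Finset.mem_univ k') hk
  · intro z
    choose d hd using fun k => hn₀c (stalkHom (biproduct.π (fun _ : Fin r => N) k) ξ z)
    obtain ⟨h, hh⟩ := hhit d
    refine ⟨h, ?_⟩
    rw [hq h d hh]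
    conv_rhs => rw [stalk_biproduct_total _ ξ z]
    refine Finset.sum_congr rfl fun k _ => ?_
    rw [hd k, stalkHom_smul]

end pow

end Groth.Agent.Lib.Helper6.DevPow
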