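import Groth.Agent.Lib.Helper6.K0Loc
import Groth.Agent.Lib.Helper6.DevPow
import Mathlib
set_option backward.isDefEq.respectTransparency.types false
set_option autoImplicit false
set_option linter.style.haveILetI false

/-!
# Classes of finite coproducts, and of the tensor product with a free module
-/

universe u
open CategoryTheory CategoryTheory.Limits AlgebraicGeometry Opposite TopologicalSpace MonoidalCategory

namespace Groth.Agent.Lib.Helper6.K0Free
open Groth.Agent.Lib.Helper6.K0Filt Groth.Agent.Lib.Helper6.K0Len Groth.Agent.Lib.Helper16.Stk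
  Groth.Agent.Lib.Helper6.DevCore Groth.Agent.Lib.Helper6.K0Loc Groth.Agent.Lib.Helper6.DevPow

variable {X : Scheme.{u}}

theorem cls_biprod [IsLocallyNoetherian X] (A B : X.Modules) (hA : Coh.IsCoh A) (hB : Coh.IsCoh B)
    (hAB : Coh.IsCoh (A ⊞ B)) : cls (A ⊞ B) = cls A + cls B := by
  have hS := (ShortComplex.Splitting.ofHasBinaryBiproduct A B).shortExact
  exact cls_add hS hA hAB hB

/-- the class of a finite coproduct is the sum of the classes -/
theorem cls_sigma_fin [IsLocallyNoetherian X] : ∀ (r : ℕ) (f : Fin r → X.Modules), (∀ k, Coh.IsCoh (f k)) →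
    cls (∐ f) = ∑ k, cls (f k)
  | 0, f, _ => by
    rw [Finset.univ_eq_empty, Finset.sum_empty]
    apply Groth.Agent.Lib.Helper16.K0Db.clSub_isZero
    rw [IsZero.iff_id_eq_zero]
    apply Sigma.hom_ext
    intro k
    exact Fin.elim0 k
  | r + 1, f, hf => by
    have ih := cls_sigma_fin r (fun i => f i.succ) (fun i => hf i.succ)
    have hc := isCoh_sigma_fin r (fun i => f i.succ) (fun i => hf i.succ)
    let c₁ : Cofan fun i : Fin r => f i.succ := Cofan.mk (∐ fun i : Fin r => f i.succ) (Sigma.ι _)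
    have t₁ : IsColimit c₁ := coproductIsCoproduct _
    let c₂ : BinaryCofan (f 0) c₁.pt := BinaryBicone.toCocone (BinaryBiproduct.bicone (f 0) c₁.pt)
    have t₂ : IsColimit c₂ := BinaryBiproduct.isColimit (f 0) c₁.pt
    have t := extendCofanIsColimit f t₁ t₂
    let e : (f 0 ⊞ ∐ fun i : Fin r => f i.succ) ≅ ∐ f :=
      t.coconePointUniqueUpToIso (coproductIsCoproduct f)
    have hall := isCoh_sigma_fin (r + 1) f hf
    have hb : Coh.IsCoh (f 0 ⊞ ∐ fun i : Fin r => f i.succ) := isCoh_of_iso e.symm hall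
    rw [← K0Op.cls_iso e hb, cls_biprod _ _ (hf 0) hc hb, ih, Fin.sum_univ_succ]

/-- restriction to an open subscheme preserves the free modules -/
noncomputable def restrictFreeModIso (U : X.Opens) (r : ℕ) :
    (Scheme.Modules.restrictFunctor U.ι).obj (FlatMod.freeMod X r) ≅ FlatMod.freeMod (↑U : Scheme.{u}) r :=
  PreservesCoproduct.iso (Scheme.Modules.restrictFunctor U.ι) (fun _ : Fin r => Coh.structureModule X) ≪≫
    Sigma.mapIso (fun _ : Fin r => Scheme.Modules.restrictUnitIso U.ι)

theorem isCoh_freeMod [IsLocallyNoetherian X] (r : ℕ) : Coh.IsCoh (FlatMod.freeMod X r) :=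
  isCoh_sigma_fin r _ (fun _ => Groth.Agent.Lib.Helper6.DevRed.isCoh_structureModule)

/-- `[O^r ⊗ G] = r [G]` -/
theorem cls_freeMod_tensor [IsLocallyNoetherian X] (r : ℕ) (G : X.Modules) (hG : Coh.IsCoh G) :
    cls (CohB1.tensorMod (FlatMod.freeMod X r) G) = r • cls G := by
  have hO : Coh.IsCoh (Coh.structureModule X) := Groth.Agent.Lib.Helper6.DevRed.isCoh_structureModule
  have hF := isCoh_freeMod (X := X) r
  have e1 : CohB1.tensorMod (FlatMod.freeMod X r) G ≅ CohB1.tensorMod G (FlatMod.freeMod X r) :=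
    Groth.Agent.Lib.Helper6.K0Inv.braidIso _ _
  have e2 : CohB1.tensorMod G (FlatMod.freeMod X r) ≅
      ∐ fun _ : Fin r => CohB1.tensorMod G (Coh.structureModule X) :=
    PreservesCoproduct.iso ((DCoh.tensorBi (X := X)).obj G) (fun _ : Fin r => Coh.structureModule X)
  obtain ⟨e3⟩ := Groth.Agent.Lib.Helper28.AmpleUnit.nonempty_tensor_unit_iso G
  have h1 := K0Op.isCoh_tensorMod _ _ hF hG
  have h2 := K0Op.isCoh_tensorMod _ _ hG hF
  have h3 := K0Op.isCoh_tensorMod _ _ hG hO
  rw [K0Op.cls_iso e1 h1, K0Op.cls_iso e2 h2, cls_sigma_fin r _ (fun _ => h3), Finset.sum_const, Finset.card_univ,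
    Fintype.card_fin, K0Op.cls_iso e3 h3]

end Groth.Agent.Lib.Helper6.K0Free
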