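import Mathlib
import Groth.Prelude.Def_Coh
import Groth.Agent.Lib.Helper28.CounitSerre
import Groth.Agent.Lib.Helper28.FinTypeConv
import Groth.Agent.Lib.Helper28.FinType
import Groth.Agent.Lib.Helper1.LocFree8

/-!
# Coherence is a local property (helper6)
-/

set_option autoImplicit false
set_option linter.style.haveILetI false
set_option linter.unusedSectionVars false
set_option linter.unusedVariables false
set_option backward.isDefEq.respectTransparency.types false

universe u

open CategoryTheory CategoryTheory.Limits AlgebraicGeometry Opposite TopologicalSpace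
open AlgebraicGeometry.Scheme.Modules

namespace Groth.Agent.Lib.Helper6.CohLocal

open Groth.Agent.Lib.Helper28 Groth.Agent.Lib.Helper28.QCohLoc Groth.Agent.Lib.Helper28.FinType

variable {X : Scheme.{u}}

/-- sections over the image are finitely generated when those of the restriction are -/
theorem finite_of_finite_restrict (F : X.Modules) (U : X.Opens) (V : (↑U : Scheme.{u}).Opens)
    (hfin : Module.Finite Γ((↑U : Scheme.{u}), V) Γ(F.restrict U.ι, V)) :
    Module.Finite Γ(X, U.ι ''ᵁ V) Γ(F, U.ι ''ᵁ V) := by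
  refine GrModFin.finite_of_semilinear (R := Γ(X, U.ι ''ᵁ V)) (R' := Γ((↑U : Scheme.{u}), V))
    (L := Γ(F, U.ι ''ᵁ V)) (N := Γ(F.restrict U.ι, V)) (U.ι.appIso V).hom.hom
    (ConcreteCategory.bijective_of_isIso (U.ι.appIso V).hom).2
    (AddMonoidHom.id _) Function.bijective_id (fun a y => ?_) hfin
  change (show Γ(F.restrict U.ι, V) from a • y) = ((U.ι.appIso V).hom a) • (show Γ(F.restrict U.ι, V) from y)
  have h : ((U.ι.appIso V).hom a) • (show Γ(F.restrict U.ι, V) from y) =
      (show Γ(F.restrict U.ι, V) from ((U.ι.appIso V).inv ((U.ι.appIso V).hom a)) • y) := rfl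
  rw [h, Iso.hom_inv_id_apply]

/-- **coherence is a local property** -/
theorem isCoh_of_locally (M : X.Modules)
    (h : ∀ x : X, ∃ V : X.Opens, x ∈ V ∧ Coh.IsCoh (M.restrict V.ι)) : Coh.IsCoh M := by
  haveI hqc : M.IsQuasicoherent :=
    Groth.Agent.Lib.Helper1.LocFree.isQuasicoherent_of_locally M (fun x => by
      obtain ⟨V, hxV, hV⟩ := h x
      exact ⟨V, hxV, hV.1⟩)
  refine ⟨hqc, ?_⟩
  -- an affine cover on which sections are finitely generated
  have key : ∀ x : X, ∃ W : X.Opens, x ∈ W ∧ IsAffineOpen W ∧ Module.Finite Γ(X, W) Γ(M, W) := by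
    intro x
    obtain ⟨V, hxV, hV⟩ := h x
    haveI : (M.restrict V.ι).IsQuasicoherent := hV.1
    haveI : SheafOfModules.IsFiniteType.{u} (R := (↑V : Scheme.{u}).ringCatSheaf) (M.restrict V.ι) := hV.2
    obtain ⟨_, ⟨W', hW', rfl⟩, hxW', -⟩ :=
      (↑V : Scheme.{u}).isBasis_affineOpens.exists_subset_of_mem_open
        (Set.mem_univ (⟨x, hxV⟩ : (↑V : Scheme.{u}))) isOpen_univ
    refine ⟨V.ι ''ᵁ W', ⟨⟨x, hxV⟩, hxW', rfl⟩, hW'.image_of_isOpenImmersion V.ι, ?_⟩
    exact finite_of_finite_restrict M V W' (finite_of_isAffineOpen (M.restrict V.ι) hW')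
  choose W hxW hW hfin using key
  refine isFiniteType_of_finite_cover M W ?_ hW hfin
  refine IsOpenCover.mk (eq_top_iff.mpr ?_)
  intro x _
  exact Opens.mem_iSup.mpr ⟨x, hxW x⟩

end Groth.Agent.Lib.Helper6.CohLocal
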