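import Groth.Agent.Lib.Helper6.K0LocB
import Groth.Agent.Lib.Helper17.FTExt2
import Groth.Agent.Lib.Helper17.TensorSupp
import Groth.Agent.Lib.Helper28.QCohPush
import Mathlib
set_option backward.isDefEq.respectTransparency.types false
set_option autoImplicit false
set_option linter.style.haveILetI false

/-!
# Extending coherent modules and short exact sequences from an open subscheme of a Noetherian scheme
-/

universe u
open CategoryTheory CategoryTheory.Limits AlgebraicGeometry Opposite TopologicalSpace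

namespace Groth.Agent.Lib.Helper6.K0LocC
open Groth.Agent.Lib.Helper6.K0Filt Groth.Agent.Lib.Helper6.K0Len Groth.Agent.Lib.Helper6.K0Loc
  Groth.Agent.Lib.Helper6.DevCore Groth.Agent.Lib.Helper6.K0Abs

variable {X : Scheme.{u}}

/-- restriction along an open immersion preserves coherence -/
theorem isCoh_restrict {Y : Scheme.{u}} (f : Y ⟶ X) [IsOpenImmersion f] (M : X.Modules) (hM : Coh.IsCoh M) :
    Coh.IsCoh ((Scheme.Modules.restrictFunctor f).obj M) := by
  haveI : M.IsQuasicoherent := hM.1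
  haveI : SheafOfModules.IsFiniteType.{u} (R := X.ringCatSheaf) M := hM.2
  have h1 : Coh.IsCoh ((Scheme.Modules.pullback f).obj M) :=
    ⟨inferInstance, Groth.Agent.Lib.Helper17.TensorSupp.isFiniteType_pullback f M⟩
  exact isCoh_of_iso ((Scheme.Modules.restrictFunctorIsoPullback f).app M).symm h1

section ext

variable [IsNoetherian X] (U : X.Opens)

/-- a coherent module on an open subscheme extends to a coherent module -/
theorem exists_extension (G' : (↑U : Scheme.{u}).Modules) (hG' : Coh.IsCoh G') :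
    ∃ F : X.Modules, Coh.IsCoh F ∧ Nonempty ((Scheme.Modules.restrictFunctor U.ι).obj F ≅ G') := by
  haveI : G'.IsQuasicoherent := hG'.1
  haveI : SheafOfModules.IsFiniteType.{u} (R := (↑U : Scheme.{u}).ringCatSheaf) G' := hG'.2
  haveI : ((Scheme.Modules.pushforward U.ι).obj G').IsQuasicoherent :=
    Groth.Agent.Lib.Helper28.QCohLoc.isQuasicoherent_pushforward U.ι G'
  let i' : G' ⟶ ((Scheme.Modules.pushforward U.ι).obj G').restrict U.ι :=
    (Scheme.Modules.restrictFunctorAdjCounitIso U.ι).inv.app G'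
  haveI : IsIso i' := inferInstanceAs (IsIso ((Scheme.Modules.restrictFunctorAdjCounitIso U.ι).inv.app G'))
  have hUc : IsCompact (U : Set X) := NoetherianSpace.isCompact _
  obtain ⟨F, i, e, -, hq, hf, -⟩ := Groth.Agent.Lib.Helper17.FTExt.exists_extension_qcqs U hUc
    ((Scheme.Modules.pushforward U.ι).obj G') G' i'
  exact ⟨F, ⟨hq, hf⟩, ⟨e⟩⟩

/-- a short exact sequence of coherent modules on an open subscheme extends to one on the scheme -/
theorem exists_ses_extension (S : ShortComplex (↑U : Scheme.{u}).Modules) (hS : S.ShortExact)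
    (h1 : Coh.IsCoh S.X₁) (h2 : Coh.IsCoh S.X₂) :
    ∃ T : ShortComplex X.Modules, T.ShortExact ∧ Coh.IsCoh T.X₁ ∧ Coh.IsCoh T.X₂ ∧ Coh.IsCoh T.X₃ ∧
      Nonempty ((Scheme.Modules.restrictFunctor U.ι).obj T.X₁ ≅ S.X₁) ∧
      Nonempty ((Scheme.Modules.restrictFunctor U.ι).obj T.X₂ ≅ S.X₂) ∧
      Nonempty ((Scheme.Modules.restrictFunctor U.ι).obj T.X₃ ≅ S.X₃) := by
  obtain ⟨F₂, hF₂, ⟨e₂⟩⟩ := exists_extension U S.X₂ h2
  haveI : F₂.IsQuasicoherent := hF₂.1
  haveI : S.X₁.IsQuasicoherent := h1.1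
  haveI : SheafOfModules.IsFiniteType.{u} (R := (↑U : Scheme.{u}).ringCatSheaf) S.X₁ := h1.2
  haveI := hS.mono_f
  let i' : S.X₁ ⟶ F₂.restrict U.ι := S.f ≫ e₂.inv
  haveI : Mono i' := mono_comp _ _
  have hUc : IsCompact (U : Set X) := NoetherianSpace.isCompact _
  obtain ⟨F₁, i, e₁, hi, hq, hf, he⟩ := Groth.Agent.Lib.Helper17.FTExt.exists_extension_qcqs U hUc F₂ S.X₁ i'
  have hF₁ : Coh.IsCoh F₁ := ⟨hq, hf⟩
  haveI := hi
  refine ⟨ShortComplex.mk i (cokernel.π i) (cokernel.condition i),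
    { exact := ShortComplex.exact_cokernel i
      mono_f := hi
      epi_g := inferInstanceAs (Epi (cokernel.π i)) }, hF₁, hF₂, isCoh_cokernel i hF₁ hF₂, ⟨e₁⟩, ⟨e₂⟩, ?_⟩
  -- the restriction of the cokernel is the cokernel of the restriction
  have c1 : (Scheme.Modules.restrictFunctor U.ι).obj (cokernel i) ≅
      cokernel ((Scheme.Modules.restrictFunctor U.ι).map i) :=
    PreservesCokernel.iso (Scheme.Modules.restrictFunctor U.ι) i
  have c2 : cokernel ((Scheme.Modules.restrictFunctor U.ι).map i) ≅ cokernel S.f :=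
    cokernel.mapIso _ _ e₁ e₂ (by rw [← he]; simp [i'])
  have c3 : cokernel S.f ≅ S.X₃ :=
    IsColimit.coconePointUniqueUpToIso (colimit.isColimit _) hS.gIsCokernel
  exact ⟨c1 ≪≫ c2 ≪≫ c3⟩

end ext

end Groth.Agent.Lib.Helper6.K0LocC
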