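import Groth.Agent.Lib.Helper6.TensAQuotA
import Groth.Agent.Lib.Helper2.SD2
import Groth.Agent.Lib.Helper23.Formal.AffineExistence
import Groth.Agent.Lib.Helper23.Formal.QuotAdj
import Groth.Agent.Lib.Helper16.RS6
import Groth.Agent.Lib.Helper1.TensorUnit
import Groth.Prelude.Def_ega3
import Mathlib
set_option backward.isDefEq.respectTransparency.types false
set_option autoImplicit false
set_option linter.style.haveILetI false
set_option linter.unusedSectionVars false
universe u
open AlgebraicGeometry CategoryTheory CategoryTheory.Limits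

noncomputable section
namespace Groth.Agent.Lib.Helper6.TensAQuot

open Formal Groth.Agent.Lib.Helper23.FQuot Groth.Agent.Lib.Lead.FormalA
open Groth.Agent.Lib.Helper1.TensorAdj

section Tilde

variable (A : Type u) [CommRing A]

attribute [local instance] specOverSelf

theorem tilde_map_smul (N : ModuleCat.{u} A) (a : A) :
    (tilde.functor (CommRingCat.of A)).map (a • 𝟙 N) =
      Formal.smulMod A ((tilde.functor (CommRingCat.of A)).obj N) a := by
  apply ((tilde.adjunction (R := CommRingCat.of A)).homEquiv N _).injective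
  have h1 : (tilde.functor (CommRingCat.of A)).map (a • 𝟙 N) =
      (tilde.functor (CommRingCat.of A)).map (a • 𝟙 N) ≫ 𝟙 _ := (Category.comp_id _).symm
  have h2 : Formal.smulMod A ((tilde.functor (CommRingCat.of A)).obj N) a =
      Formal.smulMod A ((tilde.functor (CommRingCat.of A)).obj N) a ≫ 𝟙 _ := (Category.comp_id _).symm
  rw [h1, h2, Adjunction.homEquiv_naturality_left, homEquiv_smulMod_comp, Linear.smul_comp,
    Category.id_comp]

end Tilde

section Main

variable (A : Type u) [CommRing A] {X : Scheme.{u}} [X.Over (Spec (CommRingCat.of A))] (F : X.Modules)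

attribute [local instance] specOverSelf

theorem tensorRightMod_map_smulMod (M : X.Modules) (a : A) :
    (DCoh.tensorRightMod F).map (Formal.smulMod A M a) =
      Formal.smulMod A ((DCoh.tensorRightMod F).obj M) a :=
  Groth.Agent.Lib.Helper2.SD2.tens_map_smulModΓ F M _

theorem tensorAFunctor_map_smul (N : ModuleCat.{u} A) (a : A) :
    (CohIII.tensorAFunctor A F).map (a • 𝟙 N) =
      Formal.smulMod A ((CohIII.tensorAFunctor A F).obj N) a := by
  change (DCoh.tensorRightMod F).map ((Scheme.Modules.pullback (X ↘ Spec (CommRingCat.of A))).map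
    ((tilde.functor (CommRingCat.of A)).map (a • 𝟙 N))) = _
  rw [tilde_map_smul, pullback_map_smulMod (X ↘ Spec (CommRingCat.of A)) (Category.comp_id _),
    tensorRightMod_map_smulMod]
  rfl

instance : PreservesFiniteColimits (DCoh.tensorRightMod F) := by
  change PreservesFiniteColimits (T X.sheaf (under X.sheaf F))
  infer_instance

instance : PreservesFiniteColimits (CohIII.tensorAFunctor A F) := by
  haveI h1 : PreservesColimitsOfSize.{0, 0} (tilde.functor (CommRingCat.of A)) :=
    (tilde.adjunction (R := CommRingCat.of A)).leftAdjoint_preservesColimits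
  haveI : PreservesFiniteColimits (tilde.functor (CommRingCat.of A)) :=
    PreservesColimitsOfSize.preservesFiniteColimits _
  haveI h2 : PreservesColimitsOfSize.{0, 0} (Scheme.Modules.pullback (X ↘ Spec (CommRingCat.of A))) :=
    (Scheme.Modules.pullbackPushforwardAdjunction _).leftAdjoint_preservesColimits
  haveI : PreservesFiniteColimits (Scheme.Modules.pullback (X ↘ Spec (CommRingCat.of A))) :=
    PreservesColimitsOfSize.preservesFiniteColimits _
  unfold CohIII.tensorAFunctor
  infer_instance

instance : (CohIII.tensorAFunctor A F).Additive := by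
  haveI : PreservesBinaryBiproducts (CohIII.tensorAFunctor A F) :=
    preservesBinaryBiproducts_of_preservesBinaryCoproducts _
  exact Functor.additive_of_preservesBinaryBiproducts _

/-- `T(A) ≅ F` -/
def tensorAFunctorSelfIso : (CohIII.tensorAFunctor A F).obj (ModuleCat.of A A) ≅ F :=
  (DCoh.tensorRightMod F).mapIso
    ((Scheme.Modules.pullback (X ↘ Spec (CommRingCat.of A))).mapIso (tildeSelf (R := CommRingCat.of A)) ≪≫
      Groth.Agent.Lib.Helper16.RS.pullbackUnitIso (X ↘ Spec (CommRingCat.of A))) ≪≫
    Groth.Agent.Lib.Helper1.TensorUnit.leftUnitIso X.sheaf F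

theorem exists_iso_modPow [IsNoetherianRing A] (I : Ideal A) (n : ℕ) :
    ∃ (eA : (CohIII.tensorAFunctor A F).obj (ModuleCat.of A A) ≅ F)
      (eQ : (CohIII.tensorAFunctor A F).obj (ModuleCat.of A (A ⧸ I ^ n)) ≅ Formal.modPow I n F),
      (CohIII.tensorAFunctor A F).map (ModuleCat.ofHom (Submodule.mkQ (I ^ n))) ≫ eQ.hom =
        eA.hom ≫ Formal.modPowπ I n F := by
  have h1 : IsQuot (I ^ n) ((CohIII.tensorAFunctor A F).map (ModuleCat.ofHom (Submodule.mkQ (I ^ n)))) := by
    refine isQuot_map_of_ker_eq (CohIII.tensorAFunctor A F) (tensorAFunctor_map_smul A F)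
      (IsNoetherian.noetherian _) _ (Submodule.mkQ_surjective _) ?_
    change LinearMap.ker (Submodule.mkQ (I ^ n)) = _
    rw [Submodule.ker_mkQ]
    simp
  have h2 := IsQuot.iso_comp (e := (tensorAFunctorSelfIso A F).inv) h1
  have h3 := isQuot_modPowπ I n F
  obtain ⟨e, he⟩ := IsQuot.exists_iso h2 h3
  refine ⟨tensorAFunctorSelfIso A F, e, ?_⟩
  rw [← he, Category.assoc, Iso.hom_inv_id_assoc]

end Main

end Groth.Agent.Lib.Helper6.TensAQuot
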