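import Groth.Agent.Lib.Helper6.DevIdeal
import Groth.Agent.S0007
import Groth.Agent.S0009
import Groth.Agent.S0012
import Mathlib
set_option backward.isDefEq.respectTransparency.types false
set_option autoImplicit false

/-!
# Chevalley's theorem: the target of a finite surjective morphism from an affine scheme is affine
-/

universe u
open CategoryTheory CategoryTheory.Limits AlgebraicGeometry Opposite TopologicalSpace
open Groth.Agent.Lib.Helper17.CohKer Groth.Agent.Lib.Helper17.StalkExact Groth.Agent.Lib.Helper28.QCohLoc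

namespace Groth.Agent.Lib.Helper6.DevChev
open Groth.Agent.Lib.Helper6.DevSub Groth.Agent.Lib.Helper6.DevCore Groth.Agent.Lib.Helper6.DevSoc
  Groth.Agent.Lib.Helper6.DevRed Groth.Agent.Lib.Helper6.DevSum Groth.Agent.Lib.Helper17.Serre
  Groth.Agent.Lib.Helper6.DevStep Groth.Agent.Lib.Helper6.DevExt Groth.Agent.Lib.Helper6.DevPow
  Groth.Agent.Lib.Helper6.IdealMul Groth.Agent.Lib.Helper6.DevFin

variable {X : Scheme.{u}}

section H1

/-- vanishing of `H^n` -/
def HV (n : ℕ) (M : X.Modules) : Prop := Subsingleton (Coh.HH X M n)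

theorem HV_of_retract (n : ℕ) {F E : X.Modules} (i : F ⟶ E) (r : E ⟶ F) (h : i ≫ r = 𝟙 F) (hE : HV n E) :
    HV n F := by
  suffices h0 : ∀ x : Coh.HH X F n, x = 0 from ⟨fun x y => by rw [h0 x, h0 y]⟩
  intro x
  have h2 : (SheafOfModules.toSheaf.{u} X.ringCatSheaf).map i ≫ (SheafOfModules.toSheaf.{u} X.ringCatSheaf).map r =
      𝟙 _ :=
    ((SheafOfModules.toSheaf.{u} X.ringCatSheaf).map_comp i r).symm.trans
      ((congrArg (SheafOfModules.toSheaf.{u} X.ringCatSheaf).map h).trans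
        ((SheafOfModules.toSheaf.{u} X.ringCatSheaf).map_id F))
  have h1 : x = Sheaf.H.map ((SheafOfModules.toSheaf.{u} X.ringCatSheaf).map r) n
      (Sheaf.H.map ((SheafOfModules.toSheaf.{u} X.ringCatSheaf).map i) n x) := by
    rw [← Sheaf.H.map_comp_apply, h2, Sheaf.H.map_id_apply]
  rw [h1, hE.elim (Sheaf.H.map ((SheafOfModules.toSheaf.{u} X.ringCatSheaf).map i) n x) 0, map_zero]

theorem HV_of_iso (n : ℕ) {F E : X.Modules} (e : E ≅ F) (hE : HV n E) : HV n F :=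
  HV_of_retract n e.inv e.hom e.inv_hom_id hE

theorem HV_of_isZero (n : ℕ) {F : X.Modules} (hF : IsZero F) : HV n F := by
  suffices h0 : ∀ x : Coh.HH X F n, x = 0 from ⟨fun x y => by rw [h0 x, h0 y]⟩
  intro x
  have h2 : (𝟙 ((SheafOfModules.toSheaf.{u} X.ringCatSheaf).obj F)) = 0 :=
    ((SheafOfModules.toSheaf.{u} X.ringCatSheaf).map_id F).symm.trans
      ((congrArg (SheafOfModules.toSheaf.{u} X.ringCatSheaf).map (hF.eq_of_src (𝟙 F) 0)).trans
        (Functor.map_zero (SheafOfModules.toSheaf.{u} X.ringCatSheaf) F F))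
  have h1 : x = Sheaf.H.map (𝟙 ((SheafOfModules.toSheaf.{u} X.ringCatSheaf).obj F)) n x :=
    (Sheaf.H.map_id_apply x).symm
  rw [h1, h2, Sheaf.H.map_apply, Abelian.Ext.mk₀_zero, Abelian.Ext.comp_zero]

theorem HV_of_shortExact (n : ℕ) (S : ShortComplex X.Modules) (hS : S.ShortExact) (h1 : HV n S.X₁) (h3 : HV n S.X₃) :
    HV n S.X₂ := by
  suffices h0 : ∀ x : Coh.HH X S.X₂ n, x = 0 from ⟨fun x y => by rw [h0 x, h0 y]⟩
  intro x
  have hT := shortExact_map_toSheaf' S hS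
  obtain ⟨x₁, hx₁⟩ := Abelian.Ext.covariant_sequence_exact₂ _ hT x (h3.elim _ _)
  have hz : x₁ = 0 := h1.elim x₁ 0
  subst hz
  rw [← hx₁]
  apply Abelian.Ext.zero_comp

theorem HV_of_sigma (n : ℕ) (F : X.Modules) (r : ℕ) (hr : 1 ≤ r) (h : HV n (∐ fun _ : Fin r => F)) : HV n F := by
  classical
  let k₀ : Fin r := ⟨0, hr⟩
  refine HV_of_retract n (Sigma.ι (fun _ : Fin r => F) k₀)
    (Sigma.desc (fun k => if k = k₀ then 𝟙 F else 0)) ?_ h
  rw [Sigma.ι_desc, if_pos rfl]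

end H1

section finite

variable {Y : Scheme.{u}}

/-- the direct image of a coherent module along a finite morphism is coherent -/
theorem isCoh_push_of_isFinite (f : Y ⟶ X) [IsFinite f] (F : Y.Modules) (hF : Coh.IsCoh F) :
    Coh.IsCoh ((Coh.push f).obj F) := by
  haveI : F.IsQuasicoherent := hF.1
  haveI : SheafOfModules.IsFiniteType.{u} (R := Y.ringCatSheaf) F := hF.2
  haveI hq : ((Coh.push f).obj F).IsQuasicoherent := isQuasicoherent_pushforward f F
  refine ⟨hq, Groth.Agent.Lib.Helper17.FinTypeConv.isFiniteType_of_forall_finite_sections _ fun U => ?_⟩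
  have hV : IsAffineOpen (f ⁻¹ᵁ U.1) := U.2.preimage f
  haveI : Module.Finite Γ(Y, f ⁻¹ᵁ U.1) Γ(F, f ⁻¹ᵁ U.1) :=
    Groth.Agent.Lib.Helper28.FinType.finite_of_isAffineOpen F hV
  letI : Algebra Γ(X, U.1) Γ(Y, f ⁻¹ᵁ U.1) := (f.app U.1).hom.toAlgebra
  haveI : Module.Finite Γ(X, U.1) Γ(Y, f ⁻¹ᵁ U.1) := f.finite_app U.1 U.2
  letI : Module Γ(Y, f ⁻¹ᵁ U.1) Γ((Coh.push f).obj F, U.1) :=
    inferInstanceAs (Module Γ(Y, f ⁻¹ᵁ U.1) Γ(F, f ⁻¹ᵁ U.1))
  haveI : IsScalarTower Γ(X, U.1) Γ(Y, f ⁻¹ᵁ U.1) Γ((Coh.push f).obj F, U.1) := ⟨fun a b m => by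
    change (((f.app U.1).hom a * b) • (show Γ(F, f ⁻¹ᵁ U.1) from m) : Γ(F, f ⁻¹ᵁ U.1)) =
      ((f.app U.1).hom a • (b • (show Γ(F, f ⁻¹ᵁ U.1) from m)) : Γ(F, f ⁻¹ᵁ U.1))
    rw [mul_smul]⟩
  haveI : Module.Finite Γ(Y, f ⁻¹ᵁ U.1) Γ((Coh.push f).obj F, U.1) :=
    inferInstanceAs (Module.Finite Γ(Y, f ⁻¹ᵁ U.1) Γ(F, f ⁻¹ᵁ U.1))
  exact Module.Finite.trans (R := Γ(X, U.1)) Γ(Y, f ⁻¹ᵁ U.1) Γ((Coh.push f).obj F, U.1)

/-- sections of `f_* F` over `U` as sections of `F` over `f⁻¹ U` -/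
def ofPush (f : Y ⟶ X) (F : Y.Modules) (U : X.Opens) (x : Γ((Coh.push f).obj F, U)) : Γ(F, f ⁻¹ᵁ U) := x

/-- sections of `F` over `f⁻¹ U` as sections of `f_* F` over `U` -/
def toPush (f : Y ⟶ X) (F : Y.Modules) (U : X.Opens) (x : Γ(F, f ⁻¹ᵁ U)) : Γ((Coh.push f).obj F, U) := x

/-- `J(U) · Γ(f_* F, U)`, as a `Γ(Y, f⁻¹U)`-submodule of `Γ(F, f⁻¹U)` -/
noncomputable def idealSub (f : Y ⟶ X) (F : Y.Modules) (J : X.IdealSheafData) (U : X.affineOpens) :
    Submodule Γ(Y, f ⁻¹ᵁ U.1) Γ(F, f ⁻¹ᵁ U.1) where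
  carrier := {x | toPush f F U.1 x ∈
    (J.ideal U) • (⊤ : Submodule Γ(X, U.1) Γ((Coh.push f).obj F, U.1))}
  add_mem' := fun {a b} ha hb => Submodule.add_mem
    ((J.ideal U) • (⊤ : Submodule Γ(X, U.1) Γ((Coh.push f).obj F, U.1))) ha hb
  zero_mem' := Submodule.zero_mem ((J.ideal U) • (⊤ : Submodule Γ(X, U.1) Γ((Coh.push f).obj F, U.1)))
  smul_mem' := fun b x hx => by
    let μ : Γ((Coh.push f).obj F, U.1) →ₗ[Γ(X, U.1)] Γ((Coh.push f).obj F, U.1) :=
      { toFun := fun x => toPush f F U.1 (b • ofPush f F U.1 x)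
        map_add' := fun x₁ x₂ => smul_add b (ofPush f F U.1 x₁) (ofPush f F U.1 x₂)
        map_smul' := fun a x => by
          change b • ((f.app U.1).hom a • ofPush f F U.1 x) = (f.app U.1).hom a • (b • ofPush f F U.1 x)
          rw [smul_smul, smul_smul, mul_comm] }
    have h1 : μ (toPush f F U.1 x) ∈
        Submodule.map μ ((J.ideal U) • (⊤ : Submodule Γ(X, U.1) Γ((Coh.push f).obj F, U.1))) :=
      Submodule.mem_map_of_mem hx
    rw [Submodule.map_smul''] at h1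
    have h2 : μ (toPush f F U.1 x) ∈
        (J.ideal U) • (⊤ : Submodule Γ(X, U.1) Γ((Coh.push f).obj F, U.1)) :=
      Submodule.smul_mono le_rfl le_top h1
    exact h2

theorem mem_idealSub (f : Y ⟶ X) (F : Y.Modules) (J : X.IdealSheafData) (U : X.affineOpens)
    (x : Γ(F, f ⁻¹ᵁ U.1)) : x ∈ idealSub f F J U ↔ toPush f F U.1 x ∈
      (J.ideal U) • (⊤ : Submodule Γ(X, U.1) Γ((Coh.push f).obj F, U.1)) := Iff.rfl

open Groth.Agent.Lib.Helper17.PullbackBC Groth.Agent.Lib.Helper28.PullbackInv in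
/-- **a quasi-coherent submodule `M` of `F` with `f_* M ⊆ J · f_* F`, equal to it near a point off `V(J)`.** -/
theorem exists_push_sub (f : Y ⟶ X) [IsAffineHom f] (F : Y.Modules) [F.IsQuasicoherent] (J : X.IdealSheafData)
    (y : X) (hy : y ∉ (J.support : Set X)) :
    ∃ (M : Y.Modules) (m : M ⟶ F)
      (β : (Coh.push f).obj M ⟶ (Dual3.idealMul J).obj ((Coh.push f).obj F)),
      M.IsQuasicoherent ∧ Mono m ∧ β ≫ Dual3.idealMulι J ((Coh.push f).obj F) = (Coh.push f).map m ∧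
        Function.Surjective (stalkHom ((Coh.push f).map m) y) := by
  haveI hGq : ((Coh.push f).obj F).IsQuasicoherent := isQuasicoherent_pushforward f F
  set G := (Coh.push f).obj F with hG
  set JG := (Dual3.idealMul J).obj G with hJG
  haveI : JG.IsQuasicoherent := isQuasicoherent_idealMul J G
  let adj := Scheme.Modules.pullbackPushforwardAdjunction f
  let φ : (Scheme.Modules.pullback f).obj JG ⟶ F := (adj.homEquiv JG F).symm (Dual3.idealMulι J G)
  have hφ : adj.unit.app JG ≫ (Coh.push f).map φ = Dual3.idealMulι J G := by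
    have h1 := Adjunction.homEquiv_unit adj JG F φ
    rw [← h1]
    exact Equiv.apply_symm_apply _ _
  have hφs : ∀ (U : X.Opens) (s : Γ(JG, U)), φ.app (f ⁻¹ᵁ U) (pbs f JG U s) = (Dual3.idealMulι J G).app U s := by
    intro U s
    exact congrArg (fun ψ : (JG ⟶ G) => ψ.app U s) hφ
  haveI hpq : ((Scheme.Modules.pullback f).obj JG).IsQuasicoherent :=
    Groth.Agent.Lib.Helper17.ModPullback.isQuasicoherent_pullback f JG
  haveI hcq : (cokernel φ).IsQuasicoherent := isQuasicoherent_cokernel φ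
  haveI hMq : (Abelian.image φ).IsQuasicoherent := isQuasicoherent_kernel (cokernel.π φ)
  haveI hkq : (kernel (Abelian.factorThruImage φ)).IsQuasicoherent :=
    isQuasicoherent_kernel (Abelian.factorThruImage φ)
  -- the factorisation is surjective on sections over affine opens
  have hesurj : ∀ (V : Y.Opens), IsAffineOpen V → Function.Surjective ((Abelian.factorThruImage φ).app V) := by
    intro V hV
    let S : ShortComplex Y.Modules := ShortComplex.mk (kernel.ι (Abelian.factorThruImage φ))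
      (Abelian.factorThruImage φ) (kernel.condition _)
    have hS : S.ShortExact := ShortComplex.ShortExact.mk'
      (ShortComplex.exact_of_f_is_kernel _ (kernelIsKernel _)) equalizer.ι_mono inferInstance
    haveI : S.X₁.IsQuasicoherent := hkq
    exact Groth.Agent.Lib.Helper17.AffineSurj.surjective_app_of_shortExact S hS hV
  -- sections of the image over preimages of affine opens
  have hsec : ∀ (U : X.affineOpens) (t : Γ((Scheme.Modules.pullback f).obj JG, f ⁻¹ᵁ U.1)),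
      toPush f F U.1 (φ.app (f ⁻¹ᵁ U.1) t) ∈ (J.ideal U) • (⊤ : Submodule Γ(X, U.1) Γ(G, U.1)) := by
    intro U t
    have hV : IsAffineOpen (f ⁻¹ᵁ U.1) := U.2.preimage f
    have hbc := isBC_pullback f U.2 hV le_rfl JG
    have hspan := span_range_of_isBC _ _ hbc
    have ht : t ∈ Submodule.span Γ(Y, f ⁻¹ᵁ U.1)
        (Set.range fun s : Γ(JG, U.1) => res ((Scheme.Modules.pullback f).obj JG) (le_refl (f ⁻¹ᵁ U.1))
          (pbs f JG U.1 s)) := by
      rw [hspan]; trivial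
    have hle : Submodule.span Γ(Y, f ⁻¹ᵁ U.1)
        (Set.range fun s : Γ(JG, U.1) => res ((Scheme.Modules.pullback f).obj JG) (le_refl (f ⁻¹ᵁ U.1))
          (pbs f JG U.1 s)) ≤ (idealSub f F J U).comap (Groth.Agent.Lib.Helper17.QCAlgGen.appL φ (f ⁻¹ᵁ U.1)) := by
      rw [Submodule.span_le]
      rintro _ ⟨s, rfl⟩
      change toPush f F U.1 (φ.app (f ⁻¹ᵁ U.1) (res ((Scheme.Modules.pullback f).obj JG)
        (le_refl (f ⁻¹ᵁ U.1)) (pbs f JG U.1 s))) ∈ (J.ideal U) • (⊤ : Submodule Γ(X, U.1) Γ(G, U.1))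
      rw [res_self, hφs]
      exact idealMulι_app_mem J G U s
    exact hle ht
  -- the lift
  obtain ⟨β, hβ⟩ := exists_lift_idealMul J G ((Coh.push f).map (Abelian.image.ι φ)) (by
    intro U s
    obtain ⟨t, ht⟩ := hesurj (f ⁻¹ᵁ U.1) (U.2.preimage f) (ofPush f (Abelian.image φ) U.1 s)
    have h1 : ((Coh.push f).map (Abelian.image.ι φ)).app U.1 s =
        toPush f F U.1 ((Abelian.image.ι φ).app (f ⁻¹ᵁ U.1) (ofPush f (Abelian.image φ) U.1 s)) := rfl
    rw [h1, ← ht]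
    have h2 : (Abelian.image.ι φ).app (f ⁻¹ᵁ U.1) ((Abelian.factorThruImage φ).app (f ⁻¹ᵁ U.1) t) =
        φ.app (f ⁻¹ᵁ U.1) t :=
      congrArg (fun ψ : ((Scheme.Modules.pullback f).obj JG ⟶ F) => ψ.app (f ⁻¹ᵁ U.1) t) (Abelian.image.fac φ)
    rw [h2]
    exact hsec U t)
  refine ⟨Abelian.image φ, Abelian.image.ι φ, β, hMq, inferInstance, hβ, ?_⟩
  -- surjectivity on the stalk
  obtain ⟨_, ⟨U₀, hU₀, rfl⟩, hyU₀, -⟩ :=
    X.isBasis_affineOpens.exists_subset_of_mem_open (Set.mem_univ y) isOpen_univ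
  have hy0 : y ∉ X.zeroLocus (U := U₀) (J.ideal ⟨U₀, hU₀⟩) := fun h =>
    hy ((Scheme.IdealSheafData.mem_support_iff_of_mem (U := ⟨U₀, hU₀⟩) hyU₀).2 h)
  rw [Scheme.mem_zeroLocus_iff] at hy0
  push_neg at hy0
  obtain ⟨a, ha, hya⟩ := hy0
  have hU₁ : IsAffineOpen (X.basicOpen a) := hU₀.basicOpen a
  have htop : ∀ U : X.affineOpens, U.1 ≤ X.basicOpen a → J.ideal U = ⊤ := by
    intro U hU
    have hle : U ≤ (⟨U₀, hU₀⟩ : X.affineOpens) := hU.trans (X.basicOpen_le a)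
    have h1 := J.ideal_le_comap_ideal hle ha
    rw [Ideal.mem_comap] at h1
    refine Ideal.eq_top_of_isUnit_mem _ h1 ?_
    have h2 : IsUnit (X.presheaf.map (homOfLE (X.basicOpen_le a)).op a) :=
      X.toRingedSpace.isUnit_res_basicOpen a
    have h3 : (X.presheaf.map (homOfLE hle).op).hom a =
        (X.presheaf.map (homOfLE hU).op).hom ((X.presheaf.map (homOfLE (X.basicOpen_le a)).op).hom a) := by
      rw [← ConcreteCategory.comp_apply, ← Functor.map_comp]
      rfl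
    rw [h3]
    exact h2.map _
  intro z
  obtain ⟨U₂, hyU₂, s, rfl⟩ := TopCat.Presheaf.exists_germ_eq G.presheaf z
  obtain ⟨_, ⟨U, hU, rfl⟩, hyU, hUU⟩ := X.isBasis_affineOpens.exists_subset_of_mem_open
    (show y ∈ ((U₂ ⊓ X.basicOpen a : X.Opens) : Set X) from ⟨hyU₂, hya⟩) (U₂ ⊓ X.basicOpen a).2
  have hUU₂ : U ≤ U₂ := fun x hx => (hUU hx).1
  have hUa : U ≤ X.basicOpen a := fun x hx => (hUU hx).2
  have hmem : res G hUU₂ s ∈ (J.ideal ⟨U, hU⟩) • (⊤ : Submodule Γ(X, U) Γ(G, U)) := by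
    rw [htop ⟨U, hU⟩ hUa, Submodule.top_smul]
    trivial
  obtain ⟨s', hs'⟩ := exists_idealMul_app_eq J G ⟨U, hU⟩ _ hmem
  refine ⟨((Coh.push f).obj (Abelian.image φ)).presheaf.germ U y hyU
    (toPush f (Abelian.image φ) U ((Abelian.factorThruImage φ).app (f ⁻¹ᵁ U) (pbs f JG U s'))), ?_⟩
  rw [stalkHom_germ, ← germ_res' G y hUU₂ hyU, ← hs', ← hφs]
  congr 1
  exact congrArg (fun ψ : ((Scheme.Modules.pullback f).obj JG ⟶ F) => ψ.app (f ⁻¹ᵁ U) (pbs f JG U s'))
    (Abelian.image.fac φ)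

/-- `H^1` vanishes for every coherent module on the target of a finite surjective morphism from an affine scheme -/
theorem HV_of_finite_surjective (f : Y ⟶ X) [IsFinite f] [Surjective f] [IsAffine Y] [IsNoetherian X]
    (E : X.Modules) (hE : Coh.IsCoh E) : HV 1 E := by
  classical
  have hP : ∀ M N : X.Modules, Nonempty (M ≅ N) → HV 1 M → HV 1 N := fun M N ⟨e⟩ h => HV_of_iso 1 e h
  have h₁ : ∀ S : ShortComplex X.Modules, S.ShortExact → Coh.IsCoh S.X₁ → Coh.IsCoh S.X₂ → Coh.IsCoh S.X₃ →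
      HV 1 S.X₁ → HV 1 S.X₃ → HV 1 S.X₂ := fun S hS _ _ _ k1 k3 => HV_of_shortExact 1 S hS k1 k3
  have h₂ : ∀ (F : X.Modules) (r : ℕ), Coh.IsCoh F → 1 ≤ r → HV 1 (∐ fun _ : Fin r => F) → HV 1 F :=
    fun F r _ hr h => HV_of_sigma 1 F r hr h
  have hfc : IsClosedMap f := f.isClosedMap
  let K' : ObjectProperty X.Modules := HV 1
  haveI : K'.IsClosedUnderIsomorphisms := ⟨fun {A B} e hA => hP A B ⟨e⟩ hA⟩
  refine devissage_core K' h₁ (fun N hN => HV_of_isZero 1 hN) Set.univ ?_ isClosed_univ E hE (Set.subset_univ _)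
  intro Z hZ hirr _ y hy IH Q hQ hQZ hyQ
  refine step_ext (HV 1) hP h₁ ⟨Z, hZ⟩ hirr y hy ?_ IH Q hQ hQZ hyQ
  intro N j hj hN
  obtain ⟨y', hy'⟩ := f.surjective y
  let W : Closeds Y := ⟨closure {y'}, isClosed_closure⟩
  let FY : Y.Modules := ClSub.quotMod (Scheme.IdealSheafData.vanishingIdeal W)
  haveI : FY.IsQuasicoherent := (isCoh_quotMod _).1
  have hG : Coh.IsCoh ((Coh.push f).obj FY) := isCoh_push_of_isFinite f FY (isCoh_quotMod _)
  have hyG : y ∈ CohB1.support ((Coh.push f).obj FY) := by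
    rw [support_push_quotMod f hfc, Scheme.IdealSheafData.coe_support_vanishingIdeal]
    exact ⟨y', subset_closure (Set.mem_singleton y'), hy'⟩
  refine Groth.Agent.Lib.Helper6.DevIdeal.ideal_case (HV 1) hP h₁ h₂ ⟨Z, hZ⟩ hirr y hy IH ((Coh.push f).obj FY)
    hG hyG (fun a ha m => maximalIdeal_smul_push f y' W rfl y hy' a ha m) ?_ N j hj hN
  intro J hJ
  obtain ⟨M, m, β, hMq, hm, hβ, hsurj⟩ := exists_push_sub f FY J y hJ
  haveI : M.IsQuasicoherent := hMq
  haveI hmm : Mono ((Coh.push f).map m) := inferInstance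
  haveI hβm : Mono β := by
    haveI : Mono (β ≫ Dual3.idealMulι J ((Coh.push f).obj FY)) := hβ ▸ hmm
    exact mono_of_mono β (Dual3.idealMulι J ((Coh.push f).obj FY))
  refine ⟨(Coh.push f).obj M, β, hβm, isQuasicoherent_pushforward f M, ?_, ?_⟩
  · rw [hβ]
    change IsIso ((stalkFunctor y).map ((Coh.push f).map m))
    rw [ConcreteCategory.isIso_iff_bijective]
    exact ⟨stalkHom_injective_of_mono ((Coh.push f).map m) y, hsurj⟩
  · obtain ⟨e⟩ := Groth.Agent.S0012.result f M 1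
    haveI : Subsingleton (Coh.HH Y M 1) := Groth.Agent.S0007.result Y M 1 Nat.one_pos
    exact e.symm.injective.subsingleton

/-- **Chevalley's theorem.** -/
theorem isAffine_of_finite_surjective (f : Y ⟶ X) [IsFinite f] [Surjective f] [IsAffine Y] [IsNoetherian X] :
    IsAffine X := by
  refine Groth.Agent.S0009.result X (fun I i hi hI => ?_)
  haveI : I.IsQuasicoherent := hI
  haveI : SheafOfModules.IsFiniteType.{u} (R := X.ringCatSheaf) (Coh.structureModule X) := isCoh_structureModule.2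
  exact HV_of_finite_surjective f I ⟨hI, isFiniteType_of_mono i⟩

end finite

end Groth.Agent.Lib.Helper6.DevChev
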