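import Groth.Agent.Lib.Helper6.StalkFFB
import Mathlib
set_option backward.isDefEq.respectTransparency.types false
set_option autoImplicit false
set_option linter.style.haveILetI false
universe u
open AlgebraicGeometry CategoryTheory Opposite TopologicalSpace TensorProduct CategoryTheory.Limits

/-! The stalk of `R^p f_* F` at `y` as the cohomology of the base change to `Spec O_{Y,y}`. -/

noncomputable section
namespace Groth.Agent.Lib.Helper6.StalkFFC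
open Groth.Agent.Lib.Helper2.HZDepth5 Groth.Agent.Lib.Helper17.ModStalk
  Groth.Agent.Lib.Helper29.QCohStalk Groth.Agent.Lib.Helper6.StalkFFA Groth.Agent.Lib.Helper6.StalkFFB
  Groth.Agent.Lib.Helper4.GammaMod Groth.Agent.Lib.Helper4.HHFun Groth.Agent.Lib.Helper4

variable {X Y : Scheme.{u}} (f : X ⟶ Y) [IsProper f] [IsLocallyNoetherian Y]
  [HasInjectiveResolutions X.Modules]
  (F : X.Modules) (hF : Coh.IsCoh F) (y : Y) (p : ℕ)
  (X₁ : Scheme.{u}) [X₁.Over (Spec (CommRingCat.of (Y.presheaf.stalk y)))] (g : X₁ ⟶ X)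
  (hsq : IsPullback g (X₁ ↘ Spec (CommRingCat.of (Y.presheaf.stalk y))) f (Y.fromSpecStalk y))

include hF hsq in
theorem main_of_affine (V : Y.Opens) (hV : IsAffineOpen V) (hy : y ∈ V) :
    Module.Finite (Y.presheaf.stalk y) (((Coh.Rpush f p).obj F).presheaf.stalk y) ∧
    Nonempty ((((Coh.Rpush f p).obj F).presheaf.stalk y) ≃ₗ[Y.presheaf.stalk y]
      Coh.HH X₁ ((Scheme.Modules.pullback g).obj F) p) := by
  haveI : IsAffine (V : Scheme.{u}) := hV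
  haveI : F.IsQuasicoherent := hF.1
  haveI : ((Coh.Rpush f p).obj F).IsQuasicoherent :=
    Groth.Agent.Lib.Helper2.RpushQC6.isQuasicoherent_Rpush f F p
  letI algAB : Algebra Γ((V : Scheme.{u}), ⊤) (Y.presheaf.stalk y) := (φAB V y hy).toAlgebra
  haveI loc : IsLocalization.AtPrime (Y.presheaf.stalk y) (PP V y hy) := isLocalization_φAB V y hy
  haveI : Module.Flat Γ((V : Scheme.{u}), ⊤) (Y.presheaf.stalk y) :=
    IsLocalization.flat (Y.presheaf.stalk y) (PP V y hy).primeCompl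
  letI mS := modStalk ((Coh.Rpush f p).obj F) V y hy
  haveI : IsScalarTower Γ((V : Scheme.{u}), ⊤) (Y.presheaf.stalk y)
      (((Coh.Rpush f p).obj F).presheaf.stalk y) := IsScalarTower.of_compHom _ _ _
  haveI := isLocalizedModule_ℓ ((Coh.Rpush f p).obj F) V y hy
  have hbc : IsBaseChange (Y.presheaf.stalk y) (ℓ ((Coh.Rpush f p).obj F) V y hy) :=
    IsLocalizedModule.isBaseChange (PP V y hy).primeCompl (Y.presheaf.stalk y) _
  let e1 : (Y.presheaf.stalk y) ⊗[Γ((V : Scheme.{u}), ⊤)] Γ(((Coh.Rpush f p).obj F).restrict V.ι, ⊤)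
      ≃ₗ[Y.presheaf.stalk y] ((Coh.Rpush f p).obj F).presheaf.stalk y := hbc.equiv
  -- cohomology side
  letI ov : (f ⁻¹ᵁ V : Scheme.{u}).Over (Spec (CommRingCat.of Γ((V : Scheme.{u}), ⊤))) :=
    LinLeray.overΓ (f ∣_ V)
  haveI : (F.restrict (f ⁻¹ᵁ V).ι).IsQuasicoherent := inferInstance
  obtain ⟨i1⟩ := LinLeray.nonempty_iso (f ∣_ V) rfl (F.restrict (f ⁻¹ᵁ V).ι) p
  obtain ⟨i2⟩ := Groth.Agent.Lib.Helper2.RpushQC6.nonempty_restrict_Rpush_iso f V F p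
  let e2 : Γ(((Coh.Rpush f p).obj F).restrict V.ι, ⊤) ≃ₗ[Γ((V : Scheme.{u}), ⊤)]
      Coh.HH (f ⁻¹ᵁ V : Scheme.{u}) (F.restrict (f ⁻¹ᵁ V).ι) p :=
    ((GS (V : Scheme.{u})).mapIso i2 ≪≫ i1.symm).toLinearEquiv
  -- flat base change
  haveI : CompactSpace (f ⁻¹ᵁ V : Scheme.{u}) := QuasiCompact.compactSpace_of_compactSpace (f ∣_ V)
  haveI : QuasiSeparatedSpace (f ⁻¹ᵁ V : Scheme.{u}) := quasiSeparatedSpace_of_quasiSeparated (f ∣_ V)
  obtain ⟨e3⟩ := Groth.Agent.S0034.result Γ((V : Scheme.{u}), ⊤) (Y.presheaf.stalk y)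
    (f ⁻¹ᵁ V : Scheme.{u}) X₁ (g'' V y hy f g hsq) (isPullback_g'' V y hy f g hsq)
    (F.restrict (f ⁻¹ᵁ V).ι) p
  -- the two pullbacks
  let i4 : (Scheme.Modules.pullback (g'' V y hy f g hsq)).obj (F.restrict (f ⁻¹ᵁ V).ι) ≅
      (Scheme.Modules.pullback g).obj F :=
    (Scheme.Modules.pullback (g'' V y hy f g hsq)).mapIso
        ((Scheme.Modules.restrictFunctorIsoPullback (f ⁻¹ᵁ V).ι).app F) ≪≫
      (Scheme.Modules.pullbackComp (g'' V y hy f g hsq) (f ⁻¹ᵁ V).ι).app F ≪≫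
      (Scheme.Modules.pullbackCongr (g''_ι V y hy f g hsq)).app F
  let e4 : Coh.HH X₁ ((Scheme.Modules.pullback (g'' V y hy f g hsq)).obj (F.restrict (f ⁻¹ᵁ V).ι)) p
      ≃ₗ[Y.presheaf.stalk y] Coh.HH X₁ ((Scheme.Modules.pullback g).obj F) p :=
    ((HHfun (Y.presheaf.stalk y) p).mapIso i4).toLinearEquiv
  refine ⟨?_, ⟨e1.symm ≪≫ₗ
    (TensorProduct.AlgebraTensorModule.congr (LinearEquiv.refl (Y.presheaf.stalk y) (Y.presheaf.stalk y)) e2)
    ≪≫ₗ e3 ≪≫ₗ e4⟩⟩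
  have hFV : Coh.IsCoh (F.restrict (f ⁻¹ᵁ V).ι) :=
    Groth.Agent.Lib.Helper6.K0LocC.isCoh_restrict _ F hF
  have hfin := RpushCoh.finite_sections_of_isAffine (f ∣_ V) (F.restrict (f ⁻¹ᵁ V).ι) hFV p
  haveI hfin' : Module.Finite Γ((V : Scheme.{u}), ⊤) Γ(((Coh.Rpush f p).obj F).restrict V.ι, ⊤) :=
    @Module.Finite.equiv _ _ _ _ _ _ _ _ hfin ((GS (V : Scheme.{u})).mapIso i2).toLinearEquiv.symm
  exact Module.Finite.of_isLocalizedModule (PP V y hy).primeCompl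
    (ℓ ((Coh.Rpush f p).obj F) V y hy)

end Groth.Agent.Lib.Helper6.StalkFFC
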