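import Groth.Agent.Lib.Helper6.ClosedEmbAdj
import Mathlib.Topology.Sheaves.Stalks

/-!
# Essential image of `i_*` for a closed embedding, in terms of stalks (helper6)
-/

universe u

open CategoryTheory Limits Opposite TopologicalSpace

namespace Groth.Agent.Lib.Helper6.ClosedEmbStalk

open CohTop ClosedEmb

variable {Z X : TopCat.{u}} (i : Z ⟶ X) (hi : Topology.IsClosedEmbedding i)

include hi in
/-- the open complement of the image -/
def Uc : Opens X := ⟨(Set.range i)ᶜ, hi.isClosed_range.isOpen_compl⟩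

lemma coe_Uc : ((Uc i hi : Opens X) : Set X) = (Set.range i)ᶜ := rfl

lemma supp_iff_stalk (F : Ab X) :
    Supp (Uc i hi) F ↔ ∀ x : X, x ∉ Set.range i → IsZero (CohTop.stalk F x) := by
  constructor
  · intro hF x hx
    have hz : ∀ t : (CohTop.stalk F x : AddCommGrpCat.{u}), t = 0 := by
      intro t
      obtain ⟨V, m, s, rfl⟩ := TopCat.Presheaf.exists_germ_eq F.obj t
      have hxU : x ∈ V ⊓ Uc i hi := ⟨m, hx⟩
      have h1 := TopCat.Presheaf.germ_res_apply F.obj (homOfLE (inf_le_left : V ⊓ Uc i hi ≤ V))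
        x hxU s
      have : Subsingleton (F.obj.obj (op (V ⊓ Uc i hi))) :=
        subsingleton_of_supp (Uc i hi) hF inf_le_right
      have h2 : F.obj.map (homOfLE (inf_le_left : V ⊓ Uc i hi ≤ V)).op s = 0 :=
        Subsingleton.elim _ _
      rw [h2, map_zero] at h1
      exact h1.symm
    have : Subsingleton (CohTop.stalk F x : AddCommGrpCat.{u}) :=
      ⟨fun a b => (hz a).trans (hz b).symm⟩
    exact AddCommGrpCat.isZero_of_subsingleton _
  · intro h V hV
    have hz : ∀ s : F.obj.obj (op V), s = 0 := by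
      intro s
      apply TopCat.Presheaf.section_ext F V
      intro x hx
      have hxr : x ∉ Set.range i := hV hx
      have : Subsingleton (CohTop.stalk F x : AddCommGrpCat.{u}) :=
        AddCommGrpCat.subsingleton_of_isZero (h x hxr)
      exact Subsingleton.elim _ _
    have : Subsingleton (F.obj.obj (op V)) := ⟨fun a b => (hz a).trans (hz b).symm⟩
    exact AddCommGrpCat.isZero_of_subsingleton _

lemma essImage_iff_supp (F : Ab X) : (CohTop.push i).essImage F ↔ Supp (Uc i hi) F := by
  constructor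
  · rintro ⟨G, ⟨e⟩⟩ V hV
    have h := supp_push i (Uc i hi) (coe_Uc i hi) G V hV
    exact h.of_iso ((sheafToPresheaf _ _ ⋙ (evaluation _ _).obj (op V)).mapIso e.symm)
  · intro hF
    exact ⟨flat i hi (Uc i hi) (coe_Uc i hi) F hF, ⟨pushFlatIso i hi (Uc i hi) (coe_Uc i hi) F hF⟩⟩

attribute [local instance] HasDerivedCategory.standard in
include hi in
theorem preservesFiniteColimits_push : PreservesFiniteColimits (CohTop.push i) := by
  refine ((Functor.preservesFiniteColimits_tfae (CohTop.push i)).out 0 3).1 ?_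
  intro S hS
  have := hS.epi_g
  have h := RDAcyc.map_shortExact (CohTop.push i) hS
    (CohTopClosed.epi_push_map_of_isClosedEmbedding i hi S.g)
  exact ⟨h.exact, h.epi_g⟩

include hi in
theorem nonempty_push_pull_iso : Nonempty (CohTop.push i ⋙ CohTop.pull i ≅ 𝟭 (Ab Z)) := by
  have h1 : (TopCat.Sheaf.pushforward AddCommGrpCat.{u} i).Full := (ff i hi).full
  have h2 : (TopCat.Sheaf.pushforward AddCommGrpCat.{u} i).Faithful := (ff i hi).faithful
  have h3 : IsIso (TopCat.Sheaf.pullbackPushforwardAdjunction AddCommGrpCat.{u} i).counit :=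
    @Adjunction.counit_isIso_of_R_fully_faithful _ _ _ _ _ _
      (TopCat.Sheaf.pullbackPushforwardAdjunction AddCommGrpCat.{u} i) h1 h2
  exact ⟨@asIso _ _ _ _ (TopCat.Sheaf.pullbackPushforwardAdjunction AddCommGrpCat.{u} i).counit h3⟩

end Groth.Agent.Lib.Helper6.ClosedEmbStalk
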