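import Groth.Agent.Lib.Helper6.CohTopLeray

/-!
# Pushforward along a closed embedding is exact (helper6)
-/

universe u

open CategoryTheory Limits Opposite TopologicalSpace

namespace Groth.Agent.Lib.Helper6.CohTopClosed

open CohTop

variable {X Y : TopCat.{u}} (f : X ⟶ Y)

/-- `f_*` preserves epimorphisms when `f` is a closed embedding. -/
lemma epi_push_map_of_isClosedEmbedding (hf : Topology.IsClosedEmbedding f) {F G : Ab X}
    (φ : F ⟶ G) [hφ : Epi φ] : Epi ((CohTop.push f).map φ) := by
  have hls := (TopCat.Sheaf.isLocallySurjective_iff_epi (F := F) (G := G) φ).2 hφ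
  rw [TopCat.Presheaf.isLocallySurjective_iff] at hls
  refine (TopCat.Sheaf.isLocallySurjective_iff_epi _).1 ?_
  rw [TopCat.Presheaf.isLocallySurjective_iff]
  intro V t y hy
  by_cases hyr : y ∈ Set.range f
  · obtain ⟨x, rfl⟩ := hyr
    obtain ⟨U', hU', ⟨s, hs⟩, hxU'⟩ := hls ((Opens.map f).obj V) t x hy
    obtain ⟨W', hW'o, hW'⟩ := (hf.isInducing.isOpen_iff).1 U'.2
    let W : Opens Y := ⟨W', hW'o⟩ ⊓ V
    have hWle : (Opens.map f).obj W ≤ U' := by
      intro z hz
      have : z ∈ f ⁻¹' W' := hz.1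
      rw [hW'] at this
      exact this
    have hxW : f x ∈ W := by
      refine ⟨?_, hy⟩
      have : x ∈ f ⁻¹' W' := by rw [hW']; exact hxU'
      exact this
    refine ⟨W, inf_le_right, ⟨F.obj.map (homOfLE hWle).op s, ?_⟩, hxW⟩
    have nat := ConcreteCategory.congr_hom (φ.hom.naturality (homOfLE hWle).op) s
    rw [ConcreteCategory.comp_apply, ConcreteCategory.comp_apply, hs] at nat
    refine nat.trans ?_
    change (G.obj.map _ (G.obj.map _ t)) = G.obj.map _ t
    rw [← ConcreteCategory.comp_apply, ← G.obj.map_comp]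
    rfl
  · let W : Opens Y := ⟨(Set.range f)ᶜ, hf.isClosed_range.isOpen_compl⟩ ⊓ V
    have hW : (Opens.map f).obj W = ⊥ := by
      ext z
      simp only [Opens.coe_bot, Set.mem_empty_iff_false, iff_false]
      intro hz
      exact hz.1 ⟨z, rfl⟩
    have hsub : Subsingleton (G.obj.obj (op ((Opens.map f).obj W))) := by
      have hT := TopCat.Sheaf.isTerminalOfEqEmpty G hW
      have hZ : IsZero (G.obj.obj (op ((Opens.map f).obj W))) :=
        (isZero_zero _).of_iso (hT.uniqueUpToIso (isZero_zero _).isTerminal)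
      exact AddCommGrpCat.subsingleton_of_isZero hZ
    refine ⟨W, inf_le_right, ⟨0, ?_⟩, ⟨hyr, hy⟩⟩
    exact @Subsingleton.elim _ hsub _ _

section Acyc

attribute [local instance] HasDerivedCategory.standard

/-- Every sheaf is acyclic for the pushforward along a closed embedding. -/
theorem acyc_push_of_isClosedEmbedding (hf : Topology.IsClosedEmbedding f) (F : Ab X) :
    RDAcyc.Acyc (CohTop.push f) F := by
  refine RDAdapted.acyc_of_adapted (CohTop.push f) (fun _ : Ab X => True) ?_ ?_ trivial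
  · intro G
    exact ⟨G, 𝟙 G, trivial, inferInstance⟩
  · intro S hS _ _
    have := hS.epi_g
    exact ⟨trivial, RDAcyc.map_shortExact _ hS (epi_push_map_of_isClosedEmbedding f hf S.g)⟩

/-- `R^{q+1} f_* F = 0` for a closed embedding `f`. -/
theorem isZero_Rpush_of_isClosedEmbedding (hf : Topology.IsClosedEmbedding f) (F : Ab X) (q : ℕ) :
    IsZero ((CohTop.Rpush f (q + 1)).obj F) :=
  (RDAcyc.acyc_iff_isZero_rightDerived (CohTop.push f) F).1
    (acyc_push_of_isClosedEmbedding f hf F) q

end Acyc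

/-- `H^p(X, F) ≃+ H^p(Y, f_* F)` for a closed embedding `f`. -/
theorem nonempty_H_addEquiv (hf : Topology.IsClosedEmbedding f) (F : Ab X) (p : ℕ) :
    Nonempty (CohTop.H F p ≃+ CohTop.H ((CohTop.push f).obj F) p) :=
  CohTopLeray.nonempty_H_addEquiv_of_isZero_Rpush f F
    (fun q => isZero_Rpush_of_isClosedEmbedding f hf F q) p

end Groth.Agent.Lib.Helper6.CohTopClosed
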