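import Groth.Agent.Lib.Helper6.CohTopPush
import Mathlib.Topology.Sheaves.SheafCondition.UniqueGluing
import Mathlib.Topology.Sheaves.SheafOfFunctions
import Mathlib.Topology.Category.TopCat.Adjunctions

/-!
# First step of the Godement resolution (helper6)
-/

universe u

open CategoryTheory Limits Opposite TopologicalSpace

namespace Groth.Agent.Lib.Helper6.CohTopGodement

open CohTop

section Discrete

variable {Z : TopCat.{u}} [DiscreteTopology Z]

lemma subsingleton_of_eq_bot (G : Ab Z) {W : Opens Z} (hW : W = ⊥) :
    Subsingleton (G.obj.obj (op W)) := by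
  have hT := TopCat.Sheaf.isTerminalOfEqEmpty G hW
  have hZ : IsZero (G.obj.obj (op W)) :=
    (isZero_zero _).of_iso (hT.uniqueUpToIso (isZero_zero _).isTerminal)
  exact AddCommGrpCat.subsingleton_of_isZero hZ

/-- the two-element cover `{V, U \ V}` of `U` -/
def cov (U V : Opens Z) : Bool → Opens Z
  | true => V
  | false => ⟨(U : Set Z) \ V, isOpen_discrete _⟩

/-- Every sheaf on a discrete space is flasque. -/
theorem isFlasque_of_discrete (G : Ab Z) : TopCat.Sheaf.IsFlasque G where
  epi {U V} i := by
    rw [AddCommGrpCat.epi_iff_surjective]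
    intro s
    have hVU : V.unop ≤ U.unop := leOfHom i.unop
    have iUV : ∀ b, cov U.unop V.unop b ⟶ U.unop := fun b => by
      cases b
      · exact homOfLE (fun x hx => hx.1)
      · exact homOfLE hVU
    have hcover : U.unop ≤ iSup (cov U.unop V.unop) := by
      intro x hx
      rw [Opens.mem_iSup]
      by_cases hxV : x ∈ V.unop
      · exact ⟨true, hxV⟩
      · exact ⟨false, ⟨hx, hxV⟩⟩
    let sf : ∀ b, ToType (G.1.obj (op (cov U.unop V.unop b))) := fun b =>
      match b with
      | true => s
      | false => 0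
    have hcompat : TopCat.Presheaf.IsCompatible G.1 (cov U.unop V.unop) sf := by
      intro b b'
      cases b <;> cases b'
      · rfl
      · have hbot : cov U.unop V.unop false ⊓ cov U.unop V.unop true = ⊥ := by
          ext x
          simp only [Opens.coe_bot, Set.mem_empty_iff_false, iff_false]
          rintro ⟨h1, h2⟩
          exact h1.2 h2
        exact @Subsingleton.elim _ (subsingleton_of_eq_bot G hbot) _ _
      · have hbot : cov U.unop V.unop true ⊓ cov U.unop V.unop false = ⊥ := by
          ext x
          simp only [Opens.coe_bot, Set.mem_empty_iff_false, iff_false]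
          rintro ⟨h1, h2⟩
          exact h2.2 h1
        exact @Subsingleton.elim _ (subsingleton_of_eq_bot G hbot) _ _
      · rfl
    obtain ⟨t, ht, -⟩ := TopCat.Sheaf.existsUnique_gluing' G (cov U.unop V.unop) U.unop iUV hcover
      sf hcompat
    refine ⟨t, ?_⟩
    have := ht true
    have hi : i = (iUV true).op := by
      apply Quiver.Hom.unop_inj
      exact Subsingleton.elim _ _
    rw [hi]
    exact this

end Discrete

section Godement

variable {X : TopCat.{u}} (F : Ab X)

/-- the discrete space on the points of `X` -/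
abbrev Xd (X : TopCat.{u}) : TopCat.{u} := TopCat.discrete.obj ((forget TopCat).obj X)

/-- the identity map `X_disc ⟶ X` -/
abbrev fd (X : TopCat.{u}) : Xd X ⟶ X := TopCat.adj₁.counit.app X

/-- the presheaf `S ↦ ∏_{x ∈ S} F_x` on `X_disc` -/
noncomputable def Pd : (Opens (Xd X))ᵒᵖ ⥤ AddCommGrpCat.{u} where
  obj S := AddCommGrpCat.of (∀ x : S.unop, (CohTop.stalk F (x.1 : X) : AddCommGrpCat.{u}))
  map {S T} i := AddCommGrpCat.ofHom
    { toFun := fun g x => g (i.unop x)
      map_zero' := rfl
      map_add' := fun _ _ => rfl }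

lemma Pd_isSheaf : TopCat.Presheaf.IsSheaf (Pd F) := by
  rw [TopCat.Presheaf.isSheaf_iff_isSheaf_comp (forget AddCommGrpCat.{u})]
  exact TopCat.Presheaf.toTypes_isSheaf (Xd X)
    (fun x => (CohTop.stalk F (x : X) : AddCommGrpCat.{u}))

/-- the sheaf `S ↦ ∏_{x ∈ S} F_x` on `X_disc` -/
noncomputable def Gd : Ab (Xd X) := ⟨Pd F, Pd_isSheaf F⟩

/-- the germ map `F ⟶ f_* G` -/
noncomputable def φ : F ⟶ (CohTop.push (fd X)).obj (Gd F) where
  hom :=
    { app := fun U => AddCommGrpCat.ofHom
        { toFun := fun s x => (TopCat.Presheaf.germ F.obj U.unop (x.1 : X) x.2) s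
          map_zero' := by
            funext x
            exact map_zero (TopCat.Presheaf.germ F.obj U.unop (x.1 : X) x.2).hom
          map_add' := fun a b => by
            funext x
            exact map_add (TopCat.Presheaf.germ F.obj U.unop (x.1 : X) x.2).hom a b }
      naturality := fun U V i => by
        ext s
        funext x
        exact TopCat.Presheaf.germ_res_apply' F.obj i (x.1 : X) x.2 s }

lemma φ_app_apply (U : Opens X) (s : F.obj.obj (op U)) (x : X) (hx : x ∈ U) :
    ((φ F).hom.app (op U) s : ∀ x : ((Opens.map (fd X)).obj U : Opens (Xd X)),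
      (CohTop.stalk F (x.1 : X) : AddCommGrpCat.{u})) ⟨x, hx⟩ =
      TopCat.Presheaf.germ F.obj U x hx s := rfl

lemma mono_φ : Mono (φ F) := by
  have : Mono (φ F).hom := by
    rw [NatTrans.mono_iff_mono_app]
    intro U
    rw [AddCommGrpCat.mono_iff_injective]
    intro s t hst
    apply TopCat.Presheaf.section_ext F U.unop
    intro x hx
    have := congrFun hst ⟨x, hx⟩
    exact this
  exact Sheaf.Hom.mono_of_presheaf_mono _ _ (φ F)

/-- The unit `F ⟶ f_* f⁻¹ F` is a monomorphism. -/
theorem mono_unit : Mono ((TopCat.Sheaf.pullbackPushforwardAdjunction AddCommGrpCat.{u}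
    (fd X)).unit.app F) := by
  let adj := TopCat.Sheaf.pullbackPushforwardAdjunction AddCommGrpCat.{u} (fd X)
  have h : adj.unit.app F ≫ (CohTop.push (fd X)).map ((adj.homEquiv F (Gd F)).symm (φ F)) =
      φ F := by
    have := adj.homEquiv_unit (X := F) (Y := Gd F) (f := (adj.homEquiv F (Gd F)).symm (φ F))
    rw [Equiv.apply_symm_apply] at this
    exact this.symm
  have hm : Mono (adj.unit.app F ≫
      (CohTop.push (fd X)).map ((adj.homEquiv F (Gd F)).symm (φ F))) := by
    rw [h]
    exact mono_φ F
  exact mono_of_mono (adj.unit.app F)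
    ((CohTop.push (fd X)).map ((adj.homEquiv F (Gd F)).symm (φ F)))

/-- `f_* f⁻¹ F` is flasque. -/
theorem isFlasque_push_pull :
    TopCat.Sheaf.IsFlasque ((CohTop.push (fd X)).obj ((CohTop.pull (fd X)).obj F)) := by
  have : TopCat.Sheaf.IsFlasque ((CohTop.pull (fd X)).obj F) := isFlasque_of_discrete _
  exact TopCat.Sheaf.IsFlasque.pushforward_isFlasque _ _

end Godement

end Groth.Agent.Lib.Helper6.CohTopGodement
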