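import Groth.Agent.Lib.Helper6.DevSum
import Groth.Agent.Lib.Helper17.ClosedUnit
import Mathlib
set_option backward.isDefEq.respectTransparency.types false
set_option autoImplicit false

/-!
# The step of devissage for extension-closed classes containing the ideals of integral closed subschemes
-/

universe u
open CategoryTheory CategoryTheory.Limits AlgebraicGeometry Opposite TopologicalSpace
open Groth.Agent.Lib.Helper17.CohKer Groth.Agent.Lib.Helper17.StalkExact Groth.Agent.Lib.Helper28.QCohLoc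

namespace Groth.Agent.Lib.Helper6.DevExt
open Groth.Agent.Lib.Helper6.DevSub Groth.Agent.Lib.Helper6.DevCore Groth.Agent.Lib.Helper6.DevSoc
  Groth.Agent.Lib.Helper6.DevStep Groth.Agent.Lib.Helper6.DevRed Groth.Agent.Lib.Helper29.QCohStalk

variable {X : Scheme.{u}}

/-- direct image along a closed immersion is faithful -/
theorem pushforward_map_injective {Z : Scheme.{u}} (i : Z ⟶ X) [IsClosedImmersion i] {M N : Z.Modules}
    (f g : M ⟶ N) (h : (Scheme.Modules.pushforward i).map f = (Scheme.Modules.pushforward i).map g) :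
    f = g := by
  apply Scheme.Modules.hom_ext
  intro V
  obtain ⟨U, hU, hUV⟩ := i.isClosedEmbedding.isInducing.isOpen_iff.1 V.2
  obtain rfl : i ⁻¹ᵁ ⟨U, hU⟩ = V := Opens.ext hUV
  exact congrArg (fun φ => φ.app ⟨U, hU⟩) h

instance {Z : Scheme.{u}} (i : Z ⟶ X) [IsClosedImmersion i] : (Scheme.Modules.pushforward i).Faithful :=
  ⟨fun {_ _ f g} h => pushforward_map_injective i f g h⟩

section integral

variable (I : X.IdealSheafData) [IsIntegral I.subscheme]

/-- a submodule of `O_X / I`, `I` the ideal of an integral closed subscheme, whose stalk at the generic point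
vanishes, is zero. -/
theorem isZero_of_mono_quotMod (y : X) (hy : closure {y} = (I.support : Set X))
    {N : X.Modules} (j : N ⟶ ClSub.quotMod I) [Mono j] (hyN : y ∉ CohB1.support N) : IsZero N := by
  have hsub : Subsingleton (N.presheaf.stalk y) := by
    by_contra h
    exact hyN h
  have hyI : y ∈ Set.range I.subschemeι := by
    rw [I.range_subschemeι, ← hy]
    exact subset_closure (Set.mem_singleton y)
  obtain ⟨z₀, hz₀⟩ := hyI
  rw [IsZero.iff_id_eq_zero]
  apply Scheme.Modules.hom_ext
  intro U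
  ext s
  change s = 0
  apply injective_app_of_mono j inferInstance U
  rw [map_zero]
  by_cases hne : Nonempty ↥(I.subschemeι ⁻¹ᵁ U)
  · obtain ⟨⟨z, hz⟩⟩ := hne
    have hyU : y ∈ U := by
      have hzs : I.subschemeι z ∈ (I.support : Set X) := by
        rw [← I.range_subschemeι]; exact ⟨z, rfl⟩
      have hspec : y ⤳ I.subschemeι z := specializes_iff_mem_closure.2 (hy ▸ hzs)
      exact hspec.mem_open U.2 hz
    have hg : N.presheaf.germ U y hyU s = N.presheaf.germ U y hyU 0 := hsub.elim _ _
    obtain ⟨V, hyV, i₁, i₂, h3⟩ := TopCat.Presheaf.germ_eq N.presheaf y hyU hyU _ _ hg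
    rw [map_zero] at h3
    have h4 : res (ClSub.quotMod I) (leOfHom i₁) (j.app U s) = 0 := by
      rw [← app_res]
      have : res N (leOfHom i₁) s = 0 := h3
      rw [this, map_zero]
    have hne' : Nonempty ↥(I.subschemeι ⁻¹ᵁ V) :=
      ⟨⟨z₀, by change I.subschemeι z₀ ∈ V; rw [hz₀]; exact hyV⟩⟩
    have hinj := @map_injective_of_isIntegral I.subscheme _ _ _
      ((Opens.map I.subschemeι.base).map i₁) hne'
    apply hinj
    exact h4.trans (map_zero _).symm
  · have hbot : I.subschemeι ⁻¹ᵁ U = ⊥ := by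
      ext w
      simp only [Opens.coe_bot, Set.mem_empty_iff_false, iff_false]
      intro hw
      exact hne ⟨⟨w, hw⟩⟩
    have hss : Subsingleton Γ(ClSub.quotMod I, U) := by
      change Subsingleton Γ(Coh.structureModule I.subscheme, I.subschemeι ⁻¹ᵁ U)
      rw [hbot]
      exact Groth.Agent.S0792.subsingleton_bot _
    exact hss.elim _ _

/-- a quasi-coherent submodule of `O_X / I` is the direct image of a quasi-coherent ideal of the subscheme. -/
theorem exists_ideal_iso {N : X.Modules} [N.IsQuasicoherent] (j : N ⟶ ClSub.quotMod I) [Mono j] :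
    ∃ (J : I.subscheme.Modules) (ι : J ⟶ Coh.structureModule I.subscheme), Mono ι ∧ Coh.IsQCoh J ∧
      Nonempty (N ≅ (Coh.push I.subschemeι).obj J) := by
  have hk : ∀ (U : X.affineOpens) (a : Γ(X, U.1)), a ∈ I.subschemeι.ker.ideal U →
      ∀ s : Γ(N, U.1), a • s = 0 := by
    intro U a ha s
    apply injective_app_of_mono j inferInstance U.1
    rw [map_zero, Scheme.Modules.Hom.app_smul]
    rw [Scheme.Hom.ker_apply, RingHom.mem_ker] at ha
    have : (a • j.app U.1 s : Γ(ClSub.quotMod I, U.1)) =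
        ((I.subschemeι.app U.1).hom a • (show Γ(Coh.structureModule I.subscheme, I.subschemeι ⁻¹ᵁ U.1) from
          j.app U.1 s) : Γ(Coh.structureModule I.subscheme, I.subschemeι ⁻¹ᵁ U.1)) := rfl
    rw [this, ha, zero_smul]
    rfl
  haveI := Groth.Agent.Lib.Helper17.ClosedUnit.isIso_unit_of_killed I.subschemeι N hk
  let adj := Scheme.Modules.pullbackPushforwardAdjunction I.subschemeι
  let ι := (adj.homEquiv N (Coh.structureModule I.subscheme)).symm j
  have hj : adj.unit.app N ≫ (Scheme.Modules.pushforward I.subschemeι).map ι = j :=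
    (adj.homEquiv_unit (f := ι)).symm.trans (Equiv.apply_symm_apply _ _)
  have hmono : Mono ((Scheme.Modules.pushforward I.subschemeι).map ι) := by
    have : (Scheme.Modules.pushforward I.subschemeι).map ι = inv (adj.unit.app N) ≫ j := by
      rw [← hj, IsIso.inv_hom_id_assoc]
    rw [this]
    infer_instance
  refine ⟨(Scheme.Modules.pullback I.subschemeι).obj N, ι,
    (Scheme.Modules.pushforward I.subschemeι).mono_of_mono_map hmono, inferInstance,
    ⟨asIso (adj.unit.app N)⟩⟩

end integral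

theorem mono_kernel_fst_snd {A B H : X.Modules} (ι : H ⟶ A ⊞ B) [Mono ι] :
    Mono (kernel.ι (ι ≫ biprod.fst) ≫ ι ≫ biprod.snd) := by
  apply Preadditive.mono_of_cancel_zero
  intro T x hx
  rw [← cancel_mono (kernel.ι (ι ≫ biprod.fst)), ← cancel_mono ι, zero_comp, zero_comp]
  apply biprod.hom_ext
  · rw [Category.assoc, Category.assoc, zero_comp, kernel.condition, comp_zero]
  · rw [Category.assoc, Category.assoc, zero_comp]
    exact hx

theorem mono_kernel_snd_fst {A B H : X.Modules} (ι : H ⟶ A ⊞ B) [Mono ι] :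
    Mono (kernel.ι (ι ≫ biprod.snd) ≫ ι ≫ biprod.fst) := by
  apply Preadditive.mono_of_cancel_zero
  intro T x hx
  rw [← cancel_mono (kernel.ι (ι ≫ biprod.snd)), ← cancel_mono ι, zero_comp, zero_comp]
  apply biprod.hom_ext
  · rw [Category.assoc, Category.assoc, zero_comp]
    exact hx
  · rw [Category.assoc, Category.assoc, zero_comp, kernel.condition, comp_zero]

section ext

variable [IsNoetherian X] (P : X.Modules → Prop) (hP : ∀ M N : X.Modules, Nonempty (M ≅ N) → P M → P N)
  (hext : ∀ S : ShortComplex X.Modules, S.ShortExact → Coh.IsCoh S.X₁ → Coh.IsCoh S.X₂ → Coh.IsCoh S.X₃ →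
      P S.X₁ → P S.X₃ → P S.X₂)

include hP hext in
/-- **the step for an extension-closed class** containing the coherent submodules of `O_X / J_Z`. -/
theorem step_ext (Z : Closeds X) (hirr : IsIrreducible (Z : Set X)) (y : X) (hy : closure {y} = (Z : Set X))
    (hideal : ∀ (N : X.Modules) (j : N ⟶ ClSub.quotMod (Scheme.IdealSheafData.vanishingIdeal Z)),
      Mono j → Coh.IsCoh N → P N)
    (IH : ∀ N : X.Modules, Coh.IsCoh N → CohB1.support N ⊆ (Z : Set X) → y ∉ CohB1.support N → P N)
    (Q : X.Modules) (hQ : Coh.IsCoh Q) (hQZ : CohB1.support Q ⊆ (Z : Set X)) (hyQ : y ∈ CohB1.support Q) :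
    ∃ (S : X.Modules) (i : S ⟶ Q), Mono i ∧ Coh.IsCoh S ∧ P S ∧ y ∈ CohB1.support S := by
  haveI := isIntegral_subscheme_vanishingIdeal Z hirr
  have hT := isCoh_quotMod (Scheme.IdealSheafData.vanishingIdeal Z)
  obtain ⟨g, hg0, hgm, -⟩ := exists_gen_quotMod Z y hy
  obtain ⟨q, hq0, hqm⟩ := exists_socle Q hQ y (hy ▸ hQZ) hyQ
  obtain ⟨H, ι, hι, hH, h₀, hp, hr, hcyc, hzero⟩ := exists_graph _ Q hT hQ y g q
  have hpinj : ∀ h : H.presheaf.stalk y, stalkHom (ι ≫ biprod.fst) y h = 0 → h = 0 := by
    intro h hh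
    obtain ⟨c, rfl⟩ := hcyc h
    rw [stalkHom_smul, hp] at hh
    have hc := (smul_eq_zero_iff_mem g hg0 hgm c).1 hh
    exact hzero c hh (hqm c hc)
  have hrinj : ∀ h : H.presheaf.stalk y, stalkHom (ι ≫ biprod.snd) y h = 0 → h = 0 := by
    intro h hh
    obtain ⟨c, rfl⟩ := hcyc h
    rw [stalkHom_smul, hr] at hh
    have hc := (smul_eq_zero_iff_mem q hq0 hqm c).1 hh
    exact hzero c (hgm c hc) hh
  -- `r` is a monomorphism
  have hy' : closure {y} = ((Scheme.IdealSheafData.vanishingIdeal Z).support : Set X) := by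
    rw [Scheme.IdealSheafData.coe_support_vanishingIdeal]; exact hy
  haveI := mono_kernel_snd_fst ι
  have hkz : IsZero (kernel (ι ≫ biprod.snd)) :=
    isZero_of_mono_quotMod (Scheme.IdealSheafData.vanishingIdeal Z) y hy'
      (kernel.ι (ι ≫ biprod.snd) ≫ ι ≫ biprod.fst) (notMem_support_kernel _ y hrinj)
  have hrmono : Mono (ι ≫ biprod.snd) := Preadditive.mono_of_kernel_zero (hkz.eq_of_src _ _)
  -- `H` has `P`
  haveI := mono_kernel_fst_snd ι
  have hK1 : P (kernel (ι ≫ biprod.fst)) := IH _ (isCoh_kernel _ hH hT)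
    ((support_subset_of_mono (kernel.ι (ι ≫ biprod.fst) ≫ ι ≫ biprod.snd)).trans hQZ)
    (notMem_support_kernel _ y hpinj)
  have hPi : P (Abelian.image (ι ≫ biprod.fst)) :=
    hideal _ (Abelian.image.ι _) inferInstance (isCoh_image _ hH hT)
  have hPc : P (Abelian.coimage (ι ≫ biprod.fst)) := hP _ _ ⟨(Abelian.coimageIsoImage _).symm⟩ hPi
  have hPH : P H := hext (sc1 (ι ≫ biprod.fst)) (sc1_shortExact _) (isCoh_kernel _ hH hT) hH
    (isCoh_coimage _ hH hT) hK1 hPc
  refine ⟨H, ι ≫ biprod.snd, hrmono, hH, hPH, ?_⟩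
  intro hsub
  apply hq0
  rw [← hr, hsub.elim h₀ 0, map_zero]

end ext

end Groth.Agent.Lib.Helper6.DevExt
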