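import Groth.Agent.Lib.Helper28.TwistDual
import Groth.Agent.Lib.Helper28.TensorPowGen
import Groth.Agent.Lib.Helper28.PullbackInv2
import Groth.Agent.Lib.Helper6.K0Inv
import Groth.Agent.Lib.Helper28.DualInv
import Groth.Agent.Lib.Helper28.InvQC
import Groth.Agent.Lib.Helper16.TA1
import Groth.Agent.Lib.Helper16.RS6
import Mathlib

/-!
# Inverses of invertible modules: `L ⊗ L^∨ ≅ O`, and cancellation under pullback (helper6)
-/

set_option backward.isDefEq.respectTransparency.types false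
set_option autoImplicit false
set_option linter.style.haveILetI false
set_option linter.unusedSectionVars false
universe u
open CategoryTheory CategoryTheory.Limits AlgebraicGeometry Opposite TopologicalSpace

noncomputable section
namespace Groth.Agent.Lib.Helper6.InvDual

open Groth.Agent.Lib.Helper28 Groth.Agent.Lib.Helper28.QCohLoc Groth.Agent.Lib.Helper28.GenLocus
  Groth.Agent.Lib.Helper28.HomMod Groth.Agent.Lib.Helper28.TensorGen Groth.Agent.Lib.Helper28.InvTensor

variable {X : Scheme.{u}}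

/-- index: local generators of `L` -/
structure Idx (L : X.Modules) where
  U : X.Opens
  g : Γ(L, U)
  hg : IsGen L U g

/-- **`L ⊗ L^∨ ≅ O_X`** for an invertible module `L` -/
theorem nonempty_tensor_dual_iso (L : X.Modules) (hL : PicF.IsInvertible L) :
    Nonempty (CohB1.tensorMod L (dual L) ≅ Coh.structureModule X) := by
  have hcov : ∀ x : X, ∃ i : Idx L, x ∈ i.U := fun x => by
    obtain ⟨U, g, hxU, hg⟩ := exists_isGen L hL x
    exact ⟨⟨U, g, hg⟩, hxU⟩
  have hcoc : ∀ i j : Idx L, ∃ u : Γ(X, i.U ⊓ j.U),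
      res (CohB1.tensorMod L (dual L)) inf_le_left (tmulSec L (dual L) i.g (gdual i.hg)) =
        (u • res (CohB1.tensorMod L (dual L)) inf_le_right (tmulSec L (dual L) j.g (gdual j.hg)) :
          Γ(CohB1.tensorMod L (dual L), i.U ⊓ j.U)) ∧
      res (Coh.structureModule X) inf_le_left (oneSec X i.U) =
        (u • res (Coh.structureModule X) inf_le_right (oneSec X j.U) :
          Γ(Coh.structureModule X, i.U ⊓ j.U)) := by
    intro i j
    -- `g_i = v g_j`, `g_j = w g_i`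
    have hv := (j.hg.coef_smul (inf_le_right : i.U ⊓ j.U ≤ j.U) (res L inf_le_left i.g)).symm
    generalize j.hg.coef (inf_le_right : i.U ⊓ j.U ≤ j.U) (res L inf_le_left i.g) = v at hv
    have hw := (i.hg.coef_smul (inf_le_left : i.U ⊓ j.U ≤ i.U) (res L inf_le_right j.g)).symm
    generalize i.hg.coef (inf_le_left : i.U ⊓ j.U ≤ i.U) (res L inf_le_right j.g) = w at hw
    have hvw : v * w = 1 := by
      have h1 : ((v * w) • res L (inf_le_left : i.U ⊓ j.U ≤ i.U) i.g : Γ(L, i.U ⊓ j.U)) =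
          ((1 : Γ(X, i.U ⊓ j.U)) • res L (inf_le_left : i.U ⊓ j.U ≤ i.U) i.g : Γ(L, i.U ⊓ j.U)) := by
        rw [mul_smul, ← hw, ← hv, one_smul]
      exact (i.hg _ inf_le_left).1 h1
    have hd := gdual_cocycle i.hg j.hg w hw
    refine ⟨1, ?_, ?_⟩
    · rw [tmulSec_res, tmulSec_res, hv, hd, tmulSec_smul_left, tmulSec_smul_right, smul_smul, hvw]
    · rw [res_oneSec, res_oneSec, one_smul]
  obtain ⟨ψ, -⟩ := exists_iso_of_cocycle_gen (fun i : Idx L => i.U)
    (fun i => tmulSec L (dual L) i.g (gdual i.hg)) (fun i => oneSec X i.U)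
    (fun i => isGen_tmulSec L (dual L) i.hg (isGen_gdual i.hg)) (fun i => isGen_oneSec i.U) hcov hcoc
  exact ⟨ψ⟩

/-- `M ≅ (M ⊗ L^∨) ⊗ L` for an invertible module `L` -/
theorem nonempty_iso_tensor_dual_tensor (L M : X.Modules) (hL : PicF.IsInvertible L) :
    Nonempty (M ≅ CohB1.tensorMod (CohB1.tensorMod M (dual L)) L) := by
  obtain ⟨κ⟩ := nonempty_tensor_dual_iso L hL
  obtain ⟨u⟩ := Groth.Agent.Lib.Helper28.InvQC.nonempty_unit_tensor_iso M
  have b1 : CohB1.tensorMod M (Coh.structureModule X) ≅ CohB1.tensorMod (Coh.structureModule X) M :=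
    Groth.Agent.Lib.Helper6.K0Inv.braidIso M (Coh.structureModule X)
  have t1 : CohB1.tensorMod M (CohB1.tensorMod L (dual L)) ≅ CohB1.tensorMod M (Coh.structureModule X) :=
    PicGrp.tensorModIso (Iso.refl M) κ
  have t2 : CohB1.tensorMod M (CohB1.tensorMod (dual L) L) ≅ CohB1.tensorMod M (CohB1.tensorMod L (dual L)) :=
    PicGrp.tensorModIso (Iso.refl M) (Groth.Agent.Lib.Helper6.K0Inv.braidIso (dual L) L)
  have a : CohB1.tensorMod (CohB1.tensorMod M (dual L)) L ≅ CohB1.tensorMod M (CohB1.tensorMod (dual L) L) :=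
    Groth.Agent.Lib.Helper16.TA.assocIso M (dual L) L
  exact ⟨(a ≪≫ t2 ≪≫ t1 ≪≫ b1 ≪≫ u).symm⟩

variable {Z : Scheme.{u}}

/-- if `q^* L ≅ q^* M` then `q^*(M ⊗ L^∨) ≅ O` -/
theorem nonempty_pullback_tensor_dual_iso (q : Z ⟶ X) (L M : X.Modules) (hL : PicF.IsInvertible L)
    (hM : PicF.IsInvertible M)
    (α : Nonempty ((Scheme.Modules.pullback q).obj L ≅ (Scheme.Modules.pullback q).obj M)) :
    Nonempty ((Scheme.Modules.pullback q).obj (CohB1.tensorMod M (dual L)) ≅ Coh.structureModule Z) := by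
  obtain ⟨α⟩ := α
  have hK : PicF.IsInvertible (dual L) := Groth.Agent.Lib.Helper28.HomMod.isInvertible_dual hL
  obtain ⟨ψ1, -⟩ := Groth.Agent.Lib.Helper28.PullbackInv.exists_pullback_tensorMod_iso q hM hK
  obtain ⟨ψ2, -⟩ := Groth.Agent.Lib.Helper28.PullbackInv.exists_pullback_tensorMod_iso q hL hK
  obtain ⟨κ⟩ := nonempty_tensor_dual_iso L hL
  exact ⟨ψ1 ≪≫ PicGrp.tensorModIso α.symm (Iso.refl _) ≪≫ ψ2.symm ≪≫
    (Scheme.Modules.pullback q).mapIso κ ≪≫ Groth.Agent.Lib.Helper16.RS.pullbackUnitIso q⟩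

/-- if `j^*(M ⊗ L^∨) ≅ O` then `j^* L ≅ j^* M` -/
theorem nonempty_pullback_iso_of_tensor_dual (j : Z ⟶ X) (L M : X.Modules) (hL : PicF.IsInvertible L)
    (hM : PicF.IsInvertible M)
    (ν : Nonempty ((Scheme.Modules.pullback j).obj (CohB1.tensorMod M (dual L)) ≅ Coh.structureModule Z)) :
    Nonempty ((Scheme.Modules.pullback j).obj L ≅ (Scheme.Modules.pullback j).obj M) := by
  obtain ⟨ν⟩ := ν
  have hK : PicF.IsInvertible (dual L) := Groth.Agent.Lib.Helper28.HomMod.isInvertible_dual hL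
  have hN : PicF.IsInvertible (CohB1.tensorMod M (dual L)) :=
    Groth.Agent.Lib.Helper28.GenLocus.isInvertible_tensorMod hM hK
  obtain ⟨μ⟩ := nonempty_iso_tensor_dual_tensor L M hL
  obtain ⟨ψ, -⟩ := Groth.Agent.Lib.Helper28.PullbackInv.exists_pullback_tensorMod_iso j hN hL
  obtain ⟨u⟩ := Groth.Agent.Lib.Helper28.InvQC.nonempty_unit_tensor_iso ((Scheme.Modules.pullback j).obj L)
  exact ⟨((Scheme.Modules.pullback j).mapIso μ ≪≫ ψ ≪≫ PicGrp.tensorModIso ν (Iso.refl _) ≪≫ u).symm⟩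

/-- pullback of isomorphic modules along a composite -/
theorem nonempty_pullback_iso_of_fac {W : Scheme.{u}} (ι : W ⟶ X) (t : Z ⟶ W) (q : Z ⟶ X) (hq : t ≫ ι = q)
    (L M : X.Modules)
    (α : Nonempty ((Scheme.Modules.pullback ι).obj L ≅ (Scheme.Modules.pullback ι).obj M)) :
    Nonempty ((Scheme.Modules.pullback q).obj L ≅ (Scheme.Modules.pullback q).obj M) := by
  obtain ⟨α⟩ := α
  subst hq
  exact ⟨((Scheme.Modules.pullbackComp t ι).app L).symm ≪≫ (Scheme.Modules.pullback t).mapIso α ≪≫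
    (Scheme.Modules.pullbackComp t ι).app M⟩

end Groth.Agent.Lib.Helper6.InvDual
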