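import Groth.Agent.Lib.Helper6.RDBridge
import Mathlib.Algebra.Homology.HomologicalComplexAbelian
import Mathlib.Algebra.Homology.SingleHomology
import Mathlib.Algebra.Homology.ShortComplex.ExactFunctor

/-!
# Right acyclic objects for `F.rightDerivedFunctorPlus` (helper6)

`Acyc F X`: the unit `F(X)[0] ⟶ RF(X[0])` is an isomorphism.  `Φ F n X = H^n(RF(X[0]))`.
Long exact sequence `Φ_les`, and for left exact `F`: `acyc_iff_isZero_rightDerived`,
two-out-of-three `acyc_X₁/X₂/X₃`, `epi_map_g_of_acyc_X₁`.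
-/

universe w w' v v' u u'

open CategoryTheory Limits HomologicalComplex

namespace Groth.Agent.Lib.Helper6.RDAcyc

section Basic

variable {B : Type u'} [Category.{v'} B] [Abelian B] [HasDerivedCategory.{w'} B]

/-- `H^n ∘ Q⁺` on bounded below complexes is the homology of the complex. -/
noncomputable def plusHomologyIso (K : CochainComplex.Plus B) (n : ℤ) :
    (DerivedCategory.Plus.homologyFunctor B n).obj (DerivedCategory.Plus.Q.obj K) ≅
      (HomologicalComplex.homologyFunctor B (ComplexShape.up ℤ) n).obj K.obj :=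
  (DerivedCategory.homologyFunctor B n).mapIso (RDPlus.eIso K) ≪≫
    (DerivedCategory.homologyFunctorFactors B n).app K.obj

lemma plusHomologyIso_hom_naturality {K L : CochainComplex.Plus B} (g : K ⟶ L) (n : ℤ) :
    (DerivedCategory.Plus.homologyFunctor B n).map (DerivedCategory.Plus.Q.map g) ≫
        (plusHomologyIso L n).hom =
      (plusHomologyIso K n).hom ≫
        (HomologicalComplex.homologyFunctor B (ComplexShape.up ℤ) n).map g.hom := by
  change (DerivedCategory.homologyFunctor B n).map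
      (DerivedCategory.Plus.ι.map (DerivedCategory.Plus.Q.map g)) ≫
      ((DerivedCategory.homologyFunctor B n).map (RDPlus.eIso L).hom ≫
        (DerivedCategory.homologyFunctorFactors B n).hom.app L.obj) =
    ((DerivedCategory.homologyFunctor B n).map (RDPlus.eIso K).hom ≫
        (DerivedCategory.homologyFunctorFactors B n).hom.app K.obj) ≫
      (HomologicalComplex.homologyFunctor B (ComplexShape.up ℤ) n).map g.hom
  rw [← Category.assoc, ← Functor.map_comp, RDPlus.eIso_naturality, Functor.map_comp,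
    Category.assoc, Category.assoc]
  congr 1
  exact (DerivedCategory.homologyFunctorFactors B n).hom.naturality g.hom

lemma isIso_homology_plusQ_map_iff {K L : CochainComplex.Plus B} (g : K ⟶ L) (n : ℤ) :
    IsIso ((DerivedCategory.Plus.homologyFunctor B n).map (DerivedCategory.Plus.Q.map g)) ↔
      QuasiIsoAt g.hom n := by
  rw [quasiIsoAt_iff_isIso_homologyMap]
  change _ ↔ IsIso ((HomologicalComplex.homologyFunctor B (ComplexShape.up ℤ) n).map g.hom)
  exact (MorphismProperty.isomorphisms B).arrow_mk_iso_iff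
    (Arrow.isoMk (plusHomologyIso K n) (plusHomologyIso L n)
      (plusHomologyIso_hom_naturality g n).symm)

lemma epi_homology_plusQ_map_iff {K L : CochainComplex.Plus B} (g : K ⟶ L) (n : ℤ) :
    Epi ((DerivedCategory.Plus.homologyFunctor B n).map (DerivedCategory.Plus.Q.map g)) ↔
      Epi ((HomologicalComplex.homologyFunctor B (ComplexShape.up ℤ) n).map g.hom) :=
  (MorphismProperty.epimorphisms B).arrow_mk_iso_iff
    (Arrow.isoMk (plusHomologyIso K n) (plusHomologyIso L n)
      (plusHomologyIso_hom_naturality g n).symm)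

end Basic

section Sq

variable {C : Type*} [Category C]

lemma isIso_iff_of_sq {W X Y Z : C} (a : W ⟶ X) (b : X ⟶ Z) (c : W ⟶ Y) (d : Y ⟶ Z)
    (h : a ≫ b = c ≫ d) [IsIso b] [IsIso d] : IsIso a ↔ IsIso c := by
  constructor
  · intro _
    have : c = (a ≫ b) ≫ inv d := by rw [h, Category.assoc, IsIso.hom_inv_id, Category.comp_id]
    rw [this]
    infer_instance
  · intro _
    have : a = (c ≫ d) ≫ inv b := by rw [← h, Category.assoc, IsIso.hom_inv_id, Category.comp_id]
    rw [this]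
    infer_instance

lemma epi_iff_of_sq {W X Y Z : C} (a : W ⟶ X) (b : X ⟶ Z) (c : W ⟶ Y) (d : Y ⟶ Z)
    (h : a ≫ b = c ≫ d) [IsIso a] [IsIso d] : Epi b ↔ Epi c := by
  constructor
  · intro _
    have : c = (a ≫ b) ≫ inv d := by rw [h, Category.assoc, IsIso.hom_inv_id, Category.comp_id]
    rw [this]
    infer_instance
  · intro _
    have : b = inv a ≫ (c ≫ d) := by rw [← h, IsIso.inv_hom_id_assoc]
    rw [this]
    infer_instance

end Sq

section Unit

variable {A : Type u} {B : Type u'} [Category.{v} A] [Category.{v'} B] [Abelian A] [Abelian B]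
  [HasDerivedCategory.{w} A] [HasDerivedCategory.{w'} B] [EnoughInjectives A]
  (F : A ⥤ B) [F.Additive]

lemma isIso_homology_unit_iff {K J : CochainComplex.Plus A} (i : K ⟶ J) (hi : QuasiIso i.hom)
    [∀ n, Injective (J.obj.X n)] (n : ℤ) :
    IsIso ((DerivedCategory.Plus.homologyFunctor B n).map
        (F.rightDerivedFunctorPlusUnit.app ((HomotopyCategory.Plus.quotient A).obj K))) ↔
      QuasiIsoAt ((F.mapHomologicalComplex (ComplexShape.up ℤ)).map i.hom) n := by
  let u := F.rightDerivedFunctorPlusUnit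
  let H := DerivedCategory.Plus.homologyFunctor B n
  let q := (HomotopyCategory.Plus.quotient A).map i
  have nat : H.map ((F.mapHomotopyCategoryPlus ⋙ DerivedCategory.Plus.Qh).map q) ≫
      H.map (u.app ((HomotopyCategory.Plus.quotient A).obj J)) =
      H.map (u.app ((HomotopyCategory.Plus.quotient A).obj K)) ≫
        H.map ((DerivedCategory.Plus.Qh ⋙ F.rightDerivedFunctorPlus).map q) := by
    rw [← Functor.map_comp, ← Functor.map_comp, u.naturality q]
  have h1 : IsIso (u.app ((HomotopyCategory.Plus.quotient A).obj J)) := inferInstance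
  have h2 : IsIso (DerivedCategory.Plus.Qh.map q) := (RDBridge.isIso_plusQ_map_iff i).2 hi
  have h3 : IsIso ((DerivedCategory.Plus.Qh ⋙ F.rightDerivedFunctorPlus).map q) := by
    dsimp only [Functor.comp_map]
    infer_instance
  have h4 : IsIso (H.map ((F.mapHomotopyCategoryPlus ⋙ DerivedCategory.Plus.Qh).map q)) ↔
      QuasiIsoAt ((F.mapHomologicalComplex (ComplexShape.up ℤ)).map i.hom) n :=
    isIso_homology_plusQ_map_iff (F.mapCochainComplexPlus.map i) n
  rw [← h4]
  have : IsIso (H.map (u.app ((HomotopyCategory.Plus.quotient A).obj J))) := inferInstance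
  have : IsIso (H.map ((DerivedCategory.Plus.Qh ⋙ F.rightDerivedFunctorPlus).map q)) :=
    inferInstance
  exact (isIso_iff_of_sq _ _ _ _ nat).symm

end Unit

section Acyc

variable {A : Type u} {B : Type u'} [Category.{v} A] [Category.{v'} B] [Abelian A] [Abelian B]
  [HasDerivedCategory.{w} A] [HasDerivedCategory.{w'} B] [EnoughInjectives A]
  (F : A ⥤ B) [F.Additive]

variable (A) in
/-- `X ↦ X[0]` as a bounded below complex. -/
noncomputable def sP : A ⥤ CochainComplex.Plus A :=
  ObjectProperty.lift _ (CochainComplex.singleFunctor A 0) (fun _ => ⟨0, inferInstance⟩)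

/-- `X` is right `F`-acyclic: the unit `F(X)[0] ⟶ RF(X[0])` is an isomorphism. -/
def Acyc (X : A) : Prop :=
  IsIso (F.rightDerivedFunctorPlusUnit.app ((HomotopyCategory.Plus.quotient A).obj ((sP A).obj X)))

/-- `Φ n X = H^n(RF(X[0]))` -/
noncomputable def Φ (n : ℤ) (X : A) : B :=
  (DerivedCategory.Plus.homologyFunctor B n).obj
    (F.rightDerivedFunctorPlus.obj (DerivedCategory.Plus.Q.obj ((sP A).obj X)))

/-- `H^n` of the unit. -/
noncomputable def hu (n : ℤ) (X : A) :
    (DerivedCategory.Plus.homologyFunctor B n).obj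
      (DerivedCategory.Plus.Q.obj (F.mapCochainComplexPlus.obj ((sP A).obj X))) ⟶ Φ F n X :=
  (DerivedCategory.Plus.homologyFunctor B n).map
    (F.rightDerivedFunctorPlusUnit.app ((HomotopyCategory.Plus.quotient A).obj ((sP A).obj X)))

lemma acyc_iff (X : A) : Acyc F X ↔ ∀ n, IsIso (hu F n X) :=
  DerivedCategory.Plus.isIso_iff _

/-- the resolution map as a map of bounded below complexes -/
noncomputable def resJ {X : A} (R : InjectiveResolution X) : CochainComplex.Plus A :=
  ⟨R.cochainComplex, 0, inferInstance⟩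

instance {X : A} (R : InjectiveResolution X) (n : ℤ) : Injective ((resJ R).obj.X n) :=
  inferInstanceAs (Injective (R.cochainComplex.X n))

noncomputable def resι {X : A} (R : InjectiveResolution X) : (sP A).obj X ⟶ resJ R :=
  ObjectProperty.homMk R.ι'

lemma isIso_hu_iff {X : A} (R : InjectiveResolution X) (n : ℤ) :
    IsIso (hu F n X) ↔
      QuasiIsoAt ((F.mapHomologicalComplex (ComplexShape.up ℤ)).map R.ι') n :=
  isIso_homology_unit_iff F (resι R) (inferInstanceAs (QuasiIso R.ι')) n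

lemma isIso_hu_of_neg (X : A) (n : ℤ) (hn : n < 0) : IsIso (hu F n X) :=
  (isIso_hu_iff F (injectiveResolution X) n).2 (RDBridge.quasiIsoAt_map_ι'_of_neg F _ n hn)

lemma isIso_hu_zero [PreservesFiniteLimits F] (X : A) : IsIso (hu F 0 X) := by
  rw [isIso_hu_iff F (injectiveResolution X) 0]
  exact (RDBridge.quasiIsoAt_map_ι'_iff F (injectiveResolution X) 0).2
    ((RDBridge.quasiIsoAt_zero_iff F _).2 inferInstance)

lemma isIso_hu_succ_iff (X : A) (k : ℕ) :
    IsIso (hu F ((k : ℤ) + 1) X) ↔ IsZero ((F.rightDerived (k + 1)).obj X) := by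
  rw [isIso_hu_iff F (injectiveResolution X)]
  exact (RDBridge.quasiIsoAt_map_ι'_iff F (injectiveResolution X) (k + 1)).trans
    (RDBridge.quasiIsoAt_succ_iff F _ k)

lemma isZero_src_hu (X : A) (n : ℤ) (hn : n ≠ 0) :
    IsZero ((DerivedCategory.Plus.homologyFunctor B n).obj
      (DerivedCategory.Plus.Q.obj (F.mapCochainComplexPlus.obj ((sP A).obj X)))) := by
  refine IsZero.of_iso ?_ (plusHomologyIso _ n)
  change IsZero (((F.mapHomologicalComplex (ComplexShape.up ℤ)).obj
    ((CochainComplex.singleFunctor A 0).obj X)).homology n)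
  rw [← exactAt_iff_isZero_homology]
  apply ShortComplex.exact_of_isZero_X₂
  exact F.map_isZero (isZero_single_obj_X _ _ _ _ hn)

lemma isIso_hu_iff_isZero (X : A) (n : ℤ) (hn : n ≠ 0) : IsIso (hu F n X) ↔ IsZero (Φ F n X) := by
  constructor
  · intro h
    exact IsZero.of_iso (isZero_src_hu F X n hn) (asIso (hu F n X)).symm
  · intro h
    exact ⟨⟨0, (isZero_src_hu F X n hn).eq_of_src _ _, h.eq_of_src _ _⟩⟩

lemma isZero_Φ_of_neg (X : A) (n : ℤ) (hn : n < 0) : IsZero (Φ F n X) :=
  (isIso_hu_iff_isZero F X n hn.ne).1 (isIso_hu_of_neg F X n hn)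

lemma isZero_Φ_succ_iff (X : A) (k : ℕ) :
    IsZero (Φ F ((k : ℤ) + 1) X) ↔ IsZero ((F.rightDerived (k + 1)).obj X) :=
  (isIso_hu_iff_isZero F X _ (by lia)).symm.trans (isIso_hu_succ_iff F X k)

lemma acyc_iff_isZero_Φ [PreservesFiniteLimits F] (X : A) :
    Acyc F X ↔ ∀ k : ℕ, IsZero (Φ F ((k : ℤ) + 1) X) := by
  rw [acyc_iff]
  constructor
  · intro h k
    exact (isIso_hu_iff_isZero F X _ (by lia)).1 (h _)
  · intro h n
    obtain hn | rfl | hn := lt_trichotomy n 0
    · exact isIso_hu_of_neg F X n hn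
    · exact isIso_hu_zero F X
    · obtain ⟨k, rfl⟩ : ∃ k : ℕ, n = (k : ℤ) + 1 := ⟨(n - 1).toNat, by lia⟩
      exact (isIso_hu_iff_isZero F X _ (by lia)).2 (h k)

lemma acyc_iff_isZero_rightDerived [PreservesFiniteLimits F] (X : A) :
    Acyc F X ↔ ∀ k : ℕ, IsZero ((F.rightDerived (k + 1)).obj X) := by
  rw [acyc_iff_isZero_Φ]
  exact forall_congr' (fun k => isZero_Φ_succ_iff F X k)

/-- functoriality of `Φ` -/
noncomputable def Φmap (n : ℤ) {X Y : A} (f : X ⟶ Y) : Φ F n X ⟶ Φ F n Y :=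
  (DerivedCategory.Plus.homologyFunctor B n).map
    (F.rightDerivedFunctorPlus.map (DerivedCategory.Plus.Q.map ((sP A).map f)))

lemma hu_naturality (n : ℤ) {X Y : A} (f : X ⟶ Y) :
    (DerivedCategory.Plus.homologyFunctor B n).map
        (DerivedCategory.Plus.Q.map (F.mapCochainComplexPlus.map ((sP A).map f))) ≫ hu F n Y =
      hu F n X ≫ Φmap F n f := by
  have := F.rightDerivedFunctorPlusUnit.naturality
    ((HomotopyCategory.Plus.quotient A).map ((sP A).map f))
  change (DerivedCategory.Plus.homologyFunctor B n).map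
      ((F.mapHomotopyCategoryPlus ⋙ DerivedCategory.Plus.Qh).map
        ((HomotopyCategory.Plus.quotient A).map ((sP A).map f))) ≫
    (DerivedCategory.Plus.homologyFunctor B n).map (F.rightDerivedFunctorPlusUnit.app _) =
    (DerivedCategory.Plus.homologyFunctor B n).map (F.rightDerivedFunctorPlusUnit.app _) ≫
      (DerivedCategory.Plus.homologyFunctor B n).map
        ((DerivedCategory.Plus.Qh ⋙ F.rightDerivedFunctorPlus).map
          ((HomotopyCategory.Plus.quotient A).map ((sP A).map f)))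
  rw [← Functor.map_comp, ← Functor.map_comp, this]

/-- `X ↦ H⁰(F(X[0]))` is `F`. -/
noncomputable def singleHomologyIso :
    HomologicalComplex.single A (ComplexShape.up ℤ) 0 ⋙
      F.mapHomologicalComplex (ComplexShape.up ℤ) ⋙
        HomologicalComplex.homologyFunctor B (ComplexShape.up ℤ) 0 ≅ F :=
  (Functor.associator _ _ _).symm ≪≫
    Functor.isoWhiskerRight (HomologicalComplex.singleMapHomologicalComplex F
      (ComplexShape.up ℤ) 0) _ ≪≫ Functor.associator _ _ _ ≪≫
    Functor.isoWhiskerLeft F (HomologicalComplex.homologyFunctorSingleIso B (ComplexShape.up ℤ) 0) ≪≫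
    F.rightUnitor

lemma epi_Φmap_zero_iff [PreservesFiniteLimits F] {X Y : A} (f : X ⟶ Y) :
    Epi (Φmap F 0 f) ↔ Epi (F.map f) := by
  have := isIso_hu_zero F X
  have := isIso_hu_zero F Y
  refine (epi_iff_of_sq _ _ _ _ (hu_naturality F 0 f).symm).trans ?_
  refine (epi_homology_plusQ_map_iff (F.mapCochainComplexPlus.map ((sP A).map f)) 0).trans ?_
  exact (MorphismProperty.epimorphisms B).arrow_mk_iso_iff
    (Arrow.isoMk ((singleHomologyIso F).app X) ((singleHomologyIso F).app Y)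
      ((singleHomologyIso F).hom.naturality f).symm)

lemma sP_comp_zero {S : ShortComplex A} :
    ((sP A).map S.f).hom ≫ ((sP A).map S.g).hom = 0 := by
  change (HomologicalComplex.single A (ComplexShape.up ℤ) 0).map S.f ≫
    (HomologicalComplex.single A (ComplexShape.up ℤ) 0).map S.g = 0
  rw [← Functor.map_comp, S.zero, Functor.map_zero]

lemma sP_shortExact {S : ShortComplex A} (hS : S.ShortExact) :
    (ShortComplex.mk ((sP A).map S.f).hom ((sP A).map S.g).hom sP_comp_zero).ShortExact :=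
  hS.map_of_exact (HomologicalComplex.single A (ComplexShape.up ℤ) 0)

lemma Φ_les {S : ShortComplex A} (hS : S.ShortExact) (n₀ n₁ : ℤ) (h : n₀ + 1 = n₁) :
    ∃ (δ : Φ F n₀ S.X₃ ⟶ Φ F n₁ S.X₁) (w₀ : Φmap F n₀ S.f ≫ Φmap F n₀ S.g = 0)
      (w₁ : Φmap F n₀ S.g ≫ δ = 0) (w₂ : δ ≫ Φmap F n₁ S.f = 0),
      (ShortComplex.mk _ _ w₀).Exact ∧ (ShortComplex.mk _ _ w₁).Exact ∧
        (ShortComplex.mk _ _ w₂).Exact :=
  RDPlus.longExact F ((sP A).map S.f) ((sP A).map S.g) sP_comp_zero (sP_shortExact hS) n₀ n₁ h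

section LeftExact

variable [PreservesFiniteLimits F]

lemma epi_map_g_of_acyc_X₁ {S : ShortComplex A} (hS : S.ShortExact) (h₁ : Acyc F S.X₁) :
    Epi (F.map S.g) := by
  obtain ⟨δ, w₀, w₁, w₂, e₀, e₁, e₂⟩ := Φ_les F hS 0 1 rfl
  rw [← epi_Φmap_zero_iff]
  have hz : IsZero (Φ F 1 S.X₁) := (acyc_iff_isZero_Φ F S.X₁).1 h₁ 0
  exact e₁.epi_f (hz.eq_of_tgt _ _)

lemma acyc_X₃ {S : ShortComplex A} (hS : S.ShortExact) (h₁ : Acyc F S.X₁) (h₂ : Acyc F S.X₂) :
    Acyc F S.X₃ := by
  rw [acyc_iff_isZero_Φ] at h₁ h₂ ⊢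
  intro k
  obtain ⟨δ, w₀, w₁, w₂, e₀, e₁, e₂⟩ := Φ_les F hS ((k : ℤ) + 1) ((k : ℤ) + 1 + 1) rfl
  have hz₁ : IsZero (Φ F ((k : ℤ) + 1 + 1) S.X₁) := by
    have := h₁ (k + 1)
    rwa [Nat.cast_add, Nat.cast_one] at this
  exact e₁.isZero_X₂ ((h₂ k).eq_of_src _ _) (hz₁.eq_of_tgt _ _)

lemma acyc_X₂ {S : ShortComplex A} (hS : S.ShortExact) (h₁ : Acyc F S.X₁) (h₃ : Acyc F S.X₃) :
    Acyc F S.X₂ := by
  rw [acyc_iff_isZero_Φ] at h₁ h₃ ⊢
  intro k
  obtain ⟨δ, w₀, w₁, w₂, e₀, e₁, e₂⟩ := Φ_les F hS ((k : ℤ) + 1) ((k : ℤ) + 1 + 1) rfl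
  exact e₀.isZero_X₂ ((h₁ k).eq_of_src _ _) ((h₃ k).eq_of_tgt _ _)

lemma acyc_X₁ {S : ShortComplex A} (hS : S.ShortExact) (h₂ : Acyc F S.X₂) (h₃ : Acyc F S.X₃)
    (hg : Epi (F.map S.g)) : Acyc F S.X₁ := by
  rw [acyc_iff_isZero_Φ] at h₂ h₃ ⊢
  intro k
  obtain ⟨δ, w₀, w₁, w₂, e₀, e₁, e₂⟩ := Φ_les F hS (k : ℤ) ((k : ℤ) + 1) rfl
  have hδ : δ = 0 := by
    cases k with
    | zero =>
      have : Epi (Φmap F 0 S.g) := (epi_Φmap_zero_iff F S.g).2 hg
      rw [← cancel_epi (Φmap F 0 S.g)]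
      simpa using w₁
    | succ k =>
      have hz : IsZero (Φ F ((k + 1 : ℕ) : ℤ) S.X₃) := by
        have := h₃ k
        rwa [← Nat.cast_one (R := ℤ), ← Nat.cast_add] at this
      exact hz.eq_of_src _ _
  exact e₂.isZero_X₂ hδ ((h₂ k).eq_of_tgt _ _)

lemma map_shortExact {S : ShortComplex A} (hS : S.ShortExact) (hg : Epi (F.map S.g)) :
    (S.map F).ShortExact := by
  have h := (Functor.preservesFiniteLimits_iff_forall_exact_map_and_mono F).1 inferInstance S hS
  exact { exact := h.1, mono_f := h.2, epi_g := hg }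

end LeftExact

end Acyc

end Groth.Agent.Lib.Helper6.RDAcyc
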