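import Groth.Agent.Lib.Helper6.FourTerm
import Groth.Agent.Lib.Helper6.RDShift

/-!
# Degenerate Leray spectral sequence, acyclic base (helper6)

`F : A ⥤ B`, `G : B ⥤ C` left exact.  On the class `P` of objects `X` such that all `R^q F X` are
`G`-acyclic, the functors `T n = R^n F ⋙ G` admit dimension shifting.
-/

universe w w' v v' v'' u u' u''

open CategoryTheory Limits

namespace Groth.Agent.Lib.Helper6.LerayBase

open RDAcyc DeltaCompare

variable {A : Type u} {B : Type u'} {C : Type u''} [Category.{v} A] [Category.{v'} B]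
  [Category.{v''} C] [Abelian A] [Abelian B] [Abelian C]
  [HasDerivedCategory.{w} B] [HasDerivedCategory.{w'} C] [EnoughInjectives A] [EnoughInjectives B]
  (F : A ⥤ B) [F.Additive] (G : B ⥤ C) [G.Additive] [PreservesFiniteLimits G]

omit [Abelian A] [EnoughInjectives A] in
lemma acyc_of_iso {X Y : B} (e : X ≅ Y) (h : Acyc G X) : Acyc G Y := by
  rw [acyc_iff_isZero_rightDerived] at h ⊢
  intro k
  exact (h k).of_iso ((G.rightDerived (k + 1)).mapIso e.symm)

/-- the class of objects all of whose `R^q F` are `G`-acyclic -/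
def P (X : A) : Prop := ∀ q, Acyc G ((F.rightDerived q).obj X)

variable (hFI : ∀ I : A, Injective I → Acyc G ((F.rightDerived 0).obj I))
  (E : ShortComplex A) (hE : E.ShortExact) [Injective E.X₂] (h₁ : P F G E.X₁)

include hE in
lemma isIso_δ_succ (n : ℕ) {δ : (F.rightDerived (n + 1)).obj E.X₃ ⟶ (F.rightDerived (n + 2)).obj E.X₁}
    {w₁ : (F.rightDerived (n + 1)).map E.g ≫ δ = 0}
    {w₂ : δ ≫ (F.rightDerived (n + 2)).map E.f = 0}
    (e₁ : (ShortComplex.mk _ _ w₁).Exact) (e₂ : (ShortComplex.mk _ _ w₂).Exact) : IsIso δ := by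
  have hz₁ : IsZero ((F.rightDerived (n + 1)).obj E.X₂) :=
    Functor.isZero_rightDerived_obj_injective_succ _ n _
  have hz₂ : IsZero ((F.rightDerived (n + 2)).obj E.X₂) :=
    Functor.isZero_rightDerived_obj_injective_succ _ (n + 1) _
  have hmono : Mono δ := e₁.mono_g (hz₁.eq_of_src _ _)
  have hepi : Epi δ := e₂.epi_f (hz₂.eq_of_tgt _ _)
  exact isIso_of_mono_of_epi δ

include hFI hE h₁ in
lemma P_X₃ : P F G E.X₃ := by
  intro q
  cases q with
  | zero =>
    obtain ⟨δ, w₀, w₁, w₂, e₀, e₁, e₂⟩ := RDShift.rightDerived_les F hE 0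
    have hz : IsZero ((F.rightDerived (0 + 1)).obj E.X₂) :=
      Functor.isZero_rightDerived_obj_injective_succ _ 0 _
    have : Epi δ := e₂.epi_f (hz.eq_of_tgt _ _)
    have : Mono ((F.rightDerived 0).map E.f) := RDShift.mono_rightDerived_zero_map F hE
    exact (FourTerm.four_term G _ _ δ w₀ w₁ e₀ e₁ (h₁ 0) (hFI E.X₂ inferInstance) (h₁ 1)).1
  | succ n =>
    obtain ⟨δ, w₀, w₁, w₂, e₀, e₁, e₂⟩ := RDShift.rightDerived_les F hE (n + 1)
    have := isIso_δ_succ F E hE n e₁ e₂
    exact acyc_of_iso G (asIso δ).symm (h₁ (n + 2))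

include hFI hE h₁ in
lemma hasShift_T : HasShift (fun n => F.rightDerived n ⋙ G) E.f E.g := by
  refine ⟨fun n => G.map_isZero (Functor.isZero_rightDerived_obj_injective_succ _ n _),
    fun n => ?_⟩
  obtain ⟨δ, w₀, w₁, w₂, e₀, e₁, e₂⟩ := RDShift.rightDerived_les F hE n
  have hz : IsZero ((F.rightDerived (n + 1)).obj E.X₂) :=
    Functor.isZero_rightDerived_obj_injective_succ _ n _
  have hw₂ : G.map δ ≫ G.map ((F.rightDerived (n + 1)).map E.f) = 0 := by
    rw [← G.map_comp, w₂, G.map_zero]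
  cases n with
  | zero =>
    have : Epi δ := e₂.epi_f (hz.eq_of_tgt _ _)
    have : Mono ((F.rightDerived 0).map E.f) := RDShift.mono_rightDerived_zero_map F hE
    obtain ⟨-, w, ex, hepi⟩ :=
      FourTerm.four_term G _ _ δ w₀ w₁ e₀ e₁ (h₁ 0) (hFI E.X₂ inferInstance) (h₁ 1)
    refine ⟨G.map δ, w, hw₂, ex, ?_⟩
    rw [ShortComplex.exact_iff_epi _ ((G.map_isZero hz).eq_of_tgt _ _)]
    exact hepi
  | succ n =>
    have := isIso_δ_succ F E hE n e₁ e₂
    have hw₁ : G.map ((F.rightDerived (n + 1)).map E.g) ≫ G.map δ = 0 := by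
      rw [← G.map_comp, w₁, G.map_zero]
    have hz' : IsZero ((F.rightDerived (n + 1)).obj E.X₂) :=
      Functor.isZero_rightDerived_obj_injective_succ _ n _
    refine ⟨G.map δ, hw₁, hw₂, ?_, ?_⟩
    · rw [ShortComplex.exact_iff_mono _ ((G.map_isZero hz').eq_of_src _ _)]
      dsimp
      infer_instance
    · rw [ShortComplex.exact_iff_epi _ ((G.map_isZero hz).eq_of_tgt _ _)]
      dsimp
      infer_instance

end Groth.Agent.Lib.Helper6.LerayBase
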