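import Groth.Agent.Lib.Helper6.CohTopGamma
import Groth.Agent.Lib.Helper6.LerayBase

/-!
# Degenerate Leray: `H^q(X, F) ≅ Γ(Y, R^q f_* F)` when all `R^q f_* F` are acyclic (helper6)
-/

universe u

open CategoryTheory Limits Opposite TopologicalSpace Abelian

namespace Groth.Agent.Lib.Helper6.CohTopLerayBase

open CohTop DeltaCompare CohTopLeray CohTopGamma RDAcyc

attribute [local instance] HasDerivedCategory.standard

variable {X Y : TopCat.{u}} (f : X ⟶ Y)

lemma acyc_Γ_of_subsingleton (M : Ab Y) (h : ∀ p : ℕ, Subsingleton (CohTop.H M (p + 1))) :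
    Acyc (Γ Y) M := by
  rw [acyc_iff_isZero_rightDerived]
  intro k
  obtain ⟨e⟩ := nonempty_H_iso_rightDerived M (k + 1)
  have := h k
  exact (AddCommGrpCat.isZero_of_subsingleton (AddCommGrpCat.of (CohTop.H M (k + 1)))).of_iso
    e.symm

/-- `Γ(X, -) ≅ Γ(Y, f_* -)` -/
noncomputable def γ : Γ X ≅ CohTop.push f ⋙ Γ Y :=
  NatIso.ofComponents (fun G => Iso.refl _) (fun {G G'} g => by
    dsimp
    rw [Category.comp_id, Category.id_comp])

/-- `H^0(X, -) ≅ Γ(Y, R^0 f_* -)` -/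
noncomputable def θ : extFunctorObj (ZZ X) 0 ≅ CohTop.Rpush f 0 ⋙ Γ Y :=
  θ₀ ≪≫ γ f ≪≫
    Functor.isoWhiskerRight (Functor.rightDerivedZeroIsoSelf (CohTop.push f)).symm (Γ Y)

lemma hFI (I : Ab X) (hI : Injective I) : Acyc (Γ Y) ((CohTop.Rpush f 0).obj I) := by
  have : Injective ((CohTop.push f).obj I) := CohTopPush.push_injective f I
  exact LerayBase.acyc_of_iso (Γ Y)
    ((Functor.rightDerivedZeroIsoSelf (CohTop.push f)).app I).symm
    (Leray.acyc_of_injective (Γ Y) _)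

/-- `H^q(X, F) ≃+ Γ(Y, R^q f_* F)` when `H^{p+1}(Y, R^q f_* F) = 0` for all `p, q`. -/
theorem nonempty_H_addEquiv_sections (F : Ab X)
    (h : ∀ p q : ℕ, Subsingleton (CohTop.H ((CohTop.Rpush f q).obj F) (p + 1))) (q : ℕ) :
    Nonempty (CohTop.H F q ≃+ ((CohTop.Rpush f q).obj F).obj.obj (op ⊤)) := by
  obtain ⟨e⟩ := delta_compare (fun n => extFunctorObj (ZZ X) n)
    (fun n => CohTop.Rpush f n ⋙ Γ Y) (θ f) (LerayBase.P (CohTop.push f) (Γ Y))
    (fun G hG => by
      have hE := ExtAcyc.sesUnder_shortExact G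
      have hI : Injective (ExtAcyc.sesUnder G).X₂ := inferInstance
      exact ⟨_, _, (ExtAcyc.sesUnder G).f, (ExtAcyc.sesUnder G).g,
        LerayBase.P_X₃ (CohTop.push f) (Γ Y) (hFI f) _ hE hG,
        ExtShift.hasShift_ext (ZZ X) _ hE (fun n x => Ext.eq_zero_of_injective x),
        LerayBase.hasShift_T (CohTop.push f) (Γ Y) (hFI f) _ hE hG⟩) q F
    (fun q => acyc_Γ_of_subsingleton _ (fun p => h p q))
  exact ⟨e.addCommGroupIsoToAddEquiv⟩

end Groth.Agent.Lib.Helper6.CohTopLerayBase
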