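import Mathlib
import Groth.Prelude.Def_Coh
import Groth.Agent.Lib.Helper6.GrothSSCollapse
import Groth.Agent.Lib.Helper6.CohTopPush
import Groth.Agent.Lib.Helper8.SheafModGroth
import Groth.Agent.S11319
import Groth.Agent.S0030
import Groth.Agent.S0028

/-!
# `R^p (g ∘ f)_* F ≅ g_* R^p f_* F` for `g` affine and `F` quasi-coherent (helper6)
-/

universe u

open CategoryTheory Limits AlgebraicGeometry

namespace Groth.Agent.Lib.Helper6.RpushCompAffine

theorem main {X Y Z : Scheme.{u}} (f : X ⟶ Y) (g : Y ⟶ Z)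
    [QuasiSeparated f] [QuasiCompact f] [IsAffineHom g] (F : X.Modules) [Coh.IsQCoh F] (p : ℕ) :
    Nonempty ((Coh.RpushAb (f ≫ g) p).obj (Coh.toAb F) ≅
      (Coh.pushAb g).obj ((Coh.RpushAb f p).obj (Coh.toAb F))) := by
  have : EnoughInjectives X.Modules :=
    Groth.Agent.Lib.Helper8.SheafModGroth.enoughInjectives _ X.ringCatSheaf
  have : PreservesFiniteLimits (Coh.pushAb g) :=
    (TopCat.Sheaf.pullbackPushforwardAdjunction AddCommGrpCat.{u}
      g.base).rightAdjoint_preservesLimits.{0, 0}.preservesFiniteLimits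
  obtain ⟨e⟩ := GrothSSCollapse.nonempty_iso (Coh.pushAb f) (Coh.pushAb g)
    (fun Q hQ q hq => by
      have := hQ
      have : Injective ((Coh.pushAb f).obj Q) := CohTopPush.push_injective f.base Q
      obtain ⟨k, rfl⟩ : ∃ k, q = k + 1 := ⟨q - 1, by omega⟩
      exact Functor.isZero_rightDerived_obj_injective_succ _ k _)
    (Coh.toAb F)
    (fun a b ha => by
      obtain ⟨e⟩ := Groth.Agent.S11319.result f F b
      have : Coh.IsQCoh ((Coh.Rpush f b).obj F) := Groth.Agent.S0030.result f F b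
      have hz := Groth.Agent.S0028.result g ((Coh.Rpush f b).obj F) a ha
      exact IsZero.of_iso hz ((Coh.RpushAb g a).mapIso e.symm))
    p
  let i : Coh.pushAb f ⋙ Coh.pushAb g ≅ Coh.pushAb (f ≫ g) :=
    NatIso.ofComponents (fun _ => Iso.refl _) (by intros; simp; rfl)
  exact ⟨((GrothSS.rightDerivedIsoOfIso i p).app (Coh.toAb F)).symm ≪≫ e⟩

end Groth.Agent.Lib.Helper6.RpushCompAffine
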