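import Groth.Agent.Lib.Helper6.K0Filt
import Groth.Agent.Lib.Helper24.ConnDim.Subdim
import Mathlib
set_option backward.isDefEq.respectTransparency.types false
set_option autoImplicit false

/-!
# Lengths of stalks of coherent modules: additivity, the structure sheaf of the closure of a point
-/

universe u
open CategoryTheory CategoryTheory.Limits AlgebraicGeometry Opposite TopologicalSpace ZeroObject

namespace Groth.Agent.Lib.Helper6.K0Len
open Groth.Agent.Lib.Helper6.DevCore Groth.Agent.Lib.Helper6.DevStep Groth.Agent.Lib.Helper6.DevRed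
  Groth.Agent.Lib.Helper6.K0Filt Groth.Agent.Lib.Helper17.StalkExact

variable {X : Scheme.{u}}

/-- the length of the stalk at `x` -/
noncomputable abbrev len (M : X.Modules) (x : X) : ℕ∞ :=
  Module.length (X.presheaf.stalk x) (M.presheaf.stalk x)

theorem len_add (S : ShortComplex X.Modules) (hS : S.ShortExact) (x : X) :
    len S.X₂ x = len S.X₁ x + len S.X₃ x := by
  haveI := hS.mono_f
  haveI := hS.epi_g
  exact Module.length_eq_add_of_exact (stalkLinearMap S.f x) (stalkLinearMap S.g x)
    (stalkHom_injective_of_mono S.f x) (stalkHom_surjective_of_epi S.g x)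
    (stalkHom_exact_of_exact S hS.exact x)

theorem len_eq_zero_of_notMem_support (M : X.Modules) (x : X) (hx : x ∉ CohB1.support M) : len M x = 0 := by
  have : Subsingleton (M.presheaf.stalk x) := by
    by_contra h
    exact hx h
  exact Module.length_eq_zero

/-- a cyclic module over a local ring generated by a nonzero element killed by the maximal ideal has length one -/
theorem length_eq_one_of_gen {R N : Type*} [CommRing R] [IsLocalRing R] [AddCommGroup N] [Module R N]
    (g : N) (hg0 : g ≠ 0) (hgm : ∀ a ∈ IsLocalRing.maximalIdeal R, a • g = 0)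
    (hgen : ∀ g' : N, ∃ c : R, g' = c • g) : Module.length R N = 1 := by
  rw [Module.length_eq_one_iff]
  let f : R →ₗ[R] N := LinearMap.toSpanSingleton R N g
  have hf : Function.Surjective f := by
    intro g'
    obtain ⟨c, rfl⟩ := hgen g'
    exact ⟨c, rfl⟩
  have hker : LinearMap.ker f = IsLocalRing.maximalIdeal R := by
    ext a
    rw [LinearMap.mem_ker]
    constructor
    · intro ha
      by_contra hna
      have hu : IsUnit a := by
        by_contra hnu
        exact hna ((IsLocalRing.mem_maximalIdeal a).2 hnu)
      obtain ⟨u, rfl⟩ := hu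
      apply hg0
      have : f (u : R) = (u : R) • g := rfl
      rw [this] at ha
      have := congrArg (fun z => (↑u⁻¹ : R) • z) ha
      simpa [smul_smul] using this
    · intro ha
      exact hgm a ha
  have e : (R ⧸ LinearMap.ker f) ≃ₗ[R] N := f.quotKerEquivOfSurjective hf
  have hs : IsSimpleModule R (R ⧸ LinearMap.ker f) := by
    rw [isSimpleModule_iff_isCoatom, hker]
    exact Ideal.isMaximal_def.1 (IsLocalRing.maximalIdeal.isMaximal R)
  exact IsSimpleModule.congr e.symm

theorem len_OZ_self (y : X) : len (OZ y) y = 1 := by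
  obtain ⟨g, hg0, hgm, hgg⟩ := exists_gen_quotMod ⟨closure {y}, isClosed_closure⟩ y rfl
  exact length_eq_one_of_gen g hg0 hgm hgg

/-- a point of the closure of `y` whose closure has the (finite) dimension bounding that of the closure of `y`
is `y` -/
theorem eq_of_dim_closure_eq {T : Type*} [TopologicalSpace T] [T0Space T] (n : ℕ) (x y : T)
    (hxy : x ∈ closure ({y} : Set T))
    (hx : topologicalKrullDim ↥(closure ({x} : Set T)) = n)
    (hy : topologicalKrullDim ↥(closure ({y} : Set T)) ≤ n) : x = y := by
  have hsub : closure ({x} : Set T) ⊆ closure {y} :=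
    closure_minimal (Set.singleton_subset_iff.2 hxy) isClosed_closure
  by_contra hne
  have hne' : closure ({x} : Set T) ≠ closure {y} := by
    intro h
    apply hne
    have : Inseparable x y := by
      rw [inseparable_iff_closure_eq]
      exact h
    exact this.eq
  have h1 := Groth.Agent.Lib.Helper24.ConnDimSub.dim_add_one_le
    (isIrreducible_singleton.closure : IsIrreducible (closure ({y} : Set T))) isClosed_closure hsub hne'
  rw [hx] at h1
  have h2 : ((n : ℕ) : WithBot ℕ∞) + 1 ≤ n := h1.trans hy
  have h3 : ((n + 1 : ℕ) : WithBot ℕ∞) ≤ (n : ℕ) := by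
    have : ((n + 1 : ℕ) : WithBot ℕ∞) = ((n : ℕ) : WithBot ℕ∞) + 1 := by push_cast; rfl
    rw [this]; exact h2
  have h4 : n + 1 ≤ n := by exact_mod_cast h3
  omega

section cycle
open Classical

variable (D : X → Prop)

/-- the class of a module in `K'_0` -/
noncomputable abbrev cls (M : X.Modules) : KZero.K0sub (fun M : X.Modules => Coh.IsCoh M) :=
  KZero.clSub (fun M : X.Modules => Coh.IsCoh M) M

/-- the term at `x` of the cycle class of `M` along the points satisfying `D` -/
noncomputable def term (M : X.Modules) (x : X) : KZero.K0sub (fun M : X.Modules => Coh.IsCoh M) :=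
  if D x then (len M x).toNat • cls (OZ x) else 0

/-- finiteness of the cycle of `M` -/
def Fin (M : X.Modules) : Prop :=
  {x : X | D x ∧ x ∈ CohB1.support M}.Finite ∧ ∀ x : X, D x → len M x ≠ ⊤

theorem support_term_subset (M : X.Modules) :
    Function.support (term D M) ⊆ {x : X | D x ∧ x ∈ CohB1.support M} := by
  intro x hx
  rw [Function.mem_support] at hx
  by_cases hD : D x
  · refine ⟨hD, ?_⟩
    by_contra hxs
    apply hx
    rw [term, if_pos hD, len_eq_zero_of_notMem_support M x hxs]
    simp
  · exfalso
    apply hx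
    rw [term, if_neg hD]

theorem fin_iff (S : ShortComplex X.Modules) (hS : S.ShortExact) :
    Fin D S.X₂ ↔ Fin D S.X₁ ∧ Fin D S.X₃ := by
  have hsupp := Groth.Agent.S0796.support_eq_union S hS
  have hset : {x : X | D x ∧ x ∈ CohB1.support S.X₂} =
      {x : X | D x ∧ x ∈ CohB1.support S.X₁} ∪ {x : X | D x ∧ x ∈ CohB1.support S.X₃} := by
    ext x
    simp only [Set.mem_setOf_eq, Set.mem_union, hsupp]
    tauto
  constructor
  · rintro ⟨hf, hl⟩
    rw [hset, Set.finite_union] at hf
    refine ⟨⟨hf.1, fun x hx h => hl x hx ?_⟩, ⟨hf.2, fun x hx h => hl x hx ?_⟩⟩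
    · rw [len_add S hS x, h, top_add]
    · rw [len_add S hS x, h, add_top]
  · rintro ⟨⟨hf1, hl1⟩, ⟨hf3, hl3⟩⟩
    refine ⟨by rw [hset]; exact hf1.union hf3, fun x hx => ?_⟩
    rw [len_add S hS x]
    exact WithTop.add_ne_top.2 ⟨hl1 x hx, hl3 x hx⟩

theorem finsum_term_add (S : ShortComplex X.Modules) (hS : S.ShortExact) (h1 : Fin D S.X₁) (h3 : Fin D S.X₃) :
    finsum (term D S.X₂) = finsum (term D S.X₁) + finsum (term D S.X₃) := by
  rw [← finsum_add_distrib (h1.1.subset (support_term_subset D S.X₁)) (h3.1.subset (support_term_subset D S.X₃))]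
  congr 1
  ext x
  by_cases hD : D x
  · simp only [term, if_pos hD]
    rw [len_add S hS x, ENat.toNat_add (h1.2 x hD) (h3.2 x hD), add_smul]
  · simp only [term, if_neg hD, add_zero]

theorem term_of_isZero (M : X.Modules) (hM : IsZero M) (x : X) : term D M x = 0 := by
  have hs : CohB1.support M = ∅ := Groth.Agent.Lib.Helper16.K0Supp.support_of_isZero hM
  have hl : len M x = 0 := len_eq_zero_of_notMem_support M x (by rw [hs]; exact Set.notMem_empty x)
  simp only [term, hl]
  split_ifs <;> simp

/-- **the cycle formula**: if the points satisfying `D` are maximal among the points of the closed set `Y'`, and `H`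
contains the classes of the structure sheaves of the closures of the other points of `Y'`, then for every coherent
module `M` supported in `Y'` the stalks at the `D`-points have finite length, almost all zero, and
`[M] ≡ Σ_{D x} length(M_x) [O_{Z(x)}]` modulo `H`. -/
theorem cycle_formula [IsNoetherian X] (Y' : Set X) (hY' : IsClosed Y')
    (hD : ∀ x y : X, D x → closure {y} ⊆ Y' → x ∈ closure ({y} : Set X) → x = y)
    (H : AddSubgroup (KZero.K0sub (fun M : X.Modules => Coh.IsCoh M)))
    (hH : ∀ y : X, closure {y} ⊆ Y' → ¬ D y → cls (OZ y) ∈ H)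
    (M : X.Modules) (hM : Coh.IsCoh M) (hMs : CohB1.support M ⊆ Y') :
    Fin D M ∧ cls M - finsum (term D M) ∈ H := by
  let Q : X.Modules → Prop := fun M => Fin D M ∧ cls M - finsum (term D M) ∈ H
  refine twoOfThree_devissage Q Y' ?_ ?_ hY' ?_ M hM hMs
  · -- zero modules
    intro M hM
    have hs : CohB1.support M = ∅ := Groth.Agent.Lib.Helper16.K0Supp.support_of_isZero hM
    have hl : ∀ x : X, len M x = 0 := fun x =>
      len_eq_zero_of_notMem_support M x (by rw [hs]; exact Set.notMem_empty x)
    refine ⟨⟨?_, fun x _ => by rw [hl x]; exact ENat.zero_ne_top⟩, ?_⟩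
    · have : {x : X | D x ∧ x ∈ CohB1.support M} = ∅ := by
        ext x
        simp [hs]
      rw [this]; exact Set.finite_empty
    · have h1 : cls M = 0 := Groth.Agent.Lib.Helper16.K0Db.clSub_isZero _ M hM
      have h2 : finsum (term D M) = 0 := finsum_eq_zero_of_forall_eq_zero (term_of_isZero D M hM)
      rw [h1, h2, sub_zero]
      exact H.zero_mem
  · -- two out of three
    intro S hS h1 h2 h3 _
    have hcl : cls S.X₂ = cls S.X₁ + cls S.X₃ := Groth.Agent.Lib.Helper16.K0Db.clSub_shortExact _ S hS h1 h2 h3
    have hfin := fin_iff D S hS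
    have hrel : ∀ (f1 : Fin D S.X₁) (f3 : Fin D S.X₃),
        cls S.X₂ - finsum (term D S.X₂) =
          (cls S.X₁ - finsum (term D S.X₁)) + (cls S.X₃ - finsum (term D S.X₃)) := by
      intro f1 f3
      rw [finsum_term_add D S hS f1 f3, hcl]
      abel
    refine ⟨?_, ?_, ?_⟩
    · rintro ⟨f1, k1⟩ ⟨f2, k2⟩
      have f3 := (hfin.1 f2).2
      refine ⟨f3, ?_⟩
      have e : cls S.X₃ - finsum (term D S.X₃) =
          (cls S.X₂ - finsum (term D S.X₂)) - (cls S.X₁ - finsum (term D S.X₁)) := by
        rw [hrel f1 f3]; abel
      rw [e]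
      exact H.sub_mem k2 k1
    · rintro ⟨f1, k1⟩ ⟨f3, k3⟩
      refine ⟨hfin.2 ⟨f1, f3⟩, ?_⟩
      rw [hrel f1 f3]
      exact H.add_mem k1 k3
    · rintro ⟨f2, k2⟩ ⟨f3, k3⟩
      have f1 := (hfin.1 f2).1
      refine ⟨f1, ?_⟩
      have e : cls S.X₁ - finsum (term D S.X₁) =
          (cls S.X₂ - finsum (term D S.X₂)) - (cls S.X₃ - finsum (term D S.X₃)) := by
        rw [hrel f1 f3]; abel
      rw [e]
      exact H.sub_mem k2 k3
  · -- the structure sheaves of closures of points
    intro y hy _
    have hsy : CohB1.support (OZ y) = closure {y} := support_OZ y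
    have huniq : ∀ x : X, D x → x ∈ CohB1.support (OZ y) → x = y := by
      intro x hx hxs
      rw [hsy] at hxs
      exact hD x y hx hy hxs
    have hfin : Fin D (OZ y) := by
      refine ⟨(Set.finite_singleton y).subset ?_, ?_⟩
      · rintro x ⟨hx, hxs⟩
        exact huniq x hx hxs
      · intro x hx
        by_cases hxs : x ∈ CohB1.support (OZ y)
        · rw [huniq x hx hxs, len_OZ_self]
          exact ENat.one_ne_top
        · rw [len_eq_zero_of_notMem_support _ x hxs]
          exact ENat.zero_ne_top
    refine ⟨hfin, ?_⟩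
    by_cases hDy : D y
    · have hsum : finsum (term D (OZ y)) = cls (OZ y) := by
        rw [finsum_eq_single (term D (OZ y)) y]
        · rw [term, if_pos hDy, len_OZ_self]
          simp
        · intro x hxy
          by_cases hDx : D x
          · have hxs : x ∉ CohB1.support (OZ y) := fun h => hxy (huniq x hDx h)
            rw [term, if_pos hDx, len_eq_zero_of_notMem_support _ x hxs]
            simp
          · rw [term, if_neg hDx]
      rw [hsum, sub_self]
      exact H.zero_mem
    · have hsum : finsum (term D (OZ y)) = 0 := by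
        apply finsum_eq_zero_of_forall_eq_zero
        intro x
        by_cases hDx : D x
        · have hxs : x ∉ CohB1.support (OZ y) := by
            intro h
            apply hDy
            rw [← huniq x hDx h]
            exact hDx
          rw [term, if_pos hDx, len_eq_zero_of_notMem_support _ x hxs]
          simp
        · rw [term, if_neg hDx]
      rw [hsum, sub_zero]
      exact hH y hy hDy

end cycle

section dim
open Classical

/-- the subgroup of `K'_0` generated by the classes of coherent modules with support of dimension `< n` -/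
noncomputable def Hlt (X : Scheme.{u}) (n : ℕ) : AddSubgroup (KZero.K0sub (fun M : X.Modules => Coh.IsCoh M)) :=
  AddSubgroup.closure {c : KZero.K0sub (fun M : X.Modules => Coh.IsCoh M) |
    ∃ G : X.Modules, Coh.IsCoh G ∧ topologicalKrullDim ↥(CohB1.support G) < n ∧
      c = KZero.clSub (fun M : X.Modules => Coh.IsCoh M) G}

/-- the points whose closure has dimension `n` -/
def Dn (n : ℕ) (x : X) : Prop := topologicalKrullDim ↥(closure ({x} : Set ↥X)) = n

/-- **the cycle formula in dimension `n`**: a coherent module `M` supported in a closed set of dimension `≤ n` has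
finite length at the points with closure of dimension `n`, almost all zero, and
`[M] ≡ Σ length(M_x) [O_{Z(x)}]` modulo classes of modules with support of dimension `< n`. -/
theorem cycle_formula_dim [IsNoetherian X] (n : ℕ) (Y' : Set X) (hY' : IsClosed Y')
    (hdim : topologicalKrullDim ↥Y' ≤ n) (M : X.Modules) (hM : Coh.IsCoh M) (hMs : CohB1.support M ⊆ Y') :
    Fin (Dn n) M ∧ cls M - finsum (term (Dn n) M) ∈ Hlt X n := by
  have hdimy : ∀ y : X, closure {y} ⊆ Y' → topologicalKrullDim ↥(closure ({y} : Set X)) ≤ n := by
    intro y hy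
    have hind : Topology.IsInducing (Set.inclusion hy) := (Topology.IsEmbedding.inclusion hy).isInducing
    exact hind.topologicalKrullDim_le.trans hdim
  refine cycle_formula (Dn n) Y' hY' ?_ (Hlt X n) ?_ M hM hMs
  · intro x y hx hy hxy
    exact eq_of_dim_closure_eq n x y hxy hx (hdimy y hy)
  · intro y hy hDy
    apply AddSubgroup.subset_closure
    refine ⟨OZ y, isCoh_OZ y, ?_, rfl⟩
    rw [support_OZ]
    exact lt_of_le_of_ne (hdimy y hy) hDy

end dim

end Groth.Agent.Lib.Helper6.K0Len
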