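import Groth.Agent.Lib.Helper1.ModFlat
import Groth.Prelude.Def_DCoh4
import Groth.Prelude.Def_ModSite2

/-!
# `DCoh.sheafHom` (right adjoint of `A ⊗ -`) agrees with `ModSite.sheafHom` (right adjoint of `- ⊗ A`)
-/

set_option autoImplicit false
universe u
open CategoryTheory CategoryTheory.Limits AlgebraicGeometry

namespace Groth.Agent.Lib.Helper6.DCohSheafHom

open Groth.Agent.Lib.Helper1.ModFlat

variable {X : Scheme.{u}}

/-- `A ⊗ -` of `DCoh` is `- ⊗ A` of `ModSite`, up to the symmetry -/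
noncomputable def tensIso (A : X.Modules) :
    (DCoh.tensorBi (X := X)).obj A ≅ tens X.sheaf A :=
  (Iso.refl _ : (DCoh.tensorBi (X := X)).obj A ≅ tensL X.sheaf A) ≪≫ tensLIso X.sheaf A

/-- the two internal homs agree -/
noncomputable def sheafHomIso (A : X.Modules) [DCoh.HasSheafHom A]
    [ModSite.HasSheafHom (O := X.sheaf) A] :
    DCoh.sheafHom A ≅ ModSite.sheafHom (O := X.sheaf) A :=
  ((DCoh.sheafHomAdj A).ofNatIsoLeft (tensIso A)).rightAdjointUniq
    (ModSite.sheafHomAdj (O := X.sheaf) A)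

end Groth.Agent.Lib.Helper6.DCohSheafHom
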