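import Mathlib
import Groth.Prelude.Def_ExtSupp
import Groth.Agent.Lib.Helper6.QuotSect
import Groth.Agent.Lib.Helper1.ShriekProj
import Groth.Agent.Lib.Helper1.RestrExact

/-!
# `quotOn` is exact and `sectOn` preserves injectives (helper6)
-/

universe u

open CategoryTheory Limits Opposite

namespace Groth.Agent.Lib.Helper6.QuotExact

open QuotSect

variable {C : Type u} [SmallCategory C] {J : GrothendieckTopology C} (O : Sheaf J CommRingCat.{u})
  (U : C)

/-- every section is, locally, either over `U` or zero -/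
def LC (T : ModSite.Mod O) : Prop :=
  ∀ (V : C) (t : T.val.obj (op V)), ∃ S ∈ J V, ∀ ⦃W : C⦄ (g : W ⟶ V), S g →
    (Nonempty (W ⟶ U) ∨ T.val.map g.op t = 0)

/-- separatedness of a sheaf of modules -/
lemma sep (N : ModSite.Mod O) {V : C} (S : Sieve V) (hS : S ∈ J V) (x : N.val.obj (op V))
    (h : ∀ ⦃W : C⦄ (g : W ⟶ V), S g → N.val.map g.op x = 0) : x = 0 := by
  refine (Presheaf.IsSheaf.isSeparated N.isSheaf) V S hS x 0 (fun W g hg => ?_)
  rw [map_zero]
  exact h g hg

variable {O U}

/-- (LC) implies torsion -/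
lemma isTors_of_LC {T : ModSite.Mod O} (hT : LC O U T) : IsTors O U T := by
  intro N hN f
  have hN' := (ExtSupp.isNullOn_iff O U N).1 hN
  apply SheafOfModules.hom_ext
  apply PresheafOfModules.hom_ext
  intro V
  ext t
  obtain ⟨S, hS, h⟩ := hT V.unop t
  refine sep O N S hS _ (fun W g hg => ?_)
  rcases h g hg with ⟨⟨k⟩⟩ | h0
  · exact hN' k _
  · have := PresheafOfModules.naturality_apply f.val g.op t
    erw [← this, h0, map_zero]
    rfl

/-- monomorphisms of sheaves of modules are injective on sections -/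
lemma injective_of_mono {P T : ModSite.Mod O} (i : P ⟶ T) [Mono i] (V : C) :
    Function.Injective (i.val.app (op V)) := by
  have : Mono ((SheafOfModules.evaluation (ModSite.ringSh O) (op V)).map i) := inferInstance
  exact (ModuleCat.mono_iff_injective _).1 this

/-- (LC) passes to subobjects -/
lemma LC_of_mono {P T : ModSite.Mod O} (i : P ⟶ T) [Mono i] (hT : LC O U T) : LC O U P := by
  intro V p
  obtain ⟨S, hS, h⟩ := hT V (i.val.app (op V) p)
  refine ⟨S, hS, fun W g hg => ?_⟩
  rcases h g hg with hk | h0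
  · exact Or.inl hk
  · refine Or.inr (injective_of_mono i W ?_)
    have := PresheafOfModules.naturality_apply i.val g.op p
    erw [this, h0, map_zero]
    rfl

/-- epimorphisms of sheaves of modules are locally surjective -/
lemma imageSieve_mem_of_epi {E T : ModSite.Mod O} (e : E ⟶ T) [Epi e] (V : C)
    (t : T.val.obj (op V)) :
    ∃ S ∈ J V, ∀ ⦃W : C⦄ (g : W ⟶ V), S g → ∃ s : E.val.obj (op W),
      e.val.app (op W) s = T.val.map g.op t := by
  have hepi : Epi ((SheafOfModules.toSheaf (ModSite.ringSh O)).map e) := inferInstance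
  have hls : Sheaf.IsLocallySurjective ((SheafOfModules.toSheaf (ModSite.ringSh O)).map e) :=
    (Sheaf.isLocallySurjective_iff_epi' _ _).2 hepi
  refine ⟨_, Presheaf.imageSieve_mem J
    ((SheafOfModules.toSheaf (ModSite.ringSh O)).map e).hom (U := op V) t, ?_⟩
  intro W g hg
  obtain ⟨s, hs⟩ := hg
  exact ⟨s, hs⟩

/-- (LC) passes to quotients -/
lemma LC_of_epi {E T : ModSite.Mod O} (e : E ⟶ T) [Epi e] (hE : LC O U E) : LC O U T := by
  intro V t
  obtain ⟨S₀, hS₀, h₀⟩ := imageSieve_mem_of_epi e V t
  choose s hs using h₀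
  choose R hR hR' using fun (W : C) (g : W ⟶ V) (hg : S₀ g) => hE W (s g hg)
  refine ⟨Sieve.bind S₀ (fun W g hg => R W g hg), J.bind_covering hS₀ (fun W g hg => hR W g hg),
    ?_⟩
  rintro W' h ⟨W, k, g, hg, hk, rfl⟩
  rcases hR' W g hg k hk with hU | h0
  · exact Or.inl hU
  · refine Or.inr ?_
    have h1 : T.val.map (k ≫ g).op t = T.val.map k.op (T.val.map g.op t) := by
      rw [op_comp, PresheafOfModules.map_comp]
      rfl
    have h2 := PresheafOfModules.naturality_apply e.val k.op (s g hg)
    rw [h1, ← hs g hg]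
    erw [← h2, h0, map_zero]
    rfl

open Groth.Agent.Lib.Helper1 in
/-- (LC) for the sheafification of a presheaf of modules vanishing off `U` -/
lemma LC_shf (P : PresheafOfModules.{u} (ModSite.ringSh O).obj)
    (hP : ∀ W : C, IsEmpty (W ⟶ U) → Subsingleton (P.obj (op W))) :
    LC O U ((ShriekSheaf.shf (ModSite.ringSh O)).obj P) := by
  intro V t
  have hs : Presheaf.IsLocallySurjective J ((PresheafOfModules.toPresheaf _).map
      ((ShriekSheaf.adjShf (ModSite.ringSh O)).unit.app P)) := by
    show Presheaf.IsLocallySurjective J (toSheafify J P.presheaf)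
    infer_instance
  refine ⟨_, Presheaf.imageSieve_mem J ((PresheafOfModules.toPresheaf _).map
      ((ShriekSheaf.adjShf (ModSite.ringSh O)).unit.app P)) (U := op V) t, ?_⟩
  intro W g hg
  by_cases hW : Nonempty (W ⟶ U)
  · exact Or.inl hW
  · refine Or.inr ?_
    obtain ⟨p, hp⟩ := hg
    have hsub : Subsingleton (P.obj (op W)) := hP W (not_nonempty_iff.1 hW)
    have hp0 : p = 0 := hsub.elim (α := P.obj (op W)) p 0
    rw [hp0, map_zero] at hp
    exact hp.symm

open Groth.Agent.Lib.Helper1 in
lemma subsingleton_shriek (P : PresheafOfModules.{u} (Shriek.RX (ModSite.ringSh O).obj U))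
    (W : C) (hW : IsEmpty (W ⟶ U)) :
    Subsingleton (((Shriek.shriek (R := (ModSite.ringSh O).obj) (X := U)).obj P).obj (op W)) := by
  change Subsingleton (Shriek.Sec P W)
  infer_instance

open Groth.Agent.Lib.Helper1 in
/-- (LC) for the explicit extension by zero -/
lemma LC_ez' (X : ModSite.Mod (O.over U)) : LC O U ((ShriekProj.ez' O U).obj X) :=
  LC_shf _ (fun W hW => subsingleton_shriek _ W hW)

open Groth.Agent.Lib.Helper1 in
/-- (LC) for the extension by zero -/
lemma LC_extZero (X : ModSite.Mod (O.over U)) : LC O U ((ModSite.extZero O U).obj X) :=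
  LC_of_epi ((ShriekProj.extZeroIso O U).app X).inv (LC_ez' X)

lemma IsTors.of_epi {E T : ModSite.Mod O} (hE : IsTors O U E) (e : E ⟶ T) [Epi e] :
    IsTors O U T := by
  intro N hN f
  rw [← cancel_epi e, comp_zero]
  exact hE N hN _

section Push

variable [ModSite.HasPushOver O U]

lemma epi_counit_of_isTors {T : ModSite.Mod O} (hT : IsTors O U T) :
    Epi ((ModSite.extZeroAdj O U).counit.app T) := by
  apply Abelian.epi_of_cokernel_π_eq_zero
  exact hT _ (ExtSupp.isNullOn_quotOn O U T) _

lemma LC_of_isTors {T : ModSite.Mod O} (hT : IsTors O U T) : LC O U T :=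
  haveI := epi_counit_of_isTors hT
  LC_of_epi ((ModSite.extZeroAdj O U).counit.app T) (LC_extZero _)

/-- torsion modules are closed under subobjects -/
lemma IsTors.of_mono {P T : ModSite.Mod O} (hT : IsTors O U T) (i : P ⟶ T) [Mono i] :
    IsTors O U P :=
  isTors_of_LC (LC_of_mono i (LC_of_isTors hT))

/-- the torsion part `ker(M → M/M_U)` is torsion -/
lemma isTors_kernel_π (M : ModSite.Mod O) :
    IsTors O U (kernel ((ModSite.quotOnπ O U).app M)) := by
  have h : IsTors O U (Abelian.image ((ModSite.extZeroAdj O U).counit.app M)) :=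
    IsTors.of_epi (isTors_extZero O U _)
      (Abelian.factorThruImage ((ModSite.extZeroAdj O U).counit.app M))
  exact h

instance quotOn_preservesMonomorphisms : (ModSite.quotOn O U).PreservesMonomorphisms where
  preserves {M M'} f hf := by
    -- the kernel of `M ⟶ M' ⟶ M'/M'_U` is torsion
    let ι := kernel.ι (f ≫ (ModSite.quotOnπ O U).app M')
    let k : kernel (f ≫ (ModSite.quotOnπ O U).app M') ⟶ kernel ((ModSite.quotOnπ O U).app M') :=
      kernel.lift _ (ι ≫ f) (by rw [Category.assoc, kernel.condition])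
    have hk : k ≫ kernel.ι _ = ι ≫ f := kernel.lift_ι _ _ _
    haveI : Mono (k ≫ kernel.ι ((ModSite.quotOnπ O U).app M')) := by
      rw [hk]; infer_instance
    haveI : Mono k := mono_of_mono k (kernel.ι ((ModSite.quotOnπ O U).app M'))
    have hK : IsTors O U (kernel (f ≫ (ModSite.quotOnπ O U).app M')) :=
      IsTors.of_mono (isTors_kernel_π M') k
    have hι : ι ≫ (ModSite.quotOnπ O U).app M = 0 := hK _ (ExtSupp.isNullOn_quotOn O U M) _
    have nat : (ModSite.quotOnπ O U).app M ≫ (ModSite.quotOn O U).map f =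
        f ≫ (ModSite.quotOnπ O U).app M' := ((ModSite.quotOnπ O U).naturality f).symm
    apply Preadditive.mono_of_cancel_zero
    intro Z g hg
    haveI : Epi (pullback.fst g ((ModSite.quotOnπ O U).app M)) :=
      Abelian.epi_pullback_of_epi_g _ _
    rw [← cancel_epi (pullback.fst g ((ModSite.quotOnπ O U).app M)), comp_zero, pullback.condition]
    have h2 : pullback.snd g ((ModSite.quotOnπ O U).app M) ≫
        (f ≫ (ModSite.quotOnπ O U).app M') = 0 := by
      rw [← nat, ← Category.assoc, ← pullback.condition, Category.assoc, hg, comp_zero]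
    rw [← kernel.lift_ι _ _ h2, Category.assoc]
    change _ ≫ ι ≫ _ = 0
    rw [hι, comp_zero]

/-- `Γ_Z` preserves injectives -/
instance injective_sectOn (I : ModSite.Mod O) [Injective I] :
    Injective ((ModSite.sectOn O U).obj I) :=
  Injective.injective_of_adjoint (adj O U) I

end Push

end Groth.Agent.Lib.Helper6.QuotExact
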