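import Groth.Agent.Lib.Helper6.FramedIso
import Groth.Agent.Lib.Helper6.QuotExact
import Groth.Agent.Lib.Helper1.SheafHomRestr
import Groth.Agent.Lib.Helper1.ModSiteFree
import Groth.Agent.Lib.Helper8.SheafModGroth
import Groth.Agent.Lib.Helper17.Frame
import Groth.Prelude.Def_ExtSupp
import Groth.Prelude.Def_FlatMod2

/-!
# `ℰxt^q(E, -) = 0` for `q ≥ 1` and `E` finite locally free on a scheme
-/

set_option autoImplicit false
universe u
open CategoryTheory CategoryTheory.Limits Opposite AlgebraicGeometry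

namespace Groth.Agent.Lib.Helper6.FinLocFreeExt

open Groth.Agent.Lib.Helper6.FinFreeExt Groth.Agent.Lib.Helper6.FramedIso

attribute [local instance] Abelian.hasFiniteBiproducts

section Site

variable {C : Type u} [SmallCategory C] {J : GrothendieckTopology C} (O : Sheaf J CommRingCat.{u})

/-- `ℰxt^{q+1}(M, G)` is null on `U` if `M|_U` is free of finite rank -/
theorem isNullOn_extSh_of_restr_iso_free (U : C) (M G : ModSite.Mod O) [ModSite.HasSheafHom M]
    [HasInjectiveResolutions (ModSite.Mod O)] {n : ℕ}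
    (e : (ModSite.restr O U).obj M ≅ freeN (O.over U) n) (q : ℕ) :
    ModSite.IsNullOn O U ((ModSite.extSh M (q + 1)).obj G) := by
  haveI : ModSite.HasSheafHom ((ModSite.restr O U).obj M) :=
    Groth.Agent.Lib.Helper1.TensorAdj.hasSheafHom (O.over U) _
  haveI : EnoughInjectives (ModSite.Mod (O.over U)) :=
    Groth.Agent.Lib.Helper8.SheafModGroth.enoughInjectives (J.over U) (ModSite.ringSh (O.over U))
  haveI : HasInjectiveResolutions (ModSite.Mod (O.over U)) := inferInstance
  exact IsZero.of_iso (isZero_extSh_of_iso_free e q ((ModSite.restr O U).obj G))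
    ((Groth.Agent.Lib.Helper1.SheafHomRestr.extShRestrIso O U M (q + 1)).app G)

/-- a module which is locally null is zero -/
theorem isZero_of_locally_null (N : ModSite.Mod O)
    (h : ∀ V : C, ∃ S : Sieve V, S ∈ J V ∧ ∀ ⦃W : C⦄ (g : W ⟶ V), S g →
      ∃ U : C, Nonempty (W ⟶ U) ∧ ModSite.IsNullOn O U N) : IsZero N := by
  rw [IsZero.iff_id_eq_zero]
  apply SheafOfModules.hom_ext
  apply PresheafOfModules.hom_ext
  intro V
  refine ModuleCat.hom_ext (LinearMap.ext fun x => ?_)
  obtain ⟨S, hS, hS'⟩ := h V.unop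
  have hx : x = 0 := by
    refine Groth.Agent.Lib.Helper6.QuotExact.sep O N S hS x (fun W g hg => ?_)
    obtain ⟨U, ⟨k⟩, hU⟩ := hS' g hg
    exact (ExtSupp.isNullOn_iff O U N).1 hU k _
  rw [hx, map_zero, map_zero]

end Site

section Scheme

open Groth.Agent.Lib.Helper17.Frame Groth.Agent.Lib.Helper28.QCohLoc
  Groth.Agent.Lib.Helper1.ModSiteFree

variable {X : Scheme.{u}} (E : X.Modules) (U : X.Opens) {n : ℕ} (γ : Fin n → Γ(E, U))

/-- `E|_U` on the localised site -/
noncomputable abbrev restrE : ModSite.Mod (X.sheaf.over U) :=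
  (ModSite.restr X.sheaf U).obj (show ModSite.Mod X.sheaf from E)

/-- the sections of `E|_U` on the localised site given by sections of `E` over `U` -/
noncomputable def frameSec (j : Fin n) : (restrE E U).sections :=
  secOf X.sheaf U (restrE E U) (γ j)

variable {E U γ}

theorem isFramed (hγ : IsFrame E U γ) : IsFramed (frameSec E U γ) := by
  intro V
  have := hγ V.unop.left (leOfHom V.unop.hom)
  exact this

/-- a finite locally free module is free on the localised sites of a cover -/
theorem exists_restr_iso_free (E : X.Modules) (hE : FlatMod.IsFinLocFree E) (x : X) :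
    ∃ (U : X.Opens) (n : ℕ), x ∈ U ∧ Nonempty (restrE E U ≅ freeN (X.sheaf.over U) n) := by
  obtain ⟨U, n, hxU, ⟨e⟩⟩ := hE x
  obtain ⟨γ, hγ⟩ := exists_isFrame_of_iso E U n e
  exact ⟨U, n, hxU, ⟨FramedIso.iso (isFramed hγ)⟩⟩

/-- **`ℰxt^{q+1}(E, G) = 0` for `E` finite locally free** -/
theorem isZero_extSh_of_isFinLocFree (E G : X.Modules) (hE : FlatMod.IsFinLocFree E)
    [ModSite.HasSheafHom (O := X.sheaf) E] [HasInjectiveResolutions (ModSite.Mod X.sheaf)]
    (q : ℕ) : IsZero ((ModSite.extSh (O := X.sheaf) E (q + 1)).obj G) := by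
  apply isZero_of_locally_null X.sheaf
  intro V
  refine ⟨{ arrows := fun W _ => ∃ U : X.Opens, Nonempty (W ⟶ U) ∧
              ModSite.IsNullOn X.sheaf U ((ModSite.extSh (O := X.sheaf) E (q + 1)).obj G)
            downward_closed := ?_ }, ?_, ?_⟩
  · rintro W W' g ⟨U, ⟨k⟩, hU⟩ f
    exact ⟨U, ⟨f ≫ k⟩, hU⟩
  · intro x hx
    obtain ⟨U, n, hxU, ⟨e⟩⟩ := exists_restr_iso_free E hE x
    refine ⟨V ⊓ U, homOfLE inf_le_left, ⟨U, ⟨homOfLE inf_le_right⟩, ?_⟩, ⟨hx, hxU⟩⟩
    exact isNullOn_extSh_of_restr_iso_free X.sheaf U E G e q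
  · intro W g hg
    exact hg

end Scheme

end Groth.Agent.Lib.Helper6.FinLocFreeExt
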