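import Mathlib
import Groth.Prelude.Def_SpSeq
import Groth.Agent.Lib.Helper6.GrothSS
import Groth.Agent.Lib.Helper2.SSCollapse
import Groth.Agent.Lib.Helper6.RDShift

/-!
# Degenerate Grothendieck spectral sequence, second case (helper6)

If `R^b T A = 0` for `b > 0` then `R^n (T ⋙ S) A ≅ R^n S (T A)`.
-/

universe v u

open CategoryTheory Limits

namespace Groth.Agent.Lib.Helper6.GrothSSCollapse

open scoped ZeroObject

/-- if `R^b T A = 0` for all `b > 0`, then `R^n (T ⋙ S) A ≅ R^n S (T A)` -/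
theorem nonempty_iso' {C C' C'' : Type u} [Category.{v} C] [Category.{v} C']
    [Category.{v} C''] [Abelian C] [Abelian C'] [Abelian C''] [HasInjectiveResolutions C]
    [HasInjectiveResolutions C'] (T : C ⥤ C') [T.Additive] (S : C' ⥤ C'') [S.Additive]
    [PreservesFiniteLimits T] [PreservesFiniteLimits S]
    (hT : ∀ Q : C, Injective Q → ∀ q : ℕ, 0 < q → IsZero ((S.rightDerived q).obj (T.obj Q)))
    (A : C)
    (hA : ∀ b : ℕ, 0 < b → IsZero ((T.rightDerived b).obj A))
    (n : ℕ) :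
    Nonempty (((T ⋙ S).rightDerived n).obj A ≅ (S.rightDerived n).obj (T.obj A)) := by
  obtain ⟨E, a, hfin, -, hE2⟩ := GrothSS.exists_spectralSequence T S hT A
  have : EnoughInjectives C' := GrothSS.enoughInjectives_of_hasInjectiveResolutions
  have hz : ∀ p q : ℤ, q ≠ 0 → IsZero ((E.page 2 le_rfl).X (p, q)) := by
    intro p q hq
    refine IsZero.of_iso ?_ (hE2 p q).some
    by_cases h : 0 ≤ p ∧ 0 ≤ q
    · rw [if_pos h]
      obtain ⟨q', rfl⟩ := Int.eq_ofNat_of_zero_le h.2
      exact Functor.map_isZero _ (hA _ (by omega))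
    · rw [if_neg h]
      exact isZero_zero _
  obtain ⟨e⟩ := Groth.Agent.Lib.Helper2.SSCollapse.collapse E a ((n : ℤ), (0 : ℤ)) (hfin _)
    (fun p hp => hz p _ (by
      change (n : ℤ) + 0 - p ≠ 0
      omega))
    (fun r hr => hz _ _ (by
      change (0 : ℤ) + (1 - r) ≠ 0
      omega))
    (fun r hr => hz _ _ (by
      change (0 : ℤ) - (1 - r) ≠ 0
      omega))
  have e1 := (hE2 n 0).some
  simp only [le_refl, Int.natCast_nonneg, and_self, if_true, Int.toNat_zero,
    Int.toNat_natCast] at e1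
  have e0 : (if (0 : ℤ) ≤ (n : ℤ) + (0 : ℤ) then
      ((T ⋙ S).rightDerived ((n : ℤ) + (0 : ℤ)).toNat).obj A
      else 0) ≅ ((T ⋙ S).rightDerived n).obj A := by
    rw [if_pos (by omega)]
    exact eqToIso (by simp)
  exact ⟨e0.symm ≪≫ e ≪≫ e1 ≪≫ (S.rightDerived n).mapIso ((T.rightDerivedZeroIsoSelf).app A)⟩

end Groth.Agent.Lib.Helper6.GrothSSCollapse
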