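import Groth.Agent.Lib.Helper6.LocGlobExtSS
import Groth.Agent.Lib.Helper6.GrothSSCollapse2

/-!
# Collapse of the local-to-global Ext spectral sequence (helper6)

If `ℰxt^q(M, N) = 0` for `q > 0` then `Ext^n(M, N) ≅ H^n(C, ℋom(M, N))`.
-/

universe u

open CategoryTheory Limits Opposite Abelian

namespace Groth.Agent.Lib.Helper6.LocGlobExtCollapse

open SheafHomTotAcyc LocGlobExtSS

variable {C : Type u} [SmallCategory C] {J : GrothendieckTopology C} (O : Sheaf J CommRingCat.{u})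
  (M : ModSite.Mod O) [ModSite.HasSheafHom M]
  [HasInjectiveResolutions (ModSite.Mod O)] [HasExt.{u} (ModSite.Mod O)]

theorem nonempty_ext_addEquiv_HC (N : ModSite.Mod O)
    (h : ∀ q : ℕ, IsZero ((ModSite.extSh M (q + 1)).obj N)) (n : ℕ) :
    Nonempty (Abelian.Ext.{u} M N n ≃+ ModSite.HC O ((ModSite.sheafHom M).obj N) n) := by
  have := Groth.Agent.Lib.Helper8.SheafModGroth.enoughInjectives J (ModSite.ringSh O)
  haveI : PreservesFiniteLimits (ModSite.sheafHom M) :=
    (ModSite.sheafHomAdj M).rightAdjoint_preservesLimits.{0, 0}.preservesFiniteLimits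
  obtain ⟨φ⟩ := GrothSSCollapse.nonempty_iso' (ModSite.sheafHom M) (ExtRDNat.G (ModSite.unit O))
    (fun Q hQ q hq => isZero_rightDerived_of_totallyAcyclic O _
      (SheafHomTotAcyc.totallyAcyclic O M Q) q hq) N
    (fun b hb => by
      obtain ⟨b, rfl⟩ : ∃ b', b = b' + 1 := ⟨b - 1, by omega⟩
      exact h b) n
  obtain ⟨e⟩ := ExtRDNat.nonempty_rightDerived_coyoneda_iso M n
  obtain ⟨e₁⟩ := ExtRDNat.nonempty_rightDerived_coyoneda_iso (ModSite.unit O) n
  obtain ⟨e'⟩ := ModAbCoh.nonempty_ext_addEquiv (ModSite.ringSh O)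
    ((ModSite.sheafHom M).obj N) n
  let ψ : AddCommGrpCat.of (Abelian.Ext.{u} M N n) ≅
      (extFunctorObj (ModSite.unit O) n).obj ((ModSite.sheafHom M).obj N) :=
    (e.app N).symm ≪≫ ((GrothSS.rightDerivedIsoOfIso (compIso O M) n).app N).symm ≪≫ φ ≪≫
      e₁.app _
  exact ⟨ψ.addCommGroupIsoToAddEquiv.trans e'⟩

end Groth.Agent.Lib.Helper6.LocGlobExtCollapse
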