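import Groth.Prelude.Def_SGA6
import Groth.Agent.Lib.Helper16.K0Db1
import Mathlib
set_option backward.isDefEq.respectTransparency.types false
set_option autoImplicit false

/-!
# An abstract localization lemma for `K₀` of subcategories
-/

universe v v' u u'
open CategoryTheory CategoryTheory.Limits KZero

namespace Groth.Agent.Lib.Helper6.K0Abs
open Groth.Agent.Lib.Helper16.K0Db

variable {A : Type u} [Category.{v} A] [Abelian A] {B : Type u'} [Category.{v'} B] [Abelian B]

theorem mapSub_clSub (J : A ⥤ B) [J.Additive] [PreservesFiniteLimits J] [PreservesFiniteColimits J]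
    (P : ObjectProperty A) (Q : ObjectProperty B) (hJ : ∀ X, P X → Q (J.obj X)) (F : A) (hF : P F) :
    SGA6.mapSub J P Q hJ (clSub P F) = clSub Q (J.obj F) := by
  rw [clSub_of P F hF, clSub_of Q _ (hJ F hF)]
  unfold SGA6.mapSub
  rw [QuotientAddGroup.map_mk, FreeAbelianGroup.map_of_apply]
  rfl

/-- an induction principle for `K0sub` -/
theorem K0sub_induction (P : ObjectProperty A) {motive : K0sub P → Prop} (h0 : motive 0)
    (hof : ∀ (F : A) (hF : P F), motive (clSub P F)) (hneg : ∀ c, motive c → motive (-c))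
    (hadd : ∀ c d, motive c → motive d → motive (c + d)) (c : K0sub P) : motive c := by
  induction c using QuotientAddGroup.induction_on with
  | H z =>
    induction z using FreeAbelianGroup.induction_on with
    | zero => exact h0
    | of x =>
      have := hof x.1 x.2
      rw [clSub_of P _ x.2] at this
      exact this
    | neg x ih => exact hneg _ ih
    | add x y ihx ihy => exact hadd _ _ ihx ihy

/-- **abstract localization**: if every object of `Q` lifts along the exact functor `J`, lifts are unique modulo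
the subgroup `H`, short exact sequences lift, and `H` dies under `J`, then `K₀(P) → K₀(Q)` is surjective with
kernel `H`. -/
theorem localization (J : A ⥤ B) [J.Additive] [PreservesFiniteLimits J] [PreservesFiniteColimits J]
    (P : ObjectProperty A) (Q : ObjectProperty B) (hJ : ∀ X, P X → Q (J.obj X))
    (hQ : ∀ G G' : B, (G ≅ G') → Q G → Q G' → clSub Q G = clSub Q G')
    (H : AddSubgroup (K0sub P))
    (h1 : ∀ G, Q G → ∃ F, P F ∧ Nonempty (J.obj F ≅ G))
    (h2 : ∀ F F', P F → P F' → Nonempty (J.obj F ≅ J.obj F') → clSub P F - clSub P F' ∈ H)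
    (h3 : ∀ S : ShortComplex B, S.ShortExact → Q S.X₁ → Q S.X₂ → Q S.X₃ →
      ∃ T : ShortComplex A, T.ShortExact ∧ P T.X₁ ∧ P T.X₂ ∧ P T.X₃ ∧ Nonempty (J.obj T.X₁ ≅ S.X₁) ∧
        Nonempty (J.obj T.X₂ ≅ S.X₂) ∧ Nonempty (J.obj T.X₃ ≅ S.X₃))
    (h4 : H ≤ (SGA6.mapSub J P Q hJ).ker) :
    Function.Surjective (SGA6.mapSub J P Q hJ) ∧ (SGA6.mapSub J P Q hJ).ker = H := by
  classical
  choose lift hliftP hliftIso using h1
  let ψ₀ : FreeAbelianGroup (Subtype Q) →+ K0sub P ⧸ H :=
    FreeAbelianGroup.lift (fun G => QuotientAddGroup.mk (clSub P (lift G.1 G.2)))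
  have hψ₀ : relSub Q ≤ ψ₀.ker := by
    rw [relSub, AddSubgroup.closure_le]
    rintro x ⟨S, q₁, q₂, q₃, hS, rfl⟩
    rw [SetLike.mem_coe, AddMonoidHom.mem_ker, map_sub, map_sub]
    simp only [ψ₀, FreeAbelianGroup.lift_apply_of]
    obtain ⟨T, hT, p₁, p₂, p₃, ⟨e₁⟩, ⟨e₂⟩, ⟨e₃⟩⟩ := h3 S hS q₁ q₂ q₃
    have k₁ := h2 _ _ (hliftP S.X₁ q₁) p₁ ⟨(hliftIso S.X₁ q₁).some ≪≫ e₁.symm⟩
    have k₂ := h2 _ _ (hliftP S.X₂ q₂) p₂ ⟨(hliftIso S.X₂ q₂).some ≪≫ e₂.symm⟩
    have k₃ := h2 _ _ (hliftP S.X₃ q₃) p₃ ⟨(hliftIso S.X₃ q₃).some ≪≫ e₃.symm⟩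
    have hT' := clSub_shortExact P T hT p₁ p₂ p₃
    rw [← QuotientAddGroup.mk_sub, ← QuotientAddGroup.mk_sub, QuotientAddGroup.eq_zero_iff]
    have : clSub P (lift S.X₂ q₂) - clSub P (lift S.X₁ q₁) - clSub P (lift S.X₃ q₃) =
        (clSub P (lift S.X₂ q₂) - clSub P T.X₂) - (clSub P (lift S.X₁ q₁) - clSub P T.X₁) -
          (clSub P (lift S.X₃ q₃) - clSub P T.X₃) := by
      rw [hT']; abel
    rw [this]
    exact H.sub_mem (H.sub_mem k₂ k₁) k₃
  let ψ : K0sub Q →+ K0sub P ⧸ H := QuotientAddGroup.lift _ ψ₀ hψ₀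
  have hψ : ∀ (G : B) (hG : Q G), ψ (clSub Q G) = QuotientAddGroup.mk (clSub P (lift G hG)) := by
    intro G hG
    rw [clSub_of Q G hG]
    simp only [ψ, QuotientAddGroup.lift_mk, ψ₀, FreeAbelianGroup.lift_apply_of]
  have key : ∀ c : K0sub P, ψ (SGA6.mapSub J P Q hJ c) = QuotientAddGroup.mk c := by
    intro c
    induction c using K0sub_induction P with
    | h0 => simp
    | hof F hF =>
      rw [mapSub_clSub J P Q hJ F hF, hψ _ (hJ F hF), QuotientAddGroup.eq_iff_sub_mem]
      exact h2 _ _ (hliftP _ _) hF ⟨(hliftIso _ _).some⟩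
    | hneg c ih => rw [map_neg, map_neg, ih, QuotientAddGroup.mk_neg]
    | hadd c d ihc ihd => rw [map_add, map_add, ihc, ihd, QuotientAddGroup.mk_add]
  constructor
  · intro d
    induction d using K0sub_induction Q with
    | h0 => exact ⟨0, map_zero _⟩
    | hof G hG =>
      refine ⟨clSub P (lift G hG), ?_⟩
      rw [mapSub_clSub J P Q hJ _ (hliftP G hG)]
      exact hQ _ _ (hliftIso G hG).some (hJ _ (hliftP G hG)) hG
    | hneg c ih =>
      obtain ⟨a, ha⟩ := ih
      exact ⟨-a, by rw [map_neg, ha]⟩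
    | hadd c d ihc ihd =>
      obtain ⟨a, ha⟩ := ihc
      obtain ⟨b, hb⟩ := ihd
      exact ⟨a + b, by rw [map_add, ha, hb]⟩
  · apply le_antisymm
    · intro c hc
      rw [AddMonoidHom.mem_ker] at hc
      have := key c
      rw [hc, map_zero] at this
      exact (QuotientAddGroup.eq_zero_iff c).1 this.symm
    · exact h4

end Groth.Agent.Lib.Helper6.K0Abs
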