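import Mathlib.CategoryTheory.Sites.LocallyBijective
import Mathlib.CategoryTheory.Sites.Localization
import Mathlib.CategoryTheory.Sites.Limits
import Mathlib.Algebra.Category.Grp.Colimits
import Mathlib.Algebra.Category.Grp.Limits
import Mathlib.Algebra.Category.Grp.FilteredColimits
import Mathlib.CategoryTheory.Sites.Abelian
import Mathlib.CategoryTheory.Limits.FunctorCategory.Basic

/-!
# Sheafification of a cocone of presheaves that is a colimit on a covering class (helper6)

Let `G : 𝒜 ⥤ (Dᵒᵖ ⥤ Ab)` and `c` a colimit cocone of `F : ι ⥤ 𝒜`.  If every object `V` of `D`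
has a covering family `Y k ⟶ V` such that `G(c)` evaluated at each `Y k` is a colimit cocone of
abelian groups, then the sheafification of `G(c)` is a colimit cocone of sheaves.
-/

universe u

open CategoryTheory Limits Opposite

namespace Groth.Agent.Lib.Helper6.SheafifyColim

variable {D : Type u} [SmallCategory D] (K : GrothendieckTopology D)

section LocIso

variable {P Q : Dᵒᵖ ⥤ AddCommGrpCat.{u}} (κ : P ⟶ Q)

/-- a morphism of presheaves which is bijective on a covering class is a local isomorphism -/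
lemma W_of_bijective_on_cover
    (h : ∀ V : D, ∃ (ι : Type u) (Y : ι → D) (g : ∀ k, Y k ⟶ V), Sieve.ofArrows Y g ∈ K V ∧
      ∀ k, Function.Bijective (κ.app (op (Y k)))) :
    K.W κ := by
  haveI : Presheaf.IsLocallyInjective K κ := by
    constructor
    intro X x y hxy
    obtain ⟨ι, Y, g, hcov, hbij⟩ := h X.unop
    refine K.superset_covering ?_ hcov
    rintro W f ⟨Z, a, g', ⟨k⟩, rfl⟩
    -- the sieve `equalizerSieve` is downward closed, so it suffices to treat `g k`
    have hk : (Presheaf.equalizerSieve x y).arrows (g k) := by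
      change P.map (g k).op x = P.map (g k).op y
      apply (hbij k).1
      have h1 := NatTrans.naturality_apply κ (g k).op x
      have h2 := NatTrans.naturality_apply κ (g k).op y
      rw [h1, h2, hxy]
    exact (Presheaf.equalizerSieve x y).downward_closed hk a
  haveI : Presheaf.IsLocallySurjective K κ := by
    constructor
    intro U s
    obtain ⟨ι, Y, g, hcov, hbij⟩ := h U
    refine K.superset_covering ?_ hcov
    rintro W f ⟨Z, a, g', ⟨k⟩, rfl⟩
    have hk : (Presheaf.imageSieve κ s).arrows (g k) := by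
      obtain ⟨t, ht⟩ := (hbij k).2 (Q.map (g k).op s)
      exact ⟨t, ht⟩
    exact (Presheaf.imageSieve κ s).downward_closed hk a
  exact K.W_of_isLocallyBijective κ

end LocIso

variable {𝒜 : Type*} [Category 𝒜] {ι : Type u} [SmallCategory ι] (F : ι ⥤ 𝒜)
  (G : 𝒜 ⥤ (Dᵒᵖ ⥤ AddCommGrpCat.{u}))

/-- the comparison map from the colimit presheaf -/
noncomputable abbrev κ (c : Cocone F) : colimit (F ⋙ G) ⟶ G.obj c.pt :=
  colimit.desc (F ⋙ G) (G.mapCocone c)

lemma bijective_κ_app (c : Cocone F) (V : D)
    (hV : IsColimit ((G ⋙ (evaluation Dᵒᵖ AddCommGrpCat.{u}).obj (op V)).mapCocone c)) :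
    Function.Bijective ((κ F G c).app (op V)) := by
  let ev := (evaluation Dᵒᵖ AddCommGrpCat.{u}).obj (op V)
  have h1 : IsColimit (ev.mapCocone (colimit.cocone (F ⋙ G))) :=
    isColimitOfPreserves ev (colimit.isColimit (F ⋙ G))
  have h2 : IsColimit (ev.mapCocone (G.mapCocone c)) := hV
  have hdesc : h1.desc (ev.mapCocone (G.mapCocone c)) = (κ F G c).app (op V) := by
    apply h1.hom_ext
    intro j
    rw [h1.fac]
    change (G.map (c.ι.app j)).app (op V) =
      (colimit.ι (F ⋙ G) j).app (op V) ≫ (κ F G c).app (op V)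
    rw [← NatTrans.comp_app, colimit.ι_desc]
    rfl
  have hiso : IsIso ((κ F G c).app (op V)) := by
    rw [← hdesc]
    exact (h1.coconePointUniqueUpToIso h2).isIso_hom
  exact ConcreteCategory.bijective_of_isIso _

/-- **main lemma** -/
theorem isColimit_sheafify (c : Cocone F)
    (h : ∀ V : D, ∃ (κ' : Type u) (Y : κ' → D) (g : ∀ k, Y k ⟶ V), Sieve.ofArrows Y g ∈ K V ∧
      ∀ k, Nonempty (IsColimit
        ((G ⋙ (evaluation Dᵒᵖ AddCommGrpCat.{u}).obj (op (Y k))).mapCocone c))) :
    Nonempty (IsColimit ((G ⋙ presheafToSheaf K AddCommGrpCat.{u}).mapCocone c)) := by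
  have hW : K.W (κ F G c) := by
    apply W_of_bijective_on_cover
    intro V
    obtain ⟨κ', Y, g, hcov, hY⟩ := h V
    exact ⟨κ', Y, g, hcov, fun k => bijective_κ_app F G c (Y k) (hY k).some⟩
  have hiso : IsIso ((presheafToSheaf K AddCommGrpCat.{u}).map (κ F G c)) := (K.W_iff _).1 hW
  let S := presheafToSheaf K AddCommGrpCat.{u}
  have h1 : IsColimit (S.mapCocone (colimit.cocone (F ⋙ G))) :=
    isColimitOfPreserves S (colimit.isColimit (F ⋙ G))
  have hdesc : h1.desc (S.mapCocone (G.mapCocone c)) = S.map (κ F G c) := by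
    apply h1.hom_ext
    intro j
    rw [h1.fac]
    change S.map (G.map (c.ι.app j)) = S.map (colimit.ι (F ⋙ G) j) ≫ S.map (κ F G c)
    rw [← S.map_comp, colimit.ι_desc]
    rfl
  haveI : IsIso (h1.desc (S.mapCocone (G.mapCocone c))) := by
    rw [hdesc]
    exact hiso
  exact ⟨IsColimit.ofPointIso (t := S.mapCocone (G.mapCocone c)) h1⟩

end Groth.Agent.Lib.Helper6.SheafifyColim
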