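import Groth.Agent.Lib.Helper4.Bridge
import Mathlib

/-!
# Projective space over `Spec B` by base change from `ℤ` is `Proj B[T]` (helper6)

`CohB1.ProjSpaceOver N (Spec B) ≅ CohB1.ProjSpace N B`, over `Spec B`, compatibly with `O(1)`.
-/

set_option backward.isDefEq.respectTransparency.types false
set_option autoImplicit false
set_option linter.style.haveILetI false
set_option linter.unusedSectionVars false
universe u
open CategoryTheory CategoryTheory.Limits AlgebraicGeometry Opposite TopologicalSpace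

noncomputable section
namespace Groth.Agent.Lib.Helper6.PnBridge

open Groth.Agent.Lib.Helper28 Groth.Agent.Lib.Helper28.QCohLoc Groth.Agent.Lib.Helper28.GenLocus
  Groth.Agent.Lib.Helper28.PullbackInv Groth.Agent.Lib.Helper4.Bridge

section Id

variable {X : Scheme.{u}} (M : X.Modules)

/-- the identification `(𝟙 X)^* M ≅ M` carries inverse images of sections to the sections -/
theorem pullbackId_hom_pbs (U : X.Opens) (s : Γ(M, U)) :
    ((Scheme.Modules.pullbackId X).hom.app M).app U (pbs (𝟙 X) M U s) = s := by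
  have h := unit_conjugateEquiv Adjunction.id (Scheme.Modules.pullbackPushforwardAdjunction (𝟙 X))
    (Scheme.Modules.pullbackId X).hom M
  rw [Scheme.Modules.conjugateEquiv_pullbackId_hom] at h
  have h2 := congrArg (fun θ => (Scheme.Modules.Hom.app θ U) s) h
  exact h2.symm

end Id

variable (N : ℕ) (B : Type u) [CommRing B]

/-- the coordinate sections of `O(1)` on `Proj B[T]` -/
def σB (i : Fin (N + 1)) : Coh.structureModule (Proj (CohB1.polyGrading N B)) ⟶ OB N B :=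
  TwistAmple.secHom (CohB1.polyGrading N B) (hX N B i)

theorem secOf_σB (i : Fin (N + 1)) :
    secOf (σB N B i) = TwistGen.gsec (CohB1.polyGrading N B) _ (hX N B i) := by
  unfold σB TwistAmple.secHom
  rw [secOf_ofSection]

theorem cover_σB (x : Proj (CohB1.polyGrading N B)) : ∃ i, x ∈ CohB1.genLocus _ (σB N B i) := by
  obtain ⟨j, hj⟩ := Segre5.cover_of_adjoin (CohB1.polyGrading N B)
    (fun k : Fin (N + 1) => (MvPolynomial.X k : MvPolynomial (Fin (N + 1)) B))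
    (fun k => MvPolynomial.isHomogeneous_X B k) (MvPolynomial.adjoin_range_X) x
  refine ⟨j, ?_⟩
  unfold σB
  rw [ProjUPUniq.genLocus_secHom (CohB1.polyGrading N B) (VeryAmpleImm.projSpace_cover N B)]
  exact hj

theorem isInvertible_OB : PicF.IsInvertible (OB N B) :=
  TwistCov.isInvertible_twist (CohB1.polyGrading N B) (VeryAmpleImm.projSpace_cover N B) ((1 : ℕ) : ℤ)

/-- the morphism `Proj B[T] ⟶ Proj ℤ[T]` classified by `O(1)` and the coordinates -/
theorem exists_toZ :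
    ∃ (r₀ : Proj (CohB1.polyGrading N B) ⟶ Proj (gZ N))
      (τ₀ : (Scheme.Modules.pullback r₀).obj (OZ N) ≅ OB N B),
      ∀ k, τ₀.hom.app ⊤ (pbs r₀ (OZ N) ⊤ (TwistGen.gsec (gZ N) _ (hX N Zu k))) =
        TwistGen.gsec (CohB1.polyGrading N B) _ (hX N B k) := by
  obtain ⟨r, _, τ, hτ⟩ := Groth.Agent.S3572.result (R := Zu) N
    (specULiftZIsTerminal.from (Proj (CohB1.polyGrading N B)))
    (OB N B) (isInvertible_OB N B)
    (fun k => (secOf (σB N B k) : ProjUP.Γm _))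
    (VeryAmpleImm.generatedBy_of_cover (σB N B) (cover_σB N B))
  refine ⟨r, τ, fun k => ?_⟩
  rw [← secOf_σB N B k]
  exact hτ k

variable {N B}

/-- transport of the classifying data along a morphism to `P^N_{Spec B}` -/
theorem exists_omega' (i₀ : CohB1.ProjSpaceOver N (SB B) ⟶ Proj (CohB1.polyGrading N B))
    (τ : (Scheme.Modules.pullback i₀).obj (OB N B) ≅ (Scheme.Modules.pullback (pr₁ N (SB B))).obj (OZ N))
    (hτ : ∀ k, τ.hom.app ⊤ (pbs i₀ (OB N B) ⊤ (TwistGen.gsec (CohB1.polyGrading N B) _ (hX N B k))) =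
        pbs (pr₁ N (SB B)) (OZ N) ⊤ (TwistGen.gsec (gZ N) _ (hX N Zu k)))
    {T : Scheme.{u}} (c : T ⟶ CohB1.ProjSpaceOver N (SB B)) (r₀ : T ⟶ Proj (gZ N))
    (hc : c ≫ pr₁ N (SB B) = r₀) (L : T.Modules) (s : Fin (N + 1) → Γ(L, ⊤))
    (τ₀ : (Scheme.Modules.pullback r₀).obj (OZ N) ≅ L)
    (hτ₀ : ∀ k, τ₀.hom.app ⊤ (pbs r₀ (OZ N) ⊤ (TwistGen.gsec (gZ N) _ (hX N Zu k))) = s k) :
    ∃ ω : (Scheme.Modules.pullback (c ≫ i₀)).obj (OB N B) ≅ L,
      ∀ k, ω.hom.app ⊤ (pbs (c ≫ i₀) (OB N B) ⊤ (TwistGen.gsec (CohB1.polyGrading N B) _ (hX N B k))) = s k := by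
  subst hc
  obtain ⟨ω₁, hω₁⟩ := exists_omega i₀ τ hτ c (c ≫ i₀) rfl
  refine ⟨ω₁.symm ≪≫ τ₀, fun k => ?_⟩
  have h3 : ω₁.inv.app ⊤ (pbs (c ≫ i₀) (OB N B) ⊤ (TwistGen.gsec (CohB1.polyGrading N B) _ (hX N B k))) =
      pbs (c ≫ pr₁ N (SB B)) (OZ N) ⊤ (TwistGen.gsec (gZ N) _ (hX N Zu k)) := by
    rw [← hω₁ k]
    have : ω₁.hom ≫ ω₁.inv = 𝟙 _ := ω₁.hom_inv_id
    exact congrArg (fun θ => (Scheme.Modules.Hom.app θ ⊤)
      (pbs (c ≫ pr₁ N (SB B)) (OZ N) ⊤ (TwistGen.gsec (gZ N) _ (hX N Zu k)))) this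
  show τ₀.hom.app ⊤ (ω₁.inv.app ⊤ _) = _
  rw [h3]
  exact hτ₀ k

variable (N B)

/-- **the bridge isomorphism**: `P^N_{Spec B}` (base change from `ℤ`) is `Proj B[T]`, compatibly with `O(1)`. -/
theorem exists_iso :
    ∃ (e : CohB1.ProjSpaceOver N (SB B) ≅ CohB1.ProjSpace N B),
      e.hom ≫ CohB1.ProjSpace.toSpec N B = CohB1.ProjSpaceOver.toBase N (SB B) ∧
      Nonempty ((Scheme.Modules.pullback e.hom).obj (Twist.twistProjSpace N B 1) ≅ Twist.twistOver N (SB B) 1) := by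
  obtain ⟨i₀, hi₀, τ, hτ⟩ := exists_map N B
  haveI hmono : Mono i₀ := mono_of i₀ τ hτ hi₀
  obtain ⟨r₀, τ₀, hτ₀⟩ := exists_toZ N B
  let j : Proj (CohB1.polyGrading N B) ⟶ CohB1.ProjSpaceOver N (SB B) :=
    pullback.lift r₀ (tB N B) (specULiftZIsTerminal.hom_ext _ _)
  have hj₁ : j ≫ pr₁ N (SB B) = r₀ := pullback.lift_fst _ _ _
  have hj₂ : j ≫ CohB1.ProjSpaceOver.toBase N (SB B) = tB N B := pullback.lift_snd _ _ _
  obtain ⟨ω, hω⟩ := exists_omega' i₀ τ hτ j r₀ hj₁ (OB N B)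
    (fun k => TwistGen.gsec (CohB1.polyGrading N B) _ (hX N B k)) τ₀ hτ₀
  have hji : j ≫ i₀ = 𝟙 _ := by
    refine Groth.Agent.S3573.result (R := B) N (j ≫ i₀) (𝟙 _) ?_
      (ω ≪≫ ((Scheme.Modules.pullbackId _).app (OB N B)).symm) (fun k => ?_)
    · show (j ≫ i₀) ≫ tB N B = 𝟙 _ ≫ tB N B
      rw [Category.assoc, hi₀, hj₂, Category.id_comp]
    · have h1 := hω k
      have h2 := pullbackId_hom_pbs (OB N B) ⊤ (TwistGen.gsec (CohB1.polyGrading N B) _ (hX N B k))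
      have h3 : ((Scheme.Modules.pullbackId _).inv.app (OB N B)).app ⊤
          (TwistGen.gsec (CohB1.polyGrading N B) _ (hX N B k)) =
          pbs (𝟙 _) (OB N B) ⊤ (TwistGen.gsec (CohB1.polyGrading N B) _ (hX N B k)) := by
        have : (Scheme.Modules.pullbackId _).hom.app (OB N B) ≫ (Scheme.Modules.pullbackId _).inv.app (OB N B) =
            𝟙 _ := Iso.hom_inv_id_app _ _
        have h4 : ((Scheme.Modules.pullbackId _).inv.app (OB N B)).app ⊤
            (((Scheme.Modules.pullbackId _).hom.app (OB N B)).app ⊤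
              (pbs (𝟙 _) (OB N B) ⊤ (TwistGen.gsec (CohB1.polyGrading N B) _ (hX N B k)))) =
            pbs (𝟙 _) (OB N B) ⊤ (TwistGen.gsec (CohB1.polyGrading N B) _ (hX N B k)) :=
          congrArg (fun θ => (Scheme.Modules.Hom.app θ ⊤)
            (pbs (𝟙 _) (OB N B) ⊤ (TwistGen.gsec (CohB1.polyGrading N B) _ (hX N B k)))) this
        rw [h2] at h4
        exact h4
      show ((Scheme.Modules.pullbackId _).inv.app (OB N B)).app ⊤ (ω.hom.app ⊤ _) = _
      erw [h1, h3]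
      rfl
  have hij : i₀ ≫ j = 𝟙 _ := by
    rw [← cancel_mono i₀, Category.assoc, hji, Category.comp_id, Category.id_comp]
  exact ⟨⟨i₀, j, hij, hji⟩, hi₀, ⟨τ⟩⟩

end Groth.Agent.Lib.Helper6.PnBridge
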