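import Groth.Agent.Lib.Helper6.CohPresheaf
import Mathlib.CategoryTheory.Sites.EpiMono

/-!
# Cohomology classes of positive degree die locally (helper6)
-/

universe u

open CategoryTheory Limits Opposite Abelian

namespace Groth.Agent.Lib.Helper6.KillClass

open SheafCoh CohPresheaf

variable {C : Type u} [SmallCategory C] (J : GrothendieckTopology C)
  [HasSheafify J AddCommGrpCat.{u}] [HasExt.{u} (Sheaf J AddCommGrpCat.{u})]
  [EnoughInjectives (Sheaf J AddCommGrpCat.{u})]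
  [J.HasSheafCompose (forget AddCommGrpCat.{u})] [Balanced (Sheaf J AddCommGrpCat.{u})]

/-- restriction of cohomology classes -/
noncomputable abbrev res {F : Sheaf J AddCommGrpCat.{u}} {n : ℕ} {U V : C} (f : V ⟶ U)
    (ξ : Ext (Zfree J U) F n) : Ext (Zfree J V) F n :=
  (Ext.mk₀ (ZfreeMap J f)).comp ξ (zero_add n)

lemma res_comp_extClass {E : ShortComplex (Sheaf J AddCommGrpCat.{u})} (hE : E.ShortExact)
    {n : ℕ} {U V : C} (f : V ⟶ U) (η : Ext (Zfree J U) E.X₃ n) :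
    res J f (η.comp hE.extClass rfl) = (res J f η).comp hE.extClass rfl :=
  (Ext.comp_assoc (Ext.mk₀ (ZfreeMap J f)) η hE.extClass (zero_add n) rfl
    (show 0 + n + 1 = n + 1 by lia)).symm

lemma kill_zero {E : ShortComplex (Sheaf J AddCommGrpCat.{u})} (hE : E.ShortExact)
    (hI : Injective E.X₂) (U : C) (ξ : Ext (Zfree J U) E.X₁ 1) :
    ∃ S : Sieve U, S ∈ J U ∧ ∀ {V : C} (f : V ⟶ U), S f → res J f ξ = 0 := by
  obtain ⟨η, rfl⟩ := Ext.covariant_sequence_exact₁ (Zfree J U) hE ξ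
    (Ext.eq_zero_of_injective _) (rfl : 0 + 1 = 1)
  have hepi : Epi E.g := hE.epi_g
  have hls : Sheaf.IsLocallySurjective E.g :=
    (Sheaf.isLocallySurjective_iff_epi' (φ := E.g)).2 hepi
  let t := H'equiv₀ J E.X₃ U η
  refine ⟨Presheaf.imageSieve E.g.hom t,
    Presheaf.imageSieve_mem J E.g.hom (U := op U) t, ?_⟩
  rintro V f ⟨s, hs⟩
  rw [res_comp_extClass]
  have hη : res J f η = (Ext.mk₀ ((homEquiv J V _).symm s)).comp
      (Ext.mk₀ E.g) (add_zero 0) := by
    apply (H'equiv₀ J E.X₃ V).injective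
    rw [H'equiv₀_naturality_left, H'equiv₀_naturality_right]
    refine Eq.trans hs.symm ?_
    congr 1
    simp only [H'equiv₀, AddEquiv.trans_apply, addEquiv₀_mk₀, homAddEquiv_apply,
      Equiv.apply_symm_apply]
  rw [hη, Ext.comp_assoc_of_second_deg_zero, hE.comp_extClass, Ext.comp_zero]

lemma kill_succ {E : ShortComplex (Sheaf J AddCommGrpCat.{u})} (hE : E.ShortExact)
    (hI : Injective E.X₂) (n : ℕ)
    (ih : ∀ (U : C) (η : Ext (Zfree J U) E.X₃ (n + 1)),
      ∃ S : Sieve U, S ∈ J U ∧ ∀ {V : C} (f : V ⟶ U), S f → res J f η = 0)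
    (U : C) (ξ : Ext (Zfree J U) E.X₁ (n + 1 + 1)) :
    ∃ S : Sieve U, S ∈ J U ∧ ∀ {V : C} (f : V ⟶ U), S f → res J f ξ = 0 := by
  obtain ⟨η, rfl⟩ := Ext.covariant_sequence_exact₁ (Zfree J U) hE ξ
    (Ext.eq_zero_of_injective _) (rfl : n + 1 + 1 = n + 1 + 1)
  obtain ⟨S, hS, h⟩ := ih U η
  refine ⟨S, hS, fun {V} f hf => ?_⟩
  rw [res_comp_extClass, h f hf, Ext.zero_comp]

theorem kill_class : ∀ (n : ℕ) (F : Sheaf J AddCommGrpCat.{u}) (U : C)
    (ξ : Ext (Zfree J U) F (n + 1)),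
    ∃ S : Sieve U, S ∈ J U ∧ ∀ {V : C} (f : V ⟶ U), S f → res J f ξ = 0 := by
  intro n
  induction n with
  | zero =>
    intro F U ξ
    exact kill_zero J (ExtAcyc.sesUnder_shortExact F) inferInstance U ξ
  | succ n ih =>
    intro F U ξ
    exact kill_succ J (ExtAcyc.sesUnder_shortExact F) inferInstance n
      (fun U η => ih _ U η) U ξ

end Groth.Agent.Lib.Helper6.KillClass
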