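import Groth.Agent.Lib.Helper6.LocCohZLES
import Groth.Agent.Lib.Helper6.KillClass

/-!
# `ℋ^n_Z(F) = 0` if all classes of `H^n_{Z ∩ V}(V, F)` die locally (helper6)
-/

universe u

open CategoryTheory Limits Opposite TopologicalSpace Abelian

namespace Groth.Agent.Lib.Helper6.LocCohZLocal2

open CohTop LocCohZSupp LocCohZFlasque DeltaCompare LocCohZLocal ExtAcyc

variable {X : TopCat.{u}} (U : Opens X)

/-- the map `ℤ_{V'}/ℤ_{V' ⊓ U} ⟶ ℤ_V/ℤ_{V ⊓ U}` -/
noncomputable abbrev zm {V V' : Opens X} (hV : V' ≤ V) : AV U V' ⟶ AV U V :=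
  LocCohZ.zqMap (inf_le_left : V ⊓ U ≤ V) (inf_le_left : V' ⊓ U ≤ V') (inf_le_inf_right U hV) hV

/-- restriction of classes with supports -/
noncomputable def ρ {V V' : Opens X} (hV : V' ≤ V) {G : Ab X} {n : ℕ} (x : Ext (AV U V) G n) :
    Ext (AV U V') G n :=
  (Ext.mk₀ (zm U hV)).comp x (zero_add n)

lemma ρ_comp {V V' : Opens X} (hV : V' ≤ V) {G G' : Ab X} {n m k : ℕ} (x : Ext (AV U V) G n)
    (β : Ext G G' m) (h : n + m = k) : ρ U hV (x.comp β h) = (ρ U hV x).comp β h :=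
  (Ext.comp_assoc (Ext.mk₀ (zm U hV)) x β (zero_add n) h (by omega)).symm

lemma ρ_zero {V V' : Opens X} (hV : V' ≤ V) {G : Ab X} {n : ℕ} :
    ρ U hV (0 : Ext (AV U V) G n) = 0 := Ext.comp_zero _ _ _ _ _

/-- compatibility of `sect0Equiv` with change of the pair of opens -/
lemma sect0Equiv_zqMap (G : Ab X) {W V W' V' : Opens X} (h : W ≤ V) (h' : W' ≤ V')
    (hW : W' ≤ W) (hV : V' ≤ V) (y : Ext (LocCohZ.zq h) G 0) :
    (LocCohZ.sect0Equiv G h' ((Ext.mk₀ (LocCohZ.zqMap h h' hW hV)).comp y (zero_add 0))).1 =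
      G.obj.map (homOfLE hV).op (LocCohZ.sect0Equiv G h y).1 := by
  obtain ⟨g, rfl⟩ := Ext.addEquiv₀.symm.surjective y
  change CohFree.evalGen _ V' G (cokernel.π _ ≫ Ext.addEquiv₀
      ((Ext.mk₀ (LocCohZ.zqMap h h' hW hV)).comp (Ext.addEquiv₀.symm g) (zero_add 0))) =
    G.obj.map (homOfLE hV).op (CohFree.evalGen _ V G (cokernel.π _ ≫
      Ext.addEquiv₀ (Ext.addEquiv₀.symm g)))
  rw [Ext.addEquiv₀_symm_apply, Ext.mk₀_comp_mk₀, ← Ext.addEquiv₀_symm_apply,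
    ← Ext.addEquiv₀_symm_apply, AddEquiv.apply_symm_apply, AddEquiv.apply_symm_apply]
  have hπ : cokernel.π (CohCx.freeSheafMap (Opens.grothendieckTopology X) (homOfLE h')) ≫
      LocCohZ.zqMap h h' hW hV =
      CohCx.freeSheafMap (Opens.grothendieckTopology X) (homOfLE hV) ≫ cokernel.π _ := by
    dsimp only [LocCohZ.zqMap]
    exact cokernel.π_desc _ _ _
  rw [← Category.assoc, hπ, Category.assoc]
  exact CohFree.evalGen_freeSheafMap_comp _ (homOfLE hV) G _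

/-- `θ_V` applied to a class -/
noncomputable def τ (V : Opens X) (G : Ab X) (y : Ext (AV U V) G 0) :
    ((LocCohZ.sectSuppF U).obj G).obj.obj (op V) :=
  (AddEquiv.ofBijective (ψV U V G) (ψV_bijective U V G)).symm (LocCohZ.sect0Equiv G inf_le_left y)

lemma ψV_τ (V : Opens X) (G : Ab X) (y : Ext (AV U V) G 0) :
    ψV U V G (τ U V G y) = LocCohZ.sect0Equiv G inf_le_left y :=
  (AddEquiv.ofBijective (ψV U V G) (ψV_bijective U V G)).apply_symm_apply _

lemma ι'_τ (V : Opens X) (G : Ab X) (y : Ext (AV U V) G 0) :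
    (ι' U G).hom.app (op V) (τ U V G y) = (LocCohZ.sect0Equiv G inf_le_left y).1 :=
  congrArg Subtype.val (ψV_τ U V G y)

lemma τ_surjective (V : Opens X) (G : Ab X) (t : ((LocCohZ.sectSuppF U).obj G).obj.obj (op V)) :
    ∃ y, τ U V G y = t := by
  refine ⟨(LocCohZ.sect0Equiv G inf_le_left).symm (ψV U V G t), ?_⟩
  apply (ψV_bijective U V G).1
  rw [ψV_τ, AddEquiv.apply_symm_apply]

lemma τ_naturality (V : Opens X) {G G' : Ab X} (φ : G ⟶ G') (y : Ext (AV U V) G 0) :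
    τ U V G' (y.comp (Ext.mk₀ φ) (add_zero 0)) =
      ((LocCohZ.sectSuppF U).map φ).hom.app (op V) (τ U V G y) := by
  apply ι'_app_injective U G' V
  rw [ι'_τ, LocCohZGamma.sect0Equiv_naturality, ← ι'_τ]
  have h := map_ι' U φ
  have h' := congrArg (fun z => z.hom.app (op V) (τ U V G y)) h
  exact h'.symm

lemma τ_ρ {V V' : Opens X} (hV : V' ≤ V) (G : Ab X) (y : Ext (AV U V) G 0) :
    τ U V' G (ρ U hV y) =
      ((LocCohZ.sectSuppF U).obj G).obj.map (homOfLE hV).op (τ U V G y) := by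
  apply ι'_app_injective U G V'
  rw [ι'_τ]
  have h1 := sect0Equiv_zqMap G (inf_le_left : V ⊓ U ≤ V) (inf_le_left : V' ⊓ U ≤ V')
    (inf_le_inf_right U hV) hV y
  refine h1.trans ?_
  rw [← ι'_τ]
  exact (ConcreteCategory.congr_hom ((ι' U G).hom.naturality (homOfLE hV).op) (τ U V G y)).symm

/-- every class of `H^n_{Z ∩ V}(V, G)`, `V` open, dies locally on `V` -/
def LocVan (n : ℕ) (G : Ab X) : Prop :=
  ∀ (V : Opens X) (x : Ext (AV U V) G n) (p : X), p ∈ V →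
    ∃ (V' : Opens X) (hV : V' ≤ V), p ∈ V' ∧ ρ U hV x = 0

lemma locVan_X₃ (F : Ab X) (n : ℕ) (h : LocVan U (n + 2) F) :
    LocVan U (n + 1) (sesUnder F).X₃ := by
  have hS := sesUnder_shortExact F
  intro V x p hp
  obtain ⟨V', hV, hpV', hx⟩ := h V (x.comp hS.extClass rfl) p hp
  refine ⟨V', hV, hpV', ?_⟩
  have hx' : (ρ U hV x).comp hS.extClass rfl = 0 :=
    (ρ_comp U hV (G := (sesUnder F).X₃) (G' := (sesUnder F).X₁) x hS.extClass rfl).symm.trans hx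
  obtain ⟨y, hy⟩ := Ext.covariant_sequence_exact₃ (AV U V') hS (ρ U hV x) rfl hx'
  rw [← hy, Ext.eq_zero_of_injective y, Ext.zero_comp]

/-- `ℋ^{n+1}_Z(F) = 0` if all classes of `H^{n+1}_{Z ∩ V}(V, F)` die locally -/
theorem isZero_HZsh_of_locVan : ∀ (n : ℕ) (F : Ab X), LocVan U (n + 1) F →
    IsZero ((LocCohZ.HZsh U (n + 1)).obj F) := by
  intro n
  induction n with
  | zero =>
    intro F h
    rw [isZero_HZsh_one_iff]
    have hS := sesUnder_shortExact F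
    refine (TopCat.Sheaf.isLocallySurjective_iff_epi _).1 ?_
    rw [TopCat.Presheaf.isLocallySurjective_iff]
    intro V t p hp
    obtain ⟨y, rfl⟩ := τ_surjective U V (sesUnder F).X₃ t
    obtain ⟨V', hV, hpV', hx⟩ := h V (y.comp hS.extClass (zero_add 1)) p hp
    have hx' : (ρ U hV y).comp hS.extClass (zero_add 1) = 0 :=
      (ρ_comp U hV (G := (sesUnder F).X₃) (G' := (sesUnder F).X₁) y hS.extClass
        (zero_add 1)).symm.trans hx
    obtain ⟨y', hy'⟩ := Ext.covariant_sequence_exact₃ (AV U V') hS (ρ U hV y) (zero_add 1) hx'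
    refine ⟨V', hV, ⟨τ U V' (sesUnder F).X₂ y', ?_⟩, hpV'⟩
    have h1 := τ_naturality U V' (sesUnder F).g y'
    rw [hy', τ_ρ] at h1
    exact h1.symm
  | succ n ih =>
    intro F h
    rw [isZero_HZsh_succ_succ_iff]
    exact ih _ (locVan_X₃ U F n h)

lemma comp_comp_of_sq {𝒜 : Type*} [Category 𝒜] [Abelian 𝒜] [HasExt.{u} 𝒜] {A₂' A₃' A₂ A₃ Y : 𝒜}
    {a : A₂' ⟶ A₃'} {z : A₃' ⟶ A₃} {b : A₂' ⟶ A₂} {c : A₂ ⟶ A₃} (sq : a ≫ z = b ≫ c) {n : ℕ}
    (x : Ext A₃ Y n) :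
    (Ext.mk₀ a).comp ((Ext.mk₀ z).comp x (zero_add n)) (zero_add n) =
      (Ext.mk₀ b).comp ((Ext.mk₀ c).comp x (zero_add n)) (zero_add n) := by
  rw [← Ext.comp_assoc_of_second_deg_zero, ← Ext.comp_assoc_of_second_deg_zero,
    Ext.mk₀_comp_mk₀, Ext.mk₀_comp_mk₀, sq]

/-- `toHU` commutes with restriction -/
lemma toHU_ρ {V V' : Opens X} (hV : V' ≤ V) (F : Ab X) (n : ℕ) (x : Ext (AV U V) F n) :
    (Ext.mk₀ (LocCohZ.zqSeq (inf_le_left : V' ⊓ U ≤ V')).g).comp (ρ U hV x) (zero_add n) =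
      (Ext.mk₀ (CohCx.freeSheafMap (Opens.grothendieckTopology X) (homOfLE hV))).comp
        ((Ext.mk₀ (LocCohZ.zqSeq (inf_le_left : V ⊓ U ≤ V)).g).comp x (zero_add n))
        (zero_add n) := by
  have hπ : (LocCohZ.zqSeq (inf_le_left : V' ⊓ U ≤ V')).g ≫ zm U hV =
      CohCx.freeSheafMap (Opens.grothendieckTopology X) (homOfLE hV) ≫
        (LocCohZ.zqSeq (inf_le_left : V ⊓ U ≤ V)).g := by
    dsimp only [LocCohZ.zqSeq, LocCohZ.zqMap]
    exact cokernel.π_desc _ _ _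
  exact comp_comp_of_sq hπ x

/-- if restriction `H^n(V') ⟶ H^n(V' ⊓ U)` is surjective for all `V'`, then all classes of
`H^{n+1}_{Z ∩ V}(V, F)` die locally -/
theorem locVan_of_surjective (F : Ab X) (n : ℕ)
    (hs : ∀ V : Opens X, Function.Surjective (CohTop.res F n (inf_le_left : V ⊓ U ≤ V))) :
    LocVan U (n + 1) F := by
  intro V x p hp
  obtain ⟨S, hS, hk⟩ := KillClass.kill_class (Opens.grothendieckTopology X) n F V
    ((Ext.mk₀ (LocCohZ.zqSeq (inf_le_left : V ⊓ U ≤ V)).g).comp x (zero_add (n + 1)))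
  obtain ⟨V', f, hf, hpV'⟩ := hS p hp
  refine ⟨V', f.le, hpV', ?_⟩
  refine LocCohZLES.eq_zero_of_g_comp_eq_zero
    (LocCohZ.zqSeq_shortExact (inf_le_left : V' ⊓ U ≤ V')) F n (hs V') _ ?_
  rw [toHU_ρ]
  have := hk f hf
  have hf' : homOfLE f.le = f := Subsingleton.elim _ _
  rw [hf']
  exact this

/-- **`ℋ^i_Z(F) = 0` for `i ≤ N` if restriction to `V ⊓ U` is bijective in degrees `< N`** -/
theorem isZero_HZsh_of_bijective (F : Ab X) (N : ℕ) (hN : 0 < N)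
    (h : ∀ (V : Opens X) (i : ℕ), i < N →
      Function.Bijective (CohTop.res F i (inf_le_left : V ⊓ U ≤ V))) :
    ∀ i : ℕ, i ≤ N → IsZero ((LocCohZ.HZsh U i).obj F) := by
  obtain ⟨M, rfl⟩ : ∃ M, N = M + 1 := ⟨N - 1, by omega⟩
  intro i hi
  rcases Nat.lt_or_ge i (M + 1) with hlt | hge
  · exact (LocCohZLES.isZero_HZsh_le_iff F U M).2
      (fun V => ⟨fun j hj => h V j (by omega), (h V M (by omega)).1⟩) i (by omega)
  · obtain rfl : i = M + 1 := le_antisymm hi hge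
    exact isZero_HZsh_of_locVan U M F
      (locVan_of_surjective U F M (fun V => (h V M (by omega)).2))

end Groth.Agent.Lib.Helper6.LocCohZLocal2
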