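import Groth.Agent.Lib.Helper6.CechResT
import Groth.Agent.Lib.Helper6.CechCartan
import Groth.Agent.Lib.Helper6.CohSiteOverSet
import Mathlib.CategoryTheory.Sites.Pullback
import Mathlib.CategoryTheory.Adjunction.Additive

/-!
# Direct image along a morphism of topoi preserves total acyclicity (helper6)

`u : D ⥤ C` continuous with `u^*` exact on sheaves of *sets*; no exactness of `u^*` on abelian sheaves is
used: the proof goes through Cartan's criterion.
-/

universe u

open CategoryTheory Limits Opposite Simplicial AlgebraicTopology Abelian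

namespace Groth.Agent.Lib.Helper6.PushTotAcyc

open CohSiteOverSet (ZF adjZ)

variable {C D : Type u} [SmallCategory C] [SmallCategory D]
  (J : GrothendieckTopology C) (K : GrothendieckTopology D) (u : D ⥤ C) [u.IsContinuous K J]

/-- direct image -/
noncomputable abbrev Rab : Sheaf J AddCommGrpCat.{u} ⥤ Sheaf K AddCommGrpCat.{u} := CohSite.push J K u

/-- inverse image -/
noncomputable abbrev Lab : Sheaf K AddCommGrpCat.{u} ⥤ Sheaf J AddCommGrpCat.{u} :=
  u.sheafPullback AddCommGrpCat.{u} K J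

/-- the adjunction -/
noncomputable abbrev adjab : Lab J K u ⊣ Rab J K u :=
  u.sheafAdjunctionContinuous AddCommGrpCat.{u} K J

/-- direct image of sheaves of sets -/
abbrev Rset : Sheaf J (Type u) ⥤ Sheaf K (Type u) :=
  u.sheafPushforwardContinuous (Type u) K J

/-- inverse image of sheaves of sets -/
noncomputable abbrev Lset : Sheaf K (Type u) ⥤ Sheaf J (Type u) :=
  u.sheafPullback (Type u) K J

/-- the adjunction for sheaves of sets -/
noncomputable abbrev adjset : Lset J K u ⊣ Rset J K u :=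
  u.sheafAdjunctionContinuous (Type u) K J

instance : (Lab J K u).Additive := (adjab J K u).left_adjoint_additive

/-- direct image commutes with the forgetful functors -/
noncomputable def rightIso :
    Rab J K u ⋙ sheafCompose K (forget AddCommGrpCat.{u}) ≅
      sheafCompose J (forget AddCommGrpCat.{u}) ⋙ Rset J K u :=
  Iso.refl _

/-- inverse image commutes with the free functors -/
noncomputable def leftIso : ZF K ⋙ Lab J K u ≅ Lset J K u ⋙ ZF J :=
  ((adjZ K).comp (adjab J K u)).leftAdjointUniq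
    (((adjset J K u).comp (adjZ J)).ofNatIsoRight (rightIso J K u).symm)

/-- the additive bijection `Hom(ℤ[L], u_* F) ≃ Hom(ℤ[u^* L], F)` -/
noncomputable def θ (L : Sheaf K (Type u)) (F : Sheaf J AddCommGrpCat.{u}) :
    ((ZF K).obj L ⟶ (Rab J K u).obj F) ≃+ ((ZF J).obj ((Lset J K u).obj L) ⟶ F) :=
  ((adjab J K u).homAddEquiv ((ZF K).obj L) F).symm.trans
    { toFun := fun x => ((leftIso J K u).app L).inv ≫ x
      invFun := fun x => ((leftIso J K u).app L).hom ≫ x
      left_inv := fun x => by simp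
      right_inv := fun x => by simp
      map_add' := fun x y => Preadditive.comp_add _ _ _ _ _ _ }

lemma θ_naturality {L L' : Sheaf K (Type u)} (g : L' ⟶ L) (F : Sheaf J AddCommGrpCat.{u})
    (x : (ZF K).obj L ⟶ (Rab J K u).obj F) :
    θ J K u L' F ((ZF K).map g ≫ x) = (ZF J).map ((Lset J K u).map g) ≫ θ J K u L F x := by
  change ((leftIso J K u).app L').inv ≫ ((adjab J K u).homEquiv _ _).symm ((ZF K).map g ≫ x) =
    (ZF J).map ((Lset J K u).map g) ≫ ((leftIso J K u).app L).inv ≫
      ((adjab J K u).homEquiv _ _).symm x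
  rw [Adjunction.homEquiv_naturality_left_symm]
  have := (leftIso J K u).inv.naturality g
  simp only [Functor.comp_map, Iso.app_inv] at this ⊢
  rw [← Category.assoc, ← this, Category.assoc]

section Transfer

variable [PreservesFiniteLimits (Lset J K u)] {L' L : Sheaf K (Type u)} (f : L' ⟶ L)
  (F : Sheaf J AddCommGrpCat.{u})

/-- the Čech chain complex on `D` -/
noncomputable abbrev PD : ChainComplex (Sheaf K AddCommGrpCat.{u}) ℕ := CechAcyc.P f

/-- the transported Čech chain complex on `C` -/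
noncomputable abbrev PC : ChainComplex (Sheaf J AddCommGrpCat.{u}) ℕ :=
  (alternatingFaceMapComplex _).obj (CechResT.Tg J (Lset J K u) f).left

omit [PreservesFiniteLimits (Lset J K u)] in
lemma θ_sum {L₁ L₂ : Sheaf K (Type u)} {ι : Type} [Fintype ι] (c : ι → ℤ) (g : ι → (L₁ ⟶ L₂))
    (x : (ZF K).obj L₂ ⟶ (Rab J K u).obj F) :
    θ J K u L₁ F ((∑ i, c i • (ZF K).map (g i)) ≫ x) =
      (∑ i, c i • (ZF J).map ((Lset J K u).map (g i))) ≫ θ J K u L₂ F x := by
  rw [Preadditive.sum_comp, Preadditive.sum_comp, map_sum]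
  refine Finset.sum_congr rfl (fun i _ => ?_)
  rw [Preadditive.zsmul_comp, Preadditive.zsmul_comp, map_zsmul, θ_naturality]

lemma θ_d (n : ℕ) (x : (PD K f).X n ⟶ (Rab J K u).obj F) :
    θ J K u ((Arrow.mk f).cechNerve.obj (op ⦋n + 1⦌)) F ((PD K f).d (n + 1) n ≫ x) =
      (PC J K u f).d (n + 1) n ≫ θ J K u ((Arrow.mk f).cechNerve.obj (op ⦋n⦌)) F x := by
  have h1 : (PD K f).d (n + 1) n =
      ∑ i : Fin (n + 2), ((-1 : ℤ) ^ (i : ℕ)) • (ZF K).map ((Arrow.mk f).cechNerve.δ i) :=
    AlternatingFaceMapComplex.obj_d_eq _ _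
  have h2 : (PC J K u f).d (n + 1) n =
      ∑ i : Fin (n + 2), ((-1 : ℤ) ^ (i : ℕ)) •
        (ZF J).map ((Lset J K u).map ((Arrow.mk f).cechNerve.δ i)) :=
    AlternatingFaceMapComplex.obj_d_eq _ _
  have h3 := θ_sum J K u F (fun i : Fin (n + 2) => (-1 : ℤ) ^ (i : ℕ))
    (fun i => (Arrow.mk f).cechNerve.δ i) x
  refine Eq.trans ?_ (h3.trans ?_)
  · exact congrArg (fun d => θ J K u ((Arrow.mk f).cechNerve.obj (op ⦋n + 1⦌)) F (d ≫ x)) h1
  · exact congrArg (fun d => d ≫ θ J K u ((Arrow.mk f).cechNerve.obj (op ⦋n⦌)) F x) h2.symm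

theorem cechAcyclic_push (hF : CohCx.IsTotallyAcyclic F) :
    CechCartan.CechAcyclic ((Rab J K u).obj F) := by
  intro L' L f hf q
  apply CechAcyc.isZero_of_exists_factor
  intro x hx
  have : (Lset J K u).PreservesEpimorphisms :=
    Functor.preservesEpimorphisms_of_adjunction (adjset J K u)
  have : Epi ((Lset J K u).map f) := inferInstance
  have := CechResT.quasiIso_ε J (Lset J K u) f
  have hx' : (PC J K u f).d (q + 2) (q + 1) ≫
      θ J K u ((Arrow.mk f).cechNerve.obj (op ⦋q + 1⦌)) F x = 0 :=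
    (θ_d J K u f F (q + 1) x).symm.trans
      ((congrArg (θ J K u ((Arrow.mk f).cechNerve.obj (op ⦋q + 1 + 1⦌)) F) hx).trans (map_zero _))
  obtain ⟨y', hy'⟩ := LeftAcyc.exists_factor (PC J K u f)
    (AlternatingFaceMapComplex.ε.app (CechResT.Tg J (Lset J K u) f)) F
    (fun n j x => (hF _ j).elim _ _) (fun j x => (hF _ j).elim _ _) q _ hx'
  refine ⟨(θ J K u ((Arrow.mk f).cechNerve.obj (op ⦋q⦌)) F).symm y', ?_⟩
  apply (θ J K u ((Arrow.mk f).cechNerve.obj (op ⦋q + 1⦌)) F).injective
  exact (θ_d J K u f F q _).trans ((congrArg (fun z => (PC J K u f).d (q + 1) q ≫ z)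
    (AddEquiv.apply_symm_apply _ y')).trans hy')

/-- direct image along a morphism of topoi preserves total acyclicity -/
theorem totallyAcyclic_push (hF : CohCx.IsTotallyAcyclic F) :
    CohCx.IsTotallyAcyclic ((Rab J K u).obj F) :=
  CechCartan.totallyAcyclic_of_cechAcyclic _ (cechAcyclic_push J K u F hF)

end Transfer

end Groth.Agent.Lib.Helper6.PushTotAcyc
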