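import Groth.Agent.Lib.Helper6.GrothSS
import Groth.Agent.Lib.Helper6.ExtRD
import Groth.Agent.Lib.Helper6.CechFamDerived
import Groth.Agent.Lib.Helper6.PushTotAcyc
import Groth.Agent.Lib.Helper6.TotAcyc
import Groth.Agent.Lib.Helper6.CechCartan
import Groth.Agent.Lib.Helper6.CohSiteSheafify

/-!
# The Leray spectral sequences on sites (helper6)
-/

universe u

open CategoryTheory Limits Opposite Abelian

namespace Groth.Agent.Lib.Helper6.LeraySS

open CechFamDerived SheafCoh

section Sections

variable {C : Type u} [SmallCategory C] (J : GrothendieckTopology C) (U : C)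

instance : (ΓU J (U := U)).Additive where
  map_add {F G f g} := by
    change (f + g).hom.app (op U) = f.hom.app (op U) + g.hom.app (op U)
    rw [Sheaf.Hom.add_app]

instance : PreservesFiniteLimits (ΓU J (U := U)) := by
  have : PreservesLimits (sheafToPresheaf J AddCommGrpCat.{u}) :=
    (sheafificationAdjunction J AddCommGrpCat.{u}).rightAdjoint_preservesLimits
  have : PreservesFiniteLimits (sheafToPresheaf J AddCommGrpCat.{u}) :=
    PreservesLimits.preservesFiniteLimits _
  exact comp_preservesFiniteLimits _ _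

/-- `H^q(U, F)` is the `q`-th right derived functor of sections over `U`. -/
lemma nonempty_HU_iso (F : Sheaf J AddCommGrpCat.{u}) (q : ℕ) :
    Nonempty (AddCommGrpCat.of (CohSite.HU F q U) ≅ ((ΓU J (U := U)).rightDerived q).obj F) :=
  ExtRD.nonempty_ext_iso_rightDerived (Zfree J U) (ΓU J (U := U)) (θT J) F q

end Sections

section Leray

variable {C D : Type u} [SmallCategory C] [SmallCategory D]
  (J : GrothendieckTopology C) (K : GrothendieckTopology D) (u : D ⥤ C) [u.IsContinuous K J]

/-- sections of the direct image -/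
noncomputable def pushSectionsIso (V : D) :
    CohSite.push J K u ⋙ ΓU K (U := V) ≅ ΓU J (U := u.obj V) :=
  NatIso.ofComponents (fun F => Iso.refl _) (fun {F G} f => by
    simp only [Iso.refl_hom]
    rfl)

variable [PreservesFiniteLimits (u.sheafPullback (Type u) K J)]

lemma isZero_rightDerived_sections_push (Q : Sheaf J AddCommGrpCat.{u}) [Injective Q] (V : D)
    (q : ℕ) (hq : 0 < q) :
    IsZero (((ΓU K (U := V)).rightDerived q).obj ((CohSite.push J K u).obj Q)) := by
  obtain ⟨e⟩ := nonempty_HU_iso K V ((CohSite.push J K u).obj Q) q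
  refine IsZero.of_iso ?_ e.symm
  obtain ⟨q', rfl⟩ : ∃ q', q = q' + 1 := ⟨q - 1, by lia⟩
  have h1 := CechCartan.totallyAcyclic_of_injective Q
  have h2 := PushTotAcyc.totallyAcyclic_push J K u Q h1
  have := TotAcyc.subsingleton_HU K h2 V q'
  exact AddCommGrpCat.isZero_of_subsingleton _

/-- **The Leray spectral sequence** `H^p(V, R^q u_* M) ⇒ H^{p+q}(u V, M)`. -/
theorem leray (M : Sheaf J AddCommGrpCat.{u}) (V : D) :
    ∃ (E : E₂CohomologicalSpectralSequence AddCommGrpCat.{u})
      (a : SpSeq.Abutment E (fun n : ℤ =>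
        if 0 ≤ n then AddCommGrpCat.of (CohSite.HU M n.toNat (u.obj V))
        else AddCommGrpCat.of PUnit.{u + 1})),
      (∀ n, a.IsFinite n) ∧ SpSeq.IsBounded E ∧
      ∀ p q : ℤ, Nonempty ((E.page 2 le_rfl).X (p, q) ≅
        (if 0 ≤ p ∧ 0 ≤ q then
          AddCommGrpCat.of (CohSite.HU ((CohSite.Rpush J K u q.toNat).obj M) p.toNat V)
         else AddCommGrpCat.of PUnit.{u + 1})) := by
  refine GrothSS.exists_spectralSequence' (CohSite.push J K u) (ΓU K (U := V))
    (fun Q hQ q hq => by
      have := hQ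
      exact isZero_rightDerived_sections_push J K u Q V q hq) M _ ?_ ?_ _ ?_ ?_
  · intro n
    obtain ⟨e⟩ := nonempty_HU_iso J (u.obj V) M n
    refine ⟨(GrothSS.rightDerivedIsoOfIso (pushSectionsIso J K u V) n).app M ≪≫ e.symm ≪≫
      eqToIso ?_⟩
    simp
  · intro n hn
    rw [if_neg (by lia)]
    exact AddCommGrpCat.isZero_of_subsingleton _
  · intro p q
    obtain ⟨e⟩ := nonempty_HU_iso K V ((CohSite.Rpush J K u q).obj M) p
    refine ⟨e.symm ≪≫ eqToIso ?_⟩
    simp
  · intro p q h
    rw [if_neg h]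
    exact AddCommGrpCat.isZero_of_subsingleton _

end Leray

section Relative

open scoped ZeroObject

variable {C D B : Type u} [SmallCategory C] [SmallCategory D] [SmallCategory B]
  (J : GrothendieckTopology C) (K : GrothendieckTopology D) (L : GrothendieckTopology B)
  (u : D ⥤ C) [u.IsContinuous K J] (w : B ⥤ D) [w.IsContinuous L K] [(w ⋙ u).IsContinuous L J]

/-- composition of direct images -/
noncomputable def pushCompIso :
    CohSite.push J K u ⋙ CohSite.push K L w ≅ CohSite.push J L (w ⋙ u) :=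
  NatIso.ofComponents (fun F => Iso.refl _) (fun {F G} f => by
    simp only [Iso.refl_hom]
    rfl)

variable [PreservesFiniteLimits (u.sheafPullback (Type u) K J)]

omit [(w ⋙ u).IsContinuous L J] in
lemma isZero_Rpush_push (Q : Sheaf J AddCommGrpCat.{u}) [Injective Q] (q : ℕ) (hq : 0 < q) :
    IsZero ((CohSite.Rpush K L w q).obj ((CohSite.push J K u).obj Q)) := by
  obtain ⟨e⟩ := CohSiteSheafify.nonempty_Rpush_iso_sheafify K L w ((CohSite.push J K u).obj Q) q
  refine IsZero.of_iso ?_ e
  obtain ⟨q', rfl⟩ : ∃ q', q = q' + 1 := ⟨q - 1, by lia⟩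
  have h1 := CechCartan.totallyAcyclic_of_injective Q
  have h2 := PushTotAcyc.totallyAcyclic_push J K u Q h1
  apply Functor.map_isZero
  rw [Functor.isZero_iff]
  intro X
  have hs := TotAcyc.subsingleton_HU K h2 (w.obj X.unop) q'
  exact @AddCommGrpCat.isZero_of_subsingleton _ hs

/-- **The relative Leray spectral sequence** `R^p w_* (R^q u_* M) ⇒ R^{p+q} (u w)_* M`. -/
theorem relative_leray (M : Sheaf J AddCommGrpCat.{u}) :
    ∃ (E : E₂CohomologicalSpectralSequence (Sheaf L AddCommGrpCat.{u}))
      (a : SpSeq.Abutment E (fun n : ℤ =>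
        if 0 ≤ n then (CohSite.Rpush J L (w ⋙ u) n.toNat).obj M else 0)),
      (∀ n, a.IsFinite n) ∧ SpSeq.IsBounded E ∧
      ∀ p q : ℤ, Nonempty ((E.page 2 le_rfl).X (p, q) ≅
        (if 0 ≤ p ∧ 0 ≤ q then
          (CohSite.Rpush K L w p.toNat).obj ((CohSite.Rpush J K u q.toNat).obj M) else 0)) := by
  have := CohSiteSheafify.push_pfl K L w
  refine GrothSS.exists_spectralSequence' (CohSite.push J K u) (CohSite.push K L w)
    (fun Q hQ q hq => by
      have := hQ
      exact isZero_Rpush_push J K L u w Q q hq) M _ ?_ ?_ _ ?_ ?_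
  · intro n
    refine ⟨(GrothSS.rightDerivedIsoOfIso (pushCompIso J K L u w) n).app M ≪≫ eqToIso ?_⟩
    simp
  · intro n hn
    rw [if_neg (by lia)]
    exact isZero_zero _
  · intro p q
    refine ⟨eqToIso ?_⟩
    simp
  · intro p q h
    rw [if_neg h]
    exact isZero_zero _

end Relative

end Groth.Agent.Lib.Helper6.LeraySS
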