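import Groth.Agent.Lib.Helper6.LocCohZGamma
import Groth.Agent.Lib.Helper6.GrothSS
import Groth.Agent.Lib.Helper6.LeraySS
import Groth.Prelude.Def_SpSeq

/-!
# The local-to-global spectral sequence `H^p(X, ℋ^q_Z(F)) ⇒ H^{p+q}_Z(X, F)` (helper6)
-/

universe u

open CategoryTheory Limits Opposite TopologicalSpace Abelian

namespace Groth.Agent.Lib.Helper6.LocCohZSS

open CohTop LocCohZSupp LocCohZGamma CechFamDerived

variable {X : TopCat.{u}} (U : Opens X)

/-- flasque sheaves are acyclic for sections over an open -/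
lemma isZero_rightDerived_ΓU_of_isFlasque (G : Ab X) [TopCat.Sheaf.IsFlasque G] (W : Opens X)
    (q : ℕ) (hq : 0 < q) :
    IsZero (((ΓU (Opens.grothendieckTopology X) (U := W)).rightDerived q).obj G) := by
  obtain ⟨e⟩ := LeraySS.nonempty_HU_iso (Opens.grothendieckTopology X) W G q
  refine IsZero.of_iso ?_ e.symm
  obtain ⟨q', rfl⟩ : ∃ q', q = q' + 1 := ⟨q - 1, by lia⟩
  have : Subsingleton (CohSite.HU G (q' + 1) W) :=
    ⟨fun a b => (SheafCoh.flasque_HU_eq_zero G W q' a).trans (SheafCoh.flasque_HU_eq_zero G W q' b).symm⟩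
  exact AddCommGrpCat.isZero_of_subsingleton _

/-- **the local-to-global spectral sequence for cohomology with supports** -/
theorem locToGlob (F : Ab X) :
    ∃ (E : E₂CohomologicalSpectralSequence AddCommGrpCat.{u})
      (a : SpSeq.Abutment E (fun n : ℤ =>
        if 0 ≤ n then AddCommGrpCat.of (LocCohZ.HZc F n.toNat U) else AddCommGrpCat.of PUnit.{u + 1})),
      (∀ n : ℤ, a.IsFinite n) ∧ SpSeq.IsBounded E ∧
      ∀ p q : ℤ, Nonempty ((E.page 2 le_rfl).X (p, q) ≅
        (if 0 ≤ p ∧ 0 ≤ q then AddCommGrpCat.of (CohTop.HU ((LocCohZ.HZsh U q.toNat).obj F) p.toNat ⊤)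
          else AddCommGrpCat.of PUnit.{u + 1})) := by
  refine GrothSS.exists_spectralSequence' (LocCohZ.sectSuppF U)
    (ΓU (Opens.grothendieckTopology X) (U := (⊤ : Opens X)))
    (fun Q hQ q hq => by
      have := hQ
      have : TopCat.Sheaf.IsFlasque ((LocCohZ.sectSuppF U).obj Q) := isFlasque_sectSupp U Q
      exact isZero_rightDerived_ΓU_of_isFlasque _ ⊤ q hq) F _ ?_ ?_ _ ?_ ?_
  · intro n
    obtain ⟨e⟩ := nonempty_HZc_iso U F n
    refine ⟨e.symm ≪≫ eqToIso ?_⟩
    simp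
  · intro n hn
    rw [if_neg (by lia)]
    exact AddCommGrpCat.isZero_of_subsingleton _
  · intro p q
    obtain ⟨e⟩ := LeraySS.nonempty_HU_iso (Opens.grothendieckTopology X) ⊤
      ((LocCohZ.HZsh U q).obj F) p
    refine ⟨e.symm ≪≫ eqToIso ?_⟩
    simp
  · intro p q h
    rw [if_neg h]
    exact AddCommGrpCat.isZero_of_subsingleton _

end Groth.Agent.Lib.Helper6.LocCohZSS
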