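import Groth.Agent.S17647
import Groth.Agent.Lib.Helper17.FTExt2
import Groth.Agent.Lib.Helper17.Serre2
import Groth.Agent.Lib.Helper28.CounitSerre
import Mathlib
set_option backward.isDefEq.respectTransparency.types false
set_option autoImplicit false

/-!
# Deligne's formula: lifting a morphism defined off `V(I)` to `I^n G`
-/

universe u
open CategoryTheory CategoryTheory.Limits AlgebraicGeometry Opposite TopologicalSpace
open Groth.Agent.Lib.Helper17.CohKer Groth.Agent.Lib.Helper17.StalkExact Groth.Agent.Lib.Helper28.QCohLoc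

namespace Groth.Agent.Lib.Helper6.DevLift
open Groth.Agent.Lib.Helper6.DevSub Groth.Agent.Lib.Helper6.DevCore Groth.Agent.Lib.Helper6.DevSoc
  Groth.Agent.Lib.Helper6.DevRed Groth.Agent.Lib.Helper6.DevSum Groth.Agent.Lib.Helper17.Serre
  Groth.Agent.Lib.Helper6.DevStep Groth.Agent.Lib.Helper6.DevExt Groth.Agent.Lib.Helper6.DevPow
  Groth.Agent.Lib.Helper6.IdealMul Groth.Agent.Lib.Helper6.DevFin Groth.Agent.Lib.Helper6.DevRoots
  Groth.Agent.Lib.Helper6.DevChev Groth.Agent.Lib.Helper6.DevIdeal Groth.Agent.Lib.Helper6.DevGen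
  Groth.Agent.Lib.Helper6.DevDel

variable {X : Scheme.{u}}

/-- off `V(I)`, the inclusion `I^(k+1) H ⟶ H` is an isomorphism -/
theorem isIso_restrict_idealMulι (I : X.IdealSheafData) (U : X.Opens)
    (hU : (U : Set X) = (I.support : Set X)ᶜ) (H : X.Modules) (k : ℕ) :
    IsIso ((Scheme.Modules.restrictFunctor U.ι).map (Dual3.idealMulι (I ^ (k + 1)) H)) := by
  rw [Groth.Agent.S17647.isIso_restrict_iff_support]
  have hb : ∀ x ∈ (U : Set X), Function.Bijective (stalkHom (Dual3.idealMulι (I ^ (k + 1)) H) x) := by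
    intro x hx
    apply stalkHom_idealMulι_bijective
    rw [Scheme.IdealSheafData.support_pow_succ]
    rw [hU] at hx
    exact hx
  constructor
  · intro x hx hxU
    exact notMem_support_kernel _ x (fun h hh => (hb x hxU).1 (hh.trans (map_zero _).symm)) hx
  · intro x hx hxU
    exact notMem_support_cokernel _ x (hb x hxU).2 hx

section lift

variable [IsNoetherian X]

open Groth.Agent.Lib.Helper17.AnnIdeal in
/-- **the lifting lemma**: if `q : H ⟶ G` is an isomorphism off `V(I)`, then `I^n G ⟶ G` lifts through `q` for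
`n` large. -/
theorem exists_pow_lift {H G : X.Modules} (hH : Coh.IsCoh H) (hG : Coh.IsCoh G) (I : X.IdealSheafData)
    (U : X.Opens) (hU : (U : Set X) = (I.support : Set X)ᶜ) (q : H ⟶ G)
    (hq : IsIso ((Scheme.Modules.restrictFunctor U.ι).map q)) :
    ∃ (n : ℕ) (lam : (Dual3.idealMul (I ^ n)).obj G ⟶ H), lam ≫ q = Dual3.idealMulι (I ^ n) G := by
  classical
  have : H.IsQuasicoherent := hH.1
  have : SheafOfModules.IsFiniteType.{u} (R := X.ringCatSheaf) H := hH.2
  have : G.IsQuasicoherent := hG.1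
  have : SheafOfModules.IsFiniteType.{u} (R := X.ringCatSheaf) G := hG.2
  have hsupp := (Groth.Agent.S17647.isIso_restrict_iff_support U q).1 hq
  rw [hU, compl_compl] at hsupp
  -- the kernel of `q`
  have hT : Coh.IsCoh (kernel q) := isCoh_kernel q hH hG
  haveI : (kernel q).IsQuasicoherent := hT.1
  haveI : SheafOfModules.IsFiniteType.{u} (R := X.ringCatSheaf) (kernel q : X.Modules) := hT.2
  obtain ⟨m, hm⟩ := exists_pow_le_of_support_le I (annIdeal (kernel q)) (by
    rw [← SetLike.coe_subset_coe, support_annIdeal]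
    exact hsupp.1)
  obtain ⟨n, hn⟩ := exists_pow_inf_eq_zero H hH (kernel.ι q) (I ^ m) (fun V a ha s => by
    have h1 := hm V ha
    rw [annIdeal_ideal] at h1
    exact Module.mem_annihilator.1 h1 s)
  have hle : I ^ (m * n + 1) ≤ (I ^ m) ^ n := by
    rw [Scheme.IdealSheafData.le_def]
    intro V
    change (I.ideal V) ^ (m * n + 1) ≤ ((I.ideal V) ^ m) ^ n
    rw [← pow_mul]
    exact Ideal.pow_le_pow_right (Nat.le_succ _)
  -- `q` restricted to `I ^ (m * n + 1) · H` is a monomorphism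
  haveI hq'mono : Mono (Dual3.idealMulι (I ^ (m * n + 1)) H ≫ q) := by
    apply Preadditive.mono_of_cancel_zero
    intro K x hx
    let b : K ⟶ kernel q := kernel.lift q (x ≫ Dual3.idealMulι (I ^ (m * n + 1)) H) (by
      rw [Category.assoc]; exact hx)
    have hb : b ≫ kernel.ι q = x ≫ Dual3.idealMulι (I ^ (m * n + 1)) H := kernel.lift_ι _ _ _
    have hb0 : b = 0 := hn (I ^ (m * n + 1)) hle K x b hb.symm
    rw [← cancel_mono (Dual3.idealMulι (I ^ (m * n + 1)) H), zero_comp, ← hb, hb0, zero_comp]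
  have hH' : Coh.IsCoh ((Dual3.idealMul (I ^ (m * n + 1))).obj H) :=
    ⟨inferInstance, isFiniteType_of_mono (Dual3.idealMulι (I ^ (m * n + 1)) H)⟩
  -- the cokernel
  have hC : Coh.IsCoh (cokernel (Dual3.idealMulι (I ^ (m * n + 1)) H ≫ q)) := isCoh_cokernel _ hH' hG
  haveI : (cokernel (Dual3.idealMulι (I ^ (m * n + 1)) H ≫ q)).IsQuasicoherent := hC.1
  haveI : SheafOfModules.IsFiniteType.{u} (R := X.ringCatSheaf)
    (cokernel (Dual3.idealMulι (I ^ (m * n + 1)) H ≫ q) : X.Modules) := hC.2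
  have hiso : IsIso ((Scheme.Modules.restrictFunctor U.ι).map (Dual3.idealMulι (I ^ (m * n + 1)) H ≫ q)) := by
    rw [Functor.map_comp]
    haveI := isIso_restrict_idealMulι I U hU H (m * n)
    haveI := hq
    infer_instance
  have hsupp' := (Groth.Agent.S17647.isIso_restrict_iff_support U _).1 hiso
  rw [hU, compl_compl] at hsupp'
  obtain ⟨a, ha⟩ := exists_pow_le_of_support_le I
    (annIdeal (cokernel (Dual3.idealMulι (I ^ (m * n + 1)) H ≫ q))) (by
    rw [← SetLike.coe_subset_coe, support_annIdeal]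
    exact hsupp'.2)
  have hkill : Dual3.idealMulι (I ^ a) G ≫ cokernel.π (Dual3.idealMulι (I ^ (m * n + 1)) H ≫ q) = 0 :=
    idealMulι_comp_eq_zero (I ^ a) G (fun V r hr s => by
      have h1 := ha V hr
      rw [annIdeal_ideal] at h1
      exact Module.mem_annihilator.1 h1 s) _
  let lam : (Dual3.idealMul (I ^ a)).obj G ⟶ (Dual3.idealMul (I ^ (m * n + 1))).obj H :=
    Abelian.monoLift (Dual3.idealMulι (I ^ (m * n + 1)) H ≫ q) (Dual3.idealMulι (I ^ a) G) hkill
  have hlam : lam ≫ Dual3.idealMulι (I ^ (m * n + 1)) H ≫ q = Dual3.idealMulι (I ^ a) G :=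
    Abelian.monoLift_comp _ _ _
  exact ⟨a, lam ≫ Dual3.idealMulι (I ^ (m * n + 1)) H, by rw [Category.assoc]; exact hlam⟩

end lift

section main

variable [IsNoetherian X]

open Groth.Agent.Lib.Helper17.FTExt in
/-- the graph of a morphism `F₁|_U ⟶ F₂|_U` extends to a coherent submodule of `F₁ ⊞ F₂` -/
theorem exists_graph_extension (F₁ F₂ : X.Modules) (h₁ : Coh.IsCoh F₁) (h₂ : Coh.IsQCoh F₂) (U : X.Opens)
    (φ : (Scheme.Modules.restrictFunctor U.ι).obj F₁ ⟶ (Scheme.Modules.restrictFunctor U.ι).obj F₂) :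
    ∃ (H : X.Modules) (p₁ : H ⟶ F₁) (p₂ : H ⟶ F₂), Coh.IsCoh H ∧
      IsIso ((Scheme.Modules.restrictFunctor U.ι).map p₁) ∧
      (Scheme.Modules.restrictFunctor U.ι).map p₂ = (Scheme.Modules.restrictFunctor U.ι).map p₁ ≫ φ := by
  classical
  haveI : F₂.IsQuasicoherent := h₂
  haveI : F₁.IsQuasicoherent := h₁.1
  haveI : SheafOfModules.IsFiniteType.{u} (R := X.ringCatSheaf) F₁ := h₁.2
  let i' : (Scheme.Modules.restrictFunctor U.ι).obj F₁ ⟶ (Scheme.Modules.restrictFunctor U.ι).obj (F₁ ⊞ F₂) :=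
    (Scheme.Modules.restrictFunctor U.ι).map biprod.inl + φ ≫ (Scheme.Modules.restrictFunctor U.ι).map biprod.inr
  have hi'1 : i' ≫ (Scheme.Modules.restrictFunctor U.ι).map biprod.fst = 𝟙 _ := by
    simp only [i', Preadditive.add_comp, Category.assoc, ← Functor.map_comp, biprod.inl_fst, biprod.inr_fst,
      CategoryTheory.Functor.map_id, Functor.map_zero, comp_zero, add_zero]
  have hi'2 : i' ≫ (Scheme.Modules.restrictFunctor U.ι).map biprod.snd = φ := by
    simp only [i', Preadditive.add_comp, Category.assoc, ← Functor.map_comp, biprod.inl_snd, biprod.inr_snd,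
      CategoryTheory.Functor.map_id, Functor.map_zero, Category.comp_id, zero_add]
  haveI : Mono i' := mono_of_mono_fac hi'1
  have hUc : IsCompact (U : Set X) := NoetherianSpace.isCompact _
  haveI : (F₁.restrict U.ι).IsQuasicoherent := inferInstance
  haveI : SheafOfModules.IsFiniteType.{u} (R := (U : Scheme.{u}).ringCatSheaf) (F₁.restrict U.ι) :=
    Groth.Agent.Lib.Helper28.CounitSerre.isFiniteType_restrict F₁ U
  obtain ⟨H, i, e, hi, hHq, hHf, he⟩ := exists_extension_qcqs U hUc (F₁ ⊞ F₂) (F₁.restrict U.ι) i'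
  have hq : (Scheme.Modules.restrictFunctor U.ι).map (i ≫ biprod.fst) = e.hom := by
    rw [Functor.map_comp, ← he, Category.assoc, hi'1, Category.comp_id]
  have hp : (Scheme.Modules.restrictFunctor U.ι).map (i ≫ biprod.snd) = e.hom ≫ φ := by
    rw [Functor.map_comp, ← he, Category.assoc, hi'2]
  refine ⟨H, i ≫ biprod.fst, i ≫ biprod.snd, ⟨hHq, hHf⟩, by rw [hq]; infer_instance, ?_⟩
  rw [hp, hq]

open Groth.Agent.Lib.Helper17.FTExt in
/-- **Deligne's formula, existence part**: a morphism `G|_U ⟶ F|_U` off `V(I)` extends to `I^n G ⟶ F`. -/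
theorem exists_hom_restrict_compl (F G : X.Modules) (hF : Coh.IsQCoh F) (hG : Coh.IsCoh G)
    (I : X.IdealSheafData) (U : X.Opens) (hU : (U : Set X) = (I.support : Set X)ᶜ)
    (φ : (Scheme.Modules.restrictFunctor U.ι).obj G ⟶ (Scheme.Modules.restrictFunctor U.ι).obj F) :
    ∃ (n : ℕ) (ψ : (Dual3.idealMul (I ^ n)).obj G ⟶ F),
      (Scheme.Modules.restrictFunctor U.ι).map ψ =
        (Scheme.Modules.restrictFunctor U.ι).map (Dual3.idealMulι (I ^ n) G) ≫ φ := by
  classical
  haveI : F.IsQuasicoherent := hF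
  haveI : G.IsQuasicoherent := hG.1
  haveI : SheafOfModules.IsFiniteType.{u} (R := X.ringCatSheaf) G := hG.2
  let i' : (Scheme.Modules.restrictFunctor U.ι).obj G ⟶ (Scheme.Modules.restrictFunctor U.ι).obj (G ⊞ F) :=
    (Scheme.Modules.restrictFunctor U.ι).map biprod.inl + φ ≫ (Scheme.Modules.restrictFunctor U.ι).map biprod.inr
  have hi'1 : i' ≫ (Scheme.Modules.restrictFunctor U.ι).map biprod.fst = 𝟙 _ := by
    simp only [i', Preadditive.add_comp, Category.assoc, ← Functor.map_comp, biprod.inl_fst, biprod.inr_fst,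
      CategoryTheory.Functor.map_id, Functor.map_zero, comp_zero, add_zero]
  have hi'2 : i' ≫ (Scheme.Modules.restrictFunctor U.ι).map biprod.snd = φ := by
    simp only [i', Preadditive.add_comp, Category.assoc, ← Functor.map_comp, biprod.inl_snd, biprod.inr_snd,
      CategoryTheory.Functor.map_id, Functor.map_zero, Category.comp_id, zero_add]
  haveI : Mono i' := mono_of_mono_fac hi'1
  have hUc : IsCompact (U : Set X) := NoetherianSpace.isCompact _
  haveI : (G.restrict U.ι).IsQuasicoherent := inferInstance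
  haveI : SheafOfModules.IsFiniteType.{u} (R := (U : Scheme.{u}).ringCatSheaf) (G.restrict U.ι) :=
    Groth.Agent.Lib.Helper28.CounitSerre.isFiniteType_restrict G U
  obtain ⟨H, i, e, hi, hHq, hHf, he⟩ := exists_extension_qcqs U hUc (G ⊞ F) (G.restrict U.ι) i'
  have hH : Coh.IsCoh H := ⟨hHq, hHf⟩
  have hq : (Scheme.Modules.restrictFunctor U.ι).map (i ≫ biprod.fst) = e.hom := by
    rw [Functor.map_comp, ← he, Category.assoc, hi'1, Category.comp_id]
  have hp : (Scheme.Modules.restrictFunctor U.ι).map (i ≫ biprod.snd) = e.hom ≫ φ := by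
    rw [Functor.map_comp, ← he, Category.assoc, hi'2]
  obtain ⟨n, lam, hlam⟩ := exists_pow_lift hH hG I U hU (i ≫ biprod.fst) (by rw [hq]; infer_instance)
  refine ⟨n, lam ≫ i ≫ biprod.snd, ?_⟩
  rw [← hlam, Functor.map_comp, hp, Functor.map_comp _ lam, hq, Category.assoc]

end main

end Groth.Agent.Lib.Helper6.DevLift
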