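import Groth.Agent.Lib.Helper6.K0Op2
import Groth.Agent.Lib.Helper6.DevLift
import Mathlib
set_option backward.isDefEq.respectTransparency.types false
set_option autoImplicit false
set_option linter.style.haveILetI false

/-!
# Classes of coherent modules supported in a closed subset; morphisms which are isomorphisms over an open subset
-/

universe u
open CategoryTheory CategoryTheory.Limits AlgebraicGeometry Opposite TopologicalSpace MonoidalCategory

namespace Groth.Agent.Lib.Helper6.K0Loc
open Groth.Agent.Lib.Helper6.K0Filt Groth.Agent.Lib.Helper6.K0Len Groth.Agent.Lib.Helper16.Stk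
  Groth.Agent.Lib.Helper6.DevCore

variable {X : Scheme.{u}}

/-- the subgroup of `K'_0(X)` generated by the classes of the coherent modules supported in `Y` -/
noncomputable def FY (Y : Set X) : AddSubgroup (KZero.K0sub (fun M : X.Modules => Coh.IsCoh M)) :=
  AddSubgroup.closure {c | ∃ G : X.Modules, Coh.IsCoh G ∧ CohB1.support G ⊆ Y ∧ c = cls G}

theorem cls_mem_FY (Y : Set X) (G : X.Modules) (hG : Coh.IsCoh G) (hs : CohB1.support G ⊆ Y) : cls G ∈ FY Y :=
  AddSubgroup.subset_closure ⟨G, hG, hs, rfl⟩

theorem FY_mono {Y Y' : Set X} (h : Y ⊆ Y') : FY Y ≤ FY Y' := by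
  unfold FY
  apply AddSubgroup.closure_mono
  rintro c ⟨G, hG, hs, rfl⟩
  exact ⟨G, hG, hs.trans h, rfl⟩

theorem FY_empty : FY (∅ : Set X) = ⊥ := by
  unfold FY
  rw [AddSubgroup.closure_eq_bot_iff]
  rintro c ⟨G, hG, hs, rfl⟩
  exact Groth.Agent.Lib.Helper16.K0Db.clSub_isZero _ _
    (isZero_of_support_eq_empty G (Set.subset_empty_iff.1 hs))

theorem FY_univ : FY (Set.univ : Set X) = ⊤ := by
  rw [eq_top_iff]
  intro c _
  have key : ∀ c : KZero.K0sub (fun M : X.Modules => Coh.IsCoh M), c ∈ FY (Set.univ : Set X) := by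
    intro c
    induction c using QuotientAddGroup.induction_on with
    | H z =>
      induction z using FreeAbelianGroup.induction_on with
      | zero => exact AddSubgroup.zero_mem _
      | of x =>
        have := cls_mem_FY Set.univ x.1 x.2 (Set.subset_univ _)
        rw [cls, Groth.Agent.Lib.Helper16.K0Db.clSub_of _ _ x.2] at this
        exact this
      | neg x ih => exact AddSubgroup.neg_mem _ ih
      | add x y ihx ihy => exact AddSubgroup.add_mem _ ihx ihy
  exact key c

/-- `q` induces an isomorphism on the stalks at `x` -/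
def IsoAt {A B : X.Modules} (q : A ⟶ B) (x : X) : Prop := IsIso ((stk x).map q)

theorem isZero_stk_of_notMem_support (M : X.Modules) (x : X) (hx : x ∉ CohB1.support M) : IsZero ((stk x).obj M) := by
  have : Subsingleton (M.presheaf.stalk x) := not_not.1 hx
  haveI : Subsingleton ((stk x).obj M) := this
  exact ModuleCat.isZero_of_subsingleton _

theorem notMem_support_of_isZero_stk (M : X.Modules) (x : X) (h : IsZero ((stk x).obj M)) : x ∉ CohB1.support M := by
  intro hx
  apply hx
  exact ModuleCat.subsingleton_of_isZero h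

theorem isoAt_iff {A B : X.Modules} (q : A ⟶ B) (x : X) :
    IsoAt q x ↔ x ∉ CohB1.support (kernel q) ∧ x ∉ CohB1.support (cokernel q) := by
  have ek : (stk x).obj (kernel q) ≅ kernel ((stk x).map q) := PreservesKernel.iso (stk x) q
  have ec : (stk x).obj (cokernel q) ≅ cokernel ((stk x).map q) := PreservesCokernel.iso (stk x) q
  constructor
  · intro h
    haveI : IsIso ((stk x).map q) := h
    constructor
    · apply notMem_support_of_isZero_stk
      exact IsZero.of_iso (isZero_kernel_of_mono _) ek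
    · apply notMem_support_of_isZero_stk
      exact IsZero.of_iso (isZero_cokernel_of_epi _) ec
  · rintro ⟨h1, h2⟩
    have hk : IsZero (kernel ((stk x).map q)) := IsZero.of_iso (isZero_stk_of_notMem_support _ x h1) ek.symm
    have hc : IsZero (cokernel ((stk x).map q)) := IsZero.of_iso (isZero_stk_of_notMem_support _ x h2) ec.symm
    haveI : Mono ((stk x).map q) := Preadditive.mono_of_isZero_kernel _ hk
    haveI : Epi ((stk x).map q) := Preadditive.epi_of_isZero_cokernel _ hc
    exact isIso_of_mono_of_epi _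

theorem isoAt_of_isIso_restrict (U : X.Opens) {A B : X.Modules} (q : A ⟶ B)
    (h : IsIso ((Scheme.Modules.restrictFunctor U.ι).map q)) (x : X) (hx : x ∈ U) : IsoAt q x := by
  rw [Groth.Agent.S17647.isIso_restrict_iff_support] at h
  rw [isoAt_iff]
  exact ⟨fun hk => h.1 hk hx, fun hc => h.2 hc hx⟩

theorem isoAt_tensor {A B : X.Modules} (p : A ⟶ B) (G : X.Modules) (x : X) (h : IsoAt p x) :
    IsoAt ((DCoh.tensorBi.map p).app G) x := by
  unfold IsoAt at h ⊢
  haveI := h
  have nat := stalkTensorIso_natL x p G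
  have : (stk x).map ((DCoh.tensorBi.map p).app G) =
      (stalkTensorIso x A G).inv ≫ ((stk x).map p ▷ (stk x).obj G) ≫ (stalkTensorIso x B G).hom := by
    rw [nat, Iso.inv_hom_id_assoc]
  rw [this]
  infer_instance

section sub

variable [IsLocallyNoetherian X]

theorem cls_add {S : ShortComplex X.Modules} (hS : S.ShortExact) (h1 : Coh.IsCoh S.X₁) (h2 : Coh.IsCoh S.X₂)
    (h3 : Coh.IsCoh S.X₃) : cls S.X₂ = cls S.X₁ + cls S.X₃ :=
  Groth.Agent.Lib.Helper16.K0Db.clSub_shortExact _ S hS h1 h2 h3

/-- `[A] - [B] = [ker q] - [coker q]` for a morphism `q : A ⟶ B` of coherent modules -/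
theorem cls_sub_eq {A B : X.Modules} (q : A ⟶ B) (hA : Coh.IsCoh A) (hB : Coh.IsCoh B) :
    cls A - cls B = cls (kernel q) - cls (cokernel q) := by
  have hk := isCoh_kernel q hA hB
  have hc := isCoh_cokernel q hA hB
  have him : Coh.IsCoh (Abelian.image q) := isCoh_image q hA hB
  have hcoim : Coh.IsCoh (Abelian.coimage q) := isCoh_of_iso (Abelian.coimageIsoImage q).symm him
  have hS1 : (ShortComplex.mk (kernel.ι q) (cokernel.π (kernel.ι q)) (cokernel.condition _)).ShortExact :=
    { exact := ShortComplex.exact_cokernel _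
      mono_f := inferInstanceAs (Mono (kernel.ι q))
      epi_g := inferInstanceAs (Epi (cokernel.π (kernel.ι q))) }
  have hS2 : (ShortComplex.mk (kernel.ι (cokernel.π q)) (cokernel.π q) (kernel.condition _)).ShortExact :=
    { exact := ShortComplex.exact_kernel _
      mono_f := inferInstanceAs (Mono (kernel.ι (cokernel.π q)))
      epi_g := inferInstanceAs (Epi (cokernel.π q)) }
  have e1 := cls_add hS1 hk hA hcoim
  have e2 := cls_add hS2 him hB hc
  have e3 : cls (Abelian.coimage q) = cls (Abelian.image q) := K0Op.cls_iso (Abelian.coimageIsoImage q) hcoim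
  dsimp only at e1 e2
  change cls A = cls (kernel q) + cls (Abelian.coimage q) at e1
  change cls B = cls (Abelian.image q) + cls (cokernel q) at e2
  rw [e1, e2, e3]
  abel

/-- if `q : A ⟶ B` is an isomorphism at the points of `U`, then `[A] - [B]` is a combination of classes of modules
supported off `U` -/
theorem cls_sub_mem_FY_of_isoAt {A B : X.Modules} (q : A ⟶ B) (hA : Coh.IsCoh A) (hB : Coh.IsCoh B)
    (U : Set X) (h : ∀ x ∈ U, IsoAt q x) (Y : Set X) (hAY : CohB1.support A ⊆ Y) (hBY : CohB1.support B ⊆ Y) :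
    cls A - cls B ∈ FY (Y \ U) := by
  rw [cls_sub_eq q hA hB]
  apply AddSubgroup.sub_mem
  · apply cls_mem_FY _ _ (isCoh_kernel q hA hB)
    intro x hx
    refine ⟨hAY (support_subset_of_mono (kernel.ι q) hx), fun hxU => ?_⟩
    exact ((isoAt_iff q x).1 (h x hxU)).1 hx
  · apply cls_mem_FY _ _ (isCoh_cokernel q hA hB)
    intro x hx
    refine ⟨hBY (support_subset_of_epi (cokernel.π q) hx), fun hxU => ?_⟩
    exact ((isoAt_iff q x).1 (h x hxU)).2 hx

end sub

section tensor

variable [IsNoetherian X]

/-- if `V` and `V'` are isomorphic over `U`, then `[V ⊗ G] - [V' ⊗ G]` is a combination of classes of modules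
supported in `Supp G ∖ U` -/
theorem cls_tensor_sub_mem (V V' : X.Modules) (hV : Coh.IsCoh V) (hV' : Coh.IsCoh V') (U : X.Opens)
    (φ : (Scheme.Modules.restrictFunctor U.ι).obj V ≅ (Scheme.Modules.restrictFunctor U.ι).obj V')
    (G : X.Modules) (hG : Coh.IsCoh G) (Y : Set X) (hGY : CohB1.support G ⊆ Y) :
    cls (CohB1.tensorMod V G) - cls (CohB1.tensorMod V' G) ∈ FY (Y \ (U : Set X)) := by
  obtain ⟨H, p₁, p₂, hH, h1, h2⟩ := DevLift.exists_graph_extension V V' hV hV'.1 U φ.hom
  have h2' : IsIso ((Scheme.Modules.restrictFunctor U.ι).map p₂) := by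
    rw [h2]; infer_instance
  have hs : ∀ (A : X.Modules), Coh.IsCoh A → CohB1.support (CohB1.tensorMod A G) ⊆ Y := fun A hA =>
    (K0Op.support_tensorMod_subset A G hA hG).trans hGY
  have m1 := cls_sub_mem_FY_of_isoAt ((DCoh.tensorBi.map p₁).app G) (K0Op.isCoh_tensorMod H G hH hG)
    (K0Op.isCoh_tensorMod V G hV hG) (U : Set X)
    (fun x hx => isoAt_tensor p₁ G x (isoAt_of_isIso_restrict U p₁ h1 x hx)) Y (hs H hH) (hs V hV)
  have m2 := cls_sub_mem_FY_of_isoAt ((DCoh.tensorBi.map p₂).app G) (K0Op.isCoh_tensorMod H G hH hG)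
    (K0Op.isCoh_tensorMod V' G hV' hG) (U : Set X)
    (fun x hx => isoAt_tensor p₂ G x (isoAt_of_isIso_restrict U p₂ h2' x hx)) Y (hs H hH) (hs V' hV')
  have := AddSubgroup.sub_mem _ m2 m1
  convert this using 1
  change cls (CohB1.tensorMod V G) - cls (CohB1.tensorMod V' G) =
    cls (CohB1.tensorMod H G) - cls (CohB1.tensorMod V' G) - (cls (CohB1.tensorMod H G) - cls (CohB1.tensorMod V G))
  abel

end tensor

end Groth.Agent.Lib.Helper6.K0Loc
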