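import Groth.Agent.Lib.Helper6.RDSes

/-!
# The long exact sequence of derived functors for a short exact sequence of functors (helper6)

Continuation of `RDSes`: for `α : A ⟶ B`, `β : B ⟶ C` short exact on injectives, the sequence
`0 ⟶ R⁰A ⟶ R⁰B ⟶ R⁰C ⟶ R¹A ⟶ ⋯` is exact (objectwise).  Also additivity of
`NatTrans.rightDerived`.
-/

universe v v' u u'

open CategoryTheory Limits

namespace Groth.Agent.Lib.Helper6.RDSes

variable {𝒜 : Type u} [Category.{v} 𝒜] [Abelian 𝒜] [HasInjectiveResolutions 𝒜]
  {ℬ : Type u'} [Category.{v'} ℬ] [Abelian ℬ]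

section Additivity

variable {F G : 𝒜 ⥤ ℬ} [F.Additive] [G.Additive]

lemma rightDerived_add (γ γ' : F ⟶ G) (i : ℕ) :
    NatTrans.rightDerived (γ + γ') i = NatTrans.rightDerived γ i + NatTrans.rightDerived γ' i := by
  ext X
  rw [NatTrans.app_add, rightDerived_app_eq, rightDerived_app_eq, rightDerived_app_eq]
  have : (NatTrans.mapHomologicalComplex (γ + γ') (ComplexShape.up ℕ)).app
      (injectiveResolution X).cocomplex =
      (NatTrans.mapHomologicalComplex γ (ComplexShape.up ℕ)).app
        (injectiveResolution X).cocomplex +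
      (NatTrans.mapHomologicalComplex γ' (ComplexShape.up ℕ)).app
        (injectiveResolution X).cocomplex := by
    ext n
    rfl
  rw [this, HomologicalComplex.homologyMap_add, Preadditive.add_comp, Preadditive.comp_add]

lemma rightDerived_zero (i : ℕ) :
    NatTrans.rightDerived (0 : F ⟶ G) i = 0 := by
  have h := rightDerived_add (0 : F ⟶ G) 0 i
  rw [add_zero] at h
  exact left_eq_add.mp h

lemma rightDerived_neg (γ : F ⟶ G) (i : ℕ) :
    NatTrans.rightDerived (-γ) i = -NatTrans.rightDerived γ i := by
  have h := rightDerived_add γ (-γ) i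
  rw [add_neg_cancel, rightDerived_zero] at h
  exact (neg_eq_of_add_eq_zero_right h.symm).symm

end Additivity

variable {A B C : 𝒜 ⥤ ℬ} [A.Additive] [B.Additive] [C.Additive] (α : A ⟶ B) (β : B ⟶ C)
  (hw : α ≫ β = 0) (hses : ∀ I : 𝒜, Injective I → (sc α β hw I).ShortExact)

include hw hses in
lemma mono_rightDerived_zero_app (X : 𝒜) : Mono ((NatTrans.rightDerived α 0).app X) := by
  rw [rightDerived_app_eq]
  haveI : Mono (scK α β hw (injectiveResolution X).cocomplex).f := (shortExact α β hw hses X).mono_f
  haveI : Mono (HomologicalComplex.homologyMap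
      ((NatTrans.mapHomologicalComplex α _).app (injectiveResolution X).cocomplex) 0) :=
    HomologicalComplex.mono_homologyMap_of_mono_of_not_rel
      (scK α β hw (injectiveResolution X).cocomplex).f 0 (fun i hi => by
        simp at hi)
  infer_instance

include hw in
lemma rightDerived_comp_app (i : ℕ) (X : 𝒜) :
    (NatTrans.rightDerived α i).app X ≫ (NatTrans.rightDerived β i).app X = 0 := by
  rw [← NatTrans.comp_app, ← NatTrans.rightDerived_comp, hw, rightDerived_zero]
  rfl

include hses in
/-- exactness at `RⁱB` -/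
lemma exact_at_B (i : ℕ) (X : 𝒜) :
    (ShortComplex.mk _ _ (rightDerived_comp_app α β hw i X)).Exact := by
  have h := (shortExact α β hw hses X).homology_exact₂ i
  refine ShortComplex.exact_of_iso (ShortComplex.isoMk (isoH A i X).symm (isoH B i X).symm
    (isoH C i X).symm ?_ ?_) h
  · change (isoH A i X).inv ≫ (NatTrans.rightDerived α i).app X =
      HomologicalComplex.homologyMap
        ((NatTrans.mapHomologicalComplex α _).app (injectiveResolution X).cocomplex) i ≫
      (isoH B i X).inv
    rw [rightDerived_app_eq, Iso.inv_hom_id_assoc]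
  · change (isoH B i X).inv ≫ (NatTrans.rightDerived β i).app X =
      HomologicalComplex.homologyMap
        ((NatTrans.mapHomologicalComplex β _).app (injectiveResolution X).cocomplex) i ≫
      (isoH C i X).inv
    rw [rightDerived_app_eq, Iso.inv_hom_id_assoc]

lemma rightDerived_comp_δApp' (i : ℕ) (X : 𝒜) :
    (NatTrans.rightDerived β i).app X ≫ δApp α β hw hses i X = 0 := by
  dsimp only [δApp]
  rw [rightDerived_app_eq, Category.assoc, Category.assoc, Iso.inv_hom_id_assoc,
    ← Category.assoc (HomologicalComplex.homologyMap _ _)]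
  have : HomologicalComplex.homologyMap
        ((NatTrans.mapHomologicalComplex β _).app (injectiveResolution X).cocomplex) i ≫
      δH α β hw hses i X = 0 := (shortExact α β hw hses X).comp_δ i (i + 1) rfl
  rw [this, zero_comp, comp_zero]

/-- exactness at `RⁱC` -/
lemma exact_at_C (i : ℕ) (X : 𝒜) :
    (ShortComplex.mk _ _ (rightDerived_comp_δApp' α β hw hses i X)).Exact := by
  have h := (shortExact α β hw hses X).homology_exact₃ i (i + 1) rfl
  refine ShortComplex.exact_of_iso (ShortComplex.isoMk (isoH B i X).symm (isoH C i X).symm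
    (isoH A (i + 1) X).symm ?_ ?_) h
  · change (isoH B i X).inv ≫ (NatTrans.rightDerived β i).app X =
      HomologicalComplex.homologyMap
        ((NatTrans.mapHomologicalComplex β _).app (injectiveResolution X).cocomplex) i ≫
      (isoH C i X).inv
    rw [rightDerived_app_eq, Iso.inv_hom_id_assoc]
  · change (isoH C i X).inv ≫ δApp α β hw hses i X = δH α β hw hses i X ≫ (isoH A (i + 1) X).inv
    dsimp only [δApp]
    rw [Iso.inv_hom_id_assoc]

lemma δApp_comp_rightDerived (i : ℕ) (X : 𝒜) :
    δApp α β hw hses i X ≫ (NatTrans.rightDerived α (i + 1)).app X = 0 := by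
  dsimp only [δApp]
  rw [rightDerived_app_eq, Category.assoc, Category.assoc, Iso.inv_hom_id_assoc]
  have : δH α β hw hses i X ≫ HomologicalComplex.homologyMap
        ((NatTrans.mapHomologicalComplex α _).app (injectiveResolution X).cocomplex) (i + 1) = 0 :=
    (shortExact α β hw hses X).δ_comp i (i + 1) rfl
  rw [reassoc_of% this, zero_comp, comp_zero]

/-- exactness at `Rⁱ⁺¹A` -/
lemma exact_at_A (i : ℕ) (X : 𝒜) :
    (ShortComplex.mk _ _ (δApp_comp_rightDerived α β hw hses i X)).Exact := by
  have h := (shortExact α β hw hses X).homology_exact₁ i (i + 1) rfl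
  refine ShortComplex.exact_of_iso (ShortComplex.isoMk (isoH C i X).symm (isoH A (i + 1) X).symm
    (isoH B (i + 1) X).symm ?_ ?_) h
  · change (isoH C i X).inv ≫ δApp α β hw hses i X = δH α β hw hses i X ≫ (isoH A (i + 1) X).inv
    dsimp only [δApp]
    rw [Iso.inv_hom_id_assoc]
  · change (isoH A (i + 1) X).inv ≫ (NatTrans.rightDerived α (i + 1)).app X =
      HomologicalComplex.homologyMap
        ((NatTrans.mapHomologicalComplex α _).app (injectiveResolution X).cocomplex) (i + 1) ≫
      (isoH B (i + 1) X).inv
    rw [rightDerived_app_eq, Iso.inv_hom_id_assoc]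

end Groth.Agent.Lib.Helper6.RDSes
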