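import Mathlib.CategoryTheory.Abelian.RightDerived
import Mathlib.Algebra.Homology.HomologySequenceLemmas
import Mathlib.Algebra.Homology.HomologicalComplexAbelian
import Mathlib.CategoryTheory.Limits.FunctorCategory.Shapes.Kernels

/-!
# Derived functors of a short exact sequence of functors (helper6)

Let `α : A ⟶ B`, `β : B ⟶ C` be natural transformations of additive functors `𝒜 ⥤ ℬ` such that
`0 ⟶ A I ⟶ B I ⟶ C I ⟶ 0` is short exact for every injective `I`. Then there are natural
connecting maps `R^i C ⟶ R^{i+1} A`; if the higher derived functors of `B` vanish these are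
isomorphisms for `i ≥ 1`, and `R^1 A` is the cokernel of `R^0 B ⟶ R^0 C`.
-/

universe v v' u u'

open CategoryTheory Limits

namespace Groth.Agent.Lib.Helper6.RDSes

variable {𝒜 : Type u} [Category.{v} 𝒜] [Abelian 𝒜] [HasInjectiveResolutions 𝒜]
  {ℬ : Type u'} [Category.{v'} ℬ] [Abelian ℬ]
  {A B C : 𝒜 ⥤ ℬ} [A.Additive] [B.Additive] [C.Additive] (α : A ⟶ B) (β : B ⟶ C)
  (hw : α ≫ β = 0)

include hw in
lemma w_app (X : 𝒜) : α.app X ≫ β.app X = 0 := by
  rw [← NatTrans.comp_app, hw]
  rfl

/-- the short complex `A X ⟶ B X ⟶ C X` -/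
@[simps]
def sc (X : 𝒜) : ShortComplex ℬ := ShortComplex.mk (α.app X) (β.app X) (w_app α β hw X)

/-- the short complex of complexes `A K ⟶ B K ⟶ C K` -/
@[simps]
def scK (K : CochainComplex 𝒜 ℕ) : ShortComplex (CochainComplex ℬ ℕ) :=
  ShortComplex.mk ((NatTrans.mapHomologicalComplex α _).app K)
    ((NatTrans.mapHomologicalComplex β _).app K) (by
      ext n
      exact w_app α β hw (K.X n))

/-- functoriality of `scK` -/
@[simps]
def scKMap {K L : CochainComplex 𝒜 ℕ} (φ : K ⟶ L) : scK α β hw K ⟶ scK α β hw L where
  τ₁ := (A.mapHomologicalComplex _).map φ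
  τ₂ := (B.mapHomologicalComplex _).map φ
  τ₃ := (C.mapHomologicalComplex _).map φ
  comm₁₂ := (NatTrans.mapHomologicalComplex α _).naturality φ
  comm₂₃ := (NatTrans.mapHomologicalComplex β _).naturality φ

variable (hses : ∀ I : 𝒜, Injective I → (sc α β hw I).ShortExact)

include hses in
lemma scK_shortExact (K : CochainComplex 𝒜 ℕ) (hK : ∀ n, Injective (K.X n)) :
    (scK α β hw K).ShortExact :=
  HomologicalComplex.shortExact_of_degreewise_shortExact _ (fun n => hses (K.X n) (hK n))

include hses in
/-- the short exact sequence of complexes attached to the chosen injective resolution -/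
lemma shortExact (X : 𝒜) : (scK α β hw (injectiveResolution X).cocomplex).ShortExact :=
  scK_shortExact α β hw hses _ (fun n => (injectiveResolution X).injective n)

section IsoH

variable (F : 𝒜 ⥤ ℬ) [F.Additive]

/-- the chosen lift of a morphism to the chosen injective resolutions -/
noncomputable abbrev lift {X Y : 𝒜} (f : X ⟶ Y) :
    (injectiveResolution X).cocomplex ⟶ (injectiveResolution Y).cocomplex :=
  InjectiveResolution.desc f (injectiveResolution Y) (injectiveResolution X)

/-- `R^i F X` as the homology of `F` applied to the chosen injective resolution -/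
noncomputable def isoH (i : ℕ) (X : 𝒜) :
    (F.rightDerived i).obj X ≅
      ((F.mapHomologicalComplex _).obj (injectiveResolution X).cocomplex).homology i :=
  (injectiveResolution X).isoRightDerivedObj F i

lemma isoH_hom_naturality (i : ℕ) {X Y : 𝒜} (f : X ⟶ Y) :
    (F.rightDerived i).map f ≫ (isoH F i Y).hom =
      (isoH F i X).hom ≫
        HomologicalComplex.homologyMap ((F.mapHomologicalComplex _).map (lift f)) i :=
  InjectiveResolution.isoRightDerivedObj_hom_naturality f (injectiveResolution X)
    (injectiveResolution Y) _ (InjectiveResolution.desc_commutes_zero f (injectiveResolution Y)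
      (injectiveResolution X)) F i

lemma isoH_inv_naturality (i : ℕ) {X Y : 𝒜} (f : X ⟶ Y) :
    (isoH F i X).inv ≫ (F.rightDerived i).map f =
      HomologicalComplex.homologyMap ((F.mapHomologicalComplex _).map (lift f)) i ≫
        (isoH F i Y).inv :=
  InjectiveResolution.isoRightDerivedObj_inv_naturality f (injectiveResolution X)
    (injectiveResolution Y) _ (InjectiveResolution.desc_commutes_zero f (injectiveResolution Y)
      (injectiveResolution X)) F i

end IsoH

/-- the connecting map on homology -/
noncomputable def δH (i : ℕ) (X : 𝒜) :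
    ((C.mapHomologicalComplex _).obj (injectiveResolution X).cocomplex).homology i ⟶
      ((A.mapHomologicalComplex _).obj (injectiveResolution X).cocomplex).homology (i + 1) :=
  (shortExact α β hw hses X).δ i (i + 1) rfl

lemma δH_naturality (i : ℕ) {X Y : 𝒜} (f : X ⟶ Y) :
    δH α β hw hses i X ≫
        HomologicalComplex.homologyMap ((A.mapHomologicalComplex _).map (lift f)) (i + 1) =
      HomologicalComplex.homologyMap ((C.mapHomologicalComplex _).map (lift f)) i ≫
        δH α β hw hses i Y :=
  HomologicalComplex.HomologySequence.δ_naturality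
    (scKMap α β hw (lift f))
    (shortExact α β hw hses X) (shortExact α β hw hses Y) i (i + 1) rfl

/-- the connecting map `R^i C X ⟶ R^{i+1} A X` -/
noncomputable def δApp (i : ℕ) (X : 𝒜) :
    (C.rightDerived i).obj X ⟶ (A.rightDerived (i + 1)).obj X :=
  (isoH C i X).hom ≫ δH α β hw hses i X ≫ (isoH A (i + 1) X).inv

lemma δApp_naturality (i : ℕ) {X Y : 𝒜} (f : X ⟶ Y) :
    (C.rightDerived i).map f ≫ δApp α β hw hses i Y =
      δApp α β hw hses i X ≫ (A.rightDerived (i + 1)).map f := by
  dsimp only [δApp]
  rw [← Category.assoc, isoH_hom_naturality, Category.assoc, Category.assoc, Category.assoc,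
    isoH_inv_naturality, ← Category.assoc (δH α β hw hses i X), δH_naturality, Category.assoc]

/-- the natural connecting map `R^i C ⟶ R^{i+1} A` -/
noncomputable def δNat (i : ℕ) : C.rightDerived i ⟶ A.rightDerived (i + 1) where
  app X := δApp α β hw hses i X
  naturality _ _ f := δApp_naturality α β hw hses i f

section Vanishing

variable (hB : ∀ (X : 𝒜) (n : ℕ), IsZero ((B.rightDerived (n + 1)).obj X))

include hB in
lemma isZero_homology_B (X : 𝒜) (n : ℕ) :
    IsZero (((B.mapHomologicalComplex _).obj (injectiveResolution X).cocomplex).homology (n + 1)) :=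
  (hB X n).of_iso (isoH B (n + 1) X).symm

include hB in
lemma isIso_δH (i : ℕ) (hi : 1 ≤ i) (X : 𝒜) : IsIso (δH α β hw hses i X) := by
  obtain ⟨k, rfl⟩ : ∃ k, i = k + 1 := ⟨i - 1, by lia⟩
  exact (shortExact α β hw hses X).isIso_δ (k + 1) (k + 1 + 1) rfl
    (isZero_homology_B hB X k) (isZero_homology_B hB X (k + 1))

include hB in
lemma isIso_δNat (i : ℕ) (hi : 1 ≤ i) : IsIso (δNat α β hw hses i) := by
  have : ∀ X, IsIso ((δNat α β hw hses i).app X) := by
    intro X
    have := isIso_δH α β hw hses hB i hi X
    change IsIso ((isoH C i X).hom ≫ δH α β hw hses i X ≫ (isoH A (i + 1) X).inv)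
    infer_instance
  exact NatIso.isIso_of_isIso_app _

include hses hB in
/-- `R^i C ≅ R^{i+1} A` for `i ≥ 1` -/
theorem nonempty_iso (i : ℕ) (hi : 1 ≤ i) :
    Nonempty (C.rightDerived i ≅ A.rightDerived (i + 1)) := by
  have := isIso_δNat α β hw hses hB i hi
  exact ⟨asIso (δNat α β hw hses i)⟩

include hB in
lemma epi_δApp_zero (X : 𝒜) : Epi (δApp α β hw hses 0 X) := by
  have : Epi (δH α β hw hses 0 X) :=
    (shortExact α β hw hses X).epi_δ 0 1 rfl (isZero_homology_B hB X 0)
  dsimp only [δApp]
  infer_instance

lemma rightDerived_app_eq (i : ℕ) (X : 𝒜) :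
    (NatTrans.rightDerived β i).app X =
      (isoH B i X).hom ≫ HomologicalComplex.homologyMap
        ((NatTrans.mapHomologicalComplex β _).app (injectiveResolution X).cocomplex) i ≫
        (isoH C i X).inv :=
  InjectiveResolution.rightDerived_app_eq β (injectiveResolution X) i

lemma homologyMap_comp_δH (X : 𝒜) :
    HomologicalComplex.homologyMap
        ((NatTrans.mapHomologicalComplex β _).app (injectiveResolution X).cocomplex) 0 ≫
      δH α β hw hses 0 X = 0 :=
  (shortExact α β hw hses X).comp_δ 0 1 rfl

lemma rightDerived_comp_δApp (X : 𝒜) :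
    (NatTrans.rightDerived β 0).app X ≫ δApp α β hw hses 0 X = 0 := by
  dsimp only [δApp]
  rw [rightDerived_app_eq, Category.assoc, Category.assoc, Iso.inv_hom_id_assoc,
    ← Category.assoc (HomologicalComplex.homologyMap _ _), homologyMap_comp_δH, zero_comp,
    comp_zero]

lemma exact_rightDerived_zero (X : 𝒜) :
    (ShortComplex.mk _ _ (rightDerived_comp_δApp α β hw hses X)).Exact := by
  have h := (shortExact α β hw hses X).homology_exact₃ 0 1 rfl
  refine ShortComplex.exact_of_iso (ShortComplex.isoMk (isoH B 0 X).symm (isoH C 0 X).symm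
    (isoH A 1 X).symm ?_ ?_) h
  · change (isoH B 0 X).inv ≫ (NatTrans.rightDerived β 0).app X =
      HomologicalComplex.homologyMap
        ((NatTrans.mapHomologicalComplex β _).app (injectiveResolution X).cocomplex) 0 ≫
      (isoH C 0 X).inv
    rw [rightDerived_app_eq, Iso.inv_hom_id_assoc]
  · change (isoH C 0 X).inv ≫ δApp α β hw hses 0 X = δH α β hw hses 0 X ≫ (isoH A 1 X).inv
    dsimp only [δApp]
    rw [Iso.inv_hom_id_assoc]

end Vanishing

section ToRightDerivedZero

lemma toRightDerivedZero_app_eq (F : 𝒜 ⥤ ℬ) [F.Additive] (X : 𝒜) :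
    F.toRightDerivedZero.app X = (injectiveResolution X).toRightDerivedZero' F ≫
      HomologicalComplex.homologyπ _ 0 ≫ (isoH F 0 X).inv :=
  (injectiveResolution X).toRightDerivedZero_eq F

lemma toRightDerivedZero_naturality :
    β ≫ C.toRightDerivedZero = B.toRightDerivedZero ≫ NatTrans.rightDerived β 0 := by
  ext X
  rw [NatTrans.comp_app, NatTrans.comp_app, toRightDerivedZero_app_eq, toRightDerivedZero_app_eq,
    rightDerived_app_eq]
  have h1 : (injectiveResolution X).toRightDerivedZero' B ≫ HomologicalComplex.cyclesMap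
      ((NatTrans.mapHomologicalComplex β _).app (injectiveResolution X).cocomplex) 0 =
      β.app X ≫ (injectiveResolution X).toRightDerivedZero' C := by
    rw [← cancel_mono (HomologicalComplex.iCycles _ _), Category.assoc, Category.assoc,
      HomologicalComplex.cyclesMap_i, InjectiveResolution.toRightDerivedZero'_comp_iCycles,
      InjectiveResolution.toRightDerivedZero'_comp_iCycles_assoc]
    exact β.naturality _
  have h2 := HomologicalComplex.homologyπ_naturality
    ((NatTrans.mapHomologicalComplex β _).app (injectiveResolution X).cocomplex) 0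
  simp only [Category.assoc, Iso.inv_hom_id_assoc]
  rw [← reassoc_of% h1, reassoc_of% h2]

end ToRightDerivedZero

section Id

variable {𝒞 : Type u} [Category.{v} 𝒞] [Abelian 𝒞] [HasInjectiveResolutions 𝒞]

/-- the higher derived functors of the identity vanish -/
lemma isZero_rightDerived_id (X : 𝒞) (n : ℕ) : IsZero (((𝟭 𝒞).rightDerived (n + 1)).obj X) := by
  refine IsZero.of_iso ?_ (isoH (𝟭 𝒞) (n + 1) X)
  refine IsZero.of_iso ?_ ((HomologicalComplex.homologyFunctor 𝒞 _ (n + 1)).mapIso
    ((Functor.mapHomologicalComplexIdIso 𝒞 _).app _))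
  exact (HomologicalComplex.exactAt_iff_isZero_homology _ _).1
    ((injectiveResolution X).cocomplex_exactAt_succ n)

end Id

section Cokernel

variable [PreservesFiniteLimits B] [PreservesFiniteLimits C]
  (hB : ∀ (X : 𝒜) (n : ℕ), IsZero ((B.rightDerived (n + 1)).obj X))

/-- the connecting map `C ⟶ R^1 A` -/
noncomputable def d : C ⟶ A.rightDerived 1 := C.toRightDerivedZero ≫ δNat α β hw hses 0

lemma β_d : β ≫ d α β hw hses = 0 := by
  dsimp only [d]
  rw [← Category.assoc, toRightDerivedZero_naturality, Category.assoc]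
  ext X
  rw [NatTrans.comp_app, NatTrans.comp_app]
  change _ ≫ (NatTrans.rightDerived β 0).app X ≫ δApp α β hw hses 0 X = 0
  rw [rightDerived_comp_δApp, comp_zero]

lemma β_d_app (X : 𝒜) : β.app X ≫ (d α β hw hses).app X = 0 := by
  rw [← NatTrans.comp_app, β_d]
  rfl

include hB in
lemma epi_d_app (X : 𝒜) : Epi ((d α β hw hses).app X) := by
  have := epi_δApp_zero α β hw hses hB X
  change Epi (C.toRightDerivedZero.app X ≫ δApp α β hw hses 0 X)
  infer_instance

lemma exact_app (X : 𝒜) : (ShortComplex.mk _ _ (β_d_app α β hw hses X)).Exact := by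
  have h := exact_rightDerived_zero α β hw hses X
  have e : ShortComplex.mk _ _ (rightDerived_comp_δApp α β hw hses X) ≅
      ShortComplex.mk _ _ (β_d_app α β hw hses X) := by
    refine ShortComplex.isoMk (asIso (B.toRightDerivedZero.app X)).symm
      (asIso (C.toRightDerivedZero.app X)).symm (Iso.refl _) ?_ ?_
    · change inv (B.toRightDerivedZero.app X) ≫ β.app X =
        (NatTrans.rightDerived β 0).app X ≫ inv (C.toRightDerivedZero.app X)
      rw [IsIso.inv_comp_eq, ← Category.assoc, IsIso.eq_comp_inv]
      have := congrArg (fun t => t.app X) (toRightDerivedZero_naturality β)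
      exact this
    · change inv (C.toRightDerivedZero.app X) ≫ (d α β hw hses).app X = δApp α β hw hses 0 X ≫ 𝟙 _
      rw [Category.comp_id, IsIso.inv_comp_eq]
      rfl
  exact ShortComplex.exact_of_iso e h

include hB in
/-- `C ⟶ R^1 A` is a cokernel of `β` in the functor category -/
noncomputable def isColimit :
    IsColimit (CokernelCofork.ofπ (d α β hw hses) (β_d α β hw hses)) :=
  evaluationJointlyReflectsColimits _ fun X =>
    (CokernelCofork.isColimitMapCoconeEquiv _ _).2 <| by
      have := epi_d_app α β hw hses hB X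
      exact (exact_app α β hw hses X).gIsCokernel

include hses hB in
/-- `R^1 A ≅ coker (B ⟶ C)` -/
theorem nonempty_iso_cokernel : Nonempty (A.rightDerived 1 ≅ cokernel β) :=
  ⟨(IsColimit.coconePointUniqueUpToIso (isColimit α β hw hses hB)
    (t := CokernelCofork.ofπ (cokernel.π β) (cokernel.condition β)) (cokernelIsCokernel β) :
    (CokernelCofork.ofπ (d α β hw hses) (β_d α β hw hses)).pt ≅
      (CokernelCofork.ofπ (cokernel.π β) (cokernel.condition β)).pt)⟩

end Cokernel

end Groth.Agent.Lib.Helper6.RDSes
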