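import Groth.Agent.Lib.Helper6.LocCohZFlasque
import Groth.Agent.Lib.Helper6.RDSes
import Groth.Agent.Lib.Helper6.RDComp
import Mathlib.CategoryTheory.Monad.Adjunction

/-!
# The unit `F ⟶ j_* j⁻¹ F` for an open immersion (helper6)

`F ⟶ j_* j⁻¹ F` is an epimorphism for flasque `F`; consequences for `ℋ^i_Z`.
-/

universe u

open CategoryTheory Limits Opposite TopologicalSpace Abelian

namespace Groth.Agent.Lib.Helper6.LocCohZUnit

open CohTop LocCohZSupp LocCohZGamma LocCohZFlasque CohTopRestr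

variable {X : TopCat.{u}} (U : Opens X)

lemma map_jF_le (V' : Opens (TopCat.of U)) :
    (Opens.map (CohCx.incl U)).obj ((jF U).obj V') ≤ V' := by
  rintro x ⟨y, hy, hxy⟩
  have : y = x := Subtype.ext hxy
  exact this ▸ hy

lemma le_map_jF (V' : Opens (TopCat.of U)) :
    V' ≤ (Opens.map (CohCx.incl U)).obj ((jF U).obj V') :=
  fun x hx => ⟨x, hx, rfl⟩

/-- `G ⟶ (j_* G)|_U` -/
noncomputable def κ (G : Ab (TopCat.of U)) :
    G ⟶ (restrFunctor U).obj ((CohTop.push (CohCx.incl U)).obj G) :=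
  ⟨{ app := fun V' => G.obj.map (homOfLE (map_jF_le U V'.unop)).op
     naturality := fun V' W' i => by
       change G.obj.map _ ≫ G.obj.map _ = G.obj.map _ ≫ G.obj.map _
       rw [← G.obj.map_comp, ← G.obj.map_comp]
       rfl }⟩

/-- `(j_* G)|_U ⟶ G` -/
noncomputable def κinv (G : Ab (TopCat.of U)) :
    (restrFunctor U).obj ((CohTop.push (CohCx.incl U)).obj G) ⟶ G :=
  ⟨{ app := fun V' => G.obj.map (homOfLE (le_map_jF U V'.unop)).op
     naturality := fun V' W' i => by
       change G.obj.map _ ≫ G.obj.map _ = G.obj.map _ ≫ G.obj.map _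
       rw [← G.obj.map_comp, ← G.obj.map_comp]
       rfl }⟩

lemma κ_κinv (G : Ab (TopCat.of U)) : κ U G ≫ κinv U G = 𝟙 _ := by
  apply Sheaf.hom_ext
  ext V' : 2
  change G.obj.map _ ≫ G.obj.map _ = 𝟙 _
  rw [← G.obj.map_comp, ← G.obj.map_id]
  rfl

lemma κinv_κ (G : Ab (TopCat.of U)) : κinv U G ≫ κ U G = 𝟙 _ := by
  apply Sheaf.hom_ext
  ext V' : 2
  change G.obj.map _ ≫ G.obj.map _ = 𝟙 _
  rw [← G.obj.map_comp]
  exact G.obj.map_id _

/-- `j_* ⋙ (-)|_U ≅ 𝟭` -/
noncomputable def pushRestrIso :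
    CohTop.push (CohCx.incl U) ⋙ restrFunctor U ≅ 𝟭 (Ab (TopCat.of U)) :=
  NatIso.ofComponents (fun G => ⟨κinv U G, κ U G, κinv_κ U G, κ_κinv U G⟩)
    (fun {G G'} φ => by
      apply Sheaf.hom_ext
      ext V' : 2
      exact (φ.hom.naturality _).symm)

lemma isIso_counit : IsIso (adjU U).counit :=
  (adjU U).isIso_counit_of_iso (Functor.isoWhiskerLeft _ (pullIsoRestr U) ≪≫ pushRestrIso U)

lemma isIso_pull_map_η (F : Ab X) : IsIso ((CohTop.pull (CohCx.incl U)).map (η U F)) := by
  have := isIso_counit U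
  have h : (CohTop.pull (CohCx.incl U)).map (η U F) ≫ (adjU U).counit.app _ = 𝟙 _ :=
    (adjU U).left_triangle_components F
  have hc : IsIso ((adjU U).counit.app ((CohTop.pull (CohCx.incl U)).obj F)) := inferInstance
  have e : (CohTop.pull (CohCx.incl U)).map (η U F) =
      inv ((adjU U).counit.app ((CohTop.pull (CohCx.incl U)).obj F)) :=
    IsIso.eq_inv_of_inv_hom_id h
  rw [e]
  infer_instance

lemma isIso_restr_map_η (F : Ab X) : IsIso ((restrFunctor U).map (η U F)) := by
  have := isIso_pull_map_η U F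
  have nat := (pullIsoRestr U).hom.naturality (η U F)
  have h : (restrFunctor U).map (η U F) = (pullIsoRestr U).inv.app F ≫
      (CohTop.pull (CohCx.incl U)).map (η U F) ≫ (pullIsoRestr U).hom.app _ := by
    rw [nat, Iso.inv_hom_id_app_assoc]
  rw [h]
  infer_instance

lemma η_app_jF_bijective (F : Ab X) (V' : Opens (TopCat.of U)) :
    Function.Bijective ((η U F).hom.app (op ((jF U).obj V'))) := by
  have := isIso_restr_map_η U F
  have h : IsIso ((CechFamDerived.ΓU (Opens.grothendieckTopology (TopCat.of U)) (U := V')).map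
      ((restrFunctor U).map (η U F))) := inferInstance
  have h' : IsIso ((η U F).hom.app (op ((jF U).obj V'))) := h
  exact ConcreteCategory.bijective_of_isIso _

lemma jF_map_eq (V : Opens X) (hV : V ≤ U) :
    (jF U).obj ((Opens.map (CohCx.incl U)).obj V) = V := by
  ext x
  constructor
  · rintro ⟨y, hy, rfl⟩
    exact hy
  · intro hx
    exact ⟨⟨x, hV hx⟩, hx, rfl⟩

/-- over opens contained in `U` the unit is bijective on sections -/
lemma η_app_bijective (F : Ab X) (V : Opens X) (hV : V ≤ U) :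
    Function.Bijective ((η U F).hom.app (op V)) := by
  have h := η_app_jF_bijective U F ((Opens.map (CohCx.incl U)).obj V)
  rw [jF_map_eq U V hV] at h
  exact h

/-- for flasque `F` the unit is surjective on sections -/
lemma η_app_surjective (F : Ab X) [hF : TopCat.Sheaf.IsFlasque F] (W : Opens X) :
    Function.Surjective ((η U F).hom.app (op W)) := by
  intro t
  let G := (CohTop.push (CohCx.incl U)).obj ((CohTop.pull (CohCx.incl U)).obj F)
  have hle : W ⊓ U ≤ W := inf_le_left
  obtain ⟨sV, hsV⟩ := (η_app_bijective U F (W ⊓ U) inf_le_right).2 (G.obj.map (homOfLE hle).op t)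
  have hepi : Epi (F.obj.map (homOfLE hle).op) := hF.epi _
  rw [AddCommGrpCat.epi_iff_surjective] at hepi
  obtain ⟨s, hs⟩ := hepi sV
  refine ⟨s, ?_⟩
  -- restriction `G(W) ⟶ G(W ⊓ U)` is injective
  have hinj : Function.Injective (G.obj.map (homOfLE hle).op) := by
    have h1 : (Opens.map (CohCx.incl U)).obj (W ⊓ U) ≤ (Opens.map (CohCx.incl U)).obj W :=
      fun x hx => hx.1
    have h2 : (Opens.map (CohCx.incl U)).obj W ≤ (Opens.map (CohCx.incl U)).obj (W ⊓ U) :=
      fun x hx => ⟨hx, x.2⟩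
    exact map_injective_of_le ((CohTop.pull (CohCx.incl U)).obj F) h1 h2
  apply hinj
  have nat := ConcreteCategory.congr_hom ((η U F).hom.naturality (homOfLE hle).op) s
  refine Eq.trans ?_ hsV
  refine nat.symm.trans ?_
  change (η U F).hom.app (op (W ⊓ U)) (F.obj.map (homOfLE hle).op s) = _
  rw [hs]

lemma epi_η (F : Ab X) [TopCat.Sheaf.IsFlasque F] : Epi (η U F) :=
  CohTopPush.epi_of_sections_surjective _ (η_app_surjective U F)

/-- the inclusion `Γ_Z ⟶ 𝟭` -/
noncomputable def ιNat : LocCohZ.sectSuppF U ⟶ 𝟭 (Ab X) where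
  app F := ι' U F
  naturality _ _ φ := map_ι' U φ

lemma ιNat_unit : ιNat U ≫ (adjU U).unit = 0 := by
  apply NatTrans.ext
  funext F
  exact ι'_η U F

instance push_additive : (CohTop.push (CohCx.incl U)).Additive := CohTop.instAdditiveAbPush _

instance push_pfl : PreservesFiniteLimits (CohTop.push (CohCx.incl U)) := CohTopPush.push_pfl _

instance pull_additive : (CohTop.pull (CohCx.incl U)).Additive := (adjU U).left_adjoint_additive

lemma ses (I : Ab X) (hI : Injective I) :
    (RDSes.sc (ιNat U) (adjU U).unit (ιNat_unit U) I).ShortExact := by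
  have hfl : TopCat.Sheaf.IsFlasque I := SheafCoh.isFlasque_of_injective _
  exact
    { exact := ShortComplex.exact_of_f_is_kernel _ (kernelIsKernel (η U I))
      mono_f := inferInstanceAs (Mono (ι' U I))
      epi_g := epi_η U I }

lemma pull_preservesInjective (I : Ab X) (hI : Injective I) :
    Injective ((CohTop.pull (CohCx.incl U)).obj I) := by
  have h : Injective ((restrFunctor U).obj I) :=
    Injective.injective_of_adjoint (CohTopRestrDer.adj U) I
  exact Injective.of_iso ((pullIsoRestr U).app I).symm h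

/-- `ℋ^{i+1}_Z ≅ j⁻¹ ⋙ R^i j_*` for `i ≥ 1` -/
theorem nonempty_HZsh_succ_iso (i : ℕ) (hi : 1 ≤ i) :
    Nonempty (LocCohZ.HZsh U (i + 1) ≅
      CohTop.pull (CohCx.incl U) ⋙ CohTop.Rpush (CohCx.incl U) i) := by
  obtain ⟨e⟩ := RDSes.nonempty_iso (ιNat U) (adjU U).unit (ιNat_unit U) (ses U)
    (fun F n => RDSes.isZero_rightDerived_id F n) i hi
  have := CohTopPush.pull_preservesFiniteLimits (CohCx.incl U)
  have : PreservesFiniteColimits (CohTop.pull (CohCx.incl U)) := by
    have := (adjU U).leftAdjoint_preservesColimits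
    exact PreservesColimits.preservesFiniteColimits _
  exact ⟨e.symm ≪≫ RDComp.compIso (CohTop.pull (CohCx.incl U)) (pull_preservesInjective U)
    (CohTop.push (CohCx.incl U)) i⟩

/-- `ℋ^1_Z ≅ coker (𝟭 ⟶ j_* j⁻¹)` -/
theorem nonempty_HZsh_one_iso :
    Nonempty (LocCohZ.HZsh U 1 ≅ cokernel (adjU U).unit) := by
  have := CohTopPush.pull_preservesFiniteLimits (CohCx.incl U)
  have : PreservesFiniteLimits (CohTop.pull (CohCx.incl U) ⋙ CohTop.push (CohCx.incl U)) :=
    comp_preservesFiniteLimits _ _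
  exact RDSes.nonempty_iso_cokernel (ιNat U) (adjU U).unit (ιNat_unit U) (ses U)
    (fun F n => RDSes.isZero_rightDerived_id F n)

end Groth.Agent.Lib.Helper6.LocCohZUnit
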