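import Groth.Agent.Lib.Helper6.SubtermUnit
import Groth.Agent.Lib.Helper6.LocCohZUnit
import Groth.Prelude.Def_SuppFam

/-!
# `Γ_Z` preserves injective abelian sheaves on a topological space (helper6)
-/

universe w' v₁ v₂ v₃ u₁ u₂ u₃ u
open CategoryTheory Limits Opposite TopologicalSpace

namespace Groth.Agent.Lib.Helper6.LocCohZInj

section Multi

open MultiAdj

variable {C : Type u₁} [Category.{v₁} C] {D : Type u₂} [Category.{v₂} D]
  {G : D ⥤ C} (M : MultiInit.{w'} G) {A : Type u₃} [Category.{v₃} A]
  [∀ V, HasCoproductsOfShape (M.I V) A]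

/-- if the index types are subsingletons and the structure maps are isomorphisms, the counit of
the presheaf-level extension by zero is a monomorphism componentwise -/
lemma mono_counitV [HasZeroMorphisms A] (hI : ∀ V, Subsingleton (M.I V))
    (ha : ∀ V (i : M.I V), IsIso (M.a V i)) (Q : Cᵒᵖ ⥤ A) (V : C) :
    Mono (counitV M Q V) := by
  by_cases hne : Nonempty (M.I V)
  · obtain ⟨i⟩ := hne
    haveI := hI V
    haveI : Unique (M.I V) := ⟨⟨i⟩, fun j => Subsingleton.elim _ _⟩
    haveI : IsIso (ιs M (G.op ⋙ Q) i) := by
      have : IsIso (Sigma.ι (fun i : M.I V => (G.op ⋙ Q).obj (op (M.d V i))) default) := by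
        rw [← coproductUniqueIso_inv]
        infer_instance
      have h2 : (default : M.I V) = i := Subsingleton.elim _ _
      rw [h2] at this
      exact this
    haveI := ha V i
    have h : IsIso (ιs M (G.op ⋙ Q) i ≫ counitV M Q V) := by
      rw [ιs_counitV]
      infer_instance
    have : IsIso (counitV M Q V) := IsIso.of_isIso_comp_left (ιs M (G.op ⋙ Q) i) _
    infer_instance
  · haveI : IsEmpty (M.I V) := not_nonempty_iff.1 hne
    have hz : IsZero (sobj M (G.op ⋙ Q) V) := by
      rw [IsZero.iff_id_eq_zero]
      apply sobj_hom_ext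
      intro i
      exact isEmptyElim i
    exact ⟨fun f g _ => hz.eq_of_tgt f g⟩

lemma mono_counitApp [HasZeroMorphisms A] (hI : ∀ V, Subsingleton (M.I V))
    (ha : ∀ V (i : M.I V), IsIso (M.a V i)) (Q : Cᵒᵖ ⥤ A) :
    Mono (counitApp M Q) := by
  haveI : ∀ V : Cᵒᵖ, Mono ((counitApp M Q).app V) := fun V => mono_counitV M hI ha Q V.unop
  exact NatTrans.mono_of_mono_app _

variable (K : GrothendieckTopology D) (J : GrothendieckTopology C) [G.IsContinuous K J]
  [HasWeakSheafify J A]

/-- the counit of the sheaf-level extension by zero is a monomorphism -/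
lemma mono_adj_counit_app [HasZeroMorphisms A] [(presheafToSheaf J A).PreservesMonomorphisms]
    (hI : ∀ V, Subsingleton (M.I V))
    (ha : ∀ V (i : M.I V), IsIso (M.a V i)) (Q : Sheaf J A) :
    Mono ((MultiAdj.adj M K J (A := A)).counit.app Q) := by
  have h := Adjunction.map_restrictFullyFaithful_counit_app
    ((adjPre M A).comp (sheafificationAdjunction J A))
    (L := shriek M K J) (R := G.sheafPushforwardContinuous A K J)
    (fullyFaithfulSheafToPresheaf K A) (Functor.FullyFaithful.id _)
    (Iso.refl _) (Iso.refl _) Q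
  have h' : (MultiAdj.adj M K J (A := A)).counit.app Q = _ := h
  rw [h']
  haveI : Mono (((adjPre M A).comp (sheafificationAdjunction J A)).counit.app Q) := by
    rw [Adjunction.comp_counit_app]
    haveI : Mono ((adjPre M A).counit.app ((sheafToPresheaf J A).obj Q)) :=
      mono_counitApp M hI ha _
    haveI : Mono ((presheafToSheaf J A).map
      ((adjPre M A).counit.app ((sheafToPresheaf J A).obj Q))) := inferInstance
    haveI : IsIso ((sheafificationAdjunction J A).counit.app Q) := inferInstance
    exact mono_comp _ _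
  simp only [Iso.refl_inv, NatTrans.id_app]
  erw [CategoryTheory.Functor.map_id, Category.id_comp, Category.id_comp]
  exact this

end Multi

section Top

open CohTop CohTopRestr LocCohZSupp LocCohZUnit

variable {X : TopCat.{u}} (U : Opens X)

/-- `j_! j^* A ⟶ A` is a monomorphism for the inclusion of an open subspace -/
lemma mono_counit (A : Ab X) : Mono ((CohTopRestrDer.adj U).counit.app A) := by
  refine mono_adj_counit_app (OpenShriek.openEmb (CohTopRestrDer.isOE U)) _ _
    (fun V => ?_) (fun V i => ?_) A
  · exact inferInstanceAs (Subsingleton (PLift _))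
  · refine ⟨⟨homOfLE ?_, Subsingleton.elim _ _, Subsingleton.elim _ _⟩⟩
    rintro _ ⟨x, hx, rfl⟩
    exact hx

/-- `restriction ⊣ j_*` -/
noncomputable abbrev adj₂ : restrFunctor U ⊣ CohTop.push (CohCx.incl U) :=
  (adjU U).ofNatIsoLeft (pullIsoRestr U)

lemma exists_section_η (I : Ab X) [Injective I] :
    ∃ σ : (CohTop.push (CohCx.incl U)).obj ((CohTop.pull (CohCx.incl U)).obj I) ⟶ I,
      σ ≫ η U I = 𝟙 _ := by
  haveI := mono_counit U ((CohTop.push (CohCx.incl U)).obj ((restrFunctor U).obj I))
  obtain ⟨ψ, hψ⟩ := SubtermUnit.exists_section (CohTopRestrDer.adj U) (adj₂ U) I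
  have hu : (adj₂ U).unit.app I =
      η U I ≫ (CohTop.push (CohCx.incl U)).map ((pullIsoRestr U).hom.app I) := rfl
  rw [hu] at hψ
  refine ⟨(CohTop.push (CohCx.incl U)).map ((pullIsoRestr U).hom.app I) ≫ ψ, ?_⟩
  rw [← cancel_mono ((CohTop.push (CohCx.incl U)).map ((pullIsoRestr U).hom.app I))]
  simp only [Category.assoc, Category.id_comp]
  rw [hψ, Category.comp_id]

/-- `Γ_Z(I)` is a retract of `I` for `I` injective -/
theorem injective_sectSuppF (I : Ab X) [Injective I] :
    Injective ((LocCohZ.sectSuppF U).obj I) := by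
  obtain ⟨σ, hσ⟩ := exists_section_η U I
  have hw : (𝟙 I - η U I ≫ σ) ≫ η U I = 0 := by
    rw [Preadditive.sub_comp, Category.id_comp, Category.assoc, hσ, Category.comp_id, sub_self]
  let R : Retract (CohCx.sectSupp U I) I :=
    { i := ιZ U I
      r := kernel.lift (η U I) (𝟙 I - η U I ≫ σ) hw
      retract := by
        rw [← cancel_mono (ιZ U I), Category.assoc, kernel.lift_ι, Preadditive.comp_sub,
          Category.comp_id, Category.id_comp]
        have : ιZ U I ≫ η U I = 0 := kernel.condition _
        rw [reassoc_of% this, zero_comp, sub_zero] }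
  exact R.injective

/-- the sheaf of sections with support in a locally closed subset of an injective sheaf is
injective -/
theorem injective_sectSuppLC {W V : Opens X} (h : W ≤ V) (F : Ab X) [Injective F] :
    Injective ((SuppFam.sectSuppLC h).obj F) := by
  haveI h1 : Injective ((restrFunctor V).obj F) :=
    Injective.injective_of_adjoint (CohTopRestrDer.adj V) F
  haveI h2 : Injective ((LocCohZ.sectSuppF (SuppFam.inOpen V W)).obj ((restrFunctor V).obj F)) :=
    injective_sectSuppF _ _
  haveI := CohTopPush.pull_preservesFiniteLimits (CohCx.incl V)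
  exact Injective.injective_of_adjoint (adjU V) _

end Top

end Groth.Agent.Lib.Helper6.LocCohZInj
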