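import Groth.Prelude.Def_SuppFam
import Groth.Agent.Lib.Helper6.CohPresheaf
import Groth.Agent.Lib.Helper6.LocCohZInj
import Groth.Agent.Lib.Helper6.LocCohZLocal2
import Groth.Agent.Lib.Helper6.LocCohZExc
import Groth.Agent.Lib.Helper6.LocCohZGamma

/-!
# The presheaf of cohomology with supports as a family of functors with dimension shifting (helper6)
-/

set_option autoImplicit false
universe u

open CategoryTheory Limits Opposite TopologicalSpace Abelian

namespace Groth.Agent.Lib.Helper6.SuppFamPre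

open CohTop DeltaCompare CohPresheaf

variable {X : TopCat.{u}} {W V : Opens X} (h : W ≤ V)

include h in
/-- the pair `W ⊓ V' ≤ V ⊓ V'` -/
lemma hp (V' : Opens X) : W ⊓ V' ≤ V ⊓ V' := inf_le_inf_right V' h

/-- `F ↦ (V' ↦ H^n_{Z ∩ V'}(V ∩ V', F))` as a functor -/
noncomputable def PZ (n : ℕ) : Ab X ⥤ (Opens X)ᵒᵖ ⥤ AddCommGrpCat.{u} where
  obj F := SuppFam.HZpre F n h
  map {F G} g :=
    { app := fun V' => AddCommGrpCat.ofHom
        ((Ext.mk₀ g).postcomp (LocCohZ.zq (hp h V'.unop)) (add_zero n))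
      naturality := fun V' V'' i => by
        ext x
        exact (Ext.comp_assoc_of_third_deg_zero
          (Ext.mk₀ (LocCohZ.zqMap (hp h V'.unop) (hp h V''.unop)
            (inf_le_inf_left W (leOfHom i.unop)) (inf_le_inf_left V (leOfHom i.unop))))
          x (Ext.mk₀ g) (zero_add n)) }
  map_id F := by
    ext V' x
    exact Ext.comp_mk₀_id x
  map_comp {F G H} g g' := by
    ext V' x
    have key : ∀ y : Ext (LocCohZ.zq (hp h V'.unop)) F n, y.comp (Ext.mk₀ (g ≫ g')) (add_zero n) =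
        (y.comp (Ext.mk₀ g) (add_zero n)).comp (Ext.mk₀ g') (add_zero n) := fun y => by
      rw [Ext.comp_assoc_of_third_deg_zero, Ext.mk₀_comp_mk₀]
    exact key x

lemma PZ_obj (n : ℕ) (F : Ab X) : (PZ h n).obj F = SuppFam.HZpre F n h := rfl

lemma PZ_map_app (n : ℕ) {F G : Ab X} (g : F ⟶ G) (V' : (Opens X)ᵒᵖ)
    (x : Ext (LocCohZ.zq (hp h V'.unop)) F n) :
    ((PZ h n).map g).app V' x = x.comp (Ext.mk₀ g) (add_zero n) := rfl

/-- the connecting homomorphism -/
noncomputable def δP (E : ShortComplex (Ab X)) (hE : E.ShortExact) (n : ℕ) :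
    (PZ h n).obj E.X₃ ⟶ (PZ h (n + 1)).obj E.X₁ where
  app V' := AddCommGrpCat.ofHom (hE.extClass.postcomp (LocCohZ.zq (hp h V'.unop)) rfl)
  naturality V' V'' i := by
    ext x
    exact (Ext.comp_assoc (Ext.mk₀ (LocCohZ.zqMap (hp h V'.unop) (hp h V''.unop)
        (inf_le_inf_left W (leOfHom i.unop)) (inf_le_inf_left V (leOfHom i.unop))))
      x hE.extClass (zero_add n) rfl (show 0 + n + 1 = n + 1 by lia))

lemma PZ_map_g_δP (E : ShortComplex (Ab X)) (hE : E.ShortExact) (n : ℕ) :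
    (PZ h n).map E.g ≫ δP h E hE n = 0 := by
  ext V' x
  have key : ∀ y : Ext (LocCohZ.zq (hp h V'.unop)) E.X₂ n,
      (y.comp (Ext.mk₀ E.g) (add_zero n)).comp hE.extClass rfl = 0 := fun y => by
    rw [Ext.comp_assoc_of_second_deg_zero, hE.comp_extClass, Ext.comp_zero]
  exact key x

lemma δP_PZ_map_f (E : ShortComplex (Ab X)) (hE : E.ShortExact) (n : ℕ) :
    δP h E hE n ≫ (PZ h (n + 1)).map E.f = 0 := by
  ext V' x
  have key : ∀ y : Ext (LocCohZ.zq (hp h V'.unop)) E.X₃ n,
      (y.comp hE.extClass rfl).comp (Ext.mk₀ E.f) (add_zero (n + 1)) = 0 := fun y => by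
    rw [Ext.comp_assoc_of_third_deg_zero, hE.extClass_comp, Ext.comp_zero]
  exact key x

lemma hasShift_PZ (E : ShortComplex (Ab X)) (hE : E.ShortExact) [Injective E.X₂] :
    HasShift (fun n => PZ h n) E.f E.g := by
  refine ⟨fun n => ?_, fun n => ⟨δP h E hE n, PZ_map_g_δP h E hE n, δP_PZ_map_f h E hE n, ?_, ?_⟩⟩
  · rw [Functor.isZero_iff]
    intro V'
    have : Subsingleton (Ext (LocCohZ.zq (hp h V'.unop)) E.X₂ (n + 1)) :=
      subsingleton_of_forall_eq 0 (fun x => Ext.eq_zero_of_injective x)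
    exact AddCommGrpCat.isZero_of_subsingleton
      (AddCommGrpCat.of (Ext (LocCohZ.zq (hp h V'.unop)) E.X₂ (n + 1)))
  · apply exact_of_evaluation
    intro V'
    exact Ext.covariant_sequence_exact₃' (LocCohZ.zq (hp h V'.unop)) hE n (n + 1) rfl
  · apply exact_of_evaluation
    intro V'
    exact Ext.covariant_sequence_exact₁' (LocCohZ.zq (hp h V'.unop)) hE n (n + 1) rfl

/-! ### Degree zero -/

section DegreeZero

open CohTopRestr LocCohZSupp LocCohZFlasque LocCohZExc

variable (V) in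
/-- the open `V ∩ V'` of the subspace `V` -/
abbrev AO (V' : Opens X) : Opens (TopCat.of V) := (Opens.map (CohCx.incl V)).obj V'

lemma jF_AO_le (V' : Opens X) : (jF V).obj (AO V V') ≤ V ⊓ V' := by
  rintro _ ⟨y, hy, rfl⟩
  exact ⟨y.2, hy⟩

lemma le_jF_AO (V' : Opens X) : V ⊓ V' ≤ (jF V).obj (AO V V') :=
  fun x hx => ⟨⟨x, hx.1⟩, hx.2, rfl⟩

lemma jF_AO_inf_le (V' : Opens X) :
    (jF V).obj (AO V V' ⊓ SuppFam.inOpen V W) ≤ W ⊓ V' := by
  rintro _ ⟨y, hy, rfl⟩
  exact ⟨hy.2, hy.1⟩

include h in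
lemma le_jF_AO_inf (V' : Opens X) :
    W ⊓ V' ≤ (jF V).obj (AO V V' ⊓ SuppFam.inOpen V W) :=
  fun x hx => ⟨⟨x, h hx.1⟩, ⟨hx.2, hx.1⟩, rfl⟩

/-- the inclusion `Γ_Z(F|_V) ⟶ F|_V` -/
noncomputable abbrev ιV (F : Ab X) :
    (LocCohZ.sectSuppF (SuppFam.inOpen V W)).obj ((restrFunctor V).obj F) ⟶ (restrFunctor V).obj F :=
  ι' (SuppFam.inOpen V W) ((restrFunctor V).obj F)

/-- the underlying section of `F` over `j(V ∩ V')` of a section of `Γ_Z(F)` over `V'` -/
noncomputable def sec (F : Ab X) (V' : Opens X)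
    (t : ((SuppFam.sectSuppLC h).obj F).obj.obj (op V')) :
    F.obj.obj (op ((jF V).obj (AO V V'))) :=
  (ιV (W := W) F).hom.app (op (AO V V')) t

lemma sec_vanish (F : Ab X) (V' : Opens X) (t : ((SuppFam.sectSuppLC h).obj F).obj.obj (op V')) :
    F.obj.map ((jF V).map (homOfLE (inf_le_left :
      AO V V' ⊓ SuppFam.inOpen V W ≤ AO V V'))).op (sec h F V' t) = 0 :=
  (exists_ι'_app_eq_iff (SuppFam.inOpen V W) ((restrFunctor V).obj F) (AO V V')
    ((ιV (W := W) F).hom.app (op (AO V V')) t)).1 ⟨t, rfl⟩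

lemma exists_sec (F : Ab X) (V' : Opens X) (s : F.obj.obj (op ((jF V).obj (AO V V'))))
    (hs : F.obj.map ((jF V).map (homOfLE (inf_le_left :
      AO V V' ⊓ SuppFam.inOpen V W ≤ AO V V'))).op s = 0) :
    ∃ t : ((SuppFam.sectSuppLC h).obj F).obj.obj (op V'), sec h F V' t = s :=
  (exists_ι'_app_eq_iff (SuppFam.inOpen V W) ((restrFunctor V).obj F) (AO V V') s).2 hs

lemma sec_injective (F : Ab X) (V' : Opens X) : Function.Injective (sec h F V') :=
  ι'_app_injective (SuppFam.inOpen V W) ((restrFunctor V).obj F) (AO V V')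

lemma sec_add (F : Ab X) (V' : Opens X) (a b : ((SuppFam.sectSuppLC h).obj F).obj.obj (op V')) :
    sec h F V' (a + b) = sec h F V' a + sec h F V' b :=
  map_add ((ιV (W := W) F).hom.app (op (AO V V'))).hom a b

/-- the underlying section of `F` over `V ⊓ V'` of a section of `Γ_Z(F)` over `V'` -/
noncomputable def β₀ (F : Ab X) (V' : Opens X)
    (t : ((SuppFam.sectSuppLC h).obj F).obj.obj (op V')) : F.obj.obj (op (V ⊓ V')) :=
  F.obj.map (homOfLE (le_jF_AO V')).op (sec h F V' t)

lemma β₀_mem (F : Ab X) (V' : Opens X) (t : ((SuppFam.sectSuppLC h).obj F).obj.obj (op V')) :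
    β₀ h F V' t ∈ LocCohZ.sectZ F (hp h V') := by
  rw [AddMonoidHom.mem_ker]
  have h3 := congrArg (F.obj.map (homOfLE (le_jF_AO_inf h V')).op) (sec_vanish h F V' t)
  rw [map_zero] at h3
  refine Eq.trans ?_ h3
  exact (map_map_apply' F _ _ (homOfLE ((hp h V').trans (le_jF_AO V'))) _).trans
    (map_map_apply' F _ _ (homOfLE ((hp h V').trans (le_jF_AO V'))) _).symm

/-- sections of `Γ_Z(F)` over `V'` as sections of `F` over `V ⊓ V'` vanishing on `W ⊓ V'` -/
noncomputable def β (F : Ab X) (V' : Opens X) :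
    ((SuppFam.sectSuppLC h).obj F).obj.obj (op V') →+ LocCohZ.sectZ F (hp h V') where
  toFun t := ⟨β₀ h F V' t, β₀_mem h F V' t⟩
  map_zero' := by
    apply Subtype.ext
    change F.obj.map _ (sec h F V' 0) = 0
    have : sec h F V' 0 = 0 := map_zero ((ιV (W := W) F).hom.app (op (AO V V'))).hom
    rw [this, map_zero]
  map_add' a b := by
    apply Subtype.ext
    change F.obj.map _ (sec h F V' (a + b)) = F.obj.map _ (sec h F V' a) + F.obj.map _ (sec h F V' b)
    rw [sec_add, map_add]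

lemma β_bijective (F : Ab X) (V' : Opens X) : Function.Bijective (β h F V') := by
  constructor
  · intro a b hab
    apply sec_injective h F V'
    apply map_injective_of_le F (le_jF_AO V') (jF_AO_le V')
    exact congrArg Subtype.val hab
  · intro s
    have hs : F.obj.map (homOfLE (hp h V')).op s.1 = 0 := by
      have := s.2
      rw [AddMonoidHom.mem_ker] at this
      exact this
    obtain ⟨t, ht⟩ := exists_sec h F V' (F.obj.map (homOfLE (jF_AO_le V')).op s.1) (by
      have h3 := congrArg (F.obj.map (homOfLE (jF_AO_inf_le (V := V) (W := W) V')).op) hs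
      rw [map_zero] at h3
      refine Eq.trans ?_ h3
      exact (map_map_apply' F _ _ (homOfLE ((jF_AO_inf_le V').trans (hp h V'))) _).trans
        (map_map_apply' F _ _ (homOfLE ((jF_AO_inf_le V').trans (hp h V'))) _).symm)
    refine ⟨t, Subtype.ext ?_⟩
    change F.obj.map _ (sec h F V' t) = s.1
    rw [ht]
    refine (map_map_apply' F _ _ (𝟙 _) _).trans ?_
    rw [op_id, F.obj.map_id]
    rfl

lemma sec_naturality_right {F G : Ab X} (φ : F ⟶ G) (V' : Opens X)
    (t : ((SuppFam.sectSuppLC h).obj F).obj.obj (op V')) :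
    sec h G V' (((SuppFam.sectSuppLC h).map φ).hom.app (op V') t) =
      φ.hom.app (op ((jF V).obj (AO V V'))) (sec h F V' t) := by
  have h1 := map_ι' (SuppFam.inOpen V W) ((restrFunctor V).map φ)
  exact congrArg (fun z => z.hom.app (op (AO V V')) t) h1

lemma β_naturality_right {F G : Ab X} (φ : F ⟶ G) (V' : Opens X)
    (t : ((SuppFam.sectSuppLC h).obj F).obj.obj (op V')) :
    (β h G V' (((SuppFam.sectSuppLC h).map φ).hom.app (op V') t)).1 =
      φ.hom.app (op (V ⊓ V')) (β h F V' t).1 := by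
  change G.obj.map _ (sec h G V' _) = φ.hom.app _ (F.obj.map _ (sec h F V' t))
  rw [sec_naturality_right]
  exact (NatTrans.naturality_apply φ.hom (homOfLE (le_jF_AO (V := V) V')).op _).symm

lemma sec_naturality_left (F : Ab X) {V' V'' : Opens X} (hi : V'' ≤ V')
    (t : ((SuppFam.sectSuppLC h).obj F).obj.obj (op V')) :
    sec h F V'' (((SuppFam.sectSuppLC h).obj F).obj.map (homOfLE hi).op t) =
      F.obj.map ((jF V).map ((Opens.map (CohCx.incl V)).map (homOfLE hi))).op (sec h F V' t) :=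
  NatTrans.naturality_apply (ιV (W := W) F).hom
    ((Opens.map (CohCx.incl V)).map (homOfLE hi)).op t

lemma β_naturality_left (F : Ab X) {V' V'' : Opens X} (hi : V'' ≤ V')
    (t : ((SuppFam.sectSuppLC h).obj F).obj.obj (op V')) :
    (β h F V'' (((SuppFam.sectSuppLC h).obj F).obj.map (homOfLE hi).op t)).1 =
      F.obj.map (homOfLE (inf_le_inf_left V hi)).op (β h F V' t).1 := by
  change F.obj.map _ (sec h F V'' _) = F.obj.map _ (F.obj.map _ (sec h F V' t))
  rw [sec_naturality_left]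
  exact (map_map_apply' F _ _ (homOfLE ((inf_le_inf_left V hi).trans (le_jF_AO V'))) _).trans
    (map_map_apply' F _ _ (homOfLE ((inf_le_inf_left V hi).trans (le_jF_AO V'))) _).symm

/-- `Γ(V', Γ_Z(F)) ≃+ H^0_{Z ∩ V'}(V ∩ V', F)` -/
noncomputable def ε (F : Ab X) (V' : Opens X) :
    ((SuppFam.sectSuppLC h).obj F).obj.obj (op V') ≃+ LocCohZ.HZ F 0 (hp h V') :=
  (AddEquiv.ofBijective (β h F V') (β_bijective h F V')).trans
    (LocCohZ.sect0Equiv F (hp h V')).symm

lemma sect0Equiv_ε (F : Ab X) (V' : Opens X)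
    (t : ((SuppFam.sectSuppLC h).obj F).obj.obj (op V')) :
    LocCohZ.sect0Equiv F (hp h V') (ε h F V' t) = β h F V' t :=
  AddEquiv.apply_symm_apply _ _

lemma ε_naturality_left (F : Ab X) {V' V'' : Opens X} (hi : V'' ≤ V')
    (t : ((SuppFam.sectSuppLC h).obj F).obj.obj (op V')) :
    ε h F V'' (((SuppFam.sectSuppLC h).obj F).obj.map (homOfLE hi).op t) =
      (Ext.mk₀ (LocCohZ.zqMap (hp h V') (hp h V'') (inf_le_inf_left W hi)
        (inf_le_inf_left V hi))).comp (ε h F V' t) (zero_add 0) := by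
  apply (LocCohZ.sect0Equiv F (hp h V'')).injective
  apply Subtype.ext
  rw [sect0Equiv_ε, LocCohZLocal2.sect0Equiv_zqMap, sect0Equiv_ε]
  exact β_naturality_left h F hi t

lemma ε_naturality_right {F G : Ab X} (φ : F ⟶ G) (V' : Opens X)
    (t : ((SuppFam.sectSuppLC h).obj F).obj.obj (op V')) :
    ε h G V' (((SuppFam.sectSuppLC h).map φ).hom.app (op V') t) =
      (ε h F V' t).comp (Ext.mk₀ φ) (add_zero 0) := by
  apply (LocCohZ.sect0Equiv G (hp h V')).injective
  apply Subtype.ext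
  rw [sect0Equiv_ε, LocCohZGamma.sect0Equiv_naturality, sect0Equiv_ε]
  exact β_naturality_right h φ V' t

/-- the presheaf of sections of `Γ_Z(F)` is the presheaf of `H^0` with supports -/
noncomputable def e : SuppFam.sectSuppLC h ⋙
    sheafToPresheaf (Opens.grothendieckTopology X) AddCommGrpCat.{u} ≅ PZ h 0 :=
  NatIso.ofComponents (fun F => NatIso.ofComponents
    (fun V' => (ε h F V'.unop).toAddCommGrpIso) (fun {V' V''} i => by
      ext t
      have hi : i = (homOfLE (leOfHom i.unop)).op := Subsingleton.elim _ _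
      rw [hi]
      exact ε_naturality_left h F (leOfHom i.unop) t)) (fun {F G} φ => by
      ext V' t
      exact ε_naturality_right h φ V'.unop t)

/-- `Γ_Z ≅ a ∘ H^0_pre` -/
noncomputable def θ : SuppFam.sectSuppLC h ≅
    PZ h 0 ⋙ presheafToSheaf (Opens.grothendieckTopology X) AddCommGrpCat.{u} :=
  (Functor.rightUnitor _).symm ≪≫
    Functor.isoWhiskerLeft (SuppFam.sectSuppLC h)
      (sheafificationNatIso (Opens.grothendieckTopology X) AddCommGrpCat.{u}) ≪≫
    (Functor.associator _ _ _).symm ≪≫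
    Functor.isoWhiskerRight (e h)
      (presheafToSheaf (Opens.grothendieckTopology X) AddCommGrpCat.{u})

end DegreeZero

section Main

instance sectSuppLC_pfl : PreservesFiniteLimits (SuppFam.sectSuppLC h) := by
  haveI := CohTopRestr.restr_pfl V
  haveI := LocCohZUnit.push_pfl V
  haveI : PreservesFiniteLimits (LocCohZ.sectSuppF (X := TopCat.of V) (SuppFam.inOpen V W)) :=
    LocCohZFlasque.instPreservesFiniteLimitsAbSectSuppF _
  unfold SuppFam.sectSuppLC
  infer_instance

/-- the local cohomology sheaf `ℋ^q_Z(F)` is the sheaf associated with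
`V' ↦ H^q_{Z ∩ V'}(V ∩ V', F)` -/
theorem nonempty_HZshLC_iso (F : Ab X) (q : ℕ) :
    Nonempty ((SuppFam.HZshLC h q).obj F ≅
      (presheafToSheaf (Opens.grothendieckTopology X) AddCommGrpCat.{u}).obj
        (SuppFam.HZpre F q h)) :=
  delta_compare (fun n => (SuppFam.sectSuppLC h).rightDerived n)
    (fun n => PZ h n ⋙ presheafToSheaf (Opens.grothendieckTopology X) AddCommGrpCat.{u})
    (Functor.rightDerivedZeroIsoSelf _ ≪≫ θ h) (fun _ => True) (fun G _ => by
      have hE := ExtAcyc.sesUnder_shortExact G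
      exact ⟨_, _, (ExtAcyc.sesUnder G).f, (ExtAcyc.sesUnder G).g, trivial,
        RDShift.hasShift_rightDerived _ _ hE
          (fun n => Functor.isZero_rightDerived_obj_injective_succ _ n _),
        RDShift.HasShift.comp_exact (hasShift_PZ h _ hE)
          (presheafToSheaf (Opens.grothendieckTopology X) AddCommGrpCat.{u})⟩) q F trivial

end Main

end Groth.Agent.Lib.Helper6.SuppFamPre
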