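import Groth.Agent.Lib.Helper6.LocCohZGamma
import Groth.Agent.Lib.Helper6.RDAdapted
import Groth.Agent.Lib.Helper6.CohTopPush

/-!
# Flasque sheaves are acyclic for sections with supports (helper6)
-/

universe u

open CategoryTheory Limits Opposite TopologicalSpace Abelian

namespace Groth.Agent.Lib.Helper6.LocCohZFlasque

open CohTop LocCohZSupp LocCohZGamma

variable {X : TopCat.{u}} (U : Opens X)

/-- the inclusion `Γ_Z(F) ⟶ F`, typed with the functor `sectSuppF` -/
noncomputable def ι' (F : Ab X) : (LocCohZ.sectSuppF U).obj F ⟶ F := ιZ U F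

instance (F : Ab X) : Mono (ι' U F) := inferInstanceAs (Mono (kernel.ι (η U F)))

lemma ι'_η (F : Ab X) : ι' U F ≫ η U F = 0 := kernel.condition _

lemma map_ι' {F G : Ab X} (φ : F ⟶ G) :
    (LocCohZ.sectSuppF U).map φ ≫ ι' U G = ι' U F ≫ φ := sectSuppF_map_ι U φ

/-- lifting to `Γ_Z` -/
noncomputable def lift' {T F : Ab X} (b : T ⟶ F) (h : b ≫ η U F = 0) :
    T ⟶ (LocCohZ.sectSuppF U).obj F := kernel.lift _ b h

lemma lift'_ι' {T F : Ab X} (b : T ⟶ F) (h : b ≫ η U F = 0) : lift' U b h ≫ ι' U F = b :=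
  kernel.lift_ι _ _ _

lemma mono_sectSuppF_map {F G : Ab X} (φ : F ⟶ G) [Mono φ] : Mono ((LocCohZ.sectSuppF U).map φ) := by
  have : Mono ((LocCohZ.sectSuppF U).map φ ≫ ι' U G) := by
    rw [map_ι']
    exact mono_comp _ _
  exact mono_of_mono _ (ι' U G)

lemma mono_pullPush_map {F G : Ab X} (φ : F ⟶ G) [Mono φ] :
    Mono ((CohTop.push (CohCx.incl U)).map ((CohTop.pull (CohCx.incl U)).map φ)) := by
  have := CohTopPush.pull_preservesFiniteLimits (CohCx.incl U)
  have h1 : Mono ((CohTop.pull (CohCx.incl U)).map φ) := inferInstance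
  have h2 : PreservesFiniteLimits (CohTop.push (CohCx.incl U)) := CohTopPush.push_pfl _
  exact (CohTop.push (CohCx.incl U)).map_mono _

lemma exists_lift {X₁ X₂ X₃ : Ab X} (f : X₁ ⟶ X₂) (g : X₂ ⟶ X₃) (w : f ≫ g = 0)
    (hS : (ShortComplex.mk f g w).Exact) [Mono f] {T : Ab X}
    (a : T ⟶ (LocCohZ.sectSuppF U).obj X₂) (ha : a ≫ (LocCohZ.sectSuppF U).map g = 0) :
    ∃ c : T ⟶ (LocCohZ.sectSuppF U).obj X₁, c ≫ (LocCohZ.sectSuppF U).map f = a := by
  have h1 : (a ≫ ι' U X₂) ≫ g = 0 := by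
    rw [Category.assoc, ← map_ι' U g, ← Category.assoc, ha, zero_comp]
  have hmf : Mono (ShortComplex.mk f g w).f := ‹Mono f›
  let b : T ⟶ X₁ := hS.lift _ h1
  have hb : b ≫ f = a ≫ ι' U X₂ := hS.lift_f _ h1
  have nat : f ≫ η U X₂ = η U X₁ ≫
      (CohTop.push (CohCx.incl U)).map ((CohTop.pull (CohCx.incl U)).map f) :=
    (adjU U).unit.naturality f
  have h2 : b ≫ η U X₁ = 0 := by
    have := mono_pullPush_map U f
    rw [← cancel_mono ((CohTop.push (CohCx.incl U)).map ((CohTop.pull (CohCx.incl U)).map f)),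
      Category.assoc, ← nat, ← Category.assoc, hb, Category.assoc, zero_comp, ι'_η, comp_zero]
  refine ⟨lift' U b h2, ?_⟩
  rw [← cancel_mono (ι' U X₂), Category.assoc, map_ι', ← Category.assoc, lift'_ι', hb]

/-- `Γ_Z` is left exact -/
lemma sectSuppF_leftExact (S : ShortComplex (Ab X)) (hS : S.Exact) [Mono S.f] :
    (S.map (LocCohZ.sectSuppF U)).Exact ∧ Mono ((LocCohZ.sectSuppF U).map S.f) := by
  have hm : Mono ((LocCohZ.sectSuppF U).map S.f) := mono_sectSuppF_map U S.f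
  refine ⟨?_, hm⟩
  have hm' : Mono (S.map (LocCohZ.sectSuppF U)).f := hm
  refine ShortComplex.exact_of_f_is_kernel _ (KernelFork.IsLimit.ofι' _ _ ?_)
  intro T a ha
  have hex := exists_lift U S.f S.g S.zero hS a ha
  exact ⟨hex.choose, hex.choose_spec⟩

instance : PreservesFiniteLimits (LocCohZ.sectSuppF U) := by
  rw [Functor.preservesFiniteLimits_iff_forall_exact_map_and_mono]
  intro S hS
  have := hS.mono_f
  exact sectSuppF_leftExact U S hS.exact

/-- sectionwise exactness of a left exact sequence of sheaves -/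
lemma exists_of_app_eq_zero (S : ShortComplex (Ab X)) (hS : S.Exact) [hm : Mono S.f] (W : Opens X)
    (s : S.X₂.obj.obj (op W)) (hs : S.g.hom.app (op W) s = 0) :
    ∃ r : S.X₁.obj.obj (op W), S.f.hom.app (op W) r = s := by
  have h31 : PreservesFiniteLimits (CechFamDerived.ΓU (Opens.grothendieckTopology X) (U := W)) →
      ∀ (S : ShortComplex (Ab X)), S.Exact ∧ Mono S.f →
        (S.map (CechFamDerived.ΓU (Opens.grothendieckTopology X) (U := W))).Exact ∧
          Mono ((CechFamDerived.ΓU (Opens.grothendieckTopology X) (U := W)).map S.f) :=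
    ((Functor.preservesFiniteLimits_tfae
      (CechFamDerived.ΓU (Opens.grothendieckTopology X) (U := W))).out 3 1).1
  have hE := (h31 inferInstance S ⟨hS, hm⟩).1
  rw [ShortComplex.ab_exact_iff] at hE
  exact hE s hs

lemma ι'_app_injective (F : Ab X) (W : Opens X) : Function.Injective ((ι' U F).hom.app (op W)) :=
  ιZ_app_injective U F W

/-- sections of `Γ_Z(F)` over `W`: sections of `F` over `W` vanishing on `W ⊓ U` -/
lemma exists_ι'_app_eq_iff (F : Ab X) (W : Opens X) (s : F.obj.obj (op W)) :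
    (∃ t : ((LocCohZ.sectSuppF U).obj F).obj.obj (op W), (ι' U F).hom.app (op W) t = s) ↔
      F.obj.map (homOfLE (inf_le_left : W ⊓ U ≤ W)).op s = 0 := by
  rw [← η_app_eq_zero_iff U F inf_le_left inf_le_right le_rfl]
  constructor
  · rintro ⟨t, rfl⟩
    exact η_ιZ_app U F W t
  · intro h
    exact exists_of_η_app_eq_zero U F W s h

lemma map_sub_apply {F : Ab X} {A B : Opens X} (i : A ⟶ B) (a b : F.obj.obj (op B)) :
    F.obj.map i.op (a - b) = F.obj.map i.op a - F.obj.map i.op b := map_sub _ a b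

/-- `Γ_Z(X₂) ⟶ Γ_Z(X₃)` is surjective on sections if `X₁` is flasque -/
lemma sectSuppF_map_g_app_surjective (S : ShortComplex (Ab X)) (hS : S.ShortExact)
    [TopCat.Sheaf.IsFlasque S.X₁] (W : Opens X) :
    Function.Surjective (((LocCohZ.sectSuppF U).map S.g).hom.app (op W)) := by
  intro t
  have hm := hS.mono_f
  have hepi := TopCat.Sheaf.IsFlasque.epi_of_shortExact hS (U := W)
  rw [AddCommGrpCat.epi_iff_surjective] at hepi
  obtain ⟨s, hs⟩ := hepi ((ι' U S.X₃).hom.app (op W) t)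
  have ht0 : S.X₃.obj.map (homOfLE (inf_le_left : W ⊓ U ≤ W)).op ((ι' U S.X₃).hom.app (op W) t) = 0 :=
    (exists_ι'_app_eq_iff U S.X₃ W _).1 ⟨t, rfl⟩
  -- restriction of `s` to `W ⊓ U` comes from `X₁`
  have hs0 : S.g.hom.app (op (W ⊓ U)) (S.X₂.obj.map (homOfLE (inf_le_left : W ⊓ U ≤ W)).op s) = 0 := by
    have nat := ConcreteCategory.congr_hom (S.g.hom.naturality (homOfLE (inf_le_left : W ⊓ U ≤ W)).op) s
    refine nat.trans ?_
    change S.X₃.obj.map (homOfLE (inf_le_left : W ⊓ U ≤ W)).op (S.g.hom.app (op W) s) = 0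
    rw [hs]
    exact ht0
  obtain ⟨r, hr⟩ := exists_of_app_eq_zero S hS.exact (W ⊓ U) _ hs0
  have hfl : Epi (S.X₁.obj.map (homOfLE (inf_le_left : W ⊓ U ≤ W)).op) :=
    TopCat.Presheaf.IsFlasque.epi _
  rw [AddCommGrpCat.epi_iff_surjective] at hfl
  obtain ⟨r', hr'⟩ := hfl r
  -- the corrected lift
  have hs' : S.X₂.obj.map (homOfLE (inf_le_left : W ⊓ U ≤ W)).op (s - S.f.hom.app (op W) r') = 0 := by
    have nat := ConcreteCategory.congr_hom (S.f.hom.naturality (homOfLE (inf_le_left : W ⊓ U ≤ W)).op) r'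
    have nat' : S.X₂.obj.map (homOfLE (inf_le_left : W ⊓ U ≤ W)).op (S.f.hom.app (op W) r') =
        S.f.hom.app (op (W ⊓ U)) (S.X₁.obj.map (homOfLE (inf_le_left : W ⊓ U ≤ W)).op r') := nat.symm
    rw [map_sub_apply, nat', hr', hr, sub_self]
  obtain ⟨t₂, ht₂⟩ := (exists_ι'_app_eq_iff U S.X₂ W _).2 hs'
  refine ⟨t₂, ?_⟩
  apply ι'_app_injective U S.X₃ W
  have h1 := congrArg (fun z => z.hom.app (op W) t₂) (map_ι' U S.g)
  refine (Eq.trans ?_ h1).trans ?_
  · rfl
  · change S.g.hom.app (op W) ((ι' U S.X₂).hom.app (op W) t₂) = _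
    rw [ht₂, map_sub, hs]
    have h0 : S.g.hom.app (op W) (S.f.hom.app (op W) r') = 0 := by
      have := congrArg (fun z => z.hom.app (op W) r') S.zero
      exact this
    rw [h0, sub_zero]

section Acyc

attribute [local instance] HasDerivedCategory.standard

/-- Flasque sheaves are acyclic for `Γ_Z`. -/
theorem acyc_sectSuppF_of_flasque (F : Ab X) [hF : TopCat.Sheaf.IsFlasque F] :
    RDAcyc.Acyc (LocCohZ.sectSuppF U) F := by
  refine RDAdapted.acyc_of_adapted (LocCohZ.sectSuppF U)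
    (fun G : Ab X => TopCat.Sheaf.IsFlasque G) ?_ ?_ hF
  · intro G
    exact ⟨Injective.under G, Injective.ι G, SheafCoh.isFlasque_of_injective _, inferInstance⟩
  · intro S hS h₁ h₂
    have h₁' : TopCat.Sheaf.IsFlasque S.X₁ := h₁
    have h₂' : TopCat.Sheaf.IsFlasque S.X₂ := h₂
    refine ⟨TopCat.Sheaf.IsFlasque.of_shortExact_of_isFlasque₁₂ hS,
      RDAcyc.map_shortExact _ hS ?_⟩
    apply CohTopPush.epi_of_sections_surjective
    intro V
    exact sectSuppF_map_g_app_surjective U S hS V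

/-- `ℋ^{q+1}_Z(F) = 0` for flasque `F`. -/
theorem isZero_HZsh_of_flasque (F : Ab X) [TopCat.Sheaf.IsFlasque F] (q : ℕ) :
    IsZero ((LocCohZ.HZsh U (q + 1)).obj F) :=
  (RDAcyc.acyc_iff_isZero_rightDerived (LocCohZ.sectSuppF U) F).1 (acyc_sectSuppF_of_flasque U F) q

end Acyc

/-- `H^i_{V∖W}(V, F) = 0` for flasque `F` and `i > 0`. -/
theorem subsingleton_HZ_of_flasque (F : Ab X) [TopCat.Sheaf.IsFlasque F] {W V : Opens X}
    (h : W ≤ V) (i : ℕ) (hi : 0 < i) : Subsingleton (LocCohZ.HZ F i h) := by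
  obtain ⟨n, rfl⟩ : ∃ n, i = n + 1 := ⟨i - 1, by lia⟩
  have hS := LocCohZ.zqSeq_shortExact h
  suffices H : ∀ x : LocCohZ.HZ F (n + 1) h, x = 0 from ⟨fun a b => (H a).trans (H b).symm⟩
  intro x₃
  have h3 : (Abelian.Ext.mk₀ (LocCohZ.zqSeq h).g).comp x₃ (zero_add (n + 1)) = 0 :=
    SheafCoh.flasque_HU_eq_zero F V n _
  obtain ⟨x₁, hx₁⟩ := Abelian.Ext.contravariant_sequence_exact₃ hS F x₃ h3 (Nat.add_comm 1 n)
  rw [← hx₁]
  cases n with
  | zero =>
    obtain ⟨y, rfl⟩ := (Abelian.Ext.mk₀_bijective _ _).2 x₁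
    -- `y` extends to `ℤ_V` since `F` is flasque
    have hfl : Epi (F.obj.map (homOfLE h).op) := TopCat.Presheaf.IsFlasque.epi _
    rw [AddCommGrpCat.epi_iff_surjective] at hfl
    obtain ⟨s, hs⟩ := hfl (SheafCoh.homEquiv (Opens.grothendieckTopology X) W F y)
    let w : (LocCohZ.zqSeq h).X₂ ⟶ F := (SheafCoh.homEquiv (Opens.grothendieckTopology X) V F).symm s
    have hw : (LocCohZ.zqSeq h).f ≫ w = y := by
      apply (SheafCoh.homEquiv (Opens.grothendieckTopology X) W F).injective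
      have := SheafCoh.homEquiv_naturality_left (Opens.grothendieckTopology X) (homOfLE h) w
      refine this.trans ?_
      rw [← hs]
      congr 1
      exact Equiv.apply_symm_apply _ _
    rw [← hw, ← Abelian.Ext.mk₀_comp_mk₀, ← Abelian.Ext.comp_assoc_of_third_deg_zero,
      hS.extClass_comp, Abelian.Ext.zero_comp]
    rfl
  | succ n =>
    have : x₁ = 0 := SheafCoh.flasque_HU_eq_zero F W n x₁
    rw [this, Abelian.Ext.comp_zero]
    rfl

end Groth.Agent.Lib.Helper6.LocCohZFlasque
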