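import Groth.Agent.Lib.Helper6.DevStep
import Groth.Agent.Lib.Helper6.DevCore
import Groth.Agent.Lib.Helper6.DevRed
import Groth.Agent.Lib.Helper16.K0Db1
import Groth.Agent.Lib.Helper16.K0Supp
import Groth.Agent.S0796
import Mathlib
set_option backward.isDefEq.respectTransparency.types false
set_option autoImplicit false

/-!
# Dévissage for additive invariants of coherent modules

`additive_devissage`: if `φ` is additive on short exact sequences of coherent modules on a Noetherian scheme and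
takes values in a subgroup `H` on the structure sheaves of the reduced closures of the points whose closure lies in
the closed set `Y'`, then it takes values in `H` on all coherent modules supported in `Y'`.
-/

universe u
open CategoryTheory CategoryTheory.Limits AlgebraicGeometry Opposite TopologicalSpace ZeroObject

namespace Groth.Agent.Lib.Helper6.K0Filt
open Groth.Agent.Lib.Helper6.DevCore Groth.Agent.Lib.Helper6.DevStep Groth.Agent.Lib.Helper6.DevRed

variable {X : Scheme.{u}}

/-- the structure sheaf of the reduced closure of a point, as in `Cyc.closureStructureSheaf` -/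
noncomputable abbrev OZ (y : X) : X.Modules :=
  ClSub.quotMod (Scheme.IdealSheafData.vanishingIdeal ⟨closure {y}, isClosed_closure⟩)

theorem isCoh_OZ [IsLocallyNoetherian X] (y : X) : Coh.IsCoh (OZ y) := isCoh_quotMod _

theorem support_OZ (y : X) : CohB1.support (OZ y) = closure {y} :=
  support_quotMod_vanishingIdeal ⟨closure {y}, isClosed_closure⟩

section additive

variable {A : Type*} [AddCommGroup A] (φ : X.Modules → A)
  (hadd : ∀ S : ShortComplex X.Modules, S.ShortExact → Coh.IsCoh S.X₁ → Coh.IsCoh S.X₂ → Coh.IsCoh S.X₃ →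
    φ S.X₂ = φ S.X₁ + φ S.X₃)

include hadd in
theorem additive_isZero (M : X.Modules) (hM : IsZero M) : φ M = 0 := by
  have hS : (ShortComplex.mk (𝟙 M) (𝟙 M) (hM.eq_of_src _ _)).ShortExact :=
    { exact := ShortComplex.exact_of_isZero_X₂ _ hM
      mono_f := inferInstance
      epi_g := inferInstance }
  have hc := isCoh_of_isZero hM
  have := hadd _ hS hc hc hc
  dsimp at this
  exact left_eq_add.mp this

include hadd in
theorem additive_iso {M N : X.Modules} (e : M ≅ N) (hM : Coh.IsCoh M) : φ M = φ N := by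
  have hS : (ShortComplex.mk (0 : (0 : X.Modules) ⟶ M) e.hom zero_comp).ShortExact :=
    { exact := by
        rw [ShortComplex.exact_iff_mono _ rfl]
        dsimp; infer_instance
      mono_f := by dsimp; infer_instance
      epi_g := by dsimp; infer_instance }
  have := hadd _ hS (isCoh_of_isZero (isZero_zero _)) hM (isCoh_of_iso e hM)
  dsimp at this
  rw [this, additive_isZero φ hadd _ (isZero_zero _), zero_add]

variable (H : AddSubgroup A) (Y' : Set X)

/-- coherent, supported in `Y'`, with invariant in `H` -/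
def K' : ObjectProperty X.Modules := fun G =>
  Coh.IsCoh G ∧ CohB1.support G ⊆ Y' ∧ φ G ∈ H

include hadd in
theorem K'_isClosedUnderIsomorphisms : (K' φ H Y').IsClosedUnderIsomorphisms where
  of_iso := by
    rintro F G e ⟨hc, hs, hH⟩
    refine ⟨isCoh_of_iso e hc, ?_, ?_⟩
    · have : CohB1.support G = CohB1.support F := by
        apply le_antisymm
        · haveI : Mono e.inv := inferInstance
          exact support_subset_of_mono e.inv
        · haveI : Mono e.hom := inferInstance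
          exact support_subset_of_mono e.hom
      rw [this]; exact hs
    · rwa [← additive_iso φ hadd e hc]

include hadd in
theorem K'_twoOfThree (S : ShortComplex X.Modules) (hS : S.ShortExact) (h1 : Coh.IsCoh S.X₁)
    (h2 : Coh.IsCoh S.X₂) (h3 : Coh.IsCoh S.X₃) :
    (K' φ H Y' S.X₁ → K' φ H Y' S.X₂ → K' φ H Y' S.X₃) ∧ (K' φ H Y' S.X₁ → K' φ H Y' S.X₃ → K' φ H Y' S.X₂) ∧
      (K' φ H Y' S.X₂ → K' φ H Y' S.X₃ → K' φ H Y' S.X₁) := by
  haveI := hS.mono_f
  haveI := hS.epi_g
  have hsupp := Groth.Agent.S0796.support_eq_union S hS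
  have hφ := hadd S hS h1 h2 h3
  refine ⟨?_, ?_, ?_⟩
  · rintro ⟨-, s1, k1⟩ ⟨-, s2, k2⟩
    refine ⟨h3, (support_subset_of_epi S.g).trans s2, ?_⟩
    have e : φ S.X₃ = φ S.X₂ - φ S.X₁ := by rw [hφ]; abel
    rw [e]
    exact H.sub_mem k2 k1
  · rintro ⟨-, s1, k1⟩ ⟨-, s3, k3⟩
    refine ⟨h2, by rw [hsupp]; exact Set.union_subset s1 s3, ?_⟩
    rw [hφ]
    exact H.add_mem k1 k3
  · rintro ⟨-, s2, k2⟩ ⟨-, s3, k3⟩
    refine ⟨h1, (support_subset_of_mono S.f).trans s2, ?_⟩
    have e : φ S.X₁ = φ S.X₂ - φ S.X₃ := by rw [hφ]; abel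
    rw [e]
    exact H.sub_mem k2 k3

include hadd in
/-- **dévissage for additive invariants.** -/
theorem additive_devissage [IsNoetherian X] (hY' : IsClosed Y')
    (hgen : ∀ y : X, closure {y} ⊆ Y' →
      (∀ N : X.Modules, Coh.IsCoh N → CohB1.support N ⊆ closure {y} → y ∉ CohB1.support N → φ N ∈ H) →
      φ (OZ y) ∈ H)
    (G : X.Modules) (hG : Coh.IsCoh G) (hGs : CohB1.support G ⊆ Y') : φ G ∈ H := by
  haveI := K'_isClosedUnderIsomorphisms φ hadd H Y'
  have hex := K'_twoOfThree φ hadd H Y'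
  have key : K' φ H Y' G := by
    refine devissage_core (K' φ H Y') (fun S hS h1 h2 h3 => (hex S hS h1 h2 h3).2.1) ?_ Y' ?_ hY' G hG hGs
    · intro M hM
      refine ⟨isCoh_of_isZero hM, ?_, ?_⟩
      · rw [Groth.Agent.Lib.Helper16.K0Supp.support_of_isZero hM]; exact Set.empty_subset _
      · rw [additive_isZero φ hadd M hM]
        exact H.zero_mem
    · intro Z hZc hZi hZY y hy IH Q hQ hQZ hyQ
      have hcl : closure {y} ⊆ Y' := hy ▸ hZY
      have IH' : ∀ N : X.Modules, Coh.IsCoh N → CohB1.support N ⊆ closure {y} → y ∉ CohB1.support N → φ N ∈ H :=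
        fun N hN hNs hNy => (IH N hN (hy ▸ hNs) hNy).2.2
      have hKF : K' φ H Y' (OZ y) := ⟨isCoh_OZ y, (support_OZ y).le.trans hcl, hgen y hcl IH'⟩
      obtain ⟨g, hg0, hgm, hgg⟩ := exists_gen_quotMod ⟨closure {y}, isClosed_closure⟩ y rfl
      exact step_simple (K' φ H Y') hex Z y hy IH (OZ y) (isCoh_OZ y) hKF ((support_OZ y).le.trans hy.le)
        g hg0 hgm hgg Q hQ hQZ hyQ
  exact key.2.2

end additive

section twoOfThree

variable (Q : X.Modules → Prop) (Y' : Set X)
  (h0 : ∀ M : X.Modules, IsZero M → Q M)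
  (h23 : ∀ S : ShortComplex X.Modules, S.ShortExact → Coh.IsCoh S.X₁ → Coh.IsCoh S.X₂ → Coh.IsCoh S.X₃ →
      CohB1.support S.X₂ ⊆ Y' →
      (Q S.X₁ → Q S.X₂ → Q S.X₃) ∧ (Q S.X₁ → Q S.X₃ → Q S.X₂) ∧ (Q S.X₂ → Q S.X₃ → Q S.X₁))

/-- coherent, supported in `Y'`, with property `Q` -/
def KQ : ObjectProperty X.Modules := fun G =>
  Coh.IsCoh G ∧ CohB1.support G ⊆ Y' ∧ Q G

theorem support_eq_of_iso {F G : X.Modules} (e : F ≅ G) : CohB1.support G = CohB1.support F := by
  apply le_antisymm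
  · haveI : Mono e.inv := inferInstance
    exact support_subset_of_mono e.inv
  · haveI : Mono e.hom := inferInstance
    exact support_subset_of_mono e.hom

include h0 h23 in
theorem KQ_isClosedUnderIsomorphisms : (KQ Q Y').IsClosedUnderIsomorphisms where
  of_iso := by
    rintro F G e ⟨hc, hs, hH⟩
    refine ⟨isCoh_of_iso e hc, by rw [support_eq_of_iso e]; exact hs, ?_⟩
    have hS : (ShortComplex.mk (0 : (0 : X.Modules) ⟶ F) e.hom zero_comp).ShortExact :=
      { exact := by
          rw [ShortComplex.exact_iff_mono _ rfl]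
          dsimp; infer_instance
        mono_f := by dsimp; infer_instance
        epi_g := by dsimp; infer_instance }
    exact (h23 _ hS (isCoh_of_isZero (isZero_zero _)) hc (isCoh_of_iso e hc) hs).1 (h0 _ (isZero_zero _)) hH

include h23 in
theorem KQ_twoOfThree (S : ShortComplex X.Modules) (hS : S.ShortExact) (h1 : Coh.IsCoh S.X₁)
    (h2 : Coh.IsCoh S.X₂) (h3 : Coh.IsCoh S.X₃) :
    (KQ Q Y' S.X₁ → KQ Q Y' S.X₂ → KQ Q Y' S.X₃) ∧ (KQ Q Y' S.X₁ → KQ Q Y' S.X₃ → KQ Q Y' S.X₂) ∧
      (KQ Q Y' S.X₂ → KQ Q Y' S.X₃ → KQ Q Y' S.X₁) := by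
  haveI := hS.mono_f
  haveI := hS.epi_g
  have hsupp := Groth.Agent.S0796.support_eq_union S hS
  refine ⟨?_, ?_, ?_⟩
  · rintro ⟨-, s1, k1⟩ ⟨-, s2, k2⟩
    exact ⟨h3, (support_subset_of_epi S.g).trans s2, (h23 S hS h1 h2 h3 s2).1 k1 k2⟩
  · rintro ⟨-, s1, k1⟩ ⟨-, s3, k3⟩
    have s2 : CohB1.support S.X₂ ⊆ Y' := by rw [hsupp]; exact Set.union_subset s1 s3
    exact ⟨h2, s2, (h23 S hS h1 h2 h3 s2).2.1 k1 k3⟩
  · rintro ⟨-, s2, k2⟩ ⟨-, s3, k3⟩
    exact ⟨h1, (support_subset_of_mono S.f).trans s2, (h23 S hS h1 h2 h3 s2).2.2 k2 k3⟩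

include h0 h23 in
/-- **dévissage for a two-out-of-three property of coherent modules supported in a closed set.** -/
theorem twoOfThree_devissage [IsNoetherian X] (hY' : IsClosed Y')
    (hgen : ∀ y : X, closure {y} ⊆ Y' →
      (∀ N : X.Modules, Coh.IsCoh N → CohB1.support N ⊆ closure {y} → y ∉ CohB1.support N → Q N) →
      Q (OZ y))
    (G : X.Modules) (hG : Coh.IsCoh G) (hGs : CohB1.support G ⊆ Y') : Q G := by
  haveI := KQ_isClosedUnderIsomorphisms Q Y' h0 h23
  have hex := KQ_twoOfThree Q Y' h23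
  have key : KQ Q Y' G := by
    refine devissage_core (KQ Q Y') (fun S hS h1 h2 h3 => (hex S hS h1 h2 h3).2.1) ?_ Y' ?_ hY' G hG hGs
    · intro M hM
      refine ⟨isCoh_of_isZero hM, ?_, h0 M hM⟩
      rw [Groth.Agent.Lib.Helper16.K0Supp.support_of_isZero hM]; exact Set.empty_subset _
    · intro Z hZc hZi hZY y hy IH Q' hQ hQZ hyQ
      have hcl : closure {y} ⊆ Y' := hy ▸ hZY
      have IH' : ∀ N : X.Modules, Coh.IsCoh N → CohB1.support N ⊆ closure {y} → y ∉ CohB1.support N → Q N :=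
        fun N hN hNs hNy => (IH N hN (hy ▸ hNs) hNy).2.2
      have hKF : KQ Q Y' (OZ y) := ⟨isCoh_OZ y, (support_OZ y).le.trans hcl, hgen y hcl IH'⟩
      obtain ⟨g, hg0, hgm, hgg⟩ := exists_gen_quotMod ⟨closure {y}, isClosed_closure⟩ y rfl
      exact step_simple (KQ Q Y') hex Z y hy IH (OZ y) (isCoh_OZ y) hKF ((support_OZ y).le.trans hy.le)
        g hg0 hgm hgg Q' hQ hQZ hyQ
  exact key.2.2

end twoOfThree

end Groth.Agent.Lib.Helper6.K0Filt
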