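import Groth.Agent.Lib.Helper6.PicReduced
import Mathlib

/-!
# `H⁰(X_y, O) = κ(y)` for proper morphisms with geometrically connected and geometrically reduced fibres (helper6)
-/

set_option backward.isDefEq.respectTransparency.types false
set_option autoImplicit false
set_option linter.style.haveILetI false
set_option linter.unusedSectionVars false
universe u
open CategoryTheory CategoryTheory.Limits AlgebraicGeometry Opposite TopologicalSpace TensorProduct

noncomputable section
namespace Groth.Agent.Lib.Helper6.GeomH0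

section Algebra

/-- a nontrivial reduced artinian ring with only trivial idempotents is a field -/
theorem isField_of_idempotents (R : Type u) [CommRing R] [IsArtinianRing R] [IsReduced R] [Nontrivial R]
    (hid : ∀ e : R, e * e = e → e = 0 ∨ e = 1) : IsField R := by
  classical
  let φ := IsArtinianRing.equivPi R
  have hsub : ∀ m₁ m₂ : MaximalSpectrum R, m₂ = m₁ := by
    intro m₁ m₂
    by_contra hne
    let v : ∀ I : MaximalSpectrum R, R ⧸ I.asIdeal := Pi.single m₁ 1
    have hv : v * v = v := by
      funext I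
      by_cases hI : I = m₁
      · subst hI
        simp [v]
      · simp [v, Pi.single_eq_of_ne hI]
    have he : φ.symm v * φ.symm v = φ.symm v := by rw [← map_mul, hv]
    haveI : Nontrivial (R ⧸ m₁.asIdeal) := Ideal.Quotient.nontrivial_iff.2 m₁.isMaximal.ne_top
    haveI : Nontrivial (R ⧸ m₂.asIdeal) := Ideal.Quotient.nontrivial_iff.2 m₂.isMaximal.ne_top
    rcases hid _ he with h0 | h1
    · have : v = 0 := by
        have := congrArg φ h0
        rwa [AlgEquiv.apply_symm_apply, map_zero] at this
      have h2 := congrFun this m₁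
      simp [v] at h2
    · have : v = 1 := by
        have := congrArg φ h1
        rwa [AlgEquiv.apply_symm_apply, map_one] at this
      have h2 := congrFun this m₂
      simp [v, Pi.single_eq_of_ne hne] at h2
  obtain ⟨m, hm⟩ := Ideal.exists_maximal R
  haveI : IsLocalRing R := IsLocalRing.of_unique_max_ideal ⟨m, hm, fun m' hm' =>
    congrArg MaximalSpectrum.asIdeal (hsub ⟨m, hm⟩ ⟨m', hm'⟩)⟩
  exact IsArtinianRing.isField_of_isReduced_of_isLocalRing R

end Algebra

section Geom

variable {Z : Scheme.{u}}

/-- on a connected reduced scheme the global idempotents are `0` and `1` -/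
theorem idempotent_eq_zero_or_one [IsReduced Z] [ConnectedSpace Z] (e : Γ(Z, ⊤)) (he : e * e = e) :
    e = 0 ∨ e = 1 := by
  have hdisj : Z.basicOpen e ⊓ Z.basicOpen (1 - e) = ⊥ := by
    rw [← Scheme.basicOpen_mul]
    have : e * (1 - e) = 0 := by rw [mul_sub, mul_one, he, sub_self]
    rw [this, Scheme.basicOpen_zero]
  have hcov : ∀ x : Z, x ∈ Z.basicOpen e ∨ x ∈ Z.basicOpen (1 - e) := by
    intro x
    rw [Scheme.mem_basicOpen_top, Scheme.mem_basicOpen_top]
    have h1 : Z.presheaf.germ ⊤ x trivial e + Z.presheaf.germ ⊤ x trivial (1 - e) = 1 := by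
      rw [← map_add, add_sub_cancel, map_one]
    exact IsLocalRing.isUnit_or_isUnit_of_add_one h1
  have hcompl : ((Z.basicOpen e : Z.Opens) : Set Z)ᶜ = ((Z.basicOpen (1 - e) : Z.Opens) : Set Z) := by
    ext x
    constructor
    · intro hx
      rcases hcov x with h | h
      · exact absurd h hx
      · exact h
    · intro hx hx'
      have : x ∈ Z.basicOpen e ⊓ Z.basicOpen (1 - e) := ⟨hx', hx⟩
      rw [hdisj] at this
      exact this
  have hclopen : IsClopen ((Z.basicOpen e : Z.Opens) : Set Z) :=
    ⟨⟨by rw [hcompl]; exact (Z.basicOpen (1 - e)).2⟩, (Z.basicOpen e).2⟩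
  rcases isClopen_iff.1 hclopen with h | h
  · left
    apply (basicOpen_eq_bot_iff e).1
    ext x
    simp only [Opens.coe_bot, Set.mem_empty_iff_false, iff_false]
    intro hx
    have : x ∈ ((Z.basicOpen e : Z.Opens) : Set Z) := hx
    rw [h] at this
    exact this
  · right
    have h2 : Z.basicOpen (1 - e) = ⊥ := by
      ext x
      simp only [Opens.coe_bot, Set.mem_empty_iff_false, iff_false]
      intro hx
      have hx' : x ∈ ((Z.basicOpen (1 - e) : Z.Opens) : Set Z) := hx
      rw [← hcompl, h] at hx'
      exact hx' trivial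
    have := (basicOpen_eq_bot_iff (1 - e)).1 h2
    exact (sub_eq_zero.1 this).symm

end Geom

section AlgClosed

variable (K : Type u) [Field K] [IsAlgClosed K] (Z : Scheme.{u}) [Z.Over (Spec (CommRingCat.of K))]
  [IsProper (Z ↘ Spec (CommRingCat.of K))] [IsReduced Z] [ConnectedSpace Z]

/-- `H⁰(Z, O) = K` for `Z` proper, reduced and connected over an algebraically closed field `K` -/
theorem finrank_HH_zero_eq_one :
    Module.finrank K (Coh.HH Z (Coh.structureModule Z) 0) = 1 := by
  letI alg : Algebra K Γ(Z, ⊤) := (Coh.toGlobal (Z ↘ Spec (CommRingCat.of K))).toAlgebra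
  let e0 := Groth.Agent.Lib.Helper13.AlbTriv.e0 Z
  let e2 : Coh.HH Z (Coh.structureModule Z) 0 ≃ₗ[K] Γ(Z, ⊤) :=
    { toFun := fun x => e0 x
      invFun := fun c => e0.symm c
      map_add' := fun a b => map_add e0 a b
      map_smul' := fun c x => by
        simp only [RingHom.id_apply]
        exact Groth.Agent.Lib.Helper13.AlbTriv.e0_smul K Z c x
      left_inv := fun x => e0.symm_apply_apply x
      right_inv := fun c => e0.apply_symm_apply c }
  haveI : IsLocallyNoetherian Z :=
    LocallyOfFiniteType.isLocallyNoetherian (Z ↘ Spec (CommRingCat.of K))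
  haveI : Module.Finite K (Coh.HH Z (Coh.structureModule Z) 0) :=
    Groth.Agent.Lib.Helper4.ProperFinal.finite_HH K Z _ Groth.Agent.Lib.Helper6.DevRed.isCoh_structureModule 0
  haveI : Module.Finite K Γ(Z, ⊤) := Module.Finite.equiv e2
  haveI : IsArtinianRing Γ(Z, ⊤) := IsArtinianRing.of_finite K _
  haveI : Nonempty ↥(⊤ : Z.Opens) := by
    obtain ⟨x⟩ : Nonempty Z := inferInstance
    exact ⟨⟨x, trivial⟩⟩
  haveI : Nontrivial Γ(Z, ⊤) := inferInstance
  have hF : IsField Γ(Z, ⊤) := isField_of_idempotents Γ(Z, ⊤) idempotent_eq_zero_or_one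
  haveI : IsDomain Γ(Z, ⊤) := hF.isDomain
  haveI : Algebra.IsIntegral K Γ(Z, ⊤) := Algebra.IsIntegral.of_finite K _
  have hb : Function.Bijective (algebraMap K Γ(Z, ⊤)) := IsAlgClosed.algebraMap_bijective_of_isIntegral
  rw [e2.finrank_eq, ← (LinearEquiv.ofBijective (Algebra.linearMap K Γ(Z, ⊤)) hb).finrank_eq]
  exact Module.finrank_self K

end AlgClosed

section Fibre

variable {X Y : Scheme.{u}} (f : X ⟶ Y) [IsProper f] [GeometricallyConnected f] [GeometricallyReduced f]

/-- **`h⁰(X_y, O) = 1`** for a proper morphism with geometrically connected and geometrically reduced fibres -/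
theorem finrank_fibre_functions_eq_one (y : Y) :
    Module.finrank (Y.residueField y) Γ(f.fiber y, ⊤) = 1 := by
  let K := AlgebraicClosure (Y.residueField y)
  let ψ : Spec (CommRingCat.of K) ⟶ Y :=
    Spec.map (CommRingCat.ofHom (algebraMap (Y.residueField y) K)) ≫ Y.fromSpecResidueField y
  let P := pullback f ψ
  letI : P.Over (Spec (CommRingCat.of K)) := ⟨pullback.snd f ψ⟩
  have hsq : IsPullback (pullback.fst f ψ) (P ↘ Spec (CommRingCat.of K)) f ψ := IsPullback.of_hasPullback f ψ
  haveI : IsProper (P ↘ Spec (CommRingCat.of K)) :=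
    inferInstanceAs (IsProper (pullback.snd f ψ))
  haveI : IsReduced P :=
    GeometricallyReduced.geometrically_isReduced (f := f) ψ (pullback.fst f ψ) (pullback.snd f ψ) hsq
  haveI : ConnectedSpace P :=
    GeometricallyConnected.geometrically_connectedSpace (f := f) ψ (pullback.fst f ψ) (pullback.snd f ψ) hsq
  haveI : (Coh.structureModule X).IsQuasicoherent := inferInstance
  have h1 := Groth.Agent.Lib.Helper6.FibreGlue.finrank_eq_of_point f (Coh.structureModule X) 0 K ψ P
    (pullback.fst f ψ) hsq
  have hpt : ψ (IsLocalRing.closedPoint K) = y := by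
    show (Spec.map (CommRingCat.ofHom (algebraMap (Y.residueField y) K)) ≫ Y.fromSpecResidueField y)
      (IsLocalRing.closedPoint K) = y
    rw [Scheme.Hom.comp_apply]
    exact Scheme.fromSpecResidueField_apply y _
  rw [hpt] at h1
  have h2 := Groth.Agent.Lib.Helper6.PicReduced.fiberRank_zero_eq_of_iso f (Coh.structureModule X) y
    (Groth.Agent.Lib.Helper16.RS.pullbackUnitIso (f.fiberι y))
  rw [← h2, ← h1]
  let e1 : Coh.HH P ((Scheme.Modules.pullback (pullback.fst f ψ)).obj (Coh.structureModule X)) 0 ≃ₗ[K]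
      Coh.HH P (Coh.structureModule P) 0 :=
    ((Groth.Agent.Lib.Helper4.HHFun.HHfun K (X := P) 0).mapIso
      (Groth.Agent.Lib.Helper16.RS.pullbackUnitIso (pullback.fst f ψ))).toLinearEquiv
  rw [e1.finrank_eq]
  exact finrank_HH_zero_eq_one K P

end Fibre

end Groth.Agent.Lib.Helper6.GeomH0
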