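import Mathlib.CategoryTheory.Abelian.Injective.Ext
import Groth.Agent.Lib.Helper6.RDSes
import Groth.Agent.Lib.Helper6.CechFamSieve
import Groth.Agent.Lib.Helper6.GrothSS

/-!
# `Ext^q(A, -) ≅ R^q Hom(A, -)` as functors (helper6)
-/

universe v u

set_option linter.unusedSectionVars false

open CategoryTheory Limits Abelian Opposite

namespace Groth.Agent.Lib.Helper6.ExtRDNat

open RDSes

variable {𝒜 : Type u} [Category.{v} 𝒜] [Abelian 𝒜] [HasExt.{v} 𝒜] [HasInjectiveResolutions 𝒜]
  (A : 𝒜)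

/-- `Hom(A, -)` -/
noncomputable abbrev G : 𝒜 ⥤ AddCommGrpCat.{v} := preadditiveCoyoneda.obj (op A)

/-- `Hom(A, I^•)` for the chosen injective resolution of `X` -/
noncomputable abbrev GK (X : 𝒜) : CochainComplex AddCommGrpCat.{v} ℕ :=
  ((G A).mapHomologicalComplex _).obj (injectiveResolution X).cocomplex

lemma GK_d_apply (X : 𝒜) (i j : ℕ) (g : A ⟶ (injectiveResolution X).cocomplex.X i) :
    (GK A X).d i j g = g ≫ (injectiveResolution X).cocomplex.d i j := rfl

/-- a cycle of `Hom(A, I^•)` as a morphism -/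
noncomputable def cyc (X : 𝒜) (n : ℕ) (z : (GK A X).cycles n) :
    A ⟶ (injectiveResolution X).cocomplex.X n := (GK A X).iCycles n z

lemma cyc_comp_d (X : 𝒜) (n m : ℕ) (z : (GK A X).cycles n) :
    cyc A X n z ≫ (injectiveResolution X).cocomplex.d n m = 0 :=
  ConcreteCategory.congr_hom ((GK A X).iCycles_d n m) z

lemma cyc_injective (X : 𝒜) (n : ℕ) : Function.Injective (cyc A X n) :=
  (AddCommGrpCat.mono_iff_injective _).1 (inferInstanceAs (Mono ((GK A X).iCycles n)))

lemma cyc_add (X : 𝒜) (n : ℕ) (a b : (GK A X).cycles n) :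
    cyc A X n (a + b) = cyc A X n a + cyc A X n b := map_add _ a b

lemma cyc_toCycles (X : 𝒜) (i j : ℕ) (g : A ⟶ (injectiveResolution X).cocomplex.X i) :
    cyc A X j ((GK A X).toCycles i j g) = g ≫ (injectiveResolution X).cocomplex.d i j :=
  ConcreteCategory.congr_hom ((GK A X).toCycles_i i j) g

lemma exists_cyc_eq (X : 𝒜) (n : ℕ) (g : A ⟶ (injectiveResolution X).cocomplex.X n)
    (hg : g ≫ (injectiveResolution X).cocomplex.d n (n + 1) = 0) :
    ∃ z : (GK A X).cycles n, cyc A X n z = g := by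
  have hE : (ShortComplex.mk _ _ ((GK A X).iCycles_d n (n + 1))).Exact :=
    ShortComplex.exact_of_f_is_kernel _ ((GK A X).cyclesIsKernel n (n + 1) (by simp))
  rw [ShortComplex.ab_exact_iff] at hE
  exact hE g hg

lemma extMk_congr {X : 𝒜} (R : InjectiveResolution X) {n : ℕ} {f g : A ⟶ R.cocomplex.X n}
    (h : f = g) (m : ℕ) (hm : n + 1 = m) (hf : f ≫ R.cocomplex.d n m = 0) :
    R.extMk f m hm hf = R.extMk g m hm (h ▸ hf) := by
  subst h
  rfl

/-- the class of a cycle -/
noncomputable def cycHom (X : 𝒜) (k : ℕ) : (GK A X).cycles (k + 1) →+ Ext A X (k + 1) where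
  toFun z := (injectiveResolution X).extMk (cyc A X (k + 1) z) (k + 2) rfl (cyc_comp_d A X _ _ z)
  map_zero' := by
    have h : cyc A X (k + 1) 0 = 0 := map_zero _
    rw [extMk_congr A _ h]
    exact InjectiveResolution.extMk_zero _ _ rfl
  map_add' a b := by
    rw [extMk_congr A _ (cyc_add A X (k + 1) a b), InjectiveResolution.add_extMk]

lemma cycHom_apply (X : 𝒜) (k : ℕ) (z : (GK A X).cycles (k + 1)) :
    cycHom A X k z =
      (injectiveResolution X).extMk (cyc A X (k + 1) z) (k + 2) rfl (cyc_comp_d A X _ _ z) := rfl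

lemma toCycles_cycHom (X : 𝒜) (k : ℕ) :
    (GK A X).toCycles k (k + 1) ≫ AddCommGrpCat.ofHom (cycHom A X k) = 0 := by
  ext g
  change cycHom A X k ((GK A X).toCycles k (k + 1) g) = 0
  rw [cycHom_apply, InjectiveResolution.extMk_eq_zero_iff _ _ _ rfl _ k rfl]
  exact ⟨g, (cyc_toCycles A X k (k + 1) g).symm⟩

/-- `H^{k+1}(Hom(A, I^•)) ⟶ Ext^{k+1}(A, X)` -/
noncomputable def Φ (X : 𝒜) (k : ℕ) :
    (GK A X).homology (k + 1) ⟶ AddCommGrpCat.of (Ext A X (k + 1)) :=
  ((GK A X).homologyIsCokernel k (k + 1) (by simp)).desc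
    (CokernelCofork.ofπ (AddCommGrpCat.ofHom (cycHom A X k)) (toCycles_cycHom A X k))

lemma π_Φ (X : 𝒜) (k : ℕ) :
    (GK A X).homologyπ (k + 1) ≫ Φ A X k = AddCommGrpCat.ofHom (cycHom A X k) :=
  ((GK A X).homologyIsCokernel k (k + 1) (by simp)).fac
    (CokernelCofork.ofπ (AddCommGrpCat.ofHom (cycHom A X k)) (toCycles_cycHom A X k))
    WalkingParallelPair.one

lemma Φ_π_apply (X : 𝒜) (k : ℕ) (z : (GK A X).cycles (k + 1)) :
    Φ A X k ((GK A X).homologyπ (k + 1) z) = cycHom A X k z :=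
  ConcreteCategory.congr_hom (π_Φ A X k) z

lemma π_surjective (X : 𝒜) (n : ℕ) : Function.Surjective ((GK A X).homologyπ n) :=
  (AddCommGrpCat.epi_iff_surjective _).1 inferInstance

lemma Φ_bijective (X : 𝒜) (k : ℕ) : Function.Bijective (Φ A X k) := by
  constructor
  · rw [injective_iff_map_eq_zero]
    intro x hx
    obtain ⟨z, rfl⟩ := π_surjective A X (k + 1) x
    rw [Φ_π_apply, cycHom_apply, InjectiveResolution.extMk_eq_zero_iff _ _ _ rfl _ k rfl] at hx
    obtain ⟨g, hg⟩ := hx
    have hz : z = (GK A X).toCycles k (k + 1) g := by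
      apply cyc_injective A X (k + 1)
      rw [cyc_toCycles, hg]
    rw [hz]
    exact ConcreteCategory.congr_hom ((GK A X).toCycles_comp_homologyπ k (k + 1)) g
  · intro α
    obtain ⟨f, hf, rfl⟩ := (injectiveResolution X).extMk_surjective α (k + 2) rfl
    obtain ⟨z, hz⟩ := exists_cyc_eq A X (k + 1) f hf
    refine ⟨(GK A X).homologyπ (k + 1) z, ?_⟩
    rw [Φ_π_apply, cycHom_apply]
    exact extMk_congr A _ hz _ _ _

/-- the chosen lift as a morphism of injective resolutions -/
noncomputable def liftHom {X Y : 𝒜} (f : X ⟶ Y) :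
    InjectiveResolution.Hom (injectiveResolution X) (injectiveResolution Y) f where
  hom := lift f
  ι_f_zero_comp_hom_f_zero := by
    have := InjectiveResolution.desc_commutes_zero f (injectiveResolution Y) (injectiveResolution X)
    simpa using this

lemma cyc_cyclesMap {X Y : 𝒜} (f : X ⟶ Y) (n : ℕ) (z : (GK A X).cycles n) :
    cyc A Y n (HomologicalComplex.cyclesMap (((G A).mapHomologicalComplex _).map (lift f)) n z) =
      cyc A X n z ≫ (lift f).f n :=
  ConcreteCategory.congr_hom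
    (HomologicalComplex.cyclesMap_i (((G A).mapHomologicalComplex _).map (lift f)) n) z

lemma cycHom_naturality {X Y : 𝒜} (f : X ⟶ Y) (k : ℕ) (z : (GK A X).cycles (k + 1)) :
    cycHom A Y k (HomologicalComplex.cyclesMap (((G A).mapHomologicalComplex _).map (lift f))
      (k + 1) z) = (cycHom A X k z).comp (Ext.mk₀ f) (add_zero _) := by
  rw [cycHom_apply, cycHom_apply,
    InjectiveResolution.extMk_comp_mk₀ _ _ rfl _ (liftHom f)]
  exact extMk_congr A _ (cyc_cyclesMap A f (k + 1) z) _ _ _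

lemma Φ_naturality {X Y : 𝒜} (f : X ⟶ Y) (k : ℕ) :
    HomologicalComplex.homologyMap (((G A).mapHomologicalComplex _).map (lift f)) (k + 1) ≫
      Φ A Y k = Φ A X k ≫ (extFunctorObj A (k + 1)).map f := by
  refine (cancel_epi ((GK A X).homologyπ (k + 1))).1 ?_
  ext z
  have h1 := ConcreteCategory.congr_hom (HomologicalComplex.homologyπ_naturality
    (((G A).mapHomologicalComplex _).map (lift f)) (k + 1)) z
  change Φ A Y k (HomologicalComplex.homologyMap (((G A).mapHomologicalComplex _).map (lift f))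
      (k + 1) ((GK A X).homologyπ (k + 1) z)) =
    (Φ A X k ((GK A X).homologyπ (k + 1) z)).comp (Ext.mk₀ f) (add_zero _)
  have h1' : HomologicalComplex.homologyMap (((G A).mapHomologicalComplex _).map (lift f))
      (k + 1) ((GK A X).homologyπ (k + 1) z) =
      (GK A Y).homologyπ (k + 1) (HomologicalComplex.cyclesMap
        (((G A).mapHomologicalComplex _).map (lift f)) (k + 1) z) := by
    change ((GK A X).homologyπ (k + 1) ≫ HomologicalComplex.homologyMap
      (((G A).mapHomologicalComplex _).map (lift f)) (k + 1)) z =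
      (HomologicalComplex.cyclesMap (((G A).mapHomologicalComplex _).map (lift f)) (k + 1) ≫
        (GK A Y).homologyπ (k + 1)) z
    exact h1
  rw [h1', Φ_π_apply, Φ_π_apply, cycHom_naturality]

/-- `R^{k+1} Hom(A, -) ≅ Ext^{k+1}(A, -)` -/
noncomputable def succIso (k : ℕ) : (G A).rightDerived (k + 1) ≅ extFunctorObj A (k + 1) :=
  NatIso.ofComponents (fun X => isoH (G A) (k + 1) X ≪≫
      (AddEquiv.ofBijective (Φ A X k).hom (Φ_bijective A X k)).toAddCommGrpIso)
    (fun {X Y} f => by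
      have h := isoH_hom_naturality (G A) (k + 1) f
      have h2 := Φ_naturality A f k
      change (((G A).rightDerived (k + 1)).map f ≫ (isoH (G A) (k + 1) Y).hom) ≫ Φ A Y k =
        ((isoH (G A) (k + 1) X).hom ≫ Φ A X k) ≫ (extFunctorObj A (k + 1)).map f
      rw [h, Category.assoc, h2]
      rfl)

/-- `R^q Hom(A, -) ≅ Ext^q(A, -)` -/
theorem nonempty_rightDerived_coyoneda_iso [PreservesFiniteLimits (G A)] (q : ℕ) :
    Nonempty ((G A).rightDerived q ≅ extFunctorObj A q) := by
  cases q with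
  | zero => exact ⟨Functor.rightDerivedZeroIsoSelf (G A) ≪≫ (CechFamSieve.θ0 A).symm⟩
  | succ k => exact ⟨succIso A k⟩

/-- `R^q G ≅ Ext^q(A, -)` if `G ≅ Hom(A, -)` -/
theorem nonempty_rightDerived_iso (F : 𝒜 ⥤ AddCommGrpCat.{v}) [F.Additive]
    [PreservesFiniteLimits F] (θ₀ : extFunctorObj A 0 ≅ F) (q : ℕ) :
    Nonempty (F.rightDerived q ≅ extFunctorObj A q) := by
  have e : F ≅ G A := θ₀.symm ≪≫ CechFamSieve.θ0 A
  have : PreservesFiniteLimits (G A) := preservesFiniteLimits_of_natIso e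
  obtain ⟨e'⟩ := nonempty_rightDerived_coyoneda_iso A q
  exact ⟨GrothSS.rightDerivedIsoOfIso e q ≪≫ e'⟩

end Groth.Agent.Lib.Helper6.ExtRDNat
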