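import Mathlib
import Groth.Prelude.Def_ModSite2
import Groth.Prelude.Def_SpSeq
import Groth.Agent.Lib.Helper6.SheafHomTotAcyc
import Groth.Agent.Lib.Helper6.GrothSS
import Groth.Agent.Lib.Helper6.ExtRDNat

/-!
# The local-to-global Ext spectral sequence on a ringed site (helper6)
-/

universe u

open CategoryTheory Limits Opposite MonoidalCategory Abelian

namespace Groth.Agent.Lib.Helper6.LocGlobExtSS

open SheafHomTotAcyc

variable {C : Type u} [SmallCategory C] {J : GrothendieckTopology C} (O : Sheaf J CommRingCat.{u})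

instance isIso_counit (M : ModSite.Mod O) : IsIso
    ((PresheafOfModules.sheafificationAdjunction (𝟙 (ModSite.ringSh O).obj)).counit.app M) := by
  have : IsIso (PresheafOfModules.sheafificationAdjunction
    (𝟙 (ModSite.ringSh O).obj)).counit := inferInstance
  infer_instance

/-- `O ⊗ M ≅ M` -/
noncomputable def leftUnitIso (M : ModSite.Mod O) : (T O M).obj (ModSite.unit O) ≅ M :=
  (a O).mapIso (λ_ ((fg O).obj M)) ≪≫
    @asIso _ _ _ _ _ (isIso_counit O M)

variable (M : ModSite.Mod O) [ModSite.HasSheafHom M]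

/-- `Γ(ℋom(M, N)) ≃ Hom(M, N)` -/
noncomputable def homEquiv (N : ModSite.Mod O) :
    (ModSite.unit O ⟶ (ModSite.sheafHom M).obj N) ≃+ (M ⟶ N) :=
  ((ModSite.sheafHomAdj M).homAddEquiv (ModSite.unit O) N).symm.trans
    { toFun := fun ψ => (leftUnitIso O M).inv ≫ ψ
      invFun := fun χ => (leftUnitIso O M).hom ≫ χ
      left_inv := fun ψ => by simp
      right_inv := fun χ => by simp
      map_add' := fun ψ ψ' => Preadditive.comp_add _ _ _ _ _ _ }

lemma homEquiv_naturality {N N' : ModSite.Mod O} (g : N ⟶ N')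
    (φ : ModSite.unit O ⟶ (ModSite.sheafHom M).obj N) :
    homEquiv O M N' (φ ≫ (ModSite.sheafHom M).map g) = homEquiv O M N φ ≫ g := by
  change (leftUnitIso O M).inv ≫ ((ModSite.sheafHomAdj M).homEquiv _ _).symm
      (φ ≫ (ModSite.sheafHom M).map g) =
    ((leftUnitIso O M).inv ≫ ((ModSite.sheafHomAdj M).homEquiv _ _).symm φ) ≫ g
  rw [Adjunction.homEquiv_naturality_right_symm, Category.assoc]

/-- `ℋom(M, -) ⋙ Γ ≅ Hom(M, -)` -/
noncomputable def compIso :
    ModSite.sheafHom M ⋙ ExtRDNat.G (ModSite.unit O) ≅ ExtRDNat.G M :=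
  NatIso.ofComponents (fun N => (homEquiv O M N).toAddCommGrpIso) (fun {N N'} g => by
    ext φ
    exact homEquiv_naturality O M g φ)

variable [HasInjectiveResolutions (ModSite.Mod O)] [HasExt.{u} (ModSite.Mod O)]

lemma isZero_rightDerived_of_totallyAcyclic (X : ModSite.Mod O)
    (hX : CohCx.IsTotallyAcyclic (ModSite.toAb X)) (q : ℕ) (hq : 0 < q) :
    IsZero (((ExtRDNat.G (ModSite.unit O)).rightDerived q).obj X) := by
  obtain ⟨e⟩ := ExtRDNat.nonempty_rightDerived_coyoneda_iso (ModSite.unit O) q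
  refine IsZero.of_iso ?_ (e.app X)
  obtain ⟨k, rfl⟩ : ∃ k, q = k + 1 := ⟨q - 1, by omega⟩
  obtain ⟨e'⟩ := ModAbCoh.nonempty_ext_addEquiv (ModSite.ringSh O) X (k + 1)
  have h := ModAbCoh.subsingleton_H hX k
  have : Subsingleton (Ext (ModSite.unit O) X (k + 1)) := e'.toEquiv.subsingleton
  exact AddCommGrpCat.isZero_of_subsingleton (AddCommGrpCat.of (Ext (ModSite.unit O) X (k + 1)))

/-- **the local-to-global Ext spectral sequence** -/
theorem exists_spectralSequence (N : ModSite.Mod O) :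
    ∃ (E : E₂CohomologicalSpectralSequence AddCommGrpCat.{u})
      (a : SpSeq.Abutment E (fun n : ℤ =>
        if 0 ≤ n then AddCommGrpCat.of (Abelian.Ext.{u} M N n.toNat)
          else AddCommGrpCat.of PUnit.{u + 1})),
      (∀ n : ℤ, a.IsFinite n) ∧ SpSeq.IsBounded E ∧
      ∀ p q : ℤ, Nonempty ((E.page 2 le_rfl).X (p, q) ≅
        (if 0 ≤ p ∧ 0 ≤ q then
          AddCommGrpCat.of (ModSite.HC O ((ModSite.extSh M q.toNat).obj N) p.toNat)
          else AddCommGrpCat.of PUnit.{u + 1})) := by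
  have := Groth.Agent.Lib.Helper8.SheafModGroth.enoughInjectives J (ModSite.ringSh O)
  refine GrothSS.exists_spectralSequence' (ModSite.sheafHom M) (ExtRDNat.G (ModSite.unit O))
    (fun Q hQ q hq => isZero_rightDerived_of_totallyAcyclic O _
      (SheafHomTotAcyc.totallyAcyclic O M Q) q hq) N _ ?_ ?_ _ ?_ ?_
  · intro n
    obtain ⟨e⟩ := ExtRDNat.nonempty_rightDerived_coyoneda_iso M n
    refine ⟨(GrothSS.rightDerivedIsoOfIso (compIso O M) n).app N ≪≫ e.app N ≪≫ ?_⟩
    simp only [Int.natCast_nonneg, if_true, Int.toNat_natCast]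
    exact Iso.refl _
  · intro n hn
    rw [if_neg (by omega)]
    exact AddCommGrpCat.isZero_of_subsingleton _
  · intro p q
    obtain ⟨e⟩ := ExtRDNat.nonempty_rightDerived_coyoneda_iso (ModSite.unit O) p
    obtain ⟨e'⟩ := ModAbCoh.nonempty_ext_addEquiv (ModSite.ringSh O)
      ((ModSite.extSh M q).obj N) p
    let i : (extFunctorObj (ModSite.unit O) p).obj ((ModSite.extSh M q).obj N) ≅
        AddCommGrpCat.of (ModSite.HC O ((ModSite.extSh M q).obj N) p) :=
      AddEquiv.toAddCommGrpIso (X := AddCommGrpCat.of _) (Y := AddCommGrpCat.of _) e'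
    refine ⟨e.app _ ≪≫ i ≪≫ ?_⟩
    simp only [Int.natCast_nonneg, and_self, if_true, Int.toNat_natCast]
    exact Iso.refl _
  · intro p q h
    rw [if_neg h]
    exact AddCommGrpCat.isZero_of_subsingleton _

/-- flexible form of the local-to-global Ext spectral sequence -/
theorem exists_spectralSequence' (N : ModSite.Mod O) (H' : ℤ → AddCommGrpCat.{u})
    (hH : ∀ n : ℕ, Nonempty (AddCommGrpCat.of (Abelian.Ext.{u} M N n) ≅ H' n))
    (hHz : ∀ n : ℤ, n < 0 → IsZero (H' n))
    (E2 : ℤ → ℤ → AddCommGrpCat.{u})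
    (hE2 : ∀ p q : ℕ, Nonempty
      (AddCommGrpCat.of (ModSite.HC O ((ModSite.extSh M q).obj N) p) ≅ E2 p q))
    (hE2z : ∀ p q : ℤ, ¬ (0 ≤ p ∧ 0 ≤ q) → IsZero (E2 p q)) :
    ∃ (E : E₂CohomologicalSpectralSequence AddCommGrpCat.{u}) (a : SpSeq.Abutment E H'),
      (∀ n : ℤ, a.IsFinite n) ∧ SpSeq.IsBounded E ∧
      ∀ p q : ℤ, Nonempty ((E.page 2 le_rfl).X (p, q) ≅ E2 p q) := by
  have := Groth.Agent.Lib.Helper8.SheafModGroth.enoughInjectives J (ModSite.ringSh O)
  refine GrothSS.exists_spectralSequence' (ModSite.sheafHom M) (ExtRDNat.G (ModSite.unit O))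
    (fun Q hQ q hq => isZero_rightDerived_of_totallyAcyclic O _
      (SheafHomTotAcyc.totallyAcyclic O M Q) q hq) N H' ?_ hHz E2 ?_ hE2z
  · intro n
    obtain ⟨e⟩ := ExtRDNat.nonempty_rightDerived_coyoneda_iso M n
    exact ⟨(GrothSS.rightDerivedIsoOfIso (compIso O M) n).app N ≪≫ e.app N ≪≫ (hH n).some⟩
  · intro p q
    obtain ⟨e⟩ := ExtRDNat.nonempty_rightDerived_coyoneda_iso (ModSite.unit O) p
    obtain ⟨e'⟩ := ModAbCoh.nonempty_ext_addEquiv (ModSite.ringSh O)
      ((ModSite.extSh M q).obj N) p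
    let i : (extFunctorObj (ModSite.unit O) p).obj ((ModSite.extSh M q).obj N) ≅
        AddCommGrpCat.of (ModSite.HC O ((ModSite.extSh M q).obj N) p) :=
      AddEquiv.toAddCommGrpIso (X := AddCommGrpCat.of _) (Y := AddCommGrpCat.of _) e'
    exact ⟨e.app _ ≪≫ i ≪≫ (hE2 p q).some⟩

end Groth.Agent.Lib.Helper6.LocGlobExtSS
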