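import Groth.Agent.Lib.Helper6.OverShriek
import Mathlib.CategoryTheory.MorphismProperty.OverAdjunction

/-!
# Extension by zero along `MorphismProperty.Over.map` (helper6)
-/

universe v u
open CategoryTheory Limits Opposite

namespace Groth.Agent.Lib.Helper6.MPOverShriek

open MultiAdj

variable {T : Type u} [Category.{v} T] {P : MorphismProperty T} [P.IsStableUnderComposition]
  [P.HasOfPostcompProperty P] {X Y : T} {f : X ⟶ Y} (hf : P f)

set_option backward.isDefEq.respectTransparency.types false in
/-- the multi-initial structure of `MorphismProperty.Over.map ⊤ hf` -/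
def mpOverMap : MultiInit.{v} (MorphismProperty.Over.map (P := P) ⊤ hf) where
  I V := {g : V.left ⟶ X // g ≫ f = V.hom}
  d V g := MorphismProperty.Over.mk ⊤ g.1
    (P.of_postcomp (W' := P) g.1 f hf (by rw [g.2]; exact V.prop))
  a V g := MorphismProperty.Over.homMk (𝟙 V.left) ((Category.id_comp _).trans g.2)
  fact {V e} b := ⟨⟨b.left ≫ e.hom, (Category.assoc _ _ _).trans (MorphismProperty.Over.w b)⟩,
    MorphismProperty.Over.homMk b.left rfl⟩
  fact_spec b := MorphismProperty.Over.Hom.ext (Category.id_comp _)
  fact_uniq {V e} b p h := by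
    obtain ⟨⟨g, hg'⟩, c⟩ := p
    have hc : c.left = b.left :=
      (Category.id_comp _).symm.trans (congrArg (fun k => k.left) h)
    have hg : g = b.left ≫ e.hom := by
      rw [← hc]
      exact (MorphismProperty.Over.w c).symm
    subst hg
    congr 1
    exact MorphismProperty.Over.Hom.ext hc

end Groth.Agent.Lib.Helper6.MPOverShriek
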