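import Mathlib
import Groth.Prelude.Def_RDer
import Groth.Agent.Lib.Helper6.RDShift

/-!
# The comparison `H^i (Ψ K) ⟶ Ψ (H^i K)` for a left exact `Ψ` (helper6)

For a left exact additive functor `Ψ : B ⥤ C` and an `ℕ`-indexed cochain complex `K` in `B` whose terms and
cohomology objects in degrees `< n` are `Ψ`-acyclic, the comparison `RDer.homologyComparison Ψ K n` is an
isomorphism (`isIso_homologyComparison_of_acyc`).  Consequence: the second edge map `RDer.edgeOut Φ Ψ n X` is an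
isomorphism when `Φ` sends injectives to `Ψ`-acyclics and `R^i Φ X` is `Ψ`-acyclic for `i < n` (`isIso_edgeOut`).
-/

universe v v' v'' u u' u''

open CategoryTheory Limits HomologicalComplex

namespace Groth.Agent.Lib.Helper6.HomologyCmp

variable {B : Type u} {C : Type u'} [Category.{v} B] [Category.{v'} C] [Abelian B] [Abelian C]

section SES

variable [EnoughInjectives B] (Ψ : B ⥤ C) [Ψ.Additive]

/-- `M` is right `Ψ`-acyclic. -/
def Acyc (M : B) : Prop := ∀ a : ℕ, IsZero ((Ψ.rightDerived (a + 1)).obj M)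

variable {Ψ}

lemma Acyc.of_iso {M N : B} (e : M ≅ N) (h : Acyc Ψ M) : Acyc Ψ N :=
  fun a => IsZero.of_iso (h a) ((Ψ.rightDerived (a + 1)).mapIso e.symm)

lemma acyc_of_isZero {M : B} (h : IsZero M) : Acyc Ψ M :=
  fun a => (Ψ.rightDerived (a + 1)).map_isZero h

lemma acyc_X₃ {S : ShortComplex B} (hS : S.ShortExact) (h₁ : Acyc Ψ S.X₁) (h₂ : Acyc Ψ S.X₂) :
    Acyc Ψ S.X₃ := by
  intro a
  obtain ⟨δ, w₀, w₁, w₂, e₀, e₁, e₂⟩ := RDShift.rightDerived_les Ψ hS (a + 1)
  exact e₁.isZero_of_both_zeros ((h₂ a).eq_of_src _ _) ((h₁ (a + 1)).eq_of_tgt _ _)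

lemma acyc_X₂ {S : ShortComplex B} (hS : S.ShortExact) (h₁ : Acyc Ψ S.X₁) (h₃ : Acyc Ψ S.X₃) :
    Acyc Ψ S.X₂ := by
  intro a
  obtain ⟨δ, w₀, w₁, w₂, e₀, e₁, e₂⟩ := RDShift.rightDerived_les Ψ hS (a + 1)
  exact e₀.isZero_of_both_zeros ((h₁ a).eq_of_src _ _) ((h₃ a).eq_of_tgt _ _)

lemma epi_map_g [PreservesFiniteLimits Ψ] {S : ShortComplex B} (hS : S.ShortExact)
    (h₁ : IsZero ((Ψ.rightDerived 1).obj S.X₁)) : Epi (Ψ.map S.g) := by
  obtain ⟨δ, w₀, w₁, w₂, e₀, e₁, e₂⟩ := RDShift.rightDerived_les Ψ hS 0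
  have h : Epi ((Ψ.rightDerived 0).map S.g) := e₁.epi_f (h₁.eq_of_tgt _ _)
  have nat := Ψ.rightDerivedZeroIsoSelf.hom.naturality S.g
  have e : Ψ.map S.g = Ψ.rightDerivedZeroIsoSelf.inv.app S.X₂ ≫ (Ψ.rightDerived 0).map S.g ≫
      Ψ.rightDerivedZeroIsoSelf.hom.app S.X₃ := by
    rw [nat, Iso.inv_hom_id_app_assoc]
  rw [e]
  infer_instance

end SES

section Complex

variable (K : CochainComplex B ℕ)

/-- boundaries in degree `i`, as the kernel of `Z^i ⟶ H^i` -/
noncomputable def bd (i : ℕ) : B := kernel (K.homologyπ i)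

noncomputable def bdι (i : ℕ) : bd K i ⟶ K.cycles i := kernel.ι _

instance (i : ℕ) : Mono (bdι K i) := equalizer.ι_mono

noncomputable def toBd (i j : ℕ) : K.X i ⟶ bd K j :=
  kernel.lift _ (K.toCycles i j) (K.toCycles_comp_homologyπ i j)

@[reassoc (attr := simp)]
lemma toBd_ι (i j : ℕ) : toBd K i j ≫ bdι K j = K.toCycles i j := kernel.lift_ι _ _ _

@[reassoc (attr := simp)]
lemma bdι_homologyπ (i : ℕ) : bdι K i ≫ K.homologyπ i = 0 := kernel.condition _

/-- `0 ⟶ B^i ⟶ Z^i ⟶ H^i ⟶ 0` -/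
noncomputable def S2 (i : ℕ) : ShortComplex B := ShortComplex.mk (bdι K i) (K.homologyπ i) (bdι_homologyπ K i)

lemma S2_shortExact (i : ℕ) : (S2 K i).ShortExact := by
  have : Mono (S2 K i).f := inferInstanceAs (Mono (bdι K i))
  have : Epi (S2 K i).g := inferInstanceAs (Epi (K.homologyπ i))
  exact ShortComplex.ShortExact.mk' (ShortComplex.exact_of_f_is_kernel (S2 K i) (kernelIsKernel (K.homologyπ i))) ‹_› ‹_›

@[reassoc (attr := simp)]
lemma iCycles_toBd (n : ℕ) : K.iCycles n ≫ toBd K n (n + 1) = 0 := by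
  rw [← cancel_mono (bdι K (n + 1)), Category.assoc, toBd_ι, zero_comp,
    ← cancel_mono (K.iCycles (n + 1)), Category.assoc, toCycles_i, iCycles_d, zero_comp]

/-- `0 ⟶ Z^n ⟶ K^n ⟶ B^{n+1} ⟶ 0` -/
noncomputable def S1 (n : ℕ) : ShortComplex B :=
  ShortComplex.mk (K.iCycles n) (toBd K n (n + 1)) (iCycles_toBd K n)

lemma epi_toBd (n : ℕ) : Epi (toBd K n (n + 1)) := by
  let S' : ShortComplex B := ShortComplex.mk (K.toCycles n (n + 1)) (K.homologyπ (n + 1))
    (K.toCycles_comp_homologyπ n (n + 1))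
  have hS' : S'.Exact := ShortComplex.exact_of_g_is_cokernel S'
    (K.homologyIsCokernel n (n + 1) (by simp))
  exact hS'.epi_kernelLift

lemma S1_shortExact (n : ℕ) : (S1 K n).ShortExact := by
  have : Mono (S1 K n).f := inferInstanceAs (Mono (K.iCycles n))
  have : Epi (S1 K n).g := epi_toBd K n
  refine ShortComplex.ShortExact.mk' (ShortComplex.exact_of_f_is_kernel _ ?_) ‹_› ‹_›
  refine KernelFork.isLimitOfIsLimitOfIff' (K.cyclesIsKernel n (n + 1) (by simp)) (toBd K n (n + 1)) ?_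
  intro W φ
  constructor
  · intro h
    rw [← cancel_mono (bdι K (n + 1)), Category.assoc, toBd_ι, zero_comp,
      ← cancel_mono (K.iCycles (n + 1)), Category.assoc, toCycles_i, zero_comp]
    exact h
  · intro h
    have : K.d n (n + 1) = toBd K n (n + 1) ≫ bdι K (n + 1) ≫ K.iCycles (n + 1) := by
      rw [toBd_ι_assoc, toCycles_i]
    rw [this, reassoc_of% h, zero_comp]

lemma isZero_bd_zero : IsZero (bd K 0) := by
  have : IsIso (K.homologyπ 0) := K.isIso_homologyπ 0 0 (by simp) (K.shape 0 0 (by simp))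
  exact isZero_kernel_of_mono _

end Complex

section Main

variable (Ψ : B ⥤ C) [Ψ.Additive] [PreservesFiniteLimits Ψ] (K : CochainComplex B ℕ)

set_option backward.isDefEq.respectTransparency false in
lemma isIso_cyclesComparison (i : ℕ) : IsIso (RDer.cyclesComparison Ψ K i) := by
  refine ⟨((Ψ.mapHomologicalComplex _).obj K).liftCycles (Ψ.map (K.iCycles i)) _ rfl ?_, ?_, ?_⟩
  · show Ψ.map (K.iCycles i) ≫ Ψ.map (K.d i _) = 0
    rw [← Ψ.map_comp, iCycles_d, Ψ.map_zero]
  · rw [← cancel_mono (((Ψ.mapHomologicalComplex _).obj K).iCycles i), Category.assoc, liftCycles_i,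
      RDer.cyclesComparison_i, Category.id_comp]
  · rw [← cancel_mono (Ψ.map (K.iCycles i)), Category.assoc, RDer.cyclesComparison_i, liftCycles_i,
      Category.id_comp]

set_option backward.isDefEq.respectTransparency false in
/-- core criterion -/
theorem isIso_homologyComparison (i : ℕ)
    (h1 : Epi (Ψ.map (toBd K ((ComplexShape.up ℕ).prev i) i)))
    (h2 : Epi (Ψ.map (K.homologyπ i))) :
    IsIso (RDer.homologyComparison Ψ K i) := by
  have := isIso_cyclesComparison Ψ K i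
  obtain ⟨hex, hmono⟩ := (Functor.preservesFiniteLimits_iff_forall_exact_map_and_mono Ψ).1 inferInstance
    (S2 K i) (S2_shortExact K i)
  have : Epi ((S2 K i).map Ψ).g := h2
  have hcok : IsColimit (CokernelCofork.ofπ (Ψ.map (K.homologyπ i)) ((S2 K i).map Ψ).zero) :=
    hex.gIsCokernel
  have hcol₂ := CokernelCofork.isColimitOfIsColimitOfIff hcok
    (((Ψ.mapHomologicalComplex _).obj K).toCycles ((ComplexShape.up ℕ).prev i) i)
    (asIso (RDer.cyclesComparison Ψ K i)) (by
      intro W φ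
      have e : ((Ψ.mapHomologicalComplex _).obj K).toCycles ((ComplexShape.up ℕ).prev i) i ≫
          RDer.cyclesComparison Ψ K i =
          Ψ.map (toBd K ((ComplexShape.up ℕ).prev i) i) ≫ Ψ.map (bdι K i) := by
        rw [RDer.toCycles_cyclesComparison, ← Ψ.map_comp, toBd_ι]
      show Ψ.map (bdι K i) ≫ φ = 0 ↔ _ ≫ RDer.cyclesComparison Ψ K i ≫ φ = 0
      rw [reassoc_of% e]
      constructor
      · intro h; rw [h, comp_zero]
      · intro h; rwa [← cancel_epi (Ψ.map (toBd K ((ComplexShape.up ℕ).prev i) i)), comp_zero])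
  let hcol₁ := ((Ψ.mapHomologicalComplex _).obj K).homologyIsCokernel ((ComplexShape.up ℕ).prev i) i rfl
  have : RDer.homologyComparison Ψ K i = (IsColimit.coconePointUniqueUpToIso hcol₁ hcol₂).hom := by
    apply Cofork.IsColimit.hom_ext hcol₁
    erw [RDer.homologyπ_homologyComparison]
  rw [this]
  infer_instance

variable [EnoughInjectives B]

theorem acyc_bd_cycles (n : ℕ) (hK : ∀ i < n, Acyc Ψ (K.X i)) (hH : ∀ i < n, Acyc Ψ (K.homology i)) :
    Acyc Ψ (bd K n) ∧ ∀ i < n, Acyc Ψ (K.cycles i) := by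
  induction n with
  | zero => exact ⟨acyc_of_isZero (isZero_bd_zero K), fun i hi => absurd hi (Nat.not_lt_zero i)⟩
  | succ n ih =>
    obtain ⟨hb, hz⟩ := ih (fun i hi => hK i (by omega)) (fun i hi => hH i (by omega))
    have hzn : Acyc Ψ (K.cycles n) := acyc_X₂ (S2_shortExact K n) hb (hH n (by omega))
    refine ⟨acyc_X₃ (S1_shortExact K n) hzn (hK n (by omega)), fun i hi => ?_⟩
    rcases Nat.lt_succ_iff_lt_or_eq.1 hi with h | rfl
    · exact hz i h
    · exact hzn

/-- the comparison is an isomorphism in degree `n` when terms and cohomology are acyclic in degrees `< n` -/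
theorem isIso_homologyComparison_of_acyc (n : ℕ) (hK : ∀ i < n, Acyc Ψ (K.X i))
    (hH : ∀ i < n, Acyc Ψ (K.homology i)) : IsIso (RDer.homologyComparison Ψ K n) := by
  obtain ⟨hb, hz⟩ := acyc_bd_cycles Ψ K n hK hH
  apply isIso_homologyComparison
  · cases n with
    | zero =>
      have hz0 : IsZero (Ψ.obj (bd K 0)) := Ψ.map_isZero (isZero_bd_zero K)
      exact ⟨fun g h _ => hz0.eq_of_src g h⟩
    | succ m =>
      have hp : (ComplexShape.up ℕ).prev (m + 1) = m := by simp
      rw [hp]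
      exact epi_map_g (S1_shortExact K m) (hz m (by omega) 0)
  · exact epi_map_g (S2_shortExact K n) (hb 0)

end Main

section Edge

variable {A : Type u''} [Category.{v''} A] [Abelian A] [HasInjectiveResolutions A]
  [EnoughInjectives B]
  (Φ : A ⥤ B) [Φ.Additive] (Ψ : B ⥤ C) [Ψ.Additive] [PreservesFiniteLimits Ψ]

/-- the second edge map `R^n (Φ ⋙ Ψ) X ⟶ Ψ (R^n Φ X)` is an isomorphism when `Φ` sends injectives to `Ψ`-acyclics
and `R^i Φ X` is `Ψ`-acyclic for `i < n` -/
theorem isIso_edgeOut (n : ℕ) (X : A) (hΦ : ∀ J : A, Injective J → Acyc Ψ (Φ.obj J))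
    (hH : ∀ i < n, Acyc Ψ ((Φ.rightDerived i).obj X)) : IsIso (RDer.edgeOut Φ Ψ n X) := by
  have := isIso_homologyComparison_of_acyc Ψ
    ((Φ.mapHomologicalComplex _).obj (injectiveResolution X).cocomplex) n
    (fun i _ => hΦ _ ((injectiveResolution X).injective i))
    (fun i hi => (hH i hi).of_iso ((injectiveResolution X).isoRightDerivedObj Φ i))
  unfold RDer.edgeOut
  exact IsIso.comp_isIso' inferInstance (IsIso.comp_isIso' this inferInstance)

end Edge

end Groth.Agent.Lib.Helper6.HomologyCmp
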