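import Mathlib
import Groth.Prelude.Def_ModSite2
import Groth.Prelude.Def_ExtSupp
import Groth.Agent.Lib.Helper1.ModFlatMore
import Groth.Agent.Lib.Helper6.SectOnEpi

/-!
# Exactness of `ℋom(-, I)` for `I` injective (helper6)
-/

universe u

open CategoryTheory Limits Opposite

namespace Groth.Agent.Lib.Helper6.SheafHomExact

section General

variable {𝒞 𝒟 : Type*} [Category 𝒞] [Category 𝒟] {L₁ L₂ : 𝒞 ⥤ 𝒟} {R₁ R₂ : 𝒟 ⥤ 𝒞}
  (adj₁ : L₁ ⊣ R₁) (adj₂ : L₂ ⊣ R₂)

/-- the defining property of the conjugate, on hom-sets -/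
lemma homEquiv_symm_comp_conjugateEquiv (α : L₂ ⟶ L₁) {T : 𝒞} {d : 𝒟} (ψ : T ⟶ R₁.obj d) :
    (adj₂.homEquiv T d).symm (ψ ≫ (conjugateEquiv adj₁ adj₂ α).app d) =
      α.app T ≫ (adj₁.homEquiv T d).symm ψ := by
  rw [Adjunction.homEquiv_symm_apply, Adjunction.homEquiv_symm_apply, Functor.map_comp,
    Category.assoc, conjugateEquiv_counit, ← Category.assoc, α.naturality, Category.assoc]

end General

open Groth.Agent.Lib.Helper1.ModFlat

variable {C : Type u} [SmallCategory C] {J : GrothendieckTopology C} (O : Sheaf J CommRingCat.{u})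

variable {M M' : ModSite.Mod O} [ModSite.HasSheafHom M] [ModSite.HasSheafHom M']

/-- the defining property of `sheafHomMap` -/
lemma homEquiv_symm_comp_sheafHomMap (g : M' ⟶ M) {T I : ModSite.Mod O}
    (ψ : T ⟶ (ModSite.sheafHom M).obj I) :
    ((ModSite.sheafHomAdj M').homEquiv T I).symm (ψ ≫ (ExtSupp.sheafHomMap g).app I) =
      (tensL O T).map g ≫ ((ModSite.sheafHomAdj M).homEquiv T I).symm ψ :=
  homEquiv_symm_comp_conjugateEquiv (ModSite.sheafHomAdj M) (ModSite.sheafHomAdj M')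
    ((ModSite.tensorBi O).flip.map g) ψ

/-- every map `T ⟶ ℋom(M', I)` from a flat `T` lifts along `ℋom(M, I) ⟶ ℋom(M', I)` when `M' ⟶ M` is
mono and `I` is injective -/
lemma exists_lift (g : M' ⟶ M) [Mono g] (I : ModSite.Mod O) [Injective I] (T : ModSite.Mod O)
    (hT : ModSite.IsFlat T) (b : T ⟶ (ModSite.sheafHom M').obj I) :
    ∃ a : T ⟶ (ModSite.sheafHom M).obj I, a ≫ (ExtSupp.sheafHomMap g).app I = b := by
  have h1 : (tens O T).PreservesMonomorphisms := (isFlat_iff O T).1 hT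
  have h2 : (tensL O T).PreservesMonomorphisms :=
    Functor.PreservesMonomorphisms.of_iso (tensLIso O T).symm
  have : Mono ((tensL O T).map g) := inferInstance
  let χ := Injective.factorThru (((ModSite.sheafHomAdj M').homEquiv T I).symm b)
    ((tensL O T).map g)
  refine ⟨(ModSite.sheafHomAdj M).homEquiv T I χ, ?_⟩
  apply ((ModSite.sheafHomAdj M').homEquiv T I).symm.injective
  rw [homEquiv_symm_comp_sheafHomMap, Equiv.symm_apply_apply]
  exact Injective.comp_factorThru _ _

/-- `ℋom(M, I) ⟶ ℋom(M', I)` is surjective on sections when `M' ⟶ M` is mono and `I` injective -/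
lemma surjective_sheafHomMap_app (g : M' ⟶ M) [Mono g] (I : ModSite.Mod O) [Injective I] (V : C)
    (t : ((ModSite.sheafHom M').obj I).val.obj (op V)) :
    ∃ x : ((ModSite.sheafHom M).obj I).val.obj (op V),
      ((ExtSupp.sheafHomMap g).app I).val.app (op V) x = t := by
  obtain ⟨a, ha⟩ := exists_lift O g I (ModSite.freeOn O V)
    (Groth.Agent.Lib.Helper1.ModFlatMore.isFlat_freeOn O V)
    ((Groth.Agent.Lib.Helper1.ModSiteFree.homEquiv O V _).symm t)
  refine ⟨Groth.Agent.Lib.Helper1.ModSiteFree.homEquiv O V _ a, ?_⟩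
  have := Groth.Agent.Lib.Helper1.ModSiteFree.homEquiv_comp O V a ((ExtSupp.sheafHomMap g).app I)
  rw [ha, Equiv.apply_symm_apply] at this
  exact this.symm

section Exact

instance (T : ModSite.Mod O) : (tensL O T).Additive :=
  Functor.additive_of_iso (tensLIso O T).symm

instance (T : ModSite.Mod O) : PreservesFiniteColimits (tensL O T) :=
  PreservesColimitsOfSize.preservesFiniteColimits.{u, u} _

variable (S : ShortComplex (ModSite.Mod O)) [ModSite.HasSheafHom S.X₁] [ModSite.HasSheafHom S.X₂]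
  [ModSite.HasSheafHom S.X₃] (I : ModSite.Mod O)

omit [ModSite.HasSheafHom S.X₁] [ModSite.HasSheafHom S.X₂] [ModSite.HasSheafHom S.X₃] in
lemma homEquiv_symm_zero (M : ModSite.Mod O) [ModSite.HasSheafHom M] (T I : ModSite.Mod O) :
    ((ModSite.sheafHomAdj M).homEquiv T I).symm 0 = 0 := by
  rw [Adjunction.homEquiv_symm_apply]
  have : ((ModSite.tensorBi O).flip.obj M).map (0 : T ⟶ (ModSite.sheafHom M).obj I) = 0 :=
    (tens O M).map_zero _ _
  rw [this, zero_comp]

lemma sheafHomMap_comp_app :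
    (ExtSupp.sheafHomMap S.g).app I ≫ (ExtSupp.sheafHomMap S.f).app I = 0 := by
  apply ((ModSite.sheafHomAdj S.X₁).homEquiv _ I).symm.injective
  have h := homEquiv_symm_comp_sheafHomMap O S.f (T := (ModSite.sheafHom S.X₃).obj I) (I := I)
    ((ExtSupp.sheafHomMap S.g).app I)
  have h' := homEquiv_symm_comp_sheafHomMap O S.g (T := (ModSite.sheafHom S.X₃).obj I) (I := I)
    (𝟙 _)
  rw [Category.id_comp] at h'
  rw [h, h', ← Category.assoc, ← Functor.map_comp, S.zero, Functor.map_zero, zero_comp]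
  exact (homEquiv_symm_zero O S.X₁ _ I).symm

omit [ModSite.HasSheafHom S.X₁] in
lemma mono_sheafHomMap_app [Epi S.g] : Mono ((ExtSupp.sheafHomMap S.g).app I) := by
  apply Preadditive.mono_of_cancel_zero
  intro T ψ hψ
  apply ((ModSite.sheafHomAdj S.X₃).homEquiv T I).symm.injective
  have h := homEquiv_symm_comp_sheafHomMap O S.g ψ
  rw [hψ, homEquiv_symm_zero] at h
  have : Epi ((tensL O T).map S.g) := inferInstance
  rw [homEquiv_symm_zero]
  exact (cancel_epi ((tensL O T).map S.g)).1 (h.symm.trans comp_zero.symm)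

lemma exact_sheafHomMap_app (hS : S.Exact) [Epi S.g] :
    (ShortComplex.mk _ _ (sheafHomMap_comp_app O S I)).Exact := by
  rw [ShortComplex.exact_iff_exact_up_to_refinements]
  intro T x₂ hx₂
  have hx₂' : x₂ ≫ (ExtSupp.sheafHomMap S.f).app I = 0 := hx₂
  have h := homEquiv_symm_comp_sheafHomMap O S.f x₂
  rw [hx₂', homEquiv_symm_zero] at h
  have h21 := (Functor.preservesFiniteColimits_tfae (tensL O T)).out 3 1
  obtain ⟨hex, hepi⟩ := h21.1 inferInstance S ⟨hS, inferInstance⟩
  have : Epi (S.map (tensL O T)).g := hepi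
  let y : ((ModSite.tensorBi O).flip.obj S.X₃).obj T ⟶ I :=
    hex.desc (((ModSite.sheafHomAdj S.X₂).homEquiv T I).symm x₂) h.symm
  have hy : (tensL O T).map S.g ≫ y = ((ModSite.sheafHomAdj S.X₂).homEquiv T I).symm x₂ :=
    hex.g_desc _ _
  refine ⟨T, 𝟙 T, inferInstance, (ModSite.sheafHomAdj S.X₃).homEquiv T I y, ?_⟩
  rw [Category.id_comp]
  apply ((ModSite.sheafHomAdj S.X₂).homEquiv T I).symm.injective
  change _ = ((ModSite.sheafHomAdj S.X₂).homEquiv T I).symm
    ((ModSite.sheafHomAdj S.X₃).homEquiv T I y ≫ (ExtSupp.sheafHomMap S.g).app I)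
  rw [homEquiv_symm_comp_sheafHomMap, Equiv.symm_apply_apply]
  exact hy.symm

end Exact

end Groth.Agent.Lib.Helper6.SheafHomExact
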