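import Mathlib
import Groth.Prelude.Def_ModSite2
import Groth.Prelude.Def_ExtSupp
import Groth.Agent.Lib.Helper6.SheafHomExact

/-!
# Sectionwise exactness (helper6)
-/

universe u

open CategoryTheory Limits Opposite

namespace Groth.Agent.Lib.Helper6.SectExact

open Groth.Agent.Lib.Helper1.ModFlat

variable {C : Type u} [SmallCategory C] {J : GrothendieckTopology C} {O : Sheaf J CommRingCat.{u}}

/-- sectionwise surjective maps of modules are epimorphisms -/
lemma epi_of_surjective {A B : ModSite.Mod O} (f : A ⟶ B)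
    (h : ∀ (V : C) (t : B.val.obj (op V)), ∃ x : A.val.obj (op V), f.val.app (op V) x = t) :
    Epi f := by
  have : Epi ((SheafOfModules.toSheaf (ModSite.ringSh O)).map f) := by
    apply TotAcycProd.epi_of_sections_surjective
    intro V t
    exact h V t
  exact (SheafOfModules.toSheaf (ModSite.ringSh O)).epi_of_epi_map this

/-- monomorphisms of modules are sectionwise injective -/
lemma injective_of_mono {A B : ModSite.Mod O} (f : A ⟶ B) [Mono f] (V : C) :
    Function.Injective (f.val.app (op V)) := by
  have : (SheafOfModules.evaluation.{u} (ModSite.ringSh O) (op V)).Additive :=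
    inferInstanceAs ((SheafOfModules.forget _ ⋙ PresheafOfModules.evaluation _ (op V)).Additive)
  have : Mono ((SheafOfModules.evaluation.{u} (ModSite.ringSh O) (op V)).map f) := inferInstance
  exact (ModuleCat.mono_iff_injective _).1 this

/-- sectionwise exact complexes of modules are exact -/
lemma exact_of_sections (S : ShortComplex (ModSite.Mod O))
    (h : ∀ (V : C) (x : S.X₂.val.obj (op V)), S.g.val.app (op V) x = 0 →
      ∃ y : S.X₁.val.obj (op V), S.f.val.app (op V) y = x) : S.Exact := by
  rw [S.exact_iff_epi_kernel_lift]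
  apply epi_of_surjective
  intro V k
  have h0 : S.g.val.app (op V) ((kernel.ι S.g).val.app (op V) k) = 0 := by
    have : (kernel.ι S.g ≫ S.g).val.app (op V) k = 0 := by
      rw [kernel.condition]
      rfl
    exact this
  obtain ⟨y, hy⟩ := h V _ h0
  refine ⟨y, ?_⟩
  apply injective_of_mono (kernel.ι S.g) V
  have : (kernel.lift S.g S.f S.zero ≫ kernel.ι S.g).val.app (op V) y = S.f.val.app (op V) y := by
    rw [kernel.lift_ι]
  exact this.trans hy

variable (O)

/-- tensoring with a flat module preserves exactness -/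
lemma exact_map_tensL (T : ModSite.Mod O) (hT : ModSite.IsFlat T) (S : ShortComplex (ModSite.Mod O))
    (hS : S.Exact) : (S.map (tensL O T)).Exact := by
  have h1 : PreservesFiniteLimits (tens O T) := hT.1
  have h2 : PreservesFiniteLimits (tensL O T) := preservesFiniteLimits_of_natIso (tensLIso O T).symm
  have h31 := (Functor.exact_tfae (tensL O T)).out 3 1
  exact h31.1 ⟨h2, inferInstance⟩ S hS

open Groth.Agent.Lib.Helper1 in
lemma homEquiv_zero (V : C) (M : ModSite.Mod O) : ModSiteFree.homEquiv O V M 0 = 0 := by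
  have h := ModSiteFree.homEquiv_comp O V (0 : ModSite.freeOn O V ⟶ M) (0 : M ⟶ M)
  rw [comp_zero] at h
  exact h

open Groth.Agent.Lib.Helper1 in
/-- `ℋom(-, I)` is sectionwise exact for `I` injective -/
lemma exists_section_of_exact (S : ShortComplex (ModSite.Mod O)) [ModSite.HasSheafHom S.X₁]
    [ModSite.HasSheafHom S.X₂] [ModSite.HasSheafHom S.X₃] (hS : S.Exact) (I : ModSite.Mod O)
    [Injective I] (V : C) (x : ((ModSite.sheafHom S.X₂).obj I).val.obj (op V))
    (hx : ((ExtSupp.sheafHomMap S.f).app I).val.app (op V) x = 0) :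
    ∃ y : ((ModSite.sheafHom S.X₃).obj I).val.obj (op V),
      ((ExtSupp.sheafHomMap S.g).app I).val.app (op V) y = x := by
  let x' := (ModSiteFree.homEquiv O V _).symm x
  have hx' : x' ≫ (ExtSupp.sheafHomMap S.f).app I = 0 := by
    apply (ModSiteFree.homEquiv O V _).injective
    rw [ModSiteFree.homEquiv_comp, Equiv.apply_symm_apply, hx, homEquiv_zero]
  have h := SheafHomExact.homEquiv_symm_comp_sheafHomMap O S.f x'
  rw [hx', SheafHomExact.homEquiv_symm_zero] at h
  have hex := exact_map_tensL O (ModSite.freeOn O V) (ModFlatMore.isFlat_freeOn O V) S hS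
  let y' : ((ModSite.tensorBi O).flip.obj S.X₃).obj (ModSite.freeOn O V) ⟶ I :=
    hex.descToInjective (((ModSite.sheafHomAdj S.X₂).homEquiv _ I).symm x') h.symm
  have hy' : (tensL O (ModSite.freeOn O V)).map S.g ≫ y' =
      ((ModSite.sheafHomAdj S.X₂).homEquiv _ I).symm x' :=
    hex.comp_descToInjective _ _
  let y'' := (ModSite.sheafHomAdj S.X₃).homEquiv _ I y'
  have hy'' : y'' ≫ (ExtSupp.sheafHomMap S.g).app I = x' := by
    apply ((ModSite.sheafHomAdj S.X₂).homEquiv _ I).symm.injective
    rw [SheafHomExact.homEquiv_symm_comp_sheafHomMap, Equiv.symm_apply_apply]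
    exact hy'
  refine ⟨ModSiteFree.homEquiv O V _ y'', ?_⟩
  have := ModSiteFree.homEquiv_comp O V y'' ((ExtSupp.sheafHomMap S.g).app I)
  rw [hy'', Equiv.apply_symm_apply] at this
  exact this.symm

end Groth.Agent.Lib.Helper6.SectExact
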