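import Mathlib.Algebra.Homology.DerivedCategory.RightDerivedFunctorPlus
import Mathlib.Algebra.Homology.DerivedCategory.ShortExact
import Mathlib.Algebra.Homology.DerivedCategory.HomologySequence
import Mathlib.CategoryTheory.Abelian.Exact

/-!
# Long exact sequence for `F.rightDerivedFunctorPlus` (helper6)

`longExact`: for a short exact sequence of bounded below complexes `0 → X₁ → X₂ → X₃ → 0`, the
homology objects of `RF (Q X_k)` fit in a long exact sequence.  Strategy: choose injective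
resolutions `I₁, I₂`, lift the map, take a cone `I₃` in `K⁺(Inj)`, identify `E I₃ ≅ Q X₃`, and
transport the long exact homology sequence of the distinguished triangle `G (I₁ → I₂ → I₃ →)`
along `G ≅ E ⋙ RF`.
-/

universe w w' v v' u u'

open CategoryTheory Limits Pretriangulated

namespace Groth.Agent.Lib.Helper6.RDPlus

variable {C : Type u} [Category.{v} C] [Abelian C] [HasDerivedCategory.{w} C] [EnoughInjectives C]
  {D : Type u'} [Category.{v'} D] [Abelian D] [HasDerivedCategory.{w'} D] (F : C ⥤ D) [F.Additive]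

variable (C) in
/-- `E : K⁺(Inj C) ⥤ D⁺(C)`. -/
noncomputable abbrev E : HomotopyCategory.Plus (InjectiveObject C) ⥤ DerivedCategory.Plus C :=
  (InjectiveObject.ι C).mapHomotopyCategoryPlus ⋙ DerivedCategory.Plus.Qh

/-- `G : K⁺(Inj C) ⥤ D⁺(D)`. -/
noncomputable abbrev G : HomotopyCategory.Plus (InjectiveObject C) ⥤ DerivedCategory.Plus D :=
  (InjectiveObject.ι C).mapHomotopyCategoryPlus ⋙ F.mapHomotopyCategoryPlus ⋙
    DerivedCategory.Plus.Qh


end Groth.Agent.Lib.Helper6.RDPlus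

namespace Groth.Agent.Lib.Helper6.RDPlus

variable {C : Type u} [Category.{v} C] [Abelian C] [HasDerivedCategory.{w} C] [EnoughInjectives C]
  {D : Type u'} [Category.{v'} D] [Abelian D] [HasDerivedCategory.{w'} D] (F : C ⥤ D) [F.Additive]

/-- The unit restricted to complexes of injectives. -/
noncomputable def uNat : G F ⟶ E C ⋙ F.rightDerivedFunctorPlus :=
  Functor.whiskerLeft (InjectiveObject.ι C).mapHomotopyCategoryPlus F.rightDerivedFunctorPlusUnit

instance (X : HomotopyCategory.Plus (InjectiveObject C)) : IsIso ((uNat F).app X) := by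
  dsimp [uNat]
  infer_instance

instance : IsIso (uNat F) := NatIso.isIso_of_isIso_app _

/-- `G ≅ E ⋙ RF`. -/
noncomputable def uIso : G F ≅ E C ⋙ F.rightDerivedFunctorPlus := asIso (uNat F)

end Groth.Agent.Lib.Helper6.RDPlus

namespace Groth.Agent.Lib.Helper6.RDPlus

variable {C : Type u} [Category.{v} C] [Abelian C] [HasDerivedCategory.{w} C] [EnoughInjectives C]

omit [EnoughInjectives C] in
lemma E_map_surjective (I₁ I₂ : HomotopyCategory.Plus (InjectiveObject C)) :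
    Function.Surjective ((E C).map : (I₁ ⟶ I₂) → _) := by
  obtain ⟨L₂, rfl⟩ := HomotopyCategory.Plus.quotient_obj_surjective I₂
  intro φ
  have hK : CochainComplex.IsKInjective
      (((InjectiveObject.ι C).mapHomotopyCategoryPlus.obj
        ((HomotopyCategory.Plus.quotient (InjectiveObject C)).obj L₂)).1.as) := by
    change CochainComplex.IsKInjective
      (((InjectiveObject.ι C).mapHomologicalComplex (.up ℤ)).obj L₂.obj)
    infer_instance
  obtain ⟨ψ, hψ⟩ := (DerivedCategory.Plus.Qh_map_bijective_of_isKInjective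
    ((InjectiveObject.ι C).mapHomotopyCategoryPlus.obj I₁) _ hK).2 φ
  obtain ⟨ψ', rfl⟩ := (InjectiveObject.ι C).mapHomotopyCategoryPlus.map_surjective ψ
  exact ⟨ψ', hψ⟩

lemma exists_res (X : CochainComplex.Plus C) :
    ∃ (L : CochainComplex.Plus (InjectiveObject C))
      (i : X ⟶ (InjectiveObject.ι C).mapCochainComplexPlus.obj L),
      IsIso (DerivedCategory.Plus.Q.map i) := by
  obtain ⟨K, n, hn⟩ := X
  have : (⟨K, n, hn⟩ : CochainComplex.Plus C).obj.IsStrictlyGE n := hn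
  obtain ⟨L, _, i, hi⟩ := CochainComplex.Plus.exists_quasiIso_injective ⟨K, n, hn⟩ n
  exact ⟨L, i, Localization.inverts (HomotopyCategory.Plus.quotient C ⋙ DerivedCategory.Plus.Qh)
    (CochainComplex.Plus.quasiIso C) i hi⟩

end Groth.Agent.Lib.Helper6.RDPlus

namespace Groth.Agent.Lib.Helper6.RDPlus

variable {C : Type u} [Category.{v} C] [Abelian C] [HasDerivedCategory.{w} C] [EnoughInjectives C]

/-- comparison `ι (Q⁺ X) ≅ Q X` -/
noncomputable def eIso (X : CochainComplex.Plus C) :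
    DerivedCategory.Plus.ι.obj (DerivedCategory.Plus.Q.obj X) ≅ DerivedCategory.Q.obj X.obj :=
  (DerivedCategory.quotientCompQhIso C).app X.obj

omit [EnoughInjectives C] in
lemma eIso_naturality {X Y : CochainComplex.Plus C} (f : X ⟶ Y) :
    DerivedCategory.Plus.ι.map (DerivedCategory.Plus.Q.map f) ≫ (eIso Y).hom =
      (eIso X).hom ≫ DerivedCategory.Q.map f.hom :=
  DerivedCategory.quotientCompQhIso_hom_naturality f.hom

omit [EnoughInjectives C] in
/-- The distinguished triangle in `D(C)` on the objects `ι (Q⁺ X_k)`. -/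
lemma sesTriangle_distinguished {X₁ X₂ X₃ : CochainComplex.Plus C} (f : X₁ ⟶ X₂) (g : X₂ ⟶ X₃)
    (hz : f.hom ≫ g.hom = 0) (hS : (ShortComplex.mk f.hom g.hom hz).ShortExact) :
    ∃ δ, Triangle.mk (DerivedCategory.Plus.ι.map (DerivedCategory.Plus.Q.map f))
      (DerivedCategory.Plus.ι.map (DerivedCategory.Plus.Q.map g)) δ ∈
        distTriang (DerivedCategory C) := by
  refine ⟨(eIso X₃).hom ≫ DerivedCategory.triangleOfSESδ hS ≫ ((eIso X₁).inv)⟦(1 : ℤ)⟧', ?_⟩
  refine isomorphic_distinguished _ (DerivedCategory.triangleOfSES_distinguished hS) _ ?_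
  refine Triangle.isoMk _ _ (eIso X₁) (eIso X₂) (eIso X₃) ?_ ?_ ?_
  · exact eIso_naturality f
  · exact eIso_naturality g
  · change ((eIso X₃).hom ≫ DerivedCategory.triangleOfSESδ hS ≫ ((eIso X₁).inv)⟦(1 : ℤ)⟧') ≫
      ((eIso X₁).hom)⟦(1 : ℤ)⟧' = (eIso X₃).hom ≫ DerivedCategory.triangleOfSESδ hS
    rw [Category.assoc, Category.assoc, ← Functor.map_comp, Iso.inv_hom_id,
      CategoryTheory.Functor.map_id, Category.comp_id]

end Groth.Agent.Lib.Helper6.RDPlus

namespace Groth.Agent.Lib.Helper6.RDPlus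

variable {C : Type u} [Category.{v} C] [Abelian C] [HasDerivedCategory.{w} C] [EnoughInjectives C]

theorem exists_resolution_triangle {X₁ X₂ X₃ : CochainComplex.Plus C} (f : X₁ ⟶ X₂) (g : X₂ ⟶ X₃)
    (hz : f.hom ≫ g.hom = 0) (hS : (ShortComplex.mk f.hom g.hom hz).ShortExact) :
    ∃ (I₁ I₂ I₃ : HomotopyCategory.Plus (InjectiveObject C)) (φ : I₁ ⟶ I₂) (ψ : I₂ ⟶ I₃)
      (ω : I₃ ⟶ I₁⟦(1 : ℤ)⟧) (_ : Triangle.mk φ ψ ω ∈ distTriang _)
      (α₁ : (E C).obj I₁ ≅ DerivedCategory.Plus.Q.obj X₁)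
      (α₂ : (E C).obj I₂ ≅ DerivedCategory.Plus.Q.obj X₂)
      (α₃ : (E C).obj I₃ ≅ DerivedCategory.Plus.Q.obj X₃),
      (E C).map φ ≫ α₂.hom = α₁.hom ≫ DerivedCategory.Plus.Q.map f ∧
      (E C).map ψ ≫ α₃.hom = α₂.hom ≫ DerivedCategory.Plus.Q.map g := by
  obtain ⟨L₁, i₁, h₁⟩ := exists_res X₁
  obtain ⟨L₂, i₂, h₂⟩ := exists_res X₂
  let I₁ := (HomotopyCategory.Plus.quotient (InjectiveObject C)).obj L₁
  let I₂ := (HomotopyCategory.Plus.quotient (InjectiveObject C)).obj L₂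
  let α₁ : (E C).obj I₁ ≅ DerivedCategory.Plus.Q.obj X₁ := (asIso (DerivedCategory.Plus.Q.map i₁)).symm
  let α₂ : (E C).obj I₂ ≅ DerivedCategory.Plus.Q.obj X₂ := (asIso (DerivedCategory.Plus.Q.map i₂)).symm
  obtain ⟨φ, hφ⟩ := E_map_surjective I₁ I₂ (α₁.hom ≫ DerivedCategory.Plus.Q.map f ≫ α₂.inv)
  obtain ⟨I₃, ψ, ω, hT'⟩ := distinguished_cocone_triangle φ
  obtain ⟨δ, hT₂⟩ := sesTriangle_distinguished f g hz hS
  have hT₁ := (E C ⋙ DerivedCategory.Plus.ι).map_distinguished _ hT'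
  have hcomm : (E C).map φ ≫ α₂.hom = α₁.hom ≫ DerivedCategory.Plus.Q.map f := by
    rw [hφ, Category.assoc, Category.assoc, Iso.inv_hom_id, Category.comp_id]
  obtain ⟨(c : DerivedCategory.Plus.ι.obj ((E C).obj I₃) ⟶
      DerivedCategory.Plus.ι.obj (DerivedCategory.Plus.Q.obj X₃)),
    (hc₁ : DerivedCategory.Plus.ι.map ((E C).map ψ) ≫ c =
      DerivedCategory.Plus.ι.map α₂.hom ≫
        DerivedCategory.Plus.ι.map (DerivedCategory.Plus.Q.map g)), hc₂⟩ :=
    complete_distinguished_triangle_morphism _ _ hT₁ hT₂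
    (DerivedCategory.Plus.ι.map α₁.hom) (DerivedCategory.Plus.ι.map α₂.hom) (by
      change DerivedCategory.Plus.ι.map ((E C).map φ) ≫ DerivedCategory.Plus.ι.map α₂.hom =
        DerivedCategory.Plus.ι.map α₁.hom ≫
          DerivedCategory.Plus.ι.map (DerivedCategory.Plus.Q.map f)
      rw [← Functor.map_comp, ← Functor.map_comp, hcomm])
  have hciso : IsIso c := by
    let Φ : (E C ⋙ DerivedCategory.Plus.ι).mapTriangle.obj (Triangle.mk φ ψ ω) ⟶
        Triangle.mk (DerivedCategory.Plus.ι.map (DerivedCategory.Plus.Q.map f))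
          (DerivedCategory.Plus.ι.map (DerivedCategory.Plus.Q.map g)) δ :=
      { hom₁ := DerivedCategory.Plus.ι.map α₁.hom
        hom₂ := DerivedCategory.Plus.ι.map α₂.hom
        hom₃ := c
        comm₁ := by
          change DerivedCategory.Plus.ι.map ((E C).map φ) ≫ DerivedCategory.Plus.ι.map α₂.hom =
            DerivedCategory.Plus.ι.map α₁.hom ≫
              DerivedCategory.Plus.ι.map (DerivedCategory.Plus.Q.map f)
          rw [← Functor.map_comp, ← Functor.map_comp, hcomm]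
        comm₂ := hc₁
        comm₃ := hc₂ }
    exact isIso₃_of_isIso₁₂ Φ hT₁ hT₂ (DerivedCategory.Plus.ι.mapIso α₁).isIso_hom
      (DerivedCategory.Plus.ι.mapIso α₂).isIso_hom
  let α₃ : (E C).obj I₃ ≅ DerivedCategory.Plus.Q.obj X₃ :=
    DerivedCategory.Plus.ι.preimageIso (@asIso _ _ _ _ c hciso)
  refine ⟨I₁, I₂, I₃, φ, ψ, ω, hT', α₁, α₂, α₃, hcomm, ?_⟩
  apply DerivedCategory.Plus.ι.map_injective
  rw [Functor.map_comp, Functor.map_comp]
  have : DerivedCategory.Plus.ι.map α₃.hom = c := DerivedCategory.Plus.ι.map_preimage c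
  rw [this]
  exact hc₁

end Groth.Agent.Lib.Helper6.RDPlus

namespace Groth.Agent.Lib.Helper6.RDPlus

variable {C : Type u} [Category.{v} C] [Abelian C] [HasDerivedCategory.{w} C] [EnoughInjectives C]
  {D : Type u'} [Category.{v'} D] [Abelian D] [HasDerivedCategory.{w'} D] (F : C ⥤ D) [F.Additive]

section

variable {A : Type*} [Category A] (H : DerivedCategory.Plus D ⥤ A)

/-- comparison isomorphism -/
noncomputable def θ {I : HomotopyCategory.Plus (InjectiveObject C)} {X : CochainComplex.Plus C}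
    (α : (E C).obj I ≅ DerivedCategory.Plus.Q.obj X) :
    H.obj (F.rightDerivedFunctorPlus.obj (DerivedCategory.Plus.Q.obj X)) ≅ H.obj ((G F).obj I) :=
  H.mapIso (F.rightDerivedFunctorPlus.mapIso α.symm ≪≫ ((uIso F).app I).symm)

lemma θ_sq {I J : HomotopyCategory.Plus (InjectiveObject C)} {X Y : CochainComplex.Plus C}
    (α : (E C).obj I ≅ DerivedCategory.Plus.Q.obj X) (β : (E C).obj J ≅ DerivedCategory.Plus.Q.obj Y)
    (φ : I ⟶ J) (f : X ⟶ Y)
    (hcomm : (E C).map φ ≫ β.hom = α.hom ≫ DerivedCategory.Plus.Q.map f) :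
    H.map (F.rightDerivedFunctorPlus.map (DerivedCategory.Plus.Q.map f)) ≫ (θ F H β).hom =
      (θ F H α).hom ≫ H.map ((G F).map φ) := by
  have h1 : DerivedCategory.Plus.Q.map f ≫ β.inv = α.inv ≫ (E C).map φ := by
    rw [Iso.eq_inv_comp, ← Category.assoc, ← hcomm, Category.assoc, Iso.hom_inv_id,
      Category.comp_id]
  have h2 := (uIso F).inv.naturality φ
  dsimp only [θ]
  simp only [Functor.mapIso_hom, Iso.trans_hom, Functor.mapIso_symm, Iso.symm_hom,
    Functor.mapIso_inv, Iso.app_inv, ← Functor.map_comp]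
  congr 1
  rw [← Category.assoc, ← Functor.map_comp, h1, Functor.map_comp, Category.assoc, Category.assoc]
  congr 1

end

theorem longExact {X₁ X₂ X₃ : CochainComplex.Plus C} (f : X₁ ⟶ X₂) (g : X₂ ⟶ X₃)
    (hz : f.hom ≫ g.hom = 0) (hS : (ShortComplex.mk f.hom g.hom hz).ShortExact)
    (n₀ n₁ : ℤ) (h : n₀ + 1 = n₁) :
    ∃ (δ : (DerivedCategory.Plus.homologyFunctor D n₀).obj
          (F.rightDerivedFunctorPlus.obj (DerivedCategory.Plus.Q.obj X₃)) ⟶
        (DerivedCategory.Plus.homologyFunctor D n₁).obj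
          (F.rightDerivedFunctorPlus.obj (DerivedCategory.Plus.Q.obj X₁)))
      (w₀ : (DerivedCategory.Plus.homologyFunctor D n₀).map
          (F.rightDerivedFunctorPlus.map (DerivedCategory.Plus.Q.map f)) ≫
        (DerivedCategory.Plus.homologyFunctor D n₀).map
          (F.rightDerivedFunctorPlus.map (DerivedCategory.Plus.Q.map g)) = 0)
      (w₁ : (DerivedCategory.Plus.homologyFunctor D n₀).map
          (F.rightDerivedFunctorPlus.map (DerivedCategory.Plus.Q.map g)) ≫ δ = 0)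
      (w₂ : δ ≫ (DerivedCategory.Plus.homologyFunctor D n₁).map
          (F.rightDerivedFunctorPlus.map (DerivedCategory.Plus.Q.map f)) = 0),
      (ShortComplex.mk _ _ w₀).Exact ∧ (ShortComplex.mk _ _ w₁).Exact ∧
        (ShortComplex.mk _ _ w₂).Exact := by
  obtain ⟨I₁, I₂, I₃, φ, ψ, ω, hT', α₁, α₂, α₃, hc₁, hc₂⟩ := exists_resolution_triangle f g hz hS
  have hTG := (G F).map_distinguished _ hT'
  let H0 := DerivedCategory.Plus.homologyFunctor D 0
  have ex₂ := H0.homologySequence_exact₂ _ hTG n₀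
  have ex₃ := H0.homologySequence_exact₃ _ hTG n₀ n₁ h
  have ex₁ := H0.homologySequence_exact₁ _ hTG n₀ n₁ h
  let Hn := fun n => DerivedCategory.Plus.homologyFunctor D n
  let δG : (Hn n₀).obj ((G F).obj I₃) ⟶ (Hn n₁).obj ((G F).obj I₁) :=
    H0.homologySequenceδ ((G F).mapTriangle.obj (Triangle.mk φ ψ ω)) n₀ n₁ h
  have sqf := fun n => θ_sq F (Hn n) α₁ α₂ φ f hc₁
  have sqg := fun n => θ_sq F (Hn n) α₂ α₃ ψ g hc₂
  let δ : (Hn n₀).obj (F.rightDerivedFunctorPlus.obj (DerivedCategory.Plus.Q.obj X₃)) ⟶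
      (Hn n₁).obj (F.rightDerivedFunctorPlus.obj (DerivedCategory.Plus.Q.obj X₁)) :=
    (θ F (Hn n₀) α₃).hom ≫ δG ≫ (θ F (Hn n₁) α₁).inv
  have hδ : δ ≫ (θ F (Hn n₁) α₁).hom = (θ F (Hn n₀) α₃).hom ≫ δG := by
    change ((θ F (Hn n₀) α₃).hom ≫ δG ≫ (θ F (Hn n₁) α₁).inv) ≫ (θ F (Hn n₁) α₁).hom = _
    rw [Category.assoc, Category.assoc, Iso.inv_hom_id, Category.comp_id]
  have c₁₂ : (Hn n₀).map ((G F).map φ) ≫ (Hn n₀).map ((G F).map ψ) = 0 :=
    H0.homologySequence_comp _ hTG n₀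
  have c₂₃ : (Hn n₀).map ((G F).map ψ) ≫ δG = 0 := H0.comp_homologySequenceδ _ hTG n₀ n₁ h
  have c₃₁ : δG ≫ (Hn n₁).map ((G F).map φ) = 0 := H0.homologySequenceδ_comp _ hTG n₀ n₁ h
  have w₀ : (Hn n₀).map (F.rightDerivedFunctorPlus.map (DerivedCategory.Plus.Q.map f)) ≫
      (Hn n₀).map (F.rightDerivedFunctorPlus.map (DerivedCategory.Plus.Q.map g)) = 0 := by
    rw [← cancel_mono (θ F (Hn n₀) α₃).hom, Category.assoc, sqg n₀, ← Category.assoc, sqf n₀,
      Category.assoc, c₁₂, comp_zero, zero_comp]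
  have w₁ : (Hn n₀).map (F.rightDerivedFunctorPlus.map (DerivedCategory.Plus.Q.map g)) ≫ δ = 0 := by
    rw [← cancel_mono (θ F (Hn n₁) α₁).hom, Category.assoc, hδ]
    rw [← Category.assoc, sqg n₀, Category.assoc, c₂₃, comp_zero, zero_comp]
  have w₂ : δ ≫ (Hn n₁).map (F.rightDerivedFunctorPlus.map (DerivedCategory.Plus.Q.map f)) = 0 := by
    rw [← cancel_mono (θ F (Hn n₁) α₂).hom, Category.assoc, sqf n₁]
    rw [← Category.assoc, hδ, Category.assoc, c₃₁, comp_zero, zero_comp]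
  refine ⟨δ, w₀, w₁, w₂, ?_, ?_, ?_⟩
  · exact (ShortComplex.exact_iff_of_iso (ShortComplex.isoMk (θ F (Hn n₀) α₁) (θ F (Hn n₀) α₂)
      (θ F (Hn n₀) α₃) (sqf n₀).symm (sqg n₀).symm)).2 ex₂
  · exact (ShortComplex.exact_iff_of_iso (ShortComplex.isoMk (θ F (Hn n₀) α₂) (θ F (Hn n₀) α₃)
      (θ F (Hn n₁) α₁) (sqg n₀).symm hδ.symm)).2 ex₃
  · exact (ShortComplex.exact_iff_of_iso (ShortComplex.isoMk (θ F (Hn n₀) α₃) (θ F (Hn n₁) α₁)
      (θ F (Hn n₁) α₂) hδ.symm (sqf n₁).symm)).2 ex₁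

end Groth.Agent.Lib.Helper6.RDPlus
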