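import Mathlib.Algebra.Homology.Embedding.ExtendHomology
import Mathlib.Algebra.Homology.Additive
import Mathlib.CategoryTheory.Abelian.RightDerived
import Mathlib.CategoryTheory.Abelian.Injective.Extend
import Mathlib.Algebra.Homology.DerivedCategory.RightDerivedFunctorPlus
import Groth.Agent.Lib.Helper6.RDPlus

/-!
# Bridge between `F.rightDerived n` and `F.rightDerivedFunctorPlus` (helper6)

* `mapExtendIso`: `F.mapHomologicalComplex` commutes with `HomologicalComplex.extend`.
* `quasiIso_map_ι_iff`: `F(X[0]) ⟶ F(I)` quasi-iso iff `toRightDerivedZero'` iso and higher derived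
  functors vanish.
* `unit_isIso_iff`: unit at `K` is iso iff `F(K) ⟶ F(J)` is a quasi-iso, `K ⟶ J` an injective
  resolution.
-/

universe w w' v v' u u'

open CategoryTheory Limits HomologicalComplex

namespace Groth.Agent.Lib.Helper6.RDBridge

section MapExtend

variable {A : Type u} {B : Type u'} [Category.{v} A] [Category.{v'} B] [Preadditive A] [Preadditive B]
  [HasZeroObject A] [HasZeroObject B]
  (F : A ⥤ B) [F.Additive] {ι ι' : Type*} {c : ComplexShape ι} {c' : ComplexShape ι'}
  (e : c.Embedding c')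

/-- The (identity) isomorphism `F (K_i) ≅ (F K)_i`. -/
def XIsoF (K : HomologicalComplex A c) (i : ι) :
    F.obj (K.X i) ≅ ((F.mapHomologicalComplex c).obj K).X i := Iso.refl _

lemma map_d_eq (K : HomologicalComplex A c) (i j : ι) :
    ((F.mapHomologicalComplex c).obj K).d i j =
      (XIsoF F K i).inv ≫ F.map (K.d i j) ≫ (XIsoF F K j).hom := by
  dsimp [XIsoF]
  erw [Category.id_comp, Category.comp_id]
  rfl

lemma map_f_eq {K L : HomologicalComplex A c} (φ : K ⟶ L) (i : ι) :
    ((F.mapHomologicalComplex c).map φ).f i =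
      (XIsoF F K i).inv ≫ F.map (φ.f i) ≫ (XIsoF F L i).hom := by
  dsimp [XIsoF]
  erw [Category.id_comp, Category.comp_id]
  rfl

open Classical in
/-- degreewise comparison -/
noncomputable def mapExtendXIso (K : HomologicalComplex A c) (i' : ι') :
    F.obj ((K.extend e).X i') ≅ (((F.mapHomologicalComplex c).obj K).extend e).X i' :=
  if h : ∃ i, e.f i = i' then
    F.mapIso (K.extendXIso e h.choose_spec) ≪≫ XIsoF F K _ ≪≫
      (((F.mapHomologicalComplex c).obj K).extendXIso e h.choose_spec).symm
  else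
    IsZero.iso (F.map_isZero (K.isZero_extend_X e i' (fun i hi => h ⟨i, hi⟩)))
      (isZero_extend_X _ e i' (fun i hi => h ⟨i, hi⟩))

lemma mapExtendXIso_hom_eq (K : HomologicalComplex A c) {i : ι} {i' : ι'} (h : e.f i = i') :
    (mapExtendXIso F e K i').hom = F.map (K.extendXIso e h).hom ≫ (XIsoF F K i).hom ≫
      (((F.mapHomologicalComplex c).obj K).extendXIso e h).inv := by
  have hex : ∃ i, e.f i = i' := ⟨i, h⟩
  obtain rfl : hex.choose = i := e.injective_f (hex.choose_spec.trans h.symm)
  rw [mapExtendXIso, dif_pos hex]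
  rfl

/-- `F` commutes with extension of complexes. -/
noncomputable def mapExtendIso (K : HomologicalComplex A c) :
    (F.mapHomologicalComplex c').obj (K.extend e) ≅ ((F.mapHomologicalComplex c).obj K).extend e :=
  HomologicalComplex.Hom.isoOfComponents
    (fun i' => (XIsoF F (K.extend e) i').symm ≪≫ mapExtendXIso F e K i') (by
    intro i' j' _
    by_cases hi : ∃ i, e.f i = i'
    · obtain ⟨i, hi⟩ := hi
      by_cases hj : ∃ j, e.f j = j'
      · obtain ⟨j, hj⟩ := hj
        rw [map_d_eq, K.extend_d_eq e hi hj,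
          ((F.mapHomologicalComplex c).obj K).extend_d_eq e hi hj, map_d_eq]
        simp only [Iso.trans_hom, Iso.symm_hom, mapExtendXIso_hom_eq F e K hi,
          mapExtendXIso_hom_eq F e K hj, Functor.map_comp, Category.assoc, Iso.inv_hom_id_assoc,
          Iso.hom_inv_id_assoc]
        rw [← F.map_comp_assoc (K.extendXIso e hj).inv, Iso.inv_hom_id, CategoryTheory.Functor.map_id,
          Category.id_comp]
      · apply IsZero.eq_of_tgt
        exact isZero_extend_X _ e j' (fun j hj' => hj ⟨j, hj'⟩)
    · apply IsZero.eq_of_src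
      exact (F.map_isZero (K.isZero_extend_X e i' (fun i hi' => hi ⟨i, hi'⟩))).of_iso
        (XIsoF F (K.extend e) i').symm)

lemma mapExtendIso_hom_naturality {K L : HomologicalComplex A c} (φ : K ⟶ L) :
    (F.mapHomologicalComplex c').map (extendMap φ e) ≫ (mapExtendIso F e L).hom =
      (mapExtendIso F e K).hom ≫ extendMap ((F.mapHomologicalComplex c).map φ) e := by
  ext i'
  by_cases hi : ∃ i, e.f i = i'
  · obtain ⟨i, hi⟩ := hi
    simp only [HomologicalComplex.comp_f, mapExtendIso, HomologicalComplex.Hom.isoOfComponents_hom_f,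
      Iso.trans_hom, Iso.symm_hom, mapExtendXIso_hom_eq F e K hi, mapExtendXIso_hom_eq F e L hi,
      extendMap_f _ e hi, map_f_eq, Functor.map_comp, Category.assoc, Iso.inv_hom_id_assoc,
      Iso.hom_inv_id_assoc]
    rw [← F.map_comp_assoc (L.extendXIso e hi).inv, Iso.inv_hom_id, CategoryTheory.Functor.map_id,
      Category.id_comp]
  · apply IsZero.eq_of_src
    exact (F.map_isZero (K.isZero_extend_X e i' (fun i hi' => hi ⟨i, hi'⟩))).of_iso
      (XIsoF F (K.extend e) i').symm

end MapExtend

section QI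

variable {A : Type u} {B : Type u'} [Category.{v} A] [Category.{v'} B] [Abelian A] [Abelian B]
  [HasInjectiveResolutions A] (F : A ⥤ B) [F.Additive] {ι ι' : Type*} {c : ComplexShape ι} {c' : ComplexShape ι'}
  (e : c.Embedding c')

omit [HasInjectiveResolutions A] in
lemma quasiIso_map_extendMap_iff {K L : HomologicalComplex A c} (φ : K ⟶ L) :
    QuasiIso ((F.mapHomologicalComplex c').map (extendMap φ e)) ↔
      QuasiIso ((F.mapHomologicalComplex c).map φ) := by
  rw [← quasiIso_extendMap_iff ((F.mapHomologicalComplex c).map φ) e]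
  exact quasiIso_iff_of_arrow_mk_iso _ _
    (Arrow.isoMk (mapExtendIso F e K) (mapExtendIso F e L)
      (mapExtendIso_hom_naturality F e φ).symm)

variable {X : A} (R : InjectiveResolution X)

omit [HasInjectiveResolutions A] in
lemma quasiIso_map_ι'_iff :
    QuasiIso ((F.mapHomologicalComplex (ComplexShape.up ℤ)).map R.ι') ↔
      QuasiIso ((F.mapHomologicalComplex (ComplexShape.up ℕ)).map R.ι) := by
  rw [← quasiIso_map_extendMap_iff F ComplexShape.embeddingUpNat R.ι]
  have h : (F.mapHomologicalComplex (ComplexShape.up ℤ)).map R.ι' =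
      (F.mapHomologicalComplex (ComplexShape.up ℤ)).map
        (HomologicalComplex.extendSingleIso ComplexShape.embeddingUpNat X 0 0 (by simp)).inv ≫
      (F.mapHomologicalComplex (ComplexShape.up ℤ)).map
        (extendMap R.ι ComplexShape.embeddingUpNat) := by
    rw [← Functor.map_comp]
    rfl
  rw [h]
  generalize (HomologicalComplex.extendSingleIso ComplexShape.embeddingUpNat X 0 0
    (by simp : ComplexShape.embeddingUpNat.f 0 = 0)) = α
  have : QuasiIso ((F.mapHomologicalComplex (ComplexShape.up ℤ)).map α.inv) := by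
    have : IsIso ((F.mapHomologicalComplex (ComplexShape.up ℤ)).map α.inv) := inferInstance
    infer_instance
  exact quasiIso_iff_comp_left (hφ := this) _ _

omit [HasInjectiveResolutions A] in
lemma quasiIsoAt_zero_iff :
    QuasiIsoAt ((F.mapHomologicalComplex (ComplexShape.up ℕ)).map R.ι) 0 ↔
      IsIso (R.toRightDerivedZero' F) := by
  rw [quasiIsoAt_iff]
  have h1 : (((F.mapHomologicalComplex (ComplexShape.up ℕ)).obj
      ((CochainComplex.single₀ A).obj X)).sc 0).f = 0 := by
    change ((F.mapHomologicalComplex (ComplexShape.up ℕ)).obj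
      ((CochainComplex.single₀ A).obj X)).d ((ComplexShape.up ℕ).prev 0) 0 = 0
    apply HomologicalComplex.shape
    rw [CochainComplex.prev_nat_zero]
    simp
  have h2 : (((F.mapHomologicalComplex (ComplexShape.up ℕ)).obj
      ((CochainComplex.single₀ A).obj X)).sc 0).g = 0 := by
    change F.map (((CochainComplex.single₀ A).obj X).d 0 _) = 0
    rw [HomologicalComplex.single_obj_d]
    exact F.map_zero _ _
  have h3 : (((F.mapHomologicalComplex (ComplexShape.up ℕ)).obj R.cocomplex).sc 0).f = 0 := by
    change ((F.mapHomologicalComplex (ComplexShape.up ℕ)).obj R.cocomplex).d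
      ((ComplexShape.up ℕ).prev 0) 0 = 0
    apply HomologicalComplex.shape
    rw [CochainComplex.prev_nat_zero]
    simp
  rw [ShortComplex.quasiIso_iff_isIso_liftCycles _ h1 h2 h3]
  rfl

lemma quasiIsoAt_succ_iff (k : ℕ) :
    QuasiIsoAt ((F.mapHomologicalComplex (ComplexShape.up ℕ)).map R.ι) (k + 1) ↔
      IsZero ((F.rightDerived (k + 1)).obj X) := by
  have h0 : ((F.mapHomologicalComplex (ComplexShape.up ℕ)).obj
      ((CochainComplex.single₀ A).obj X)).ExactAt (k + 1) := by
    apply ShortComplex.exact_of_isZero_X₂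
    exact F.map_isZero (isZero_single_obj_X _ _ _ _ (by simp))
  rw [quasiIsoAt_iff_exactAt _ _ h0, exactAt_iff_isZero_homology]
  exact ((R.isoRightDerivedObj F (k + 1)).isZero_iff).symm

lemma quasiIso_map_ι_iff :
    QuasiIso ((F.mapHomologicalComplex (ComplexShape.up ℕ)).map R.ι) ↔
      IsIso (R.toRightDerivedZero' F) ∧ ∀ k : ℕ, IsZero ((F.rightDerived (k + 1)).obj X) := by
  rw [quasiIso_iff]
  constructor
  · intro h
    exact ⟨(quasiIsoAt_zero_iff F R).1 (h 0), fun k => (quasiIsoAt_succ_iff F R k).1 (h (k + 1))⟩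
  · rintro ⟨h0, hs⟩ n
    cases n with
    | zero => exact (quasiIsoAt_zero_iff F R).2 h0
    | succ k => exact (quasiIsoAt_succ_iff F R k).2 (hs k)

end QI



section Unit

variable {A : Type u} {B : Type u'} [Category.{v} A] [Category.{v'} B] [Abelian A] [Abelian B]
  [HasDerivedCategory.{w} A] [HasDerivedCategory.{w'} B]

lemma isIso_plusQ_map_iff {K L : CochainComplex.Plus B} (g : K ⟶ L) :
    IsIso (DerivedCategory.Plus.Q.map g) ↔ QuasiIso g.hom := by
  rw [← isIso_iff_of_reflects_iso _ DerivedCategory.Plus.ι, ← DerivedCategory.isIso_Q_map_iff_quasiIso]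
  exact (MorphismProperty.isomorphisms (DerivedCategory B)).arrow_mk_iso_iff
    (Arrow.isoMk (RDPlus.eIso K) (RDPlus.eIso L) (RDPlus.eIso_naturality g).symm)

variable [EnoughInjectives A] (F : A ⥤ B) [F.Additive]

lemma unit_isIso_iff {K J : CochainComplex.Plus A} (i : K ⟶ J) (hi : QuasiIso i.hom)
    [∀ n, Injective (J.obj.X n)] :
    IsIso (F.rightDerivedFunctorPlusUnit.app ((HomotopyCategory.Plus.quotient A).obj K)) ↔
      QuasiIso ((F.mapHomologicalComplex (ComplexShape.up ℤ)).map i.hom) := by
  let u := F.rightDerivedFunctorPlusUnit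
  let q := (HomotopyCategory.Plus.quotient A).map i
  have nat := u.naturality q
  have h1 : IsIso (u.app ((HomotopyCategory.Plus.quotient A).obj J)) := inferInstance
  have h2 : IsIso (DerivedCategory.Plus.Qh.map q) := (isIso_plusQ_map_iff i).2 hi
  have h3 : IsIso ((DerivedCategory.Plus.Qh ⋙ F.rightDerivedFunctorPlus).map q) := by
    dsimp only [Functor.comp_map]
    infer_instance
  have h4 : IsIso ((F.mapHomotopyCategoryPlus ⋙ DerivedCategory.Plus.Qh).map q) ↔
      QuasiIso ((F.mapHomologicalComplex (ComplexShape.up ℤ)).map i.hom) :=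
    isIso_plusQ_map_iff (F.mapCochainComplexPlus.map i)
  rw [← h4]
  constructor
  · intro h
    have : (F.mapHomotopyCategoryPlus ⋙ DerivedCategory.Plus.Qh).map q =
        (u.app _ ≫ (DerivedCategory.Plus.Qh ⋙ F.rightDerivedFunctorPlus).map q) ≫
          inv (u.app ((HomotopyCategory.Plus.quotient A).obj J)) := by
      rw [← nat, Category.assoc, IsIso.hom_inv_id, Category.comp_id]
    rw [this]
    infer_instance
  · intro h
    have : u.app ((HomotopyCategory.Plus.quotient A).obj K) =
        ((F.mapHomotopyCategoryPlus ⋙ DerivedCategory.Plus.Qh).map q ≫ u.app _) ≫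
          inv ((DerivedCategory.Plus.Qh ⋙ F.rightDerivedFunctorPlus).map q) := by
      rw [nat, Category.assoc, IsIso.hom_inv_id, Category.comp_id]
    rw [this]
    infer_instance

end Unit

section QIAt

variable {A : Type u} {B : Type u'} [Category.{v} A] [Category.{v'} B] [Abelian A] [Abelian B]
  (F : A ⥤ B) [F.Additive] {ι ι' : Type*} {c : ComplexShape ι} {c' : ComplexShape ι'}
  (e : c.Embedding c')

lemma quasiIsoAt_iff_of_arrow_iso {K L K' L' : HomologicalComplex B c} (φ : K ⟶ L) (φ' : K' ⟶ L')
    (α : Arrow.mk φ ≅ Arrow.mk φ') (i : ι) : QuasiIsoAt φ i ↔ QuasiIsoAt φ' i := by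
  rw [quasiIsoAt_iff_isIso_homologyMap, quasiIsoAt_iff_isIso_homologyMap]
  exact (MorphismProperty.isomorphisms B).arrow_mk_iso_iff
    ((HomologicalComplex.homologyFunctor B c i).mapArrow.mapIso α)

lemma quasiIsoAt_map_extendMap_iff {K L : HomologicalComplex A c} (φ : K ⟶ L) {j : ι} {j' : ι'}
    (hj' : e.f j = j') :
    QuasiIsoAt ((F.mapHomologicalComplex c').map (extendMap φ e)) j' ↔
      QuasiIsoAt ((F.mapHomologicalComplex c).map φ) j := by
  rw [← quasiIsoAt_extendMap_iff ((F.mapHomologicalComplex c).map φ) e hj']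
  exact quasiIsoAt_iff_of_arrow_iso _ _
    (Arrow.isoMk (mapExtendIso F e K) (mapExtendIso F e L)
      (mapExtendIso_hom_naturality F e φ).symm) j'

variable {X : A} (R : InjectiveResolution X)

lemma quasiIsoAt_map_ι'_iff (k : ℕ) :
    QuasiIsoAt ((F.mapHomologicalComplex (ComplexShape.up ℤ)).map R.ι') (k : ℤ) ↔
      QuasiIsoAt ((F.mapHomologicalComplex (ComplexShape.up ℕ)).map R.ι) k := by
  rw [← quasiIsoAt_map_extendMap_iff F ComplexShape.embeddingUpNat R.ι
    (show ComplexShape.embeddingUpNat.f k = (k : ℤ) from rfl)]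
  have h : (F.mapHomologicalComplex (ComplexShape.up ℤ)).map R.ι' =
      (F.mapHomologicalComplex (ComplexShape.up ℤ)).map
        (HomologicalComplex.extendSingleIso ComplexShape.embeddingUpNat X 0 0 (by simp)).inv ≫
      (F.mapHomologicalComplex (ComplexShape.up ℤ)).map
        (extendMap R.ι ComplexShape.embeddingUpNat) := by
    rw [← Functor.map_comp]
    rfl
  rw [h]
  generalize (HomologicalComplex.extendSingleIso ComplexShape.embeddingUpNat X 0 0
    (by simp : ComplexShape.embeddingUpNat.f 0 = 0)) = α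
  have : QuasiIsoAt ((F.mapHomologicalComplex (ComplexShape.up ℤ)).map α.inv) (k : ℤ) := by
    have : IsIso ((F.mapHomologicalComplex (ComplexShape.up ℤ)).map α.inv) := inferInstance
    infer_instance
  exact quasiIsoAt_iff_comp_left (hφ := this) _ _ _

lemma quasiIsoAt_map_ι'_of_neg (n : ℤ) (hn : n < 0) :
    QuasiIsoAt ((F.mapHomologicalComplex (ComplexShape.up ℤ)).map R.ι') n := by
  have h0 : ((F.mapHomologicalComplex (ComplexShape.up ℤ)).obj
      ((CochainComplex.singleFunctor A 0).obj X)).ExactAt n := by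
    apply ShortComplex.exact_of_isZero_X₂
    exact F.map_isZero (isZero_single_obj_X _ _ _ _ (by lia))
  rw [quasiIsoAt_iff_exactAt _ _ h0]
  apply ShortComplex.exact_of_isZero_X₂
  exact F.map_isZero (CochainComplex.isZero_of_isStrictlyGE R.cochainComplex 0 n hn)

end QIAt

end Groth.Agent.Lib.Helper6.RDBridge
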