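import Groth.Agent.Lib.Helper1.ExtZeroExact
import Groth.Prelude.Def_ModSite2

/-!
# The unit `I ⟶ j_* j^* I` is a split epimorphism for `I` injective and `U` subterminal (helper6)
-/

set_option autoImplicit false
universe u
open CategoryTheory CategoryTheory.Limits Opposite

namespace Groth.Agent.Lib.Helper6.SubtermUnit

section Abstract

variable {𝒜 ℬ : Type*} [Category 𝒜] [Category ℬ] {L : ℬ ⥤ 𝒜} {R : 𝒜 ⥤ ℬ} {R' : ℬ ⥤ 𝒜}
  (adj₁ : L ⊣ R) (adj₂ : R ⊣ R')

/-- for an adjoint triple `L ⊣ R ⊣ R'` and an injective object `I` such that the counit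
`L R (R' R I) ⟶ R' R I` is a monomorphism, the unit `I ⟶ R' R I` has a section -/
lemma exists_section (I : 𝒜) [Injective I] [Mono (adj₁.counit.app (R'.obj (R.obj I)))] :
    ∃ ψ : R'.obj (R.obj I) ⟶ I, ψ ≫ adj₂.unit.app I = 𝟙 _ := by
  obtain ⟨c, hc⟩ : ∃ c : R.obj (R'.obj (R.obj I)) ⟶ R.obj I, c = adj₂.counit.app (R.obj I) :=
    ⟨_, rfl⟩
  obtain ⟨φ, hφ⟩ : ∃ φ : L.obj (R.obj (R'.obj (R.obj I))) ⟶ I,
    φ = L.map c ≫ adj₁.counit.app I := ⟨_, rfl⟩
  refine ⟨Injective.factorThru φ (adj₁.counit.app (R'.obj (R.obj I))), ?_⟩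
  have h1 : adj₁.counit.app (R'.obj (R.obj I)) ≫
      Injective.factorThru φ (adj₁.counit.app (R'.obj (R.obj I))) = φ :=
    Injective.comp_factorThru _ _
  have h2 : R.map (Injective.factorThru φ (adj₁.counit.app (R'.obj (R.obj I)))) = c := by
    have h3 := congrArg (fun f => adj₁.unit.app _ ≫ R.map f) h1
    simp only [Functor.map_comp] at h3
    rw [adj₁.right_triangle_components_assoc] at h3
    rw [h3]
    rw [hφ, Functor.map_comp]
    refine (adj₁.unit_naturality_assoc c _).trans ?_
    rw [adj₁.right_triangle_components]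
    exact Category.comp_id _
  apply (adj₂.homEquiv _ _).symm.injective
  rw [Adjunction.homEquiv_counit, Adjunction.homEquiv_counit, Functor.map_comp, Category.assoc,
    adj₂.left_triangle_components, Category.comp_id, h2, CategoryTheory.Functor.map_id,
    Category.id_comp, hc]

end Abstract

section Concrete

open Groth.Agent.Lib.Helper1.Shriek Groth.Agent.Lib.Helper1.ShriekSheaf

variable {C : Type u} [SmallCategory C]

section Presheaf

variable {R : Cᵒᵖ ⥤ RingCat.{u}} {X : C} (hX : ∀ V : C, Subsingleton (V ⟶ X))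

lemma shriekAdj_counit_app (Q : PresheafOfModules.{u} R) :
    (shriekAdj (R := R) (X := X)).counit.app Q = homEquivInvFun (𝟙 _) := rfl

include hX in
open Classical in
/-- on presheaves, the counit of extension by zero along a subterminal object is a monomorphism -/
lemma mono_shriekAdj_counit_app (Q : PresheafOfModules.{u} R) :
    Mono ((shriekAdj (R := R) (X := X)).counit.app Q) := by
  rw [shriekAdj_counit_app]
  refine PresheafOfModules.mono_of_injective (fun V => ?_)
  have key : ∀ (t : Sec ((restrP (X := X)).obj Q) V.unop) (φ : V.unop ⟶ X),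
      t = DirectSum.of (fun ψ : V.unop ⟶ X => summand ((restrP (X := X)).obj Q) ψ) φ (t φ) := by
    intro t φ
    refine DFinsupp.ext (fun ψ => ?_)
    haveI := hX V.unop
    obtain rfl : ψ = φ := Subsingleton.elim _ _
    exact (DirectSum.of_eq_same _ _).symm
  intro s s' h
  by_cases hne : Nonempty (V.unop ⟶ X)
  · obtain ⟨φ⟩ := hne
    have h' : homEquivInvApp (𝟙 ((restrP (X := X)).obj Q)) V.unop s =
      homEquivInvApp (𝟙 ((restrP (X := X)).obj Q)) V.unop s' := h
    have hs : (s : Sec ((restrP (X := X)).obj Q) V.unop) = _ := key s φ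
    have hs' : (s' : Sec ((restrP (X := X)).obj Q) V.unop) = _ := key s' φ
    rw [hs, hs'] at h'
    rw [homEquivInvApp_of, homEquivInvApp_of] at h'
    refine hs.trans (Eq.trans ?_ hs'.symm)
    exact congrArg _ h'
  · haveI : IsEmpty (V.unop ⟶ X) := not_nonempty_iff.1 hne
    exact DFinsupp.ext (fun ψ => isEmptyElim ψ)

end Presheaf

section Sheaf

variable {J : GrothendieckTopology C} (A : Sheaf J RingCat.{u}) (X : C)
  (hX : ∀ V : C, Subsingleton (V ⟶ X))

include hX in
/-- the counit of the explicit extension by zero along a subterminal object is a monomorphism -/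
lemma mono_adj'_counit_app (M : SheafOfModules.{u} A) : Mono ((adj' A X).counit.app M) := by
  have h := Adjunction.map_restrictFullyFaithful_counit_app
    ((shriekAdj (R := A.obj) (X := X)).comp (adjShf A)) (iC := inclX A X) (iD := 𝟭 _)
    (SheafOfModules.fullyFaithfulForget (A.over X)) (Functor.FullyFaithful.id _)
    (Functor.rightUnitor _).symm (comm2 A X) M
  have h' : (adj' A X).counit.app M = _ := h
  rw [h']
  haveI : Mono (((shriekAdj (R := A.obj) (X := X)).comp (adjShf A)).counit.app M) := by
    rw [Adjunction.comp_counit_app]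
    haveI := mono_shriekAdj_counit_app hX ((incl A).obj M)
    haveI : Mono ((shf A).map ((shriekAdj (R := A.obj) (X := X)).counit.app ((incl A).obj M))) :=
      inferInstance
    haveI : IsIso ((adjShf A).counit.app M) := inferInstance
    exact mono_comp _ _
  have i1 : IsIso ((shriek (R := A.obj) (X := X) ⋙ shf A).map ((comm2 A X).inv.app M)) :=
    inferInstance
  have i2 : IsIso ((inclX A X ⋙ shriek (R := A.obj) (X := X) ⋙ shf A).rightUnitor.symm.inv.app
    ((SheafOfModules.overFunctor A X).obj M)) := inferInstance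
  exact @mono_comp _ _ _ _ _ _ (@IsIso.mono_of_iso _ _ _ _ _ i2) _
    (@mono_comp _ _ _ _ _ _ (@IsIso.mono_of_iso _ _ _ _ _ i1) _ this)

end Sheaf

section ModSite

open Groth.Agent.Lib.Helper1.ShriekProj

variable {J : GrothendieckTopology C} (O : Sheaf J CommRingCat.{u}) (U : C)
  (hU : ∀ V : C, Subsingleton (V ⟶ U))

include hU in
/-- for `U` subterminal, the counit `j_! j^* M ⟶ M` is a monomorphism -/
lemma mono_extZeroAdj_counit_app (M : ModSite.Mod O) :
    Mono ((ModSite.extZeroAdj O U).counit.app M) := by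
  rw [← Adjunction.leftAdjointUniq_hom_app_counit (ModSite.extZeroAdj O U) (ezAdj' O U) M]
  have i1 : Mono ((ezAdj' O U).counit.app M) := mono_adj'_counit_app (ModSite.ringSh O) U hU M
  exact @mono_comp _ _ _ _ _ _ inferInstance _ i1

include hU in
/-- for `U` subterminal and `I` injective, the unit `I ⟶ j_* j^* I` is an epimorphism -/
lemma epi_unit_app_of_injective [ModSite.HasPushOver O U] (I : ModSite.Mod O) [Injective I] :
    Epi ((ModSite.restrPushOverAdj O U).unit.app I) := by
  haveI := mono_extZeroAdj_counit_app O U hU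
    ((ModSite.pushOver O U).obj ((ModSite.restr O U).obj I))
  obtain ⟨ψ, hψ⟩ := exists_section (ModSite.extZeroAdj O U) (ModSite.restrPushOverAdj O U) I
  exact (SplitEpi.mk ψ hψ).epi

end ModSite

end Concrete

end Groth.Agent.Lib.Helper6.SubtermUnit
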