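import Groth.Agent.Lib.Helper23.ProjF.ProjMap
import Groth.Agent.Lib.Helper28.DualMod
import Groth.Prelude.Def_DCoh4
import Mathlib

/-!
# The tensor-hom adjunction `E ⊗ - ⊣ Hom(E, -)` for modules on a scheme (helper6)

The concrete sheaf of homomorphisms `HomMod.homMod E P` (helper28) is the right adjoint of `E ⊗ -`.
Hence `DCoh.HasSheafHom E` holds for every module, and `DCoh.sheafHom E` is `homMod E -`.
-/

set_option autoImplicit false
set_option linter.style.haveILetI false
set_option linter.unusedSectionVars false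
set_option backward.isDefEq.respectTransparency.types false
universe u
open CategoryTheory CategoryTheory.Limits AlgebraicGeometry Opposite TopologicalSpace MonoidalCategory
noncomputable section

namespace Groth.Agent.Lib.Helper6.HomAdj

open Groth.Agent.Lib.Helper28 Groth.Agent.Lib.Helper28.QCohLoc Groth.Agent.Lib.Helper28.TensorGen
  Groth.Agent.Lib.Helper28.TensorIso Groth.Agent.Lib.Helper28.HomMod Groth.Agent.Lib.Helper23.ProjF
  Groth.Agent.Lib.Helper2.GSplit2

variable {X : Scheme.{u}}

/-- a morphism of modules from its maps on sections -/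
def mkHom (F G : X.Modules) (φ : ∀ W : X.Opens, Γ(F, W) → Γ(G, W))
    (hadd : ∀ (W : X.Opens) (x y : Γ(F, W)), φ W (x + y) = φ W x + φ W y)
    (hsmul : ∀ (W : X.Opens) (a : Γ(X, W)) (x : Γ(F, W)), φ W (a • x) = a • φ W x)
    (hres : ∀ (W W' : X.Opens) (h : W' ≤ W) (x : Γ(F, W)), φ W' (res F h x) = res G h (φ W x)) :
    F ⟶ G :=
  ⟨PresheafOfModules.homMk
    { app := fun U => AddCommGrpCat.ofHom (AddMonoidHom.mk' (φ U.unop) (hadd U.unop))
      naturality := fun U V f => by
        ext x
        exact hres U.unop V.unop (leOfHom f.unop) x }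
    fun U a x => hsmul U.unop a x⟩

theorem mkHom_app (F G : X.Modules) (φ : ∀ W : X.Opens, Γ(F, W) → Γ(G, W))
    (hadd : ∀ (W : X.Opens) (x y : Γ(F, W)), φ W (x + y) = φ W x + φ W y)
    (hsmul : ∀ (W : X.Opens) (a : Γ(X, W)) (x : Γ(F, W)), φ W (a • x) = a • φ W x)
    (hres : ∀ (W W' : X.Opens) (h : W' ≤ W) (x : Γ(F, W)), φ W' (res F h x) = res G h (φ W x))
    (W : X.Opens) (x : Γ(F, W)) : (mkHom F G φ hadd hsmul hres).app W x = φ W x := rfl

theorem app_smul' {F G : X.Modules} (ψ : F ⟶ G) {W : X.Opens} (a : Γ(X, W)) (x : Γ(F, W)) :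
    ψ.app W (a • x) = a • ψ.app W x := Scheme.Modules.Hom.app_smul ψ a x

theorem app_add' {F G : X.Modules} (ψ : F ⟶ G) {W : X.Opens} (x y : Γ(F, W)) :
    ψ.app W (x + y) = ψ.app W x + ψ.app W y := map_add _ x y

variable (E : X.Modules)

/-- post-composition on sections of the sheaf Hom -/
def postSec {P P' : X.Modules} (ψ : P ⟶ P') {V : X.Opens} (s : Γ(homMod E P, V)) : Γ(homMod E P', V) :=
  mkSec (fun W h x => ψ.app W (ev s h x))
    (fun W h x y => by rw [ev_add, app_add'])
    (fun W h a x => by rw [ev_smul, app_smul'])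
    (fun W W' h h' x => by rw [ev_res, app_res])

theorem ev_postSec {P P' : X.Modules} (ψ : P ⟶ P') {V : X.Opens} (s : Γ(homMod E P, V))
    {W : X.Opens} (h : W ≤ V) (x : Γ(E, W)) : ev (postSec E ψ s) h x = ψ.app W (ev s h x) := rfl

/-- `Hom(E, -)` on morphisms -/
def homModMap {P P' : X.Modules} (ψ : P ⟶ P') : homMod E P ⟶ homMod E P' :=
  mkHom _ _ (fun V s => postSec E ψ s)
    (fun V s t => by
      refine ext_ev _ _ fun W hW x => ?_
      rw [add_ev, ev_postSec, ev_postSec, ev_postSec, add_ev, app_add'])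
    (fun V a s => by
      refine ext_ev _ _ fun W hW x => ?_
      rw [smul_ev, ev_postSec, ev_postSec, smul_ev, app_smul'])
    (fun V V' h s => by
      refine ext_ev _ _ fun W hW x => ?_
      rw [res_ev, ev_postSec, ev_postSec, res_ev])

theorem ev_homModMap {P P' : X.Modules} (ψ : P ⟶ P') {V : X.Opens} (s : Γ(homMod E P, V))
    {W : X.Opens} (h : W ≤ V) (x : Γ(E, W)) :
    ev ((homModMap E ψ).app V s) h x = ψ.app W (ev s h x) := rfl

/-- the functor `Hom(E, -)` -/
def homModF : X.Modules ⥤ X.Modules where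
  obj P := homMod E P
  map ψ := homModMap E ψ
  map_id P := by
    apply Scheme.Modules.hom_ext
    intro V
    ext s
    exact ext_ev _ _ fun W hW x => rfl
  map_comp ψ ψ' := by
    apply Scheme.Modules.hom_ext
    intro V
    ext s
    exact ext_ev _ _ fun W hW x => rfl

variable {E} {N P : X.Modules}

/-- currying -/
def currySec (β : CohB1.tensorMod E N ⟶ P) {V : X.Opens} (ν : Γ(N, V)) : Γ(homMod E P, V) :=
  mkSec (fun W h x => β.app W (tmulSec E N x (res N h ν)))
    (fun W h x y => by rw [tmulSec_add_left, app_add'])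
    (fun W h a x => by rw [tmulSec_smul_left, app_smul'])
    (fun W W' h h' x => by rw [← app_res, tmulSec_res, res_res])

theorem ev_currySec (β : CohB1.tensorMod E N ⟶ P) {V : X.Opens} (ν : Γ(N, V))
    {W : X.Opens} (h : W ≤ V) (x : Γ(E, W)) :
    ev (currySec β ν) h x = β.app W (tmulSec E N x (res N h ν)) := rfl

/-- `(E ⊗ N ⟶ P) → (N ⟶ Hom(E, P))` -/
def curry (β : CohB1.tensorMod E N ⟶ P) : N ⟶ homMod E P :=
  mkHom _ _ (fun V ν => currySec β ν)
    (fun V ν ν' => by
      refine ext_ev _ _ fun W hW x => ?_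
      rw [add_ev, ev_currySec, ev_currySec, ev_currySec, res_add, tmulSec_add_right, app_add'])
    (fun V a ν => by
      refine ext_ev _ _ fun W hW x => ?_
      rw [smul_ev, ev_currySec, ev_currySec, res_smul, tmulSec_smul_right, app_smul'])
    (fun V V' h ν => by
      refine ext_ev _ _ fun W hW x => ?_
      rw [res_ev, ev_currySec, ev_currySec, res_res])

theorem ev_curry (β : CohB1.tensorMod E N ⟶ P) {V : X.Opens} (ν : Γ(N, V))
    {W : X.Opens} (h : W ≤ V) (x : Γ(E, W)) :
    ev ((curry β).app V ν) h x = β.app W (tmulSec E N x (res N h ν)) := rfl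

/-- `(N ⟶ Hom(E, P)) → (E ⊗ N ⟶ P)` -/
def uncurry (φ : N ⟶ homMod E P) : CohB1.tensorMod E N ⟶ P :=
  TensorIso.lift _ _ (tensorDesc E N P (fun W x ν => ev (φ.app W ν) le_rfl x)
    (fun W x x' ν => ev_add _ _ _ _)
    (fun W x ν ν' => by rw [app_add', add_ev])
    (fun W a x ν => ev_smul _ _ _ _)
    (fun W a x ν => by
      rw [app_smul', smul_ev]
      congr 1
      exact resO_self a)
    (fun W W' h x ν => by
      rw [app_res, res_ev]
      exact ev_res (φ.app W ν) le_rfl h x))

theorem uncurry_tmulSec (φ : N ⟶ homMod E P) {W : X.Opens} (x : Γ(E, W)) (ν : Γ(N, W)) :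
    (uncurry φ).app W (tmulSec E N x ν) = ev (φ.app W ν) le_rfl x := by
  unfold uncurry tmulSec ηT
  exact AmpleH1.lift_app_unit _ _ _ W (ptmul E N x ν)

theorem uncurry_curry (β : CohB1.tensorMod E N ⟶ P) : uncurry (curry β) = β := by
  apply tensorMod_hom_ext
  intro W x ν
  rw [uncurry_tmulSec, ev_curry, res_self]

theorem curry_uncurry (φ : N ⟶ homMod E P) : curry (uncurry φ) = φ := by
  apply Scheme.Modules.hom_ext
  intro V
  ext ν
  refine ext_ev _ _ fun W hW x => ?_
  rw [ev_curry, uncurry_tmulSec, app_res, res_ev]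

/-- the hom-set equivalence -/
def homEquiv (E N P : X.Modules) : (CohB1.tensorMod E N ⟶ P) ≃ (N ⟶ homMod E P) where
  toFun := curry
  invFun := uncurry
  left_inv := uncurry_curry
  right_inv := curry_uncurry

/-- **the tensor-hom adjunction** -/
def adj (E : X.Modules) : TL E ⊣ homModF E :=
  Adjunction.mkOfHomEquiv
    { homEquiv := fun N P => homEquiv E N P
      homEquiv_naturality_left_symm := by
        intro N' N P f g
        apply tensorMod_hom_ext
        intro W x ν
        change (uncurry (f ≫ g)).app W _ = (uncurry g).app W (((TL E).map f).app W _)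
        rw [TL_map_tmulSec, uncurry_tmulSec, uncurry_tmulSec]
        rfl
      homEquiv_naturality_right := by
        intro N P P' f g
        apply Scheme.Modules.hom_ext
        intro V
        ext ν
        refine ext_ev _ _ fun W hW x => ?_
        rfl }

instance hasSheafHom (E : X.Modules) : DCoh.HasSheafHom E := (adj E).isLeftAdjoint

/-- **the abstract sheaf Hom is the concrete one** -/
def sheafHomIso (E : X.Modules) : DCoh.sheafHom E ≅ homModF E :=
  (DCoh.sheafHomAdj E).rightAdjointUniq (adj E)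

/-- the same, for any instance of the existence hypothesis -/
theorem nonempty_sheafHom_iso (E P : X.Modules) [h : DCoh.HasSheafHom E] :
    Nonempty ((DCoh.sheafHom E).obj P ≅ homMod E P) :=
  ⟨((DCoh.sheafHomAdj E).rightAdjointUniq (adj E)).app P⟩

end Groth.Agent.Lib.Helper6.HomAdj
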