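import Groth.Agent.Lib.Helper6.CechFamRes
import Groth.Prelude.Def_CohTop

/-!
# Čech complexes along a functor to a thin category; opens of a space versus the slice site (helper6)
-/

universe u

set_option linter.unusedSectionVars false

open CategoryTheory Limits Opposite Simplicial AlgebraicTopology Abelian

namespace Groth.Agent.Lib.Helper6.CechFamThin

lemma aux {𝒞 : Type*} [Category 𝒞] {TYn TYm TWn TWm Zb Zbf Zb' Zbf' : 𝒞} (Af : TYn ⟶ TYm)
    (A'f : TWn ⟶ TWm) (Mn : TYn ⟶ TWn) (Mm : TYm ⟶ TWm) (pYm : TYm ⟶ Zb) (pWm : TWm ⟶ Zb')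
    (pYn : TYn ⟶ Zbf) (pWn : TWn ⟶ Zbf') (u : Zbf ⟶ Zb) (u' : Zbf' ⟶ Zb') (v : Zb ⟶ Zb')
    (v' : Zbf ⟶ Zbf') (hA : Af ≫ pYm = pYn ≫ u) (hA' : A'f ≫ pWm = pWn ≫ u')
    (hMm : Mm ≫ pWm = pYm ≫ v) (hMn : Mn ≫ pWn = pYn ≫ v') (h : u ≫ v = v' ≫ u') :
    (Af ≫ Mm) ≫ pWm = (Mn ≫ A'f) ≫ pWm := by
  rw [Category.assoc, hMm, reassoc_of% hA, Category.assoc, hA', reassoc_of% hMn, h]

section Thin

variable {D D' : Type u} [SmallCategory D] [SmallCategory D'] [HasFiniteProducts D]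
  [HasFiniteProducts D'] [Quiver.IsThin D']
  (π : D ⥤ D') {κ : Type u} (Y : κ → D) (W : κ → D')
  (e : ∀ (n : SimplexCategory) (a : ToType n → κ), π.obj (∏ᶜ (Y ∘ a)) ≅ ∏ᶜ (W ∘ a))
  (P : D'ᵒᵖ ⥤ AddCommGrpCat.{u})

/-- comparison of Čech cosimplicial groups along a functor to a thin category -/
noncomputable def cosimpIsoThin :
    ((FormalCoproduct.mk _ Y).cech.rightOp ⋙
      (FormalCoproduct.evalOp.{u} D AddCommGrpCat.{u}).obj (π.op ⋙ P) : SimplexCategory ⥤ _) ≅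
    ((FormalCoproduct.mk _ W).cech.rightOp ⋙
      (FormalCoproduct.evalOp.{u} D' AddCommGrpCat.{u}).obj P : SimplexCategory ⥤ _) :=
  NatIso.ofComponents
    (fun n => Limits.Pi.mapIso (fun a : ToType n → κ => P.mapIso (e n a).op.symm)) (by
      intro n m f
      apply Limits.Pi.hom_ext
      intro b
      have hA : ((FormalCoproduct.mk _ Y).cech.rightOp ⋙
          (FormalCoproduct.evalOp.{u} D AddCommGrpCat.{u}).obj (π.op ⋙ P)).map f ≫ Pi.π _ b =
          Pi.π _ (b ∘ f.toOrderHom) ≫ (π.op ⋙ P).map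
            (Pi.lift (fun k => Pi.π (Y ∘ b) (f.toOrderHom k)) : ∏ᶜ (Y ∘ b) ⟶ ∏ᶜ (Y ∘ b ∘ f.toOrderHom)).op :=
        Limits.Pi.lift_π _ _
      have hA' : ((FormalCoproduct.mk _ W).cech.rightOp ⋙
          (FormalCoproduct.evalOp.{u} D' AddCommGrpCat.{u}).obj P).map f ≫ Pi.π _ b =
          Pi.π _ (b ∘ f.toOrderHom) ≫ P.map
            (Pi.lift (fun k => Pi.π (W ∘ b) (f.toOrderHom k)) : ∏ᶜ (W ∘ b) ⟶ ∏ᶜ (W ∘ b ∘ f.toOrderHom)).op :=
        Limits.Pi.lift_π _ _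
      have hM : ∀ (k : SimplexCategory) (c : ToType k → κ),
          (Pi.mapIso fun a : ToType k → κ => P.mapIso (e k a).op.symm).hom ≫ Pi.π _ c =
            Pi.π _ c ≫ P.map (e k c).inv.op := fun k c =>
        Limits.Pi.map_π (fun a : ToType k → κ => (P.mapIso (e k a).op.symm).hom) c
      refine aux _ _ _ _ _ _ _ _ _ _ _ _ hA hA' (hM m b) (hM n (b ∘ f.toOrderHom)) ?_
      change P.map (π.map _).op ≫ P.map _ = P.map _ ≫ P.map _
      rw [← P.map_comp, ← P.map_comp]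
      congr 1
      exact Quiver.Hom.unop_inj (Subsingleton.elim _ _))

/-- comparison of Čech complexes along a functor to a thin category -/
noncomputable def cxIsoThin :
    (cechComplexFunctor Y).obj (π.op ⋙ P) ≅ (cechComplexFunctor W).obj P :=
  (alternatingCofaceMapComplex AddCommGrpCat.{u}).mapIso (cosimpIsoThin π Y W e P)

end Thin

section Opens

open TopologicalSpace

variable {X : TopCat.{u}} (U₀ : Opens X) {κ : Type u}

/-- fibre products over `U₀` of opens contained in `U₀` are intersections -/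
noncomputable def eO' (Y : κ → Over U₀) (n : SimplexCategory) (a : ToType n → κ) :
    (Over.forget U₀).obj (∏ᶜ (Y ∘ a)) ≅ ∏ᶜ ((fun k => (Y k).left) ∘ a) where
  hom := Pi.lift (fun k => (Pi.π (Y ∘ a) k).left)
  inv := (Pi.lift (fun k => (Over.homMk (Pi.π ((fun k => (Y k).left) ∘ a) k) (Subsingleton.elim _ _) :
      Over.mk (Pi.π ((fun k => (Y k).left) ∘ a) (0 : Fin (n.len + 1)) ≫
        (Y (a (0 : Fin (n.len + 1)))).hom) ⟶ (Y ∘ a) k)) :
    Over.mk (Pi.π ((fun k => (Y k).left) ∘ a) (0 : Fin (n.len + 1)) ≫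
        (Y (a (0 : Fin (n.len + 1)))).hom) ⟶ ∏ᶜ (Y ∘ a)).left
  hom_inv_id := Subsingleton.elim _ _
  inv_hom_id := Subsingleton.elim _ _

/-- Čech cohomology of a family of opens, computed in `Opens X` or in `Over U₀` -/
noncomputable def cechHIso' (Y : κ → Over U₀) (P : (Opens X)ᵒᵖ ⥤ AddCommGrpCat.{u}) (p : ℕ) :
    CohCx.cechH P Y p ≅ CohTop.cechH P (fun k => (Y k).left) p :=
  (HomologicalComplex.homologyFunctor _ _ p).mapIso
    (cxIsoThin (Over.forget U₀) Y (fun k => (Y k).left) (eO' U₀ Y) P)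

variable (W : κ → Opens X) (hW : ∀ k, W k ≤ U₀)

/-- the family of objects over `U₀` -/
abbrev YO (k : κ) : Over U₀ := Over.mk (homOfLE (hW k))

/-- Čech cohomology of a family of opens, computed in `Opens X` or in `Over U₀` -/
noncomputable def cechHIso (P : (Opens X)ᵒᵖ ⥤ AddCommGrpCat.{u}) (p : ℕ) :
    CohCx.cechH P (YO U₀ W hW) p ≅ CohTop.cechH P W p :=
  cechHIso' U₀ (YO U₀ W hW) P p

end Opens

end Groth.Agent.Lib.Helper6.CechFamThin
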