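import Groth.Agent.Lib.Helper6.RpushNatIso
import Mathlib.CategoryTheory.Preadditive.Injective.Preserves

/-!
# Right derived functors of `Ψ ⋙ F` for `Ψ` exact and preserving injectives (helper6)
-/

universe v v' v'' u u' u''

open CategoryTheory Limits

namespace Groth.Agent.Lib.Helper6.RDCompExact

variable {𝒜' : Type u''} [Category.{v''} 𝒜'] [Abelian 𝒜']
  {𝒜 : Type u} [Category.{v} 𝒜] [Abelian 𝒜] {ℬ : Type u'} [Category.{v'} ℬ] [Abelian ℬ]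
  (Ψ : 𝒜' ⥤ 𝒜) [Ψ.Additive] [PreservesFiniteLimits Ψ] [PreservesFiniteColimits Ψ]

/-- precomposition of a δ-functor with an exact functor -/
def precomp (T : DeltaF.CohDeltaFunctor 𝒜 ℬ ℕ) : DeltaF.CohDeltaFunctor 𝒜' ℬ ℕ where
  F n := Ψ ⋙ T.F n
  additive n := inferInstance
  δ S hS n₀ n₁ h := T.δ (S.map Ψ) (hS.map_of_exact Ψ) n₀ n₁ h
  δ_natural hS hS' φ n₀ n₁ h :=
    T.δ_natural (hS.map_of_exact Ψ) (hS'.map_of_exact Ψ) (Ψ.mapShortComplex.map φ) n₀ n₁ h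
  exact₂ S hS n := T.exact₂ (S.map Ψ) (hS.map_of_exact Ψ) n
  comp_δ S hS n₀ n₁ h := T.comp_δ (S.map Ψ) (hS.map_of_exact Ψ) n₀ n₁ h
  exact₃ S hS n₀ n₁ h := T.exact₃ (S.map Ψ) (hS.map_of_exact Ψ) n₀ n₁ h
  δ_comp S hS n₀ n₁ h := T.δ_comp (S.map Ψ) (hS.map_of_exact Ψ) n₀ n₁ h
  exact₁ S hS n₀ n₁ h := T.exact₁ (S.map Ψ) (hS.map_of_exact Ψ) n₀ n₁ h

variable [EnoughInjectives 𝒜'] [EnoughInjectives 𝒜] [Ψ.PreservesInjectiveObjects]

/-- `R^n(Ψ ⋙ F) ≅ Ψ ⋙ R^n F` for `Ψ` exact and preserving injectives, `F` left exact -/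
theorem nonempty_rightDerived_comp_iso (F : 𝒜 ⥤ ℬ) [F.Additive] [PreservesFiniteLimits F]
    (n : ℕ) : Nonempty ((Ψ ⋙ F).rightDerived n ≅ Ψ ⋙ F.rightDerived n) := by
  obtain ⟨Δ⟩ := Groth.Agent.S16463.result F
  refine RpushNatIso.nonempty_iso_of_effaceable (Ψ ⋙ F) (precomp Ψ Δ.toCohDeltaFunctor) ?_ ?_ n
  · intro k X
    refine ⟨Injective.under X, Injective.ι X, inferInstance, ?_⟩
    haveI : Injective (Ψ.obj (Injective.under X)) := Ψ.injective_obj _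
    exact (Functor.isZero_rightDerived_obj_injective_succ F k
      (Ψ.obj (Injective.under X))).eq_of_tgt _ _
  · exact Functor.rightDerivedZeroIsoSelf (Ψ ⋙ F) ≪≫
      Functor.isoWhiskerLeft Ψ (Functor.rightDerivedZeroIsoSelf F).symm

end Groth.Agent.Lib.Helper6.RDCompExact
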