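import Groth.Agent.Lib.Helper6.SectOnEpi
import Groth.Agent.Lib.Helper6.RDCompExact
import Groth.Agent.Lib.lead.SheafModRestrict

/-!
# `ℋ^q_Z` commutes with restriction of scalars on a ringed site (helper6)
-/

set_option autoImplicit false
universe v v' v'' u u' u''
open CategoryTheory CategoryTheory.Limits Opposite

namespace Groth.Agent.Lib.Helper6.HZshRestrict

section Postcomp

variable {𝒜 : Type u} [Category.{v} 𝒜] [Abelian 𝒜] {ℬ : Type u'} [Category.{v'} ℬ] [Abelian ℬ]
  {𝒞 : Type u''} [Category.{v''} 𝒞] [Abelian 𝒞]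
  (G : ℬ ⥤ 𝒞) [G.Additive] [PreservesFiniteLimits G] [PreservesFiniteColimits G]

/-- postcomposition of a δ-functor with an exact functor -/
def postcomp (T : DeltaF.CohDeltaFunctor 𝒜 ℬ ℕ) : DeltaF.CohDeltaFunctor 𝒜 𝒞 ℕ where
  F n := T.F n ⋙ G
  additive n := inferInstance
  δ S hS n₀ n₁ h := G.map (T.δ S hS n₀ n₁ h)
  δ_natural hS hS' φ n₀ n₁ h := by
    dsimp only [Functor.comp_map]
    rw [← G.map_comp, ← G.map_comp, T.δ_natural hS hS' φ n₀ n₁ h]
  exact₂ S hS n := (T.exact₂ S hS n).map G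
  comp_δ S hS n₀ n₁ h := by
    dsimp only [Functor.comp_map]
    rw [← G.map_comp, T.comp_δ S hS n₀ n₁ h, G.map_zero]
  exact₃ S hS n₀ n₁ h := (T.exact₃ S hS n₀ n₁ h).map G
  δ_comp S hS n₀ n₁ h := by
    dsimp only [Functor.comp_map]
    rw [← G.map_comp, T.δ_comp S hS n₀ n₁ h, G.map_zero]
  exact₁ S hS n₀ n₁ h := (T.exact₁ S hS n₀ n₁ h).map G

variable [EnoughInjectives 𝒜]

/-- `R^n(F ⋙ G) ≅ R^n F ⋙ G` for `G` exact, `F` left exact -/
theorem nonempty_rightDerived_postcomp_iso (F : 𝒜 ⥤ ℬ) [F.Additive] [PreservesFiniteLimits F]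
    (n : ℕ) : Nonempty ((F ⋙ G).rightDerived n ≅ F.rightDerived n ⋙ G) := by
  obtain ⟨Δ⟩ := Groth.Agent.S16463.result F
  refine RpushNatIso.nonempty_iso_of_effaceable (F ⋙ G) (postcomp G Δ.toCohDeltaFunctor) ?_ ?_ n
  · intro k X
    refine ⟨Injective.under X, Injective.ι X, inferInstance, ?_⟩
    exact (G.map_isZero (Functor.isZero_rightDerived_obj_injective_succ F k
      (Injective.under X))).eq_of_tgt _ _
  · exact Functor.rightDerivedZeroIsoSelf (F ⋙ G) ≪≫
      Functor.isoWhiskerRight (Functor.rightDerivedZeroIsoSelf F).symm G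

end Postcomp

section Deg0
open Groth.Agent.Lib.Helper1
variable {C : Type u} [SmallCategory C] {J : GrothendieckTopology C}

/-- vanishing on `U` in terms of sections -/
lemma restr_map_eq_zero_iff (O : Sheaf J CommRingCat.{u}) (U : C) {M N : ModSite.Mod O}
    (ψ : M ⟶ N) :
    (ModSite.restr O U).map ψ = 0 ↔
      ∀ (W : C) (_ : W ⟶ U) (x : M.val.obj (op W)), ψ.val.app (op W) x = 0 := by
  constructor
  · intro h W k x
    exact congrArg (fun ψ' : (ModSite.restr O U).obj M ⟶ (ModSite.restr O U).obj N =>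
      (ψ'.val.app (op (Over.mk k))).hom x) h
  · intro h
    apply SheafOfModules.hom_ext
    apply PresheafOfModules.hom_ext
    intro Y
    ext y
    exact h Y.unop.left Y.unop.hom y

variable {O O' : Sheaf J CommRingCat.{u}} (φ : O ⟶ O') (U : C)

/-- the induced map of sheaves of rings -/
abbrev α : ModSite.ringSh O ⟶ ModSite.ringSh O' :=
  (sheafCompose J (forget₂ CommRingCat.{u} RingCat.{u})).map φ

/-- restriction of scalars -/
noncomputable abbrev res : ModSite.Mod O' ⥤ ModSite.Mod O :=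
  SheafOfModules.restrictScalars (α φ)

instance : PreservesFiniteLimits (res φ) :=
  haveI := (Groth.Agent.Lib.lead.SheafModRestrict.main (α φ)).1
  PreservesLimitsOfSize.preservesFiniteLimits.{u, u} (res φ)

instance : PreservesFiniteColimits (res φ) :=
  haveI := (Groth.Agent.Lib.lead.SheafModRestrict.main (α φ)).2.1
  PreservesColimitsOfSize.preservesFiniteColimits.{u, u} (res φ)

lemma restr_res_map_eq_zero_iff {M N : ModSite.Mod O'} (ψ : M ⟶ N) :
    (ModSite.restr O U).map ((res φ).map ψ) = 0 ↔ (ModSite.restr O' U).map ψ = 0 := by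
  rw [restr_map_eq_zero_iff, restr_map_eq_zero_iff]
  exact Iff.rfl

variable [ModSite.HasPushOver O U] [ModSite.HasPushOver O' U]

/-- the comparison `res(Γ_Z F') ⟶ Γ_Z(res F')` -/
noncomputable def j (F' : ModSite.Mod O') :
    (res φ).obj ((ModSite.sectOn O' U).obj F') ⟶ (ModSite.sectOn O U).obj ((res φ).obj F') :=
  QuotSect.liftS O U ((res φ).map ((ModSite.sectOnι O' U).app F'))
    ((restr_res_map_eq_zero_iff φ U _).2 (by
      have := QuotSect.restr_comp_ι O' U (𝟙 ((ModSite.sectOn O' U).obj F'))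
      rwa [Category.id_comp] at this))

@[reassoc (attr := simp)]
lemma j_ι (F' : ModSite.Mod O') :
    j φ U F' ≫ (ModSite.sectOnι O U).app ((res φ).obj F') =
      (res φ).map ((ModSite.sectOnι O' U).app F') :=
  QuotSect.liftS_ι O U _ _

instance mono_j (F' : ModSite.Mod O') : Mono (j φ U F') := by
  have : Mono ((res φ).map ((ModSite.sectOnι O' U).app F')) := inferInstance
  exact mono_of_mono_fac (j_ι φ U F')

lemma j_naturality {F' G' : ModSite.Mod O'} (g : F' ⟶ G') :
    (res φ).map ((ModSite.sectOn O' U).map g) ≫ j φ U G' =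
      j φ U F' ≫ (ModSite.sectOn O U).map ((res φ).map g) := by
  rw [← cancel_mono ((ModSite.sectOnι O U).app ((res φ).obj G')), Category.assoc, Category.assoc,
    j_ι]
  have nat : (ModSite.sectOn O U).map ((res φ).map g) ≫
      (ModSite.sectOnι O U).app ((res φ).obj G') =
      (ModSite.sectOnι O U).app ((res φ).obj F') ≫ (res φ).map g :=
    (ModSite.sectOnι O U).naturality ((res φ).map g)
  have nat' : (ModSite.sectOn O' U).map g ≫ (ModSite.sectOnι O' U).app G' =
      (ModSite.sectOnι O' U).app F' ≫ g := (ModSite.sectOnι O' U).naturality g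
  rw [nat, j_ι_assoc, ← Functor.map_comp, ← Functor.map_comp, nat']

instance epi_j (F' : ModSite.Mod O') : Epi (j φ U F') := by
  apply SectOnEpi.epi_of_forall_lift
  intro V b
  have hb0 : (ModSite.restr O U).map (b ≫ (ModSite.sectOnι O U).app ((res φ).obj F')) = 0 :=
    QuotSect.restr_comp_ι O U b
  -- the section of `b`, as a section of `F'`
  have hs : ∃ s' : F'.val.obj (op V),
      (∀ (W : C) (w : W ⟶ V), Nonempty (W ⟶ U) → F'.val.map w.op s' = 0) ∧
      ∀ t' : ((ModSite.sectOn O' U).obj F').val.obj (op V),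
        ((ModSite.sectOnι O' U).app F').val.app (op V) t' = s' →
        ((res φ).map ((ModSite.sectOnι O' U).app F')).val.app (op V) t' =
          ModSiteFree.homEquiv O V _ (b ≫ (ModSite.sectOnι O U).app ((res φ).obj F')) :=
    ⟨ModSiteFree.homEquiv O V _ (b ≫ (ModSite.sectOnι O U).app ((res φ).obj F')),
      fun W w hw => SectOnEpi.map_homEquiv_eq_zero O V U _ hb0 w hw, fun t' ht' => ht'⟩
  obtain ⟨s', hs', hs''⟩ := hs
  let a' : ModSite.freeOn O' V ⟶ F' := (ModSiteFree.homEquiv O' V F').symm s'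
  have ha' : (ModSite.restr O' U).map a' = 0 := by
    apply SectOnEpi.restr_eq_zero_of_vanish
    intro W w hw
    rw [Equiv.apply_symm_apply]
    exact hs' W w hw
  let l := QuotSect.liftS O' U a' ha'
  have hl : l ≫ (ModSite.sectOnι O' U).app F' = a' := QuotSect.liftS_ι O' U a' ha'
  let t' := ModSiteFree.homEquiv O' V _ l
  have ht' : ((ModSite.sectOnι O' U).app F').val.app (op V) t' = s' := by
    have := ModSiteFree.homEquiv_comp O' V l ((ModSite.sectOnι O' U).app F')
    rw [hl] at this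
    have h3 : ModSiteFree.homEquiv O' V F' a' = s' := Equiv.apply_symm_apply _ _
    exact this.symm.trans h3
  have hex : ∃ a : ModSite.freeOn O V ⟶ (res φ).obj ((ModSite.sectOn O' U).obj F'),
      ((res φ).map ((ModSite.sectOnι O' U).app F')).val.app (op V)
        (ModSiteFree.homEquiv O V _ a) =
      ModSiteFree.homEquiv O V _ (b ≫ (ModSite.sectOnι O U).app ((res φ).obj F')) :=
    ⟨(ModSiteFree.homEquiv O V ((res φ).obj ((ModSite.sectOn O' U).obj F'))).symm t', by
      have key : ∀ t : ((res φ).obj ((ModSite.sectOn O' U).obj F')).val.obj (op V),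
          ModSiteFree.homEquiv O V _ ((ModSiteFree.homEquiv O V _).symm t) = t :=
        fun t => Equiv.apply_symm_apply _ t
      exact (congrArg (fun z => ((res φ).map ((ModSite.sectOnι O' U).app F')).val.app (op V) z)
        (key t')).trans (hs'' t' ht')⟩
  obtain ⟨a, ha⟩ := hex
  refine ⟨a, ?_⟩
  rw [← cancel_mono ((ModSite.sectOnι O U).app ((res φ).obj F')), Category.assoc, j_ι]
  apply (ModSiteFree.homEquiv O V _).injective
  rw [ModSiteFree.homEquiv_comp]
  exact ha

instance isIso_j (F' : ModSite.Mod O') : IsIso (j φ U F') := isIso_of_mono_of_epi _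

/-- `Γ_Z` commutes with restriction of scalars -/
noncomputable def sectOnResIso :
    ModSite.sectOn O' U ⋙ res φ ≅ res φ ⋙ ModSite.sectOn O U :=
  NatIso.ofComponents (fun F' => asIso (j φ U F')) (fun g => j_naturality φ U g)

end Deg0

section Main

open Groth.Agent.Lib.Helper1

variable {C : Type u} [SmallCategory C] {J : GrothendieckTopology C}
  {O O' : Sheaf J CommRingCat.{u}} (φ : O ⟶ O') (U : C)
  [ModSite.HasPushOver O U] [ModSite.HasPushOver O' U]
  [HasInjectiveResolutions (ModSite.Mod O)] [HasInjectiveResolutions (ModSite.Mod O')]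

/-- `ℋ^q_Z` commutes with restriction of scalars -/
theorem nonempty_HZsh_res_iso (q : ℕ) :
    Nonempty (ModSite.HZsh O' U q ⋙ res φ ≅ res φ ⋙ ModSite.HZsh O U q) := by
  have hEI : EnoughInjectives (ModSite.Mod O) :=
    GrothSS.enoughInjectives_of_hasInjectiveResolutions
  have hEI' : EnoughInjectives (ModSite.Mod O') :=
    GrothSS.enoughInjectives_of_hasInjectiveResolutions
  obtain ⟨e₁⟩ := nonempty_rightDerived_postcomp_iso (res φ) (ModSite.sectOn O' U) q
  let e₂ : (ModSite.sectOn O' U ⋙ res φ).rightDerived q ≅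
      (res φ ⋙ ModSite.sectOn O U).rightDerived q :=
    GrothSS.rightDerivedIsoOfIso (sectOnResIso φ U) q
  obtain ⟨Δ⟩ := Groth.Agent.S16463.result (ModSite.sectOn O U)
  obtain ⟨e₃⟩ := RpushNatIso.nonempty_iso_of_effaceable (res φ ⋙ ModSite.sectOn O U)
    (RDCompExact.precomp (res φ) Δ.toCohDeltaFunctor) (by
      intro k X
      refine ⟨Injective.under X, Injective.ι X, inferInstance, ?_⟩
      have hacyc : CohCx.IsTotallyAcyclic (ModSite.toAb ((res φ).obj (Injective.under X))) :=
        InjModTotAcyc.totallyAcyclic (ModSite.ringSh O') (Injective.under X)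
      exact (SectOnEpi.isZero_HZsh O U _ hacyc k).eq_of_tgt _ _)
    (Functor.rightDerivedZeroIsoSelf (res φ ⋙ ModSite.sectOn O U) ≪≫
      Functor.isoWhiskerLeft (res φ) (Functor.rightDerivedZeroIsoSelf (ModSite.sectOn O U)).symm) q
  exact ⟨e₁.symm ≪≫ e₂ ≪≫ e₃⟩

end Main

end Groth.Agent.Lib.Helper6.HZshRestrict
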