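import Groth.Agent.Lib.Helper6.FibreGlueA
import Mathlib
set_option backward.isDefEq.respectTransparency.types false
set_option autoImplicit false
set_option linter.style.haveILetI false
set_option linter.unusedSectionVars false
universe u
open AlgebraicGeometry CategoryTheory Opposite TopologicalSpace TensorProduct CategoryTheory.Limits

/-!
# Fibre glue, part B (helper6)

* `finrank_eq_of_point`, `subsingleton_iff_of_point`: base change of `f` along ANY field-valued point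
  `ψ : Spec K ⟶ Y` computes the cohomology of the fibre at the image point `ψ (closedPoint K)`.
* `finrank_eq_affine`, `subsingleton_iff_affine`: the affine-base form: `V` an affine open of `Y`,
  `A = Γ(V, ⊤)`, `𝔭` a prime of `A`, `K = κ(𝔭)`, `P = (f⁻¹V) ×_{Spec A} Spec κ(𝔭)`.
-/

noncomputable section
namespace Groth.Agent.Lib.Helper6.FibreGlue

open Groth.Agent.Lib.Helper4.HHFun

section Point

variable {X Y : Scheme.{u}} (f : X ⟶ Y) [QuasiCompact f] [QuasiSeparated f]
  (F : X.Modules) [F.IsQuasicoherent] (p : ℕ)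
  (K : Type u) [Field K] (ψ : Spec (CommRingCat.of K) ⟶ Y)
  (P : Scheme.{u}) [P.Over (Spec (CommRingCat.of K))] (q : P ⟶ X)
  (hsq : IsPullback q (P ↘ Spec (CommRingCat.of K)) f ψ)

include hsq in
theorem finrank_eq_of_point :
    Module.finrank K (Coh.HH P ((Scheme.Modules.pullback q).obj F) p) =
      CohIII.fiberRank f F p (ψ (IsLocalRing.closedPoint K)) := by
  letI : Algebra (Y.residueField (ψ (IsLocalRing.closedPoint K))) K :=
    (Y.descResidueField (Scheme.stalkClosedPointTo ψ)).hom.toAlgebra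
  have h : Spec.map (CommRingCat.ofHom (algebraMap (Y.residueField (ψ (IsLocalRing.closedPoint K))) K)) ≫
      Y.fromSpecResidueField (ψ (IsLocalRing.closedPoint K)) = ψ :=
    Scheme.descResidueField_stalkClosedPointTo_fromSpecResidueField K Y ψ
  exact finrank_eq f F (ψ (IsLocalRing.closedPoint K)) p K P q (by rw [h]; exact hsq)

include hsq in
theorem subsingleton_iff_of_point :
    Subsingleton (Coh.HH P ((Scheme.Modules.pullback q).obj F) p) ↔
      Subsingleton (CohIII.fiberH f F (ψ (IsLocalRing.closedPoint K)) p) := by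
  letI : Algebra (Y.residueField (ψ (IsLocalRing.closedPoint K))) K :=
    (Y.descResidueField (Scheme.stalkClosedPointTo ψ)).hom.toAlgebra
  have h : Spec.map (CommRingCat.ofHom (algebraMap (Y.residueField (ψ (IsLocalRing.closedPoint K))) K)) ≫
      Y.fromSpecResidueField (ψ (IsLocalRing.closedPoint K)) = ψ :=
    Scheme.descResidueField_stalkClosedPointTo_fromSpecResidueField K Y ψ
  exact subsingleton_iff f F (ψ (IsLocalRing.closedPoint K)) p K P q (by rw [h]; exact hsq)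

end Point

section Affine

variable {X Y : Scheme.{u}} (f : X ⟶ Y) [QuasiCompact f] [QuasiSeparated f]
  (F : X.Modules) [F.IsQuasicoherent] (p : ℕ)
  (V : Y.Opens) [IsAffine (V : Scheme.{u})] (𝔭 : PrimeSpectrum Γ((V : Scheme.{u}), ⊤))
  (P : Scheme.{u}) [P.Over (Spec (CommRingCat.of 𝔭.asIdeal.ResidueField))]
  (q : P ⟶ (f ⁻¹ᵁ V : Scheme.{u}))
  (hsq : IsPullback q (P ↘ Spec (CommRingCat.of 𝔭.asIdeal.ResidueField))
    ((f ∣_ V) ≫ (V : Scheme.{u}).isoSpec.hom)
    (Spec.map (CommRingCat.ofHom (algebraMap Γ((V : Scheme.{u}), ⊤) 𝔭.asIdeal.ResidueField))))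

/-- the field-valued point of `Y` attached to a prime of `Γ(V, ⊤)` -/
def ψV : Spec (CommRingCat.of 𝔭.asIdeal.ResidueField) ⟶ Y :=
  (Spec.map (CommRingCat.ofHom (algebraMap Γ((V : Scheme.{u}), ⊤) 𝔭.asIdeal.ResidueField)) ≫
    (V : Scheme.{u}).isoSpec.inv) ≫ V.ι

/-- the point of `Y` attached to a prime of `Γ(V, ⊤)` -/
def ptV : Y := V.ι ((V : Scheme.{u}).isoSpec.inv (𝔭 : ↥(Spec Γ((V : Scheme.{u}), ⊤))))

lemma ψV_closedPoint :
    ψV V 𝔭 (IsLocalRing.closedPoint 𝔭.asIdeal.ResidueField) = ptV V 𝔭 := by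
  have h : (Spec.map (CommRingCat.ofHom
      (algebraMap Γ((V : Scheme.{u}), ⊤) 𝔭.asIdeal.ResidueField)))
        (IsLocalRing.closedPoint 𝔭.asIdeal.ResidueField) = 𝔭 := by
    apply PrimeSpectrum.ext
    change Ideal.comap (algebraMap Γ((V : Scheme.{u}), ⊤) 𝔭.asIdeal.ResidueField)
      (IsLocalRing.maximalIdeal 𝔭.asIdeal.ResidueField) = 𝔭.asIdeal
    rw [IsLocalRing.maximalIdeal_eq_bot, ← RingHom.ker_eq_comap_bot,
      Ideal.ker_algebraMap_residueField]
  unfold ψV ptV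
  simp only [Scheme.Hom.comp_apply]
  rw [h]

include hsq in
lemma isPullback_ψV :
    IsPullback (q ≫ (f ⁻¹ᵁ V).ι) (P ↘ Spec (CommRingCat.of 𝔭.asIdeal.ResidueField)) f (ψV V 𝔭) := by
  have h2 : IsPullback (𝟙 (f ⁻¹ᵁ V : Scheme.{u})) ((f ∣_ V) ≫ (V : Scheme.{u}).isoSpec.hom) (f ∣_ V)
      (V : Scheme.{u}).isoSpec.inv := IsPullback.of_horiz_isIso ⟨by simp⟩
  have h3 := (hsq.paste_horiz h2).paste_horiz (isPullback_morphismRestrict f V).flip
  rw [Category.comp_id] at h3
  exact h3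

include hsq in
theorem finrank_eq_affine :
    Module.finrank 𝔭.asIdeal.ResidueField
        (Coh.HH P ((Scheme.Modules.pullback q).obj (F.restrict (f ⁻¹ᵁ V).ι)) p) =
      CohIII.fiberRank f F p (ptV V 𝔭) := by
  rw [← ψV_closedPoint, ← finrank_eq_of_point f F p _ (ψV V 𝔭) P _ (isPullback_ψV f V 𝔭 P q hsq)]
  let i4 : (Scheme.Modules.pullback q).obj (F.restrict (f ⁻¹ᵁ V).ι) ≅
      (Scheme.Modules.pullback (q ≫ (f ⁻¹ᵁ V).ι)).obj F :=
    (Scheme.Modules.pullback q).mapIso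
        ((Scheme.Modules.restrictFunctorIsoPullback (f ⁻¹ᵁ V).ι).app F) ≪≫
      (Scheme.Modules.pullbackComp q (f ⁻¹ᵁ V).ι).app F
  exact ((HHfun 𝔭.asIdeal.ResidueField p).mapIso i4).toLinearEquiv.finrank_eq

include hsq in
theorem subsingleton_iff_affine :
    Subsingleton (Coh.HH P ((Scheme.Modules.pullback q).obj (F.restrict (f ⁻¹ᵁ V).ι)) p) ↔
      Subsingleton (CohIII.fiberH f F (ptV V 𝔭) p) := by
  rw [← ψV_closedPoint,
    ← subsingleton_iff_of_point f F p _ (ψV V 𝔭) P _ (isPullback_ψV f V 𝔭 P q hsq)]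
  let i4 : (Scheme.Modules.pullback q).obj (F.restrict (f ⁻¹ᵁ V).ι) ≅
      (Scheme.Modules.pullback (q ≫ (f ⁻¹ᵁ V).ι)).obj F :=
    (Scheme.Modules.pullback q).mapIso
        ((Scheme.Modules.restrictFunctorIsoPullback (f ⁻¹ᵁ V).ι).app F) ≪≫
      (Scheme.Modules.pullbackComp q (f ⁻¹ᵁ V).ι).app F
  exact ((HHfun 𝔭.asIdeal.ResidueField p).mapIso i4).toLinearEquiv.toEquiv.subsingleton_congr

end Affine

section AffinePoint

variable {Y : Scheme.{u}} (V : Y.Opens) [IsAffine (V : Scheme.{u})] (y : Y) (hy : y ∈ V)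

/-- the prime of `Γ(V, ⊤)` attached to a point of `V` -/
def primeV : PrimeSpectrum Γ((V : Scheme.{u}), ⊤) :=
  (V : Scheme.{u}).isoSpec.hom (⟨y, hy⟩ : (V : Scheme.{u}))

lemma ptV_primeV : ptV V (primeV V y hy) = y := by
  unfold ptV primeV
  have h : (V : Scheme.{u}).isoSpec.inv ((V : Scheme.{u}).isoSpec.hom (⟨y, hy⟩ : (V : Scheme.{u}))) =
      (⟨y, hy⟩ : (V : Scheme.{u})) := by
    rw [← Scheme.Hom.comp_apply, Iso.hom_inv_id]
    rfl
  erw [h]
  rfl

variable {X : Scheme.{u}} (f : X ⟶ Y) [QuasiCompact f] [QuasiSeparated f]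
  (F : X.Modules) [F.IsQuasicoherent] (p : ℕ)
  (P : Scheme.{u}) [P.Over (Spec (CommRingCat.of (primeV V y hy).asIdeal.ResidueField))]
  (q : P ⟶ (f ⁻¹ᵁ V : Scheme.{u}))
  (hsq : IsPullback q (P ↘ Spec (CommRingCat.of (primeV V y hy).asIdeal.ResidueField))
    ((f ∣_ V) ≫ (V : Scheme.{u}).isoSpec.hom)
    (Spec.map (CommRingCat.ofHom
      (algebraMap Γ((V : Scheme.{u}), ⊤) (primeV V y hy).asIdeal.ResidueField))))

include hsq in
theorem finrank_eq_affine_of_mem :
    Module.finrank (primeV V y hy).asIdeal.ResidueField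
        (Coh.HH P ((Scheme.Modules.pullback q).obj (F.restrict (f ⁻¹ᵁ V).ι)) p) =
      CohIII.fiberRank f F p y := by
  rw [finrank_eq_affine f F p V (primeV V y hy) P q hsq, ptV_primeV]

include hsq in
theorem subsingleton_iff_affine_of_mem :
    Subsingleton (Coh.HH P ((Scheme.Modules.pullback q).obj (F.restrict (f ⁻¹ᵁ V).ι)) p) ↔
      Subsingleton (CohIII.fiberH f F y p) := by
  rw [subsingleton_iff_affine f F p V (primeV V y hy) P q hsq, ptV_primeV]

end AffinePoint

end Groth.Agent.Lib.Helper6.FibreGlue
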