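import Groth.Agent.Lib.Helper6.FibreLinkA
import Mathlib

/-!
# Fibre link, part B (helper6): `H^p(X', g'^* F) ≃ H^p(Č(U, F) ⊗_A B)`, `A`-linearly

`X` over `Spec A`, `X'` over `Spec B`, `g' : X' ⟶ X` affine and compatible with `A → B`, rings of sections over
affine opens forming pushout squares (e.g. `X' = X ×_A B`), `F` quasi-coherent on `X`, `U` a finite affine cover
of `X` with affine finite intersections.
-/

set_option backward.isDefEq.respectTransparency.types false
set_option autoImplicit false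
set_option linter.style.haveILetI false
set_option linter.unusedSectionVars false
universe u
open CategoryTheory CategoryTheory.Limits AlgebraicGeometry Opposite TopologicalSpace TensorProduct
  MonoidalCategory
noncomputable section

namespace Groth.Agent.Lib.Helper6.FibreLink

open Groth.Agent.Lib.Helper28.QCohLoc Groth.Agent.Lib.Helper28.PullbackInv
  Groth.Agent.Lib.Helper17.FlatBCH1 Groth.Agent.Lib.Helper17.FlatBCH3 Groth.Agent.Lib.Helper17.PullbackBC
  Groth.Agent.Lib.Helper2.BC1 Groth.Agent.Lib.Helper2.BC3 Groth.Agent.Lib.Helper2.BC4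
  Groth.Agent.Lib.Helper2.CechFun

variable {A B : Type u} [CommRing A] [CommRing B] [Algebra A B] {X X' : Scheme.{u}}
  [X.Over (Spec (CommRingCat.of A))] [X'.Over (Spec (CommRingCat.of B))] {g' : X' ⟶ X}
  (F : X.Modules) {ι : Type u} (U : ι → X.Opens)

/-- `tau` as a morphism of presheaves of `A`-modules -/
def tauNat (hι : Compat A B g') :
    presA A F ⋙ tensorRight (ModuleCat.of A B) ⟶ presA A (PM g' F) where
  app V := ModuleCat.ofHom (tau A B g' F hι V.unop)
  naturality V V' f := by
    apply ModuleCat.hom_ext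
    apply LinearMap.ext
    intro z
    exact (tau_res F hι (leOfHom f.unop) z).symm

/-- the comparison `Č(U, F) ⊗_A B ⟶ Č(U, g'_* g'^* F)` (complexes of `A`-modules) -/
def PsiB (hι : Compat A B g') :
    CohIII.tensorObj (cechA A F U) (ModuleCat.of A B) ⟶ cechA A (PM g' F) U :=
  cechComparison (tensorRight (ModuleCat.of A B)) U (presA A F) ≫
    (cechComplexFunctor U).map (tauNat F hι)

theorem isIso_PsiB [Finite ι] [F.IsQuasicoherent] [IsAffineHom g'] (hι : Compat A B g')
    (hpo : ∀ V : X.Opens, IsAffineOpen V →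
      IsPushout (CommRingCat.ofHom (algebraMap A B)) (CommRingCat.ofHom (algV A V))
        (CommRingCat.ofHom (algV B (g' ⁻¹ᵁ V))) (CommRingCat.ofHom (g'.appLE V (g' ⁻¹ᵁ V) le_rfl).hom))
    (hU : ∀ (n : ℕ) (x : Fin (n + 1) → ι), IsAffineOpen (∏ᶜ (U ∘ x))) :
    IsIso (PsiB F U hι) := by
  haveI h1 : IsIso (cechComparison (tensorRight (ModuleCat.of A B)) U (presA A F)) := by
    refine isIso_cechComparison _ _ _ fun n => ?_
    change PreservesLimitsOfShape (Discrete (Fin (n + 1) → ι)) (tensorRight (ModuleCat.of A B))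
    infer_instance
  haveI h2 : IsIso ((cechComplexFunctor U).map (tauNat F hι)) := by
    refine isIso_cechMap U _ fun n x => ?_
    have hb := tau_bijective F hι (hU n x) ((hU n x).preimage g') (hpo _ (hU n x))
    change IsIso (ModuleCat.ofHom (tau A B g' F hι (∏ᶜ (U ∘ x))))
    exact (ConcreteCategory.isIso_iff_bijective _).2 hb
  unfold PsiB
  infer_instance

/-- the edge map along `g'` is semilinear for `A → B` -/
theorem pushEdge_smul_A (hι : Compat A B g') (N : X'.Modules) (p : ℕ) (a : A)
    (x : Coh.HH X ((Scheme.Modules.pushforward g').obj N) p) :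
    CohPull.pushEdge g' N p (a • x) = algebraMap A B a • CohPull.pushEdge g' N p x := by
  change CohPull.pushEdge g' N p
      (x.comp (Abelian.Ext.mk₀ (Coh.smulAb ((Scheme.Modules.pushforward g').obj N)
        (Coh.toGlobal (X ↘ Spec (CommRingCat.of A)) a))) (add_zero p)) =
    (CohPull.pushEdge g' N p x).comp (Abelian.Ext.mk₀ (Coh.smulAb N
      (Coh.toGlobal (X' ↘ Spec (CommRingCat.of B)) (algebraMap A B a)))) (add_zero p)
  rw [smulAb_push, hι a]
  exact pushEdge_smul g' N _ p x

/-- **Fibre link, Čech form**: `H^p(X', g'^* F) ≃ H^p(Č(U, F) ⊗_A B)`, compatibly with the actions of `A`. -/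
theorem exists_addEquiv [Finite ι] [F.IsQuasicoherent] [IsAffineHom g'] (hι : Compat A B g')
    (hpo : ∀ V : X.Opens, IsAffineOpen V →
      IsPushout (CommRingCat.ofHom (algebraMap A B)) (CommRingCat.ofHom (algV A V))
        (CommRingCat.ofHom (algV B (g' ⁻¹ᵁ V))) (CommRingCat.ofHom (g'.appLE V (g' ⁻¹ᵁ V) le_rfl).hom))
    (hcov : ⨆ i, U i = ⊤)
    (hU : ∀ s : Finset ι, s.Nonempty → IsAffineOpen (⨅ i ∈ s, U i)) (p : ℕ) :
    ∃ e : Coh.HH X' ((Scheme.Modules.pullback g').obj F) p ≃+
        ((CohIII.tensorObj (cechA A F U) (ModuleCat.of A B)).homology p : ModuleCat.{u} A),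
      ∀ (a : A) (x : Coh.HH X' ((Scheme.Modules.pullback g').obj F) p),
        e (algebraMap A B a • x) = a • e x := by
  haveI hq : (PM g' F).IsQuasicoherent := isQuasicoherent_pushforward g' _
  haveI := isIso_PsiB F U hι hpo (fun n x => isAffineOpen_prod U hU x)
  obtain ⟨e1⟩ := nonempty_linearEquiv A (PM g' F) U hcov hU p
  let i2 : (CohIII.tensorObj (cechA A F U) (ModuleCat.of A B)).homology p ≅
      (cechA A (PM g' F) U).homology p :=
    (HomologicalComplex.homologyFunctor _ _ p).mapIso (asIso (PsiB F U hι))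
  let e2 := i2.toLinearEquiv
  have hpe := pushEdge_bijective_of_isAffineHom g' ((Scheme.Modules.pullback g').obj F) p
  let e3 : Coh.HH X (PM g' F) p ≃+ Coh.HH X' ((Scheme.Modules.pullback g').obj F) p :=
    AddEquiv.ofBijective (CohPull.pushEdge g' ((Scheme.Modules.pullback g').obj F) p) hpe
  let Φ := e2.toAddEquiv.trans (e1.toAddEquiv.trans e3)
  have hΦ : ∀ (a : A) t, Φ (a • t) = algebraMap A B a • Φ t := by
    intro a t
    change CohPull.pushEdge g' _ p (e1 (e2 (a • t))) = algebraMap A B a • CohPull.pushEdge g' _ p (e1 (e2 t))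
    rw [map_smul, map_smul, pushEdge_smul_A hι]
  refine ⟨Φ.symm, fun a x => ?_⟩
  apply Φ.injective
  rw [hΦ, AddEquiv.apply_symm_apply, AddEquiv.apply_symm_apply]

end Groth.Agent.Lib.Helper6.FibreLink
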