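import Groth.Prelude.Def_ega3
import Mathlib

/-!
# Fibre link, part C (helper6): algebra

* `homologyBcIso`: `restrictScalars φ (H_p(extendScalars φ P)) ≅ H_p(P ⊗_A B)` for a complex `P` of `A`-modules and
  `φ : A →+* B` (with `B` seen as an `A`-module through `φ`).
* `finrank_eq_of_addEquiv`: an additive bijection of vector spaces over the residue field `κ(𝔭)` of a prime `𝔭` of
  `A` commuting with the scalars coming from `A` is `κ(𝔭)`-linear; in particular the dimensions agree.
-/

set_option backward.isDefEq.respectTransparency.types false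
set_option autoImplicit false
set_option linter.style.haveILetI false
set_option linter.unusedSectionVars false
universe u
open CategoryTheory CategoryTheory.Limits TensorProduct MonoidalCategory
noncomputable section

namespace Groth.Agent.Lib.Helper6.FibreLink

section Swap

variable {A B : Type u} [CommRing A] [CommRing B] (φ : A →+* B)

/-- `B` as an `A`-module through `φ` -/
abbrev BA : ModuleCat.{u} A := (ModuleCat.restrictScalars φ).obj (ModuleCat.of B B)

/-- the action of `φ a` on `B ⊗_A M`, as a map of the underlying tensor product -/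
def act (M : ModuleCat.{u} A) (a : A) (z : (BA φ : Type u) ⊗[A] (M : Type u)) :
    (BA φ : Type u) ⊗[A] (M : Type u) :=
  (φ a • (show ((ModuleCat.extendScalars φ).obj M : Type u) from z) :
    ((ModuleCat.extendScalars φ).obj M : Type u))

theorem act_add (M : ModuleCat.{u} A) (a : A) (z z' : (BA φ : Type u) ⊗[A] (M : Type u)) :
    act φ M a (z + z') = act φ M a z + act φ M a z' :=
  smul_add (φ a) (show ((ModuleCat.extendScalars φ).obj M : Type u) from z)
    (show ((ModuleCat.extendScalars φ).obj M : Type u) from z')

theorem act_zero (M : ModuleCat.{u} A) (a : A) : act φ M a 0 = 0 :=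
  smul_zero (A := ((ModuleCat.extendScalars φ).obj M : Type u)) (φ a)

theorem act_tmul (M : ModuleCat.{u} A) (a : A) (s : B) (m : M) :
    act φ M a ((show (BA φ : Type u) from s) ⊗ₜ[A] m) = (show (BA φ : Type u) from (φ a * s)) ⊗ₜ[A] m :=
  rfl

theorem smul_BA (a : A) (s : B) : (a • (show (BA φ : Type u) from s) : (BA φ : Type u)) = (show (BA φ : Type u) from (φ a * s)) :=
  rfl

theorem comm_act (M : ModuleCat.{u} A) (a : A) (z : (BA φ : Type u) ⊗[A] (M : Type u)) :
    TensorProduct.comm A (BA φ) M (act φ M a z) = a • TensorProduct.comm A (BA φ) M z := by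
  induction z using TensorProduct.induction_on with
  | zero => rw [act_zero, map_zero, smul_zero]
  | add x y hx hy => rw [act_add, map_add, hx, hy, map_add, smul_add]
  | tmul s m =>
    rw [act_tmul, TensorProduct.comm_tmul, TensorProduct.comm_tmul, ← smul_BA, TensorProduct.tmul_smul]

/-- `B ⊗_A M ≃ M ⊗_A B`, `A`-linearly -/
def swapEquiv (M : ModuleCat.{u} A) :
    ((ModuleCat.restrictScalars φ).obj ((ModuleCat.extendScalars φ).obj M)) ≃ₗ[A]
      ((M ⊗ BA φ : ModuleCat.{u} A)) where
  toFun z := TensorProduct.comm A (BA φ) M z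
  invFun z := (TensorProduct.comm A (BA φ) M).symm z
  left_inv z := (TensorProduct.comm A (BA φ) M).symm_apply_apply z
  right_inv z := (TensorProduct.comm A (BA φ) M).apply_symm_apply z
  map_add' z z' := map_add (TensorProduct.comm A (BA φ) M) z z'
  map_smul' a z := comm_act φ M a z

theorem swapEquiv_tmul (M : ModuleCat.{u} A) (s : B) (m : M) :
    swapEquiv φ M ((show (BA φ : Type u) from s) ⊗ₜ[A] m) = m ⊗ₜ[A] (show (BA φ : Type u) from s) := rfl

/-- `restrictScalars φ ∘ extendScalars φ ≅ - ⊗_A B` -/
def swapNat : ModuleCat.extendScalars φ ⋙ ModuleCat.restrictScalars φ ≅ tensorRight (BA φ) :=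
  NatIso.ofComponents (fun M => (swapEquiv φ M).toModuleIso) (by
    intro M N g
    rw [← cancel_epi (swapEquiv φ M).toModuleIso.inv, Iso.inv_hom_id_assoc]
    apply ModuleCat.MonoidalCategory.tensor_ext
    intro m s
    rfl)

variable {ι : Type} {c : ComplexShape ι}

/-- `restrictScalars φ (H_p(extendScalars φ P)) ≅ H_p(P ⊗_A B)` -/
def homologyBcIso (P : HomologicalComplex (ModuleCat.{u} A) c) (p : ι) :
    (ModuleCat.restrictScalars φ).obj ((CohIII.bcCx φ P).homology p) ≅ (CohIII.TFun P p).obj (BA φ) :=
  (((CohIII.bcCx φ P).sc p).mapHomologyIso (ModuleCat.restrictScalars φ)).symm ≪≫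
    (HomologicalComplex.homologyFunctor _ _ p).mapIso
      ((NatIso.mapHomologicalComplex (swapNat φ) c).app P)

end Swap

section Field

variable {A : Type u} [CommRing A] (I : Ideal A) [I.IsPrime]

theorem exists_frac (k : I.ResidueField) :
    ∃ a s : A, algebraMap A I.ResidueField s ≠ 0 ∧
      k * algebraMap A I.ResidueField s = algebraMap A I.ResidueField a := by
  obtain ⟨y, rfl⟩ := IsLocalRing.residue_surjective k
  obtain ⟨a, s, rfl⟩ := IsLocalization.exists_mk'_eq I.primeCompl y
  refine ⟨a, s.1, ?_, ?_⟩
  · rw [Ne, Ideal.algebraMap_residueField_eq_zero]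
    exact s.2
  · have h := IsLocalization.mk'_spec (Localization.AtPrime I) a s
    have h2 := congrArg (IsLocalRing.residue (Localization.AtPrime I)) h
    rw [map_mul] at h2
    exact h2

/-- an additive bijection of `κ(𝔭)`-vector spaces commuting with the scalars from `A` is `κ(𝔭)`-linear -/
def linearEquivOfAddEquiv {V W : Type*} [AddCommGroup V] [Module I.ResidueField V] [AddCommGroup W]
    [Module I.ResidueField W] (e : V ≃+ W)
    (he : ∀ (a : A) (v : V), e (algebraMap A I.ResidueField a • v) = algebraMap A I.ResidueField a • e v) :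
    V ≃ₗ[I.ResidueField] W :=
  { e with
    map_smul' := fun k v => by
      obtain ⟨a, s, hs, hk⟩ := exists_frac I k
      apply smul_right_injective W hs
      change algebraMap A I.ResidueField s • e (k • v) = algebraMap A I.ResidueField s • (k • e v)
      rw [← he, smul_smul, smul_smul, mul_comm, hk, he] }

theorem finrank_eq_of_addEquiv {V W : Type*} [AddCommGroup V] [Module I.ResidueField V] [AddCommGroup W]
    [Module I.ResidueField W] (e : V ≃+ W)
    (he : ∀ (a : A) (v : V), e (algebraMap A I.ResidueField a • v) = algebraMap A I.ResidueField a • e v) :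
    Module.finrank I.ResidueField V = Module.finrank I.ResidueField W :=
  (linearEquivOfAddEquiv I e he).finrank_eq

end Field

end Groth.Agent.Lib.Helper6.FibreLink
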