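import Groth.Agent.Lib.Helper2.GN1

/-!
# The Grothendieck complex, with vanishing in negative degrees (helper6)

A copy of helper2's `GN1.exists_finFree_complex_natural` with one more conclusion:
`H^i(L ⊗_A M) = 0` for `i < 0`.
-/

set_option autoImplicit false
set_option linter.style.haveILetI false
set_option backward.isDefEq.respectTransparency false
universe u

open CategoryTheory CategoryTheory.Limits CochainComplex HomologicalComplex

namespace Groth.Agent.Lib.Helper6.GrothNeg

open Groth.Agent.Lib.Helper2.GC1 Groth.Agent.Lib.Helper2.GN1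

section Mod

open CohIII Groth.Agent.Lib.helper11 MonoidalCategory Groth.Agent.Lib.Helper2.GC2 Groth.Agent.Lib.Helper2.GC3

attribute [-instance] CategoryTheory.ShortComplex.hasHomology_of_preserves
attribute [local instance] HasDerivedCategory.standard

open Groth.Agent.Lib.Helper8 Groth.Agent.Lib.Helper8.PC7 Groth.Agent.Lib.Helper8.PC8
  Groth.Agent.Lib.Helper8.PC18 Groth.Agent.Lib.Helper8.PCMod2 Groth.Agent.Lib.Helper8.PCNoeth

variable {A : Type u} [CommRing A]

/-- **The Grothendieck complex**, naturally in the module, with vanishing in negative degrees. -/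
theorem exists_finFree_complex_natural' [IsNoetherianRing A]
    (C : CochainComplex (ModuleCat.{u} A) ℕ) (hflat : ∀ n, Module.Flat A (C.X n))
    (hfin : ∀ n, Module.Finite A (C.homology n)) (t : ℕ)
    (hvan0 : ∀ p : ℕ, t ≤ p → IsZero (C.homology p))
    (hvan : ∀ (M : ModuleCat.{u} A) (p : ℕ), t ≤ p → IsZero ((tensorObj C M).homology p)) :
    ∃ L : CochainComplex (ModuleCat.{u} A) ℤ,
      (∀ i, Module.Finite A (L.X i) ∧ Module.Free A (L.X i)) ∧
      (∀ i : ℤ, (t : ℤ) ≤ i → IsZero (L.X i)) ∧
      (∀ p : ℕ, Nonempty (TFun C p ≅ TFun L (p : ℤ))) ∧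
      (∀ i : ℤ, i < 0 → ∀ M : ModuleCat.{u} A, IsZero ((TFun L i).obj M)) := by
  let E := ext C
  let K : Dual.D A := DerivedCategory.Q.obj E
  have hK : ∀ n : ℤ, Nonempty ((DerivedCategory.homologyFunctor (ModuleCat.{u} A) n).obj K ≅
      E.homology n) := fun n => ⟨hIsoD E n⟩
  have hac : ∀ i : ℤ, (t : ℤ) ≤ i → IsZero (E.homology i) := by
    intro i hi
    rcases ext_homology C i with ⟨n, hn, ⟨e⟩⟩ | h
    · exact (hvan0 n (by omega)).of_iso e
    · exact h
  have hfinE : ∀ i : ℤ, Module.Finite A (E.homology i) := by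
    intro i
    rcases ext_homology C i with ⟨n, hn, ⟨e⟩⟩ | h
    · haveI := hfin n
      exact Module.Finite.equiv e.symm.toLinearEquiv
    · haveI := ModuleCat.subsingleton_of_isZero h
      infer_instance
  have hb : ∃ b : ℤ, ∀ j : ℤ, b < j → Subsingleton (Dual.HD A K j) := by
    refine ⟨t, fun j hj => ?_⟩
    obtain ⟨e⟩ := hK j
    exact ModuleCat.subsingleton_of_isZero ((hac j (by omega)).of_iso e)
  have hfinK : ∀ j : ℤ, Module.Finite A (Dual.HD A K j) := fun j => by
    obtain ⟨e⟩ := hK j
    have := hfinE j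
    exact Module.Finite.equiv e.symm.toLinearEquiv
  have hM : ∀ n : ℤ, IsNPC (ffProp A) n (DerivedCategory.Q.obj E) :=
    isPC_of_finite_homology K hb hfinK
  obtain ⟨G, w, hG, hw, hz⟩ := resolution_zero (ffProp A) ffProp_sum ffProp_hqs ffProp_hql hM
    (t : ℤ) hac
  haveI := hw
  have hEv : ∀ i : ℤ, (t : ℤ) ≤ i → ∀ N : ModuleCat.{u} A, IsZero ((tensorObj E N).homology i) := by
    intro i hi N
    have h0 : i = ((i.toNat : ℕ) : ℤ) := (Int.toNat_of_nonneg (by omega)).symm
    rw [h0]
    exact (hvan N i.toNat (by omega)).of_iso (tensorExtHomologyIso C N i.toNat)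
  have hq : ∀ M : ModuleCat.{u} A,
      QuasiIso (((tensorRight M).mapHomologicalComplex (ComplexShape.up ℤ)).map w) := fun M =>
    quasiIso_tensor_of_univ_acyclic w
      (fun i => by
        haveI := (hG.2 i).2
        haveI := (hG.2 i).1
        infer_instance)
      (flat_ext_X C hflat) (t : ℤ) hz hEv M
  have hq1 : ∀ (p : ℤ) (M : ModuleCat.{u} A), IsIso (homologyMap
      (((tensorRight M).mapHomologicalComplex (ComplexShape.up ℤ)).map w) p) := fun p M => by
    have := (hq M).quasiIsoAt p
    rwa [quasiIsoAt_iff_isIso_homologyMap] at this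
  refine ⟨G, hG.2, hz, fun p => ?_, fun i hi M => ?_⟩
  · refine ⟨NatIso.ofComponents (fun M => (tensorExtHomologyIso C M p).symm ≪≫
      (asIso (homologyMap (((tensorRight M).mapHomologicalComplex (ComplexShape.up ℤ)).map w)
        (p : ℤ))).symm) ?_⟩
    intro M N g
    -- naturality
    have n1 : homologyMap (tensorMap C g) p ≫ (tensorExtHomologyIso C N p).inv =
        (tensorExtHomologyIso C M p).inv ≫ homologyMap (tensorMap E g) (p : ℤ) := by
      rw [Iso.comp_inv_eq, Category.assoc, Iso.eq_inv_comp]
      exact (tensorExtHomologyIso_naturality C g p).symm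
    have n2 : tensorMap G g ≫ ((tensorRight N).mapHomologicalComplex (ComplexShape.up ℤ)).map w =
        ((tensorRight M).mapHomologicalComplex (ComplexShape.up ℤ)).map w ≫ tensorMap E g :=
      ((NatTrans.mapHomologicalComplex ((tensoringRight (ModuleCat.{u} A)).map g)
        (ComplexShape.up ℤ)).naturality w).symm
    have n3 : homologyMap (tensorMap E g) (p : ℤ) ≫
        inv (homologyMap (((tensorRight N).mapHomologicalComplex (ComplexShape.up ℤ)).map w) (p : ℤ)) =
        inv (homologyMap (((tensorRight M).mapHomologicalComplex (ComplexShape.up ℤ)).map w) (p : ℤ)) ≫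
          homologyMap (tensorMap G g) (p : ℤ) := by
      rw [IsIso.comp_inv_eq, Category.assoc, IsIso.eq_inv_comp, ← homologyMap_comp, ← homologyMap_comp, n2]
    change homologyMap (tensorMap C g) p ≫ (tensorExtHomologyIso C N p).inv ≫ inv _ =
      ((tensorExtHomologyIso C M p).inv ≫ inv _) ≫ homologyMap (tensorMap G g) (p : ℤ)
    rw [← Category.assoc, n1, Category.assoc, n3, Category.assoc]
  · haveI := hq1 i M
    exact (isZero_tensorExt_homology_neg C M i hi).of_iso
      (asIso (homologyMap (((tensorRight M).mapHomologicalComplex (ComplexShape.up ℤ)).map w) i))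

end Mod

end Groth.Agent.Lib.Helper6.GrothNeg
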