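import Groth.Agent.Lib.Helper2.GN2
import Groth.Agent.Lib.Helper6.GrothNeg
import Groth.Agent.Lib.Helper6.FibreLinkB
import Groth.Agent.Lib.Helper6.FibreLinkC
import Groth.Agent.Lib.Helper6.FibreGlueB
import Groth.Agent.S0034
import Mathlib

/-!
# Fibre link, part D (helper6): the Grothendieck complex computes the cohomology of the fibres

`exists_grothendieck_complex_fibre`: helper2's `GN2.exists_grothendieck_complex_natural` with two more conclusions:
* for every `A`-algebra `B` and `X' = X ×_A B`: `H^p(X', pr^* F) ≃+ H^p(L ⊗_A B)`, compatible with the `A`-actions;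
* for every point `y` of `Spec A`: `dRank L p y = fiberRank (X ↘ Spec A) F p y`, and
  `H^p(X_y, F_y) = 0 ↔ H^p(L ⊗_A κ(y)) = 0`.
-/

set_option backward.isDefEq.respectTransparency.types false
set_option autoImplicit false
set_option linter.style.haveILetI false
set_option linter.unusedSectionVars false
universe u
open CategoryTheory CategoryTheory.Limits AlgebraicGeometry Opposite TopologicalSpace TensorProduct
  MonoidalCategory
noncomputable section

namespace Groth.Agent.Lib.Helper6.FibreLink

open Groth.Agent.Lib.Helper2.BC1 Groth.Agent.Lib.Helper2.BC3 Groth.Agent.Lib.Helper2.BC4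
  Groth.Agent.Lib.Helper2.BC5 Groth.Agent.Lib.Helper2.GC3 Groth.Agent.Lib.Helper2.GC4
  Groth.Agent.Lib.Helper2.GN1 Groth.Agent.Lib.Helper2.BN1 Groth.Agent.Lib.Helper2.BN3

section Pullback

variable (A B : Type u) [CommRing A] [CommRing B] [Algebra A B] (X X' : Scheme.{u})
  [X.Over (Spec (CommRingCat.of A))] [X'.Over (Spec (CommRingCat.of B))] (g' : X' ⟶ X)
  (h : IsPullback g' (X' ↘ Spec (CommRingCat.of B)) (X ↘ Spec (CommRingCat.of A))
      (Spec.map (CommRingCat.ofHom (algebraMap A B))))

include h in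
theorem compat_of_isPullback : Compat A B g' := Groth.Agent.S0034.hι A B X X' g' h

include h in
/-- **Fibre link, Čech form, for a base change square**. -/
theorem exists_addEquiv_of_isPullback (F : X.Modules) [F.IsQuasicoherent] {ι : Type u} [Finite ι]
    (U : ι → X.Opens) (hcov : ⨆ i, U i = ⊤)
    (hU : ∀ s : Finset ι, s.Nonempty → IsAffineOpen (⨅ i ∈ s, U i)) (p : ℕ) :
    ∃ e : Coh.HH X' ((Scheme.Modules.pullback g').obj F) p ≃+
        ((CohIII.tensorObj (cechA A F U) (ModuleCat.of A B)).homology p : ModuleCat.{u} A),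
      ∀ (a : A) (x : Coh.HH X' ((Scheme.Modules.pullback g').obj F) p),
        e (algebraMap A B a • x) = a • e x := by
  haveI : IsAffineHom g' := MorphismProperty.of_isPullback (P := @IsAffineHom) h.flip inferInstance
  exact exists_addEquiv F U (compat_of_isPullback A B X X' g' h)
    (fun V hV => Groth.Agent.S0034.hpo A B X X' g' h V hV) hcov hU p

end Pullback

section DRank

variable {A : Type u} [CommRing A]

/-- an `A`-algebra `B`, as an `A`-module, is `B` with the module structure through `algebraMap A B` -/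
def ofEquivBA (B : Type u) [CommRing B] [Algebra A B] :
    (ModuleCat.of A B : Type u) ≃ₗ[A] (BA (algebraMap A B) : Type u) where
  toFun := fun b => b
  invFun := fun b => b
  left_inv := fun _ => rfl
  right_inv := fun _ => rfl
  map_add' := fun _ _ => rfl
  map_smul' := fun a b => Algebra.smul_def a b

/-- an `A`-algebra `B`, as an `A`-module, is `B` with the module structure through `algebraMap A B` -/
def ofIsoBA (B : Type u) [CommRing B] [Algebra A B] : ModuleCat.of A B ≅ BA (algebraMap A B) :=
  (ofEquivBA B).toModuleIso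

variable (x : PrimeSpectrum A) {ι : Type} {c : ComplexShape ι}

/-- `dRank` from an `A`-semilinear additive identification with `H_p(L ⊗_A κ(x))` -/
theorem dRank_eq_finrank (L : HomologicalComplex (ModuleCat.{u} A) c) (p : ι) {H : Type u} [AddCommGroup H]
    [Module x.asIdeal.ResidueField H]
    (e : H ≃+ ((CohIII.TFun L p).obj (ModuleCat.of A x.asIdeal.ResidueField) : ModuleCat.{u} A))
    (he : ∀ (a : A) (h : H), e (algebraMap A x.asIdeal.ResidueField a • h) = a • e h) :
    CohIII.dRank L p x = Module.finrank x.asIdeal.ResidueField H := by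
  let φ := algebraMap A x.asIdeal.ResidueField
  let j : (CohIII.TFun L p).obj (ModuleCat.of A x.asIdeal.ResidueField) ≅
      (ModuleCat.restrictScalars φ).obj ((CohIII.bcCx φ L).homology p) :=
    (CohIII.TFun L p).mapIso (ofIsoBA x.asIdeal.ResidueField) ≪≫ (homologyBcIso φ L p).symm
  let Ψ : H ≃+ ((CohIII.bcCx φ L).homology p : ModuleCat.{u} x.asIdeal.ResidueField) :=
    e.trans j.toLinearEquiv.toAddEquiv
  have hΨ : ∀ (a : A) (h : H), Ψ (φ a • h) = φ a • Ψ h := by
    intro a h
    change j.toLinearEquiv (e (φ a • h)) = _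
    rw [he, map_smul]
    rfl
  exact (finrank_eq_of_addEquiv x.asIdeal Ψ hΨ).symm

/-- vanishing of `H_p(L ⊗_A κ(x))` from an additive identification -/
theorem isZero_TFun_iff (L : HomologicalComplex (ModuleCat.{u} A) c) (p : ι) {H : Type u} [AddCommGroup H]
    (e : H ≃+ ((CohIII.TFun L p).obj (ModuleCat.of A x.asIdeal.ResidueField) : ModuleCat.{u} A)) :
    IsZero ((CohIII.TFun L p).obj (ModuleCat.of A x.asIdeal.ResidueField)) ↔ Subsingleton H := by
  constructor
  · intro hz
    haveI := ModuleCat.subsingleton_of_isZero hz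
    exact e.toEquiv.subsingleton
  · intro hs
    haveI := e.symm.toEquiv.subsingleton
    exact ModuleCat.isZero_of_subsingleton _

end DRank

section Main

/-- the base change property of a complex `L` with respect to `(X, F)` over `A`:
`H^p(X ×_A B, pr^* F) ≃+ H^p(L ⊗_A B)` compatibly with the actions of `A`, for every `A`-algebra `B` -/
def BaseChangeProp (A : Type u) [CommRing A] (X : Scheme.{u}) [X.Over (Spec (CommRingCat.of A))]
    (F : X.Modules) (L : CochainComplex (ModuleCat.{u} A) ℤ) : Prop :=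
  ∀ (B : Type u) [CommRing B] [Algebra A B] (X' : Scheme.{u}) [X'.Over (Spec (CommRingCat.of B))]
    (g' : X' ⟶ X) (_ : IsPullback g' (X' ↘ Spec (CommRingCat.of B)) (X ↘ Spec (CommRingCat.of A))
      (Spec.map (CommRingCat.ofHom (algebraMap A B)))) (p : ℕ),
    ∃ e : Coh.HH X' ((Scheme.Modules.pullback g').obj F) p ≃+
        ((CohIII.TFun L (p : ℤ)).obj (ModuleCat.of A B) : ModuleCat.{u} A),
      ∀ (a : A) (x : Coh.HH X' ((Scheme.Modules.pullback g').obj F) p),
        e (algebraMap A B a • x) = a • e x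

/-- **The Grothendieck complex with its base change property**: `X` proper over a noetherian ring `A`,
`F` coherent and flat over `A`. -/
theorem exists_grothendieck_complex_fibre' (A : Type u) [CommRing A] [IsNoetherianRing A]
    (X : Scheme.{u}) [X.Over (Spec (CommRingCat.of A))] [IsProper (X ↘ Spec (CommRingCat.of A))]
    (F : X.Modules) (hF : Coh.IsCoh F) (hfl : FlatMod.IsFlatOver (X ↘ Spec (CommRingCat.of A)) F) :
    ∃ (L : CochainComplex (ModuleCat.{u} A) ℤ) (t : ℕ),
      (∀ i, Module.Finite A (L.X i) ∧ Module.Free A (L.X i)) ∧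
      (∀ i : ℤ, (t : ℤ) ≤ i → IsZero (L.X i)) ∧
      (∀ p : ℕ, Nonempty (CohIII.tensorAFunctor A F ⋙ CohIII.HAb X p ≅
        CohIII.TFun L (p : ℤ) ⋙ forget₂ (ModuleCat.{u} A) AddCommGrpCat.{u})) ∧
      BaseChangeProp A X F L ∧
      (∀ i : ℤ, i < 0 → ∀ M : ModuleCat.{u} A, IsZero ((CohIII.TFun L i).obj M)) := by
  haveI : F.IsQuasicoherent := hF.1
  haveI : CompactSpace X := QuasiCompact.compactSpace_of_compactSpace (X ↘ Spec (CommRingCat.of A))
  obtain ⟨t, U0, hU0, hcov0⟩ := exists_finite_affine_cover X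
  let U : ULift.{u} (Fin t) → X.Opens := fun i => U0 i.down
  have hcov : ⨆ i, U i = ⊤ := by
    rw [← hcov0]
    apply le_antisymm
    · exact iSup_le fun i => le_iSup U0 i.down
    · exact iSup_le fun i => le_iSup U ⟨i⟩
  have hd : ∀ V W : X.Opens, IsAffineOpen V → IsAffineOpen W → IsAffineOpen (V ⊓ W) :=
    isAffineOpen_inf_of_isSeparated (X ↘ Spec (CommRingCat.of A))
  have hU : ∀ s : Finset (ULift.{u} (Fin t)), s.Nonempty → IsAffineOpen (⨅ i ∈ s, U i) :=
    isAffineOpen_biInf hd U (fun i => hU0 i.down)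
  have hnat := fun p => nonempty_natIso A F U hcov hU p
  obtain ⟨L, hL1, hL2, hL3, hL4⟩ := Groth.Agent.Lib.Helper6.GrothNeg.exists_finFree_complex_natural' (cechA A F U)
    (flat_cechA_X A U F hfl hU)
    (fun n => by
      obtain ⟨e⟩ := nonempty_linearEquiv A F U hcov hU n
      haveI := Groth.Agent.Lib.Helper4.ProperFinal.finite_HH A X F hF n
      exact Module.Finite.equiv e.symm)
    t
    (fun p hp => by
      obtain ⟨e⟩ := nonempty_linearEquiv A F U hcov hU p
      haveI : Subsingleton (Coh.HH X F p) := Groth.Agent.S0010.result X t U0 hU0 hcov0 hd F p hp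
      haveI := e.toEquiv.subsingleton
      exact ModuleCat.isZero_of_subsingleton _)
    (fun M p hp => by
      obtain ⟨e⟩ := hnat p
      have e1 := e.app M
      haveI hq : Coh.IsQCoh (TA A F M) := (inferInstance : (TA A F M).IsQuasicoherent)
      haveI : Subsingleton (Coh.HH X (TA A F M) p) :=
        Groth.Agent.S0010.result X t U0 hU0 hcov0 hd _ p hp
      have hz : IsZero ((CohIII.tensorAFunctor A F ⋙ CohIII.HAb X p).obj M) := by
        haveI : Subsingleton ((CohIII.tensorAFunctor A F ⋙ CohIII.HAb X p).obj M : AddCommGrpCat.{u}) :=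
          (inferInstance : Subsingleton (Coh.HH X (TA A F M) p))
        exact AddCommGrpCat.isZero_of_subsingleton _
      have hz2 : IsZero ((forget₂ (ModuleCat.{u} A) AddCommGrpCat.{u}).obj
          ((CohIII.tensorObj (cechA A F U) M).homology p)) := hz.of_iso e1.symm
      haveI : Subsingleton ((CohIII.tensorObj (cechA A F U) M).homology p : ModuleCat.{u} A) :=
        AddCommGrpCat.subsingleton_of_isZero hz2
      exact ModuleCat.isZero_of_subsingleton _)
  refine ⟨L, t, hL1, hL2, fun p => ?_, ?_, hL4⟩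
  · obtain ⟨e1⟩ := hnat p
    obtain ⟨e2⟩ := hL3 p
    exact ⟨e1 ≪≫ Functor.isoWhiskerRight e2 (forget₂ (ModuleCat.{u} A) AddCommGrpCat.{u})⟩
  · intro B _ _ X' _ g' h p
    obtain ⟨e, he⟩ := exists_addEquiv_of_isPullback A B X X' g' h F U hcov hU p
    obtain ⟨e2⟩ := hL3 p
    let j := (e2.app (ModuleCat.of A B)).toLinearEquiv
    refine ⟨e.trans j.toAddEquiv, fun a x => ?_⟩
    change j (e (algebraMap A B a • x)) = a • j (e x)
    rw [he]
    exact j.map_smul a _

/-- **The Grothendieck complex with its base change property**: `X` proper over a noetherian ring `A`,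
`F` coherent and flat over `A`. -/
theorem exists_grothendieck_complex_fibre (A : Type u) [CommRing A] [IsNoetherianRing A]
    (X : Scheme.{u}) [X.Over (Spec (CommRingCat.of A))] [IsProper (X ↘ Spec (CommRingCat.of A))]
    (F : X.Modules) (hF : Coh.IsCoh F) (hfl : FlatMod.IsFlatOver (X ↘ Spec (CommRingCat.of A)) F) :
    ∃ (L : CochainComplex (ModuleCat.{u} A) ℤ) (t : ℕ),
      (∀ i, Module.Finite A (L.X i) ∧ Module.Free A (L.X i)) ∧
      (∀ i : ℤ, (t : ℤ) ≤ i → IsZero (L.X i)) ∧
      (∀ p : ℕ, Nonempty (CohIII.tensorAFunctor A F ⋙ CohIII.HAb X p ≅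
        CohIII.TFun L (p : ℤ) ⋙ forget₂ (ModuleCat.{u} A) AddCommGrpCat.{u})) ∧
      BaseChangeProp A X F L := by
  obtain ⟨L, t, h1, h2, h3, h4, -⟩ := exists_grothendieck_complex_fibre' A X F hF hfl
  exact ⟨L, t, h1, h2, h3, h4⟩

end Main

section Fibre

variable {A : Type u} [CommRing A] {X : Scheme.{u}} [X.Over (Spec (CommRingCat.of A))]
  [QuasiCompact (X ↘ Spec (CommRingCat.of A))] [QuasiSeparated (X ↘ Spec (CommRingCat.of A))]
  (F : X.Modules) [F.IsQuasicoherent] (L : CochainComplex (ModuleCat.{u} A) ℤ)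
  (hbc : BaseChangeProp A X F L)

theorem specMap_closedPoint (y : PrimeSpectrum A) :
    (Spec.map (CommRingCat.ofHom (algebraMap A y.asIdeal.ResidueField)))
      (IsLocalRing.closedPoint y.asIdeal.ResidueField) = y := by
  apply PrimeSpectrum.ext
  change Ideal.comap (algebraMap A y.asIdeal.ResidueField)
    (IsLocalRing.maximalIdeal y.asIdeal.ResidueField) = y.asIdeal
  rw [IsLocalRing.maximalIdeal_eq_bot, ← RingHom.ker_eq_comap_bot,
    Ideal.ker_algebraMap_residueField]

variable (X) in
/-- `X ×_A κ(y)` -/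
abbrev fibX (y : PrimeSpectrum A) : Scheme.{u} :=
  pullback (X ↘ Spec (CommRingCat.of A))
    (Spec.map (CommRingCat.ofHom (algebraMap A y.asIdeal.ResidueField)))

instance fibXOver (y : PrimeSpectrum A) :
    (fibX X y).Over (Spec (CommRingCat.of y.asIdeal.ResidueField)) :=
  ⟨pullback.snd _ _⟩

theorem isPullback_fibX (y : PrimeSpectrum A) :
    IsPullback (pullback.fst (X ↘ Spec (CommRingCat.of A))
        (Spec.map (CommRingCat.ofHom (algebraMap A y.asIdeal.ResidueField))))
      (fibX X y ↘ Spec (CommRingCat.of y.asIdeal.ResidueField)) (X ↘ Spec (CommRingCat.of A))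
      (Spec.map (CommRingCat.ofHom (algebraMap A y.asIdeal.ResidueField))) :=
  IsPullback.of_hasPullback _ _

include hbc in
/-- **the fibre ranks of `F` are the ranks `d_p` of the Grothendieck complex** -/
theorem dRank_eq_fiberRank (p : ℕ) (y : PrimeSpectrum A) :
    CohIII.dRank L (p : ℤ) y = CohIII.fiberRank (X ↘ Spec (CommRingCat.of A)) F p y := by
  obtain ⟨e, he⟩ := hbc y.asIdeal.ResidueField (fibX X y) _ (isPullback_fibX y) p
  rw [dRank_eq_finrank y L (p : ℤ) e he]
  have h := Groth.Agent.Lib.Helper6.FibreGlue.finrank_eq_of_point (X ↘ Spec (CommRingCat.of A)) F p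
    y.asIdeal.ResidueField (Spec.map (CommRingCat.ofHom (algebraMap A y.asIdeal.ResidueField)))
    (fibX X y) _ (isPullback_fibX y)
  rw [specMap_closedPoint] at h
  exact h

include hbc in
/-- **`H^p(X_y, F_y) = 0` iff `H^p(L ⊗_A κ(y)) = 0`** -/
theorem isZero_TFun_residueField_iff (p : ℕ) (y : PrimeSpectrum A) :
    IsZero ((CohIII.TFun L (p : ℤ)).obj (ModuleCat.of A y.asIdeal.ResidueField)) ↔
      Subsingleton (CohIII.fiberH (X ↘ Spec (CommRingCat.of A)) F y p) := by
  obtain ⟨e, -⟩ := hbc y.asIdeal.ResidueField (fibX X y) _ (isPullback_fibX y) p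
  rw [isZero_TFun_iff y L (p : ℤ) e]
  have h := Groth.Agent.Lib.Helper6.FibreGlue.subsingleton_iff_of_point (X ↘ Spec (CommRingCat.of A)) F p
    y.asIdeal.ResidueField (Spec.map (CommRingCat.ofHom (algebraMap A y.asIdeal.ResidueField)))
    (fibX X y) _ (isPullback_fibX y)
  rw [specMap_closedPoint] at h
  exact h

end Fibre

end Groth.Agent.Lib.Helper6.FibreLink
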