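import Groth.Agent.Lib.Helper6.GrothLocalA
import Groth.Agent.Lib.Helper6.FibreLinkD
import Groth.Agent.Lib.Helper6.StalkFFC
import Groth.Agent.Lib.Helper16.FibProd3
import Groth.Agent.Lib.helper11.DRankFlat2
import Mathlib

/-!
# The Grothendieck complex over the local ring of a point (helper6)

`f : X ⟶ Y` proper, `Y` locally noetherian, `F` coherent and flat over `Y`, `y` a point of `Y`, `B = O_{Y,y}`.
`exists_local_complex`: there is a bounded above complex `L` of finite free `B`-modules with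
* `(R^p f_* F)_y ≃ₗ[B] H^p(L)`;
* `dRank L p 𝔮 = fiberRank f F p (image of 𝔮 in Y)` for every prime `𝔮` of `B`;
* `H^p(L ⊗_B κ(y)) = 0 ↔ H^p(X_y, F_y) = 0`;
* the base change property of `L` for `X ×_Y Spec B` over `B`.
-/

set_option backward.isDefEq.respectTransparency.types false
set_option autoImplicit false
set_option linter.style.haveILetI false
set_option linter.unusedSectionVars false
universe u
open AlgebraicGeometry CategoryTheory Opposite TopologicalSpace TensorProduct CategoryTheory.Limits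

noncomputable section
namespace Groth.Agent.Lib.Helper6.GrothLocal

open Groth.Agent.Lib.Helper4.HHFun Groth.Agent.Lib.Helper6.FibreLink

variable {X Y : Scheme.{u}} (f : X ⟶ Y) (y : Y)

/-- `X ×_Y Spec O_{Y,y}` -/
abbrev XL : Scheme.{u} := pullback f (Y.fromSpecStalk y)

instance XLOver : (XL f y).Over (Spec (CommRingCat.of (Y.presheaf.stalk y))) := ⟨pullback.snd _ _⟩

/-- the projection `X ×_Y Spec O_{Y,y} ⟶ X` -/
abbrev gL : XL f y ⟶ X := pullback.fst f (Y.fromSpecStalk y)

theorem isPullback_XL :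
    IsPullback (gL f y) (XL f y ↘ Spec (CommRingCat.of (Y.presheaf.stalk y))) f (Y.fromSpecStalk y) :=
  IsPullback.of_hasPullback f (Y.fromSpecStalk y)

instance [IsProper f] : IsProper (XL f y ↘ Spec (CommRingCat.of (Y.presheaf.stalk y))) :=
  inferInstanceAs (IsProper (pullback.snd f (Y.fromSpecStalk y)))

variable (F : X.Modules)

/-- the pullback of `F` to `X ×_Y Spec O_{Y,y}` -/
abbrev FL : (XL f y).Modules := (Scheme.Modules.pullback (gL f y)).obj F

theorem isCoh_FL (hF : Coh.IsCoh F) : Coh.IsCoh (FL f y F) := by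
  haveI : F.IsQuasicoherent := hF.1
  haveI : SheafOfModules.IsFiniteType.{u} (R := X.ringCatSheaf) F := hF.2
  exact ⟨inferInstance, Groth.Agent.Lib.Helper17.TensorSupp.isFiniteType_pullback (gL f y) F⟩

theorem isFlatOver_FL (hfl : FlatMod.IsFlatOver f F) :
    FlatMod.IsFlatOver (XL f y ↘ Spec (CommRingCat.of (Y.presheaf.stalk y))) (FL f y F) :=
  Groth.Agent.Lib.Helper16.FibProd.isFlatOver_pullback (isPullback_XL f y) F hfl

section Abstract

variable (B : Type u) [CommRing B] (X₁ : Scheme.{u}) [X₁.Over (Spec (CommRingCat.of B))]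

theorem isPullback_id :
    IsPullback (𝟙 X₁) (X₁ ↘ Spec (CommRingCat.of B)) (X₁ ↘ Spec (CommRingCat.of B))
      (Spec.map (CommRingCat.ofHom (algebraMap B B))) := by
  have h : Spec.map (CommRingCat.ofHom (algebraMap B B)) = 𝟙 _ := by
    rw [Algebra.algebraMap_self]
    exact Spec.map_id _
  rw [h]
  exact IsPullback.id_horiz _

/-- a complex with the base change property computes the cohomology of `F₁` itself, linearly -/
theorem nonempty_linearEquiv_homology (F₁ : X₁.Modules) (L : CochainComplex (ModuleCat.{u} B) ℤ)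
    (hbc : BaseChangeProp B X₁ F₁ L) (p : ℕ) :
    Nonempty (Coh.HH X₁ F₁ p ≃ₗ[B] (L.homology (p : ℤ) : ModuleCat.{u} B)) := by
  obtain ⟨e, he⟩ := hbc B X₁ (𝟙 X₁) (isPullback_id B X₁) p
  let i : (Scheme.Modules.pullback (𝟙 X₁)).obj F₁ ≅ F₁ := (Scheme.Modules.pullbackId (X := X₁)).app F₁
  let e0 : Coh.HH X₁ ((Scheme.Modules.pullback (𝟙 X₁)).obj F₁) p ≃ₗ[B] Coh.HH X₁ F₁ p :=
    ((HHfun B p).mapIso i).toLinearEquiv
  let elin : Coh.HH X₁ ((Scheme.Modules.pullback (𝟙 X₁)).obj F₁) p ≃ₗ[B]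
      ((CohIII.TFun L (p : ℤ)).obj (ModuleCat.of B B) : ModuleCat.{u} B) :=
    { e with
      map_smul' := fun b x => by
        have h := he b x
        rwa [Algebra.algebraMap_self_apply] at h }
  exact ⟨e0.symm ≪≫ₗ elin ≪≫ₗ Groth.Agent.Lib.helper11.DRankFlat.TAEquiv L (p : ℤ)⟩

end Abstract

section ResField

variable (B : Type u) [CommRing B] [IsLocalRing B]

/-- the residue field of a local ring, as a module, is the residue field at the closed point -/
def resFieldIso : ModuleCat.of B (IsLocalRing.ResidueField B) ≅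
    ModuleCat.of B (IsLocalRing.closedPoint B).asIdeal.ResidueField :=
  (LinearEquiv.ofBijective
    (IsScalarTower.toAlgHom B (B ⧸ IsLocalRing.maximalIdeal B)
      (IsLocalRing.maximalIdeal B).ResidueField).toLinearMap
    (Ideal.bijective_algebraMap_quotient_residueField (IsLocalRing.maximalIdeal B))).toModuleIso

end ResField

section Main

variable [IsProper f] [IsLocallyNoetherian Y] [HasInjectiveResolutions X.Modules]

/-- **The Grothendieck complex over the local ring of a point.** -/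
theorem exists_local_complex' (hF : Coh.IsCoh F) (hfl : FlatMod.IsFlatOver f F) :
    ∃ (L : CochainComplex (ModuleCat.{u} (Y.presheaf.stalk y)) ℤ) (t : ℕ),
      (∀ i, Module.Finite (Y.presheaf.stalk y) (L.X i) ∧ Module.Free (Y.presheaf.stalk y) (L.X i)) ∧
      (∀ i : ℤ, (t : ℤ) ≤ i → IsZero (L.X i)) ∧
      BaseChangeProp (Y.presheaf.stalk y) (XL f y) (FL f y F) L ∧
      (∀ p : ℕ, Nonempty (((Coh.Rpush f p).obj F).presheaf.stalk y ≃ₗ[Y.presheaf.stalk y]
        (L.homology (p : ℤ) : ModuleCat.{u} (Y.presheaf.stalk y)))) ∧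
      (∀ (p : ℕ) (𝔮 : PrimeSpectrum (Y.presheaf.stalk y)),
        CohIII.dRank L (p : ℤ) 𝔮 = CohIII.fiberRank f F p (Y.fromSpecStalk y 𝔮)) ∧
      (∀ p : ℕ, IsZero ((CohIII.TFun L (p : ℤ)).obj
          (ModuleCat.of (Y.presheaf.stalk y) (IsLocalRing.ResidueField (Y.presheaf.stalk y)))) ↔
        Subsingleton (CohIII.fiberH f F y p)) ∧
      (∀ i : ℤ, i < 0 → ∀ M : ModuleCat.{u} (Y.presheaf.stalk y), IsZero ((CohIII.TFun L i).obj M)) := by
  haveI : F.IsQuasicoherent := hF.1
  haveI : (FL f y F).IsQuasicoherent := (isCoh_FL f y F hF).1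
  obtain ⟨L, t, h1, h2, -, hbc, hneg⟩ := exists_grothendieck_complex_fibre' (Y.presheaf.stalk y) (XL f y)
    (FL f y F) (isCoh_FL f y F hF) (isFlatOver_FL f y F hfl)
  refine ⟨L, t, h1, h2, hbc, fun p => ?_, fun p 𝔮 => ?_, fun p => ?_, hneg⟩
  · obtain ⟨V, hV, hyV, -⟩ := (Opens.isBasis_iff_nbhd.1 Y.isBasis_affineOpens)
      (show y ∈ (⊤ : Y.Opens) from trivial)
    obtain ⟨-, ⟨e1⟩⟩ := Groth.Agent.Lib.Helper6.StalkFFC.main_of_affine f F hF y p (XL f y) (gL f y)
      (isPullback_XL f y) V hV hyV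
    obtain ⟨e2⟩ := nonempty_linearEquiv_homology (Y.presheaf.stalk y) (XL f y) (FL f y F) L hbc p
    exact ⟨e1 ≪≫ₗ e2⟩
  · rw [dRank_eq_fiberRank (FL f y F) L hbc p 𝔮]
    exact fiberRank_baseChange f (XL f y ↘ Spec (CommRingCat.of (Y.presheaf.stalk y))) (gL f y)
      (Y.fromSpecStalk y) (isPullback_XL f y) F p 𝔮
  · have h3 := isZero_TFun_residueField_iff (FL f y F) L hbc p
      (IsLocalRing.closedPoint (Y.presheaf.stalk y))
    have h4 := subsingleton_fiberH_baseChange f (XL f y ↘ Spec (CommRingCat.of (Y.presheaf.stalk y)))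
      (gL f y) (Y.fromSpecStalk y) (isPullback_XL f y) F p
      (IsLocalRing.closedPoint (Y.presheaf.stalk y))
    rw [Scheme.fromSpecStalk_closedPoint] at h4
    rw [← h4, ← h3]
    exact ((CohIII.TFun L (p : ℤ)).mapIso (resFieldIso (Y.presheaf.stalk y))).isZero_iff

/-- **The Grothendieck complex over the local ring of a point.** -/
theorem exists_local_complex (hF : Coh.IsCoh F) (hfl : FlatMod.IsFlatOver f F) :
    ∃ (L : CochainComplex (ModuleCat.{u} (Y.presheaf.stalk y)) ℤ) (t : ℕ),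
      (∀ i, Module.Finite (Y.presheaf.stalk y) (L.X i) ∧ Module.Free (Y.presheaf.stalk y) (L.X i)) ∧
      (∀ i : ℤ, (t : ℤ) ≤ i → IsZero (L.X i)) ∧
      BaseChangeProp (Y.presheaf.stalk y) (XL f y) (FL f y F) L ∧
      (∀ p : ℕ, Nonempty (((Coh.Rpush f p).obj F).presheaf.stalk y ≃ₗ[Y.presheaf.stalk y]
        (L.homology (p : ℤ) : ModuleCat.{u} (Y.presheaf.stalk y)))) ∧
      (∀ (p : ℕ) (𝔮 : PrimeSpectrum (Y.presheaf.stalk y)),
        CohIII.dRank L (p : ℤ) 𝔮 = CohIII.fiberRank f F p (Y.fromSpecStalk y 𝔮)) ∧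
      (∀ p : ℕ, IsZero ((CohIII.TFun L (p : ℤ)).obj
          (ModuleCat.of (Y.presheaf.stalk y) (IsLocalRing.ResidueField (Y.presheaf.stalk y)))) ↔
        Subsingleton (CohIII.fiberH f F y p)) := by
  obtain ⟨L, t, h1, h2, h3, h4, h5, h6, -⟩ := exists_local_complex' f y F hF hfl
  exact ⟨L, t, h1, h2, h3, h4, h5, h6⟩

end Main

end Groth.Agent.Lib.Helper6.GrothLocal
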