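import Groth.Agent.Lib.Helper6.GrothLocalB
import Groth.Agent.Lib.Helper7.StalkFree
import Groth.Agent.Lib.Helper16.RS11
import Groth.Agent.Lib.Helper4.RpushCoh
import Groth.Agent.Lib.helper11.TFunLocal2
import Groth.Agent.Lib.helper11.DRankFlat
import Groth.Agent.Lib.helper11.DRankFlat3
import Groth.Agent.Lib.helper11.TFunZero
import Groth.Agent.Lib.helper11.DRankProj
import Mathlib

/-!
# Consequences of the local Grothendieck complex (helper6)

* `exists_isZero_restrict_of_subsingleton_stalk`: a coherent module with zero stalk at `y` vanishes near `y`.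
* `subsingleton_stalk_Rpush_of_fibre`: `H^n(X_y, F_y) = 0 ⇒ (R^n f_* F)_y = 0`.
-/

set_option backward.isDefEq.respectTransparency.types false
set_option autoImplicit false
set_option linter.style.haveILetI false
set_option linter.unusedSectionVars false
universe u
open AlgebraicGeometry CategoryTheory Opposite TopologicalSpace TensorProduct CategoryTheory.Limits

noncomputable section
namespace Groth.Agent.Lib.Helper6.GrothLocal

open Groth.Agent.Lib.Helper6.FibreLink

/-- a coherent module on a locally noetherian scheme whose stalk at `y` is zero vanishes near `y` -/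
theorem exists_isZero_restrict_of_subsingleton_stalk {Y : Scheme.{u}} [IsLocallyNoetherian Y]
    (N : Y.Modules) (hN : Coh.IsCoh N) (y : Y) [Subsingleton (N.presheaf.stalk y)] :
    ∃ U : Y.Opens, y ∈ U ∧ IsZero (N.restrict U.ι) := by
  haveI : Module.Free (Y.presheaf.stalk y) (N.presheaf.stalk y) := Module.Free.of_subsingleton _ _
  obtain ⟨U, hyU, ⟨e⟩⟩ := Groth.Agent.Lib.Helper7.StalkFree.exists_iso_freeMod_of_free_stalk Y N hN y
  have h0 : Module.finrank (Y.presheaf.stalk y) (N.presheaf.stalk y) = 0 :=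
    Module.finrank_zero_of_subsingleton
  rw [h0] at e
  exact ⟨U, hyU, IsZero.of_iso Groth.Agent.Lib.Helper16.RS.isZero_freeMod_zero e⟩

variable {X Y : Scheme.{u}} (f : X ⟶ Y) [IsProper f] [IsLocallyNoetherian Y]
  [HasInjectiveResolutions X.Modules] (F : X.Modules) (hF : Coh.IsCoh F)
  (hfl : FlatMod.IsFlatOver f F) (y : Y)

include hF hfl in
/-- `H^n(X_y, F_y) = 0 ⇒ (R^n f_* F)_y = 0` -/
theorem subsingleton_stalk_Rpush_of_fibre (n : ℕ) (hvan : Subsingleton (CohIII.fiberH f F y n)) :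
    Subsingleton (((Coh.Rpush f n).obj F).presheaf.stalk y) := by
  obtain ⟨L, t, h1, h2, hbc, hst, hdr, hz⟩ := exists_local_complex f y F hF hfl
  have hk := (hz n).2 hvan
  have hP : ∀ i, Module.Finite (Y.presheaf.stalk y) (L.X i) ∧ Module.Flat (Y.presheaf.stalk y) (L.X i) :=
    fun i => ⟨(h1 i).1, haveI := (h1 i).2; inferInstance⟩
  have hall := Groth.Agent.Lib.helper11.TFunLocal.isZero_of_isZero_residueField L hP (n : ℤ) ((n : ℤ) + 1)
    rfl hk (ModuleCat.of (Y.presheaf.stalk y) (Y.presheaf.stalk y))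
  haveI hs : Subsingleton (CohIII.T L (n : ℤ) (ModuleCat.of (Y.presheaf.stalk y) (Y.presheaf.stalk y)) :
      ModuleCat.{u} (Y.presheaf.stalk y)) := ModuleCat.subsingleton_of_isZero hall
  haveI : Subsingleton (L.homology (n : ℤ) : ModuleCat.{u} (Y.presheaf.stalk y)) :=
    (Groth.Agent.Lib.helper11.DRankFlat.TAEquiv L (n : ℤ)).symm.toEquiv.subsingleton
  obtain ⟨e⟩ := hst n
  exact e.toEquiv.subsingleton

include hF hfl in
/-- **`H^{p+1}(X_y, F_y) = 0` and `H^{p-1}(X_y, F_y) = 0` ⇒ `(R^p f_* F)_y` is free of rank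
`dim H^p(X_y, F_y)`** -/
theorem free_stalk_Rpush_of_adjacent (p : ℕ) (hq : Subsingleton (CohIII.fiberH f F y (p + 1)))
    (hr : ∀ r : ℕ, r + 1 = p → Subsingleton (CohIII.fiberH f F y r)) :
    Module.Free (Y.presheaf.stalk y) (((Coh.Rpush f p).obj F).presheaf.stalk y) ∧
      Module.finrank (Y.presheaf.stalk y) (((Coh.Rpush f p).obj F).presheaf.stalk y) =
        CohIII.fiberRank f F p y := by
  obtain ⟨L, t, h1, h2, hbc, hst, hdr, hz, hneg⟩ := exists_local_complex' f y F hF hfl
  have hP : ∀ i, Module.Finite (Y.presheaf.stalk y) (L.X i) ∧ Module.Flat (Y.presheaf.stalk y) (L.X i) :=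
    fun i => ⟨(h1 i).1, haveI := (h1 i).2; inferInstance⟩
  have hq' : IsZero ((CohIII.TFun L ((p : ℤ) + 1)).obj
      (ModuleCat.of (Y.presheaf.stalk y) (IsLocalRing.ResidueField (Y.presheaf.stalk y)))) := by
    have := (hz (p + 1)).2 hq
    rwa [Nat.cast_add, Nat.cast_one] at this
  have hr' : IsZero ((CohIII.TFun L ((p : ℤ) - 1)).obj
      (ModuleCat.of (Y.presheaf.stalk y) (IsLocalRing.ResidueField (Y.presheaf.stalk y)))) := by
    rcases Nat.eq_zero_or_pos p with h0 | hpos
    · exact hneg _ (by omega) _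
    · obtain ⟨r, rfl⟩ : ∃ r, p = r + 1 := ⟨p - 1, by omega⟩
      have := (hz r).2 (hr r rfl)
      rwa [show ((r + 1 : ℕ) : ℤ) - 1 = (r : ℤ) by push_cast; ring]
  obtain ⟨⟨hm, he⟩, hfree⟩ := Groth.Agent.Lib.helper11.TFunLocal.exact_and_free_of_adjacent_vanishing L hP
    (p : ℤ) ((p : ℤ) + 1) ((p : ℤ) - 1) ((p : ℤ) + 1 + 1) rfl (by simp) rfl hq' hr'
  haveI hfree' : Module.Free (Y.presheaf.stalk y)
      (CohIII.T L (p : ℤ) (ModuleCat.of (Y.presheaf.stalk y) (Y.presheaf.stalk y)) :
        ModuleCat.{u} (Y.presheaf.stalk y)) := hfree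
  haveI hfreeH : Module.Free (Y.presheaf.stalk y)
      (L.homology (p : ℤ) : ModuleCat.{u} (Y.presheaf.stalk y)) :=
    Module.Free.of_equiv (Groth.Agent.Lib.helper11.DRankFlat.TAEquiv L (p : ℤ))
  obtain ⟨e⟩ := hst p
  refine ⟨Module.Free.of_equiv e.symm, ?_⟩
  rw [e.finrank_eq]
  have h5 := hdr p (IsLocalRing.closedPoint (Y.presheaf.stalk y))
  rw [Scheme.fromSpecStalk_closedPoint] at h5
  rw [← h5, Groth.Agent.Lib.helper11.DRankFlat.dRank_eq_fibDim_homology L (fun i => (hP i).2) (p : ℤ)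
    ((p : ℤ) + 1) rfl he]
  unfold Groth.Agent.Lib.helper11.FibDim.fibDim
  exact (Module.finrank_baseChange).symm

include hF hfl in
/-- **`(R^i f_* F)_y = 0` for all `i > n` ⇒ `H^i(X_y, F_y) = 0` for all `i > n`** -/
theorem subsingleton_fibre_of_stalks (n : ℕ)
    (h0 : ∀ i : ℕ, n < i → Subsingleton (((Coh.Rpush f i).obj F).presheaf.stalk y)) :
    ∀ i : ℕ, n < i → Subsingleton (CohIII.fiberH f F y i) := by
  obtain ⟨L, t, h1, h2, hbc, hst, hdr, hz⟩ := exists_local_complex f y F hF hfl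
  have hflat : ∀ i, Module.Flat (Y.presheaf.stalk y) (L.X i) :=
    fun i => haveI := (h1 i).2; inferInstance
  have key : ∀ d : ℕ, ∀ i : ℤ, (n : ℤ) < i → (t : ℤ) ≤ i + d →
      ∀ M : ModuleCat.{u} (Y.presheaf.stalk y), IsZero ((CohIII.TFun L i).obj M) := by
    intro d
    induction d with
    | zero =>
      intro i hi ht M
      exact Groth.Agent.Lib.helper11.DRankFlat.isZero_TFun_obj L i (h2 i (by omega)) M
    | succ d ih =>
      intro i hi ht M
      have hq := ih (i + 1) (by omega) (by omega)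
      have hp : IsZero (L.homology i) := by
        obtain ⟨j, rfl⟩ : ∃ j : ℕ, i = (j : ℤ) := ⟨i.toNat, (Int.toNat_of_nonneg (by omega)).symm⟩
        haveI := h0 j (by omega)
        obtain ⟨e⟩ := hst j
        haveI := e.symm.toEquiv.subsingleton
        exact ModuleCat.isZero_of_subsingleton _
      exact Groth.Agent.Lib.helper11.TFunZero.isZero_TFun_obj_of_rel L hflat i (i + 1) rfl hq hp M
  intro i hi
  exact (hz i).1 (key t (i : ℤ) (by exact_mod_cast hi) (by omega) _)

include hF hfl in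
/-- **Grauert, stalk form**: `Y` reduced and `y' ↦ dim H^p(X_{y'}, F_{y'})` locally constant ⇒ `(R^p f_* F)_y` is
free of rank `dim H^p(X_y, F_y)` -/
theorem free_stalk_Rpush_of_locallyConstant [IsReduced Y] (p : ℕ)
    (hconst : IsLocallyConstant (CohIII.fiberRank f F p)) :
    Module.Free (Y.presheaf.stalk y) (((Coh.Rpush f p).obj F).presheaf.stalk y) ∧
      Module.finrank (Y.presheaf.stalk y) (((Coh.Rpush f p).obj F).presheaf.stalk y) =
        CohIII.fiberRank f F p y := by
  obtain ⟨L, t, h1, h2, hbc, hst, hdr, hz⟩ := exists_local_complex f y F hF hfl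
  have hfin : ∀ i, Module.Finite (Y.presheaf.stalk y) (L.X i) := fun i => (h1 i).1
  have hproj : ∀ i, Module.Projective (Y.presheaf.stalk y) (L.X i) :=
    fun i => haveI := (h1 i).2; inferInstance
  have hflat : ∀ i, Module.Flat (Y.presheaf.stalk y) (L.X i) :=
    fun i => haveI := (h1 i).2; inferInstance
  -- `dRank` is constant
  have hc : ∀ 𝔮 : PrimeSpectrum (Y.presheaf.stalk y),
      CohIII.dRank L (p : ℤ) 𝔮 = CohIII.fiberRank f F p y := by
    intro 𝔮
    rw [hdr p 𝔮]
    have hs : Y.fromSpecStalk y 𝔮 ⤳ y := by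
      have : Y.fromSpecStalk y 𝔮 ∈ Set.range (Y.fromSpecStalk y) := ⟨𝔮, rfl⟩
      rw [Scheme.range_fromSpecStalk] at this
      exact this
    exact (hs.map hconst.continuous).eq
  have hloc : ∀ x : PrimeSpectrum (Y.presheaf.stalk y), ∃ U : Set (PrimeSpectrum (Y.presheaf.stalk y)),
      IsOpen U ∧ x ∈ U ∧ ∀ z ∈ U, CohIII.dRank L (p : ℤ) z = CohIII.dRank L (p : ℤ) x :=
    fun x => ⟨Set.univ, isOpen_univ, trivial, fun z _ => by rw [hc z, hc x]⟩
  obtain ⟨hHfin, hHproj⟩ := Groth.Agent.Lib.helper11.DRankProj.homology_finite_projective L hfin hproj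
    (p : ℤ) ((p : ℤ) - 1) ((p : ℤ) + 1) (CochainComplex.prev ℤ _) (CochainComplex.next ℤ _) hloc
  obtain ⟨-, hcok⟩ := Groth.Agent.Lib.helper11.DRankProj.cokers_projective_of_dRank_const L hfin hproj
    (p : ℤ) ((p : ℤ) - 1) ((p : ℤ) + 1) (CochainComplex.prev ℤ _) (CochainComplex.next ℤ _) hloc
  have he : (CohIII.TFun L (p : ℤ)).PreservesEpimorphisms :=
    (Groth.Agent.Lib.helper11.DRankExact.preservesEpi_iff_flat_coker L hflat (p : ℤ) ((p : ℤ) + 1) rfl).mpr
      inferInstance
  haveI hfreeH : Module.Free (Y.presheaf.stalk y)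
      (L.homology (p : ℤ) : ModuleCat.{u} (Y.presheaf.stalk y)) :=
    Module.free_of_flat_of_isLocalRing
  obtain ⟨e⟩ := hst p
  refine ⟨Module.Free.of_equiv e.symm, ?_⟩
  rw [e.finrank_eq, ← hc (IsLocalRing.closedPoint (Y.presheaf.stalk y)),
    Groth.Agent.Lib.helper11.DRankFlat.dRank_eq_fibDim_homology L hflat (p : ℤ) ((p : ℤ) + 1) rfl he]
  unfold Groth.Agent.Lib.helper11.FibDim.fibDim
  exact (Module.finrank_baseChange).symm

include hF hfl in
/-- **if all stalks `(R^j f_* F)_y` are free then `dim H^i(X_y, F_y) = rank (R^i f_* F)_y`** -/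
theorem fiberRank_eq_finrank_stalk_of_free
    (hfree : ∀ j : ℕ, Module.Free (Y.presheaf.stalk y) (((Coh.Rpush f j).obj F).presheaf.stalk y))
    (i : ℕ) :
    CohIII.fiberRank f F i y =
      Module.finrank (Y.presheaf.stalk y) (((Coh.Rpush f i).obj F).presheaf.stalk y) := by
  obtain ⟨L, t, h1, h2, hbc, hst, hdr, hz⟩ := exists_local_complex f y F hF hfl
  have hflat : ∀ i, Module.Flat (Y.presheaf.stalk y) (L.X i) :=
    fun i => haveI := (h1 i).2; inferInstance
  have hHfree : ∀ j : ℕ, Module.Free (Y.presheaf.stalk y)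
      (L.homology (j : ℤ) : ModuleCat.{u} (Y.presheaf.stalk y)) := by
    intro j
    obtain ⟨e⟩ := hst j
    haveI := hfree j
    exact Module.Free.of_equiv e
  -- all `T^j`, `j ≥ 0`, are exact
  have key : ∀ d : ℕ, ∀ j : ℤ, 0 ≤ j → (t : ℤ) ≤ j + d →
      (CohIII.TFun L j).PreservesMonomorphisms ∧ (CohIII.TFun L j).PreservesEpimorphisms := by
    intro d
    induction d with
    | zero =>
      intro j hj ht
      exact Groth.Agent.Lib.helper11.DRankFlat.exact_of_isZero L j (h2 j (by omega))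
    | succ d ih =>
      intro j hj ht
      have hq := ih (j + 1) (by omega) (by omega)
      have he : (CohIII.TFun L j).PreservesEpimorphisms :=
        (Groth.Agent.Lib.helper11.TFunBasic.preservesEpi_iff_preservesMono L hflat j (j + 1) rfl).mpr hq.1
      obtain ⟨k, rfl⟩ : ∃ k : ℕ, j = (k : ℤ) := ⟨j.toNat, (Int.toNat_of_nonneg hj).symm⟩
      haveI := hHfree k
      exact ⟨Groth.Agent.Lib.helper11.DRankFlat.preservesMono_of_flat_homology L hflat (k : ℤ) he
        inferInstance, he⟩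
  have he := (key t (i : ℤ) (by omega) (by omega)).2
  have h5 := hdr i (IsLocalRing.closedPoint (Y.presheaf.stalk y))
  rw [Scheme.fromSpecStalk_closedPoint] at h5
  obtain ⟨e⟩ := hst i
  haveI := hHfree i
  rw [e.finrank_eq, ← h5,
    Groth.Agent.Lib.helper11.DRankFlat.dRank_eq_fibDim_homology L hflat (i : ℤ) ((i : ℤ) + 1) rfl he]
  unfold Groth.Agent.Lib.helper11.FibDim.fibDim
  exact Module.finrank_baseChange

end Groth.Agent.Lib.Helper6.GrothLocal
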