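import Groth.Agent.Lib.Helper6.PresheafSS

/-!
# The Cartan–Leray spectral sequence of a covering family (helper6)
-/

universe u

open CategoryTheory Limits Opposite Abelian

namespace Groth.Agent.Lib.Helper6.CartanLeraySS

open PresheafSS

section Sieve

variable {C : Type u} [SmallCategory C] (J : GrothendieckTopology C) {X : C} (R : Sieve X)

/-- the map `ℤ_J[R] ⟶ ℤ_J[h_X]` -/
noncomputable def inclZ : ZP R.functor J ⟶ SheafCoh.Zfree J X :=
  ((Functor.whiskeringRight Cᵒᵖ _ _).obj AddCommGrpCat.free.{u} ⋙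
    presheafToSheaf J AddCommGrpCat.{u}).map R.functorInclusion

lemma isIso_inclZ (hR : R ∈ J X) : IsIso (inclZ J R) := by
  rw [isIso_iff_coyoneda_map_bijective]
  intro T
  have key : ∀ τ : SheafCoh.Zfree J X ⟶ T,
      (TotAcyc.adjA J).homEquiv R.functor T (inclZ J R ≫ τ) =
        R.functorInclusion ≫ (TotAcyc.adjA J).homEquiv (yoneda.obj X) T τ := fun τ =>
    (TotAcyc.adjA J).homEquiv_naturality_left R.functorInclusion τ
  have hS := (Presieve.isSheafFor_iff_yonedaSheafCondition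
    (P := T.obj ⋙ forget AddCommGrpCat.{u})).1 (SieveExt.isSheafFor J T R hR)
  constructor
  · intro τ τ' h
    apply ((TotAcyc.adjA J).homEquiv (yoneda.obj X) T).injective
    have h1 := key τ
    have h2 := key τ'
    have h3 : (TotAcyc.adjA J).homEquiv R.functor T (inclZ J R ≫ τ) =
        (TotAcyc.adjA J).homEquiv R.functor T (inclZ J R ≫ τ') := congrArg _ h
    rw [h1, h2] at h3
    obtain ⟨g, _, hg⟩ := hS (R.functorInclusion ≫ (TotAcyc.adjA J).homEquiv (yoneda.obj X) T τ)
    exact (hg _ rfl).trans (hg _ h3.symm).symm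
  · intro σ
    obtain ⟨g, hg, _⟩ := hS ((TotAcyc.adjA J).homEquiv R.functor T σ)
    refine ⟨((TotAcyc.adjA J).homEquiv (yoneda.obj X) T).symm g, ?_⟩
    apply ((TotAcyc.adjA J).homEquiv R.functor T).injective
    refine (key _).trans ?_
    rw [Equiv.apply_symm_apply]
    exact hg

end Sieve

section Main

variable {C : Type u} [SmallCategory C] [HasPullbacks C] (J : GrothendieckTopology C)

/-- **The Cartan–Leray spectral sequence** `Ȟ^p((U_i → X), ℋ^q(M)) ⇒ H^{p+q}(X, M)`. -/
theorem cartan_leray (M : Sheaf J AddCommGrpCat.{u}) {X : C} {ι : Type u} (Y : ι → Over X)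
    (hY : Sieve.ofArrows (fun i => (Y i).left) (fun i => (Y i).hom) ∈ J X) :
    ∃ (E : E₂CohomologicalSpectralSequence AddCommGrpCat.{u})
      (a : SpSeq.Abutment E (fun n : ℤ =>
        if 0 ≤ n then AddCommGrpCat.of (CohSite.HU M n.toNat X)
        else AddCommGrpCat.of PUnit.{u + 1})),
      (∀ n, a.IsFinite n) ∧ SpSeq.IsBounded E ∧
      ∀ p q : ℤ, Nonempty ((E.page 2 le_rfl).X (p, q) ≅
        (if 0 ≤ p ∧ 0 ≤ q then CohCx.cechH (M.cohomologyPresheaf q.toNat) Y p.toNat
         else AddCommGrpCat.of PUnit.{u + 1})) := by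
  let R : Sieve X := Sieve.ofArrows (fun i => (Y i).left) (fun i => (Y i).hom)
  have hiso : IsIso (inclZ J R) := isIso_inclZ J R hY
  refine GrothSS.exists_spectralSequence' (SieveExt.ι J) (SR R.functor)
    (fun Q hQ q hq => by
      have := hQ
      obtain ⟨q', rfl⟩ : ∃ q', q = q' + 1 := ⟨q - 1, by lia⟩
      exact Functor.isZero_rightDerived_obj_injective_succ _ q' _) M _ ?_ ?_ _ ?_ ?_
  · intro n
    obtain ⟨e⟩ := nonempty_HK_iso J R.functor M n
    let e' : AddCommGrpCat.of (Ext (ZP R.functor J) M n) ≅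
        AddCommGrpCat.of (CohSite.HU M n X) :=
      AddEquiv.toAddCommGrpIso (X := AddCommGrpCat.of (Ext (ZP R.functor J) M n))
        (Y := AddCommGrpCat.of (CohSite.HU M n X))
        (extAddEquivOfIso (asIso (inclZ J R)) M n).symm
    refine ⟨e.symm ≪≫ e' ≪≫ eqToIso ?_⟩
    simp
  · intro n hn
    rw [if_neg (by lia)]
    exact AddCommGrpCat.isZero_of_subsingleton _
  · intro p q
    obtain ⟨e1⟩ := nonempty_rightDerived_ι_iso J M q
    obtain ⟨e2⟩ := nonempty_HKbot_iso R.functor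
      (⟨M.cohomologyPresheaf q, Presheaf.isSheaf_bot _⟩ :
        Sheaf (⊥ : GrothendieckTopology C) AddCommGrpCat.{u}) p
    obtain ⟨e3⟩ := CechFamSieve.nonempty_iso Y
      (⟨M.cohomologyPresheaf q, Presheaf.isSheaf_bot _⟩ :
        Sheaf (⊥ : GrothendieckTopology C) AddCommGrpCat.{u}) p
    let e3' : CohCx.cechH (M.cohomologyPresheaf q) Y p ≅
        AddCommGrpCat.of (Ext (ZP R.functor ⊥)
          (⟨M.cohomologyPresheaf q, Presheaf.isSheaf_bot _⟩ :
            Sheaf (⊥ : GrothendieckTopology C) AddCommGrpCat.{u}) p) := e3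
    refine ⟨((SR R.functor).rightDerived p).mapIso e1 ≪≫ e2.symm ≪≫ e3'.symm ≪≫ eqToIso ?_⟩
    simp
  · intro p q h
    rw [if_neg h]
    exact AddCommGrpCat.isZero_of_subsingleton _

end Main

end Groth.Agent.Lib.Helper6.CartanLeraySS
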