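import Groth.Agent.Lib.Helper6.LocRecog
import Groth.Agent.Lib.Helper6.DevLift
import Groth.Agent.Lib.Helper17.QCAlgGen
import Groth.Agent.Lib.Helper28.QCohPush
import Groth.Prelude.Def_CxOX
import Mathlib
set_option backward.isDefEq.respectTransparency.types false
set_option autoImplicit false

/-!
# `Coh(U)` is the localization of `Coh(X)` at the morphisms which are isomorphisms over `U`
-/

universe u
open CategoryTheory CategoryTheory.Limits AlgebraicGeometry Opposite TopologicalSpace

namespace Groth.Agent.Lib.Helper6.CohLoc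
open Groth.Agent.Lib.Helper6.DevCore Groth.Agent.Lib.Helper6.DevLift

variable {X : Scheme.{u}} [IsNoetherian X] (U : X.Opens)
  (hres : ∀ M : X.Modules, Coh.IsCoh M → Coh.IsCoh ((Scheme.Modules.restrictFunctor U.ι).obj M))

/-- the restriction functor on coherent modules -/
noncomputable abbrev Lfun : ObjectProperty.FullSubcategory (fun M : X.Modules => Coh.IsCoh M) ⥤
    ObjectProperty.FullSubcategory (fun N : (↑U : Scheme.{u}).Modules => Coh.IsCoh N) :=
  ObjectProperty.lift (fun N : (↑U : Scheme.{u}).Modules => Coh.IsCoh N)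
    (ObjectProperty.ι (fun M : X.Modules => Coh.IsCoh M) ⋙ Scheme.Modules.restrictFunctor U.ι)
    (fun M => hres M.obj M.property)

/-- the morphisms of coherent modules which are isomorphisms over `U` -/
noncomputable abbrev Wres : MorphismProperty (ObjectProperty.FullSubcategory (fun M : X.Modules => Coh.IsCoh M)) :=
  (MorphismProperty.isomorphisms _).inverseImage (Lfun U hres)

theorem wres_iff {A B : ObjectProperty.FullSubcategory (fun M : X.Modules => Coh.IsCoh M)} (f : A ⟶ B) :
    Wres U hres f ↔ IsIso ((Scheme.Modules.restrictFunctor U.ι).map f.hom) := by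
  change IsIso ((Lfun U hres).map f) ↔ _
  rw [← isIso_iff_of_reflects_iso _ (ObjectProperty.ι (fun N : (↑U : Scheme.{u}).Modules => Coh.IsCoh N))]
  rfl

theorem isCoh_biprod {A B : X.Modules} (hA : Coh.IsCoh A) (hB : Coh.IsCoh B) : Coh.IsCoh (A ⊞ B) := by
  haveI : A.IsQuasicoherent := hA.1
  haveI : B.IsQuasicoherent := hB.1
  haveI : SheafOfModules.IsFiniteType.{u} (R := X.ringCatSheaf) A := hA.2
  haveI : SheafOfModules.IsFiniteType.{u} (R := X.ringCatSheaf) B := hB.2
  exact ⟨inferInstance, Groth.Agent.Lib.Helper17.QCAlgGen.isFiniteType_biprod A B⟩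

theorem isCoh_pullback {A B C : X.Modules} (hA : Coh.IsCoh A) (hB : Coh.IsCoh B) (hC : Coh.IsCoh C)
    (f : A ⟶ C) (g : B ⟶ C) : Coh.IsCoh (pullback f g) := by
  have e : pullback f g ≅ kernel (biprod.desc f (-g)) :=
    (Abelian.PullbackToBiproductIsKernel.isLimitPullbackToBiproduct f g).conePointUniqueUpToIso
      (limit.isLimit _)
  exact isCoh_of_iso e.symm (isCoh_kernel _ (isCoh_biprod hA hB) hC)

theorem isIso_kernel_ι_of_eq_zero {C : Type*} [Category C] [HasZeroMorphisms C] {A B : C} (f : A ⟶ B)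
    [HasKernel f] (h : f = 0) : IsIso (kernel.ι f) := by
  subst h
  infer_instance

/-- faithfulness up to `W` -/
theorem exists_wres_comp_eq {A B : ObjectProperty.FullSubcategory (fun M : X.Modules => Coh.IsCoh M)}
    (a b : A ⟶ B) (h : (Lfun U hres).map a = (Lfun U hres).map b) :
    ∃ (A' : ObjectProperty.FullSubcategory (fun M : X.Modules => Coh.IsCoh M)) (s : A' ⟶ A),
      Wres U hres s ∧ s ≫ a = s ≫ b := by
  have h0 : (Scheme.Modules.restrictFunctor U.ι).map (a.hom - b.hom) = 0 := by
    rw [Functor.map_sub, sub_eq_zero]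
    exact congrArg (fun φ => φ.hom) h
  refine ⟨⟨kernel (a.hom - b.hom), isCoh_kernel _ A.2 B.2⟩, ObjectProperty.homMk (kernel.ι (a.hom - b.hom)), ?_, ?_⟩
  · rw [wres_iff]
    change IsIso ((Scheme.Modules.restrictFunctor U.ι).map (kernel.ι (a.hom - b.hom)))
    have h1 : kernelComparison (a.hom - b.hom) (Scheme.Modules.restrictFunctor U.ι) ≫
        kernel.ι ((Scheme.Modules.restrictFunctor U.ι).map (a.hom - b.hom)) =
        (Scheme.Modules.restrictFunctor U.ι).map (kernel.ι (a.hom - b.hom)) := kernelComparison_comp_ι _ _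
    haveI : IsIso (kernel.ι ((Scheme.Modules.restrictFunctor U.ι).map (a.hom - b.hom))) :=
      isIso_kernel_ι_of_eq_zero _ h0
    haveI : IsIso (kernelComparison (a.hom - b.hom) (Scheme.Modules.restrictFunctor U.ι)) := by
      rw [← PreservesKernel.iso_hom]
      infer_instance
    rw [← h1]
    infer_instance
  · apply ObjectProperty.hom_ext
    change kernel.ι (a.hom - b.hom) ≫ a.hom = kernel.ι (a.hom - b.hom) ≫ b.hom
    rw [← sub_eq_zero, ← Preadditive.comp_sub, kernel.condition]

instance hasRightCalculusOfFractions : (Wres U hres).HasRightCalculusOfFractions where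
  exists_rightFraction := by
    intro A B φ
    have hs : IsIso ((Scheme.Modules.restrictFunctor U.ι).map φ.s.hom) := (wres_iff U hres φ.s).1 φ.hs
    have hpb : IsPullback ((Scheme.Modules.restrictFunctor U.ι).map (pullback.fst φ.f.hom φ.s.hom))
        ((Scheme.Modules.restrictFunctor U.ι).map (pullback.snd φ.f.hom φ.s.hom))
        ((Scheme.Modules.restrictFunctor U.ι).map φ.f.hom) ((Scheme.Modules.restrictFunctor U.ι).map φ.s.hom) :=
      (IsPullback.of_hasPullback φ.f.hom φ.s.hom).map (Scheme.Modules.restrictFunctor U.ι)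
    refine ⟨MorphismProperty.RightFraction.mk
      (X' := ⟨pullback φ.f.hom φ.s.hom, isCoh_pullback A.2 B.2 φ.Y'.2 _ _⟩)
      (ObjectProperty.homMk (pullback.fst φ.f.hom φ.s.hom)) ?_
      (ObjectProperty.homMk (pullback.snd φ.f.hom φ.s.hom)), ?_⟩
    · rw [wres_iff]
      exact hpb.isIso_fst_of_isIso
    · apply ObjectProperty.hom_ext
      exact pullback.condition
  ext := by
    intro A B B' f₁ f₂ s hs h
    have hs' : IsIso ((Lfun U hres).map s) := hs
    have : (Lfun U hres).map f₁ = (Lfun U hres).map f₂ := by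
      rw [← cancel_mono ((Lfun U hres).map s), ← Functor.map_comp, ← Functor.map_comp, h]
    obtain ⟨A', t, ht, e⟩ := exists_wres_comp_eq U hres f₁ f₂ this
    exact ⟨A', t, ht, e⟩

open Groth.Agent.Lib.Helper17.FTExt in
instance essSurj : (Lfun U hres).EssSurj where
  mem_essImage N := by
    haveI : N.obj.IsQuasicoherent := N.2.1
    haveI : SheafOfModules.IsFiniteType.{u} (R := (U : Scheme.{u}).ringCatSheaf) N.obj := N.2.2
    haveI : ((Scheme.Modules.pushforward U.ι).obj N.obj).IsQuasicoherent :=
      Groth.Agent.Lib.Helper28.QCohLoc.isQuasicoherent_pushforward U.ι _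
    let i' : N.obj ⟶ ((Scheme.Modules.pushforward U.ι).obj N.obj).restrict U.ι :=
      inv ((Scheme.Modules.restrictAdjunction U.ι).counit.app N.obj)
    haveI : Mono i' := inferInstance
    have hUc : IsCompact (U : Set X) := NoetherianSpace.isCompact _
    obtain ⟨F, i, e, hi, hFq, hFf, he⟩ := exists_extension_qcqs U hUc
      ((Scheme.Modules.pushforward U.ι).obj N.obj) N.obj i'
    exact ⟨⟨F, ⟨hFq, hFf⟩⟩, ⟨ObjectProperty.isoMk _ e⟩⟩

/-- fullness up to `W` -/
theorem exists_wres_comp_eq_map (A B : ObjectProperty.FullSubcategory (fun M : X.Modules => Coh.IsCoh M))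
    (g : (Lfun U hres).obj A ⟶ (Lfun U hres).obj B) :
    ∃ (A' : ObjectProperty.FullSubcategory (fun M : X.Modules => Coh.IsCoh M)) (s : A' ⟶ A) (a : A' ⟶ B),
      Wres U hres s ∧ (Lfun U hres).map s ≫ g = (Lfun U hres).map a := by
  obtain ⟨H, p₁, p₂, hH, hp₁, hp₂⟩ := exists_graph_extension A.obj B.obj A.2 B.2.1 U g.hom
  refine ⟨⟨H, hH⟩, ObjectProperty.homMk p₁, ObjectProperty.homMk p₂, (wres_iff U hres _).2 hp₁, ?_⟩
  apply ObjectProperty.hom_ext
  exact hp₂.symm

/-- **`Coh(U)` is the localization of `Coh(X)`** at the morphisms which are isomorphisms over `U` -/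
theorem isLocalization : (Lfun U hres).IsLocalization (Wres U hres) :=
  Groth.Agent.Lib.Helper6.LocRecog.isLocalization_of_fractions (Lfun U hres) (Wres U hres)
    (fun _ _ _ hf => hf) (exists_wres_comp_eq_map U hres) (fun _ _ a b h => exists_wres_comp_eq U hres a b h)

end Groth.Agent.Lib.Helper6.CohLoc
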