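import Groth.Agent.Lib.Helper6.DevGen
import Groth.Agent.Lib.Helper28.TwistAmple
import Mathlib
set_option backward.isDefEq.respectTransparency.types false
set_option autoImplicit false

/-!
# Morphisms out of `I^n G` vanishing off `V(I)`
-/

universe u
open CategoryTheory CategoryTheory.Limits AlgebraicGeometry Opposite TopologicalSpace
open Groth.Agent.Lib.Helper17.CohKer Groth.Agent.Lib.Helper17.StalkExact Groth.Agent.Lib.Helper28.QCohLoc

namespace Groth.Agent.Lib.Helper6.DevDel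
open Groth.Agent.Lib.Helper6.DevSub Groth.Agent.Lib.Helper6.DevCore Groth.Agent.Lib.Helper6.DevSoc
  Groth.Agent.Lib.Helper6.DevRed Groth.Agent.Lib.Helper6.DevSum Groth.Agent.Lib.Helper17.Serre
  Groth.Agent.Lib.Helper6.DevStep Groth.Agent.Lib.Helper6.DevExt Groth.Agent.Lib.Helper6.DevPow
  Groth.Agent.Lib.Helper6.IdealMul Groth.Agent.Lib.Helper6.DevFin Groth.Agent.Lib.Helper6.DevRoots
  Groth.Agent.Lib.Helper6.DevChev Groth.Agent.Lib.Helper6.DevIdeal Groth.Agent.Lib.Helper6.DevGen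

variable {X : Scheme.{u}}

/-- a morphism whose restriction to an open `U` vanishes is zero on sections over opens inside `U` -/
theorem app_eq_zero_of_restrict_eq_zero {M N : X.Modules} (ψ : M ⟶ N) (U : X.Opens)
    (h : (Scheme.Modules.restrictFunctor U.ι).map ψ = 0) (W : X.Opens) (hW : W ≤ U) (y : Γ(M, W)) :
    ψ.app W y = 0 := by
  have himg : U.ι ''ᵁ (U.ι ⁻¹ᵁ W) = W := by
    rw [Scheme.Hom.image_preimage_eq_opensRange_inf, Scheme.Opens.opensRange_ι]
    exact inf_eq_right.2 hW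
  have h2 : ∀ y : Γ(M, U.ι ''ᵁ (U.ι ⁻¹ᵁ W)), ψ.app (U.ι ''ᵁ (U.ι ⁻¹ᵁ W)) y = 0 := by
    intro y
    have := congrArg (fun φ : (Scheme.Modules.restrictFunctor U.ι).obj M ⟶
      (Scheme.Modules.restrictFunctor U.ι).obj N => φ.app (U.ι ⁻¹ᵁ W) y) h
    exact this
  rw [himg] at h2
  exact h2 y

/-- a morphism whose restriction to an open `U` vanishes is zero on the stalks at the points of `U` -/
theorem stalkHom_eq_zero_of_restrict_eq_zero {M N : X.Modules} (ψ : M ⟶ N) (U : X.Opens)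
    (h : (Scheme.Modules.restrictFunctor U.ι).map ψ = 0) (x : X) (hx : x ∈ U) (m : M.presheaf.stalk x) :
    stalkHom ψ x m = 0 := by
  obtain ⟨W, hxW, s, rfl⟩ := TopCat.Presheaf.exists_germ_eq M.presheaf m
  have hx' : x ∈ W ⊓ U := ⟨hxW, hx⟩
  rw [← germ_res' M x (inf_le_left : W ⊓ U ≤ W) hx', stalkHom_germ,
    app_eq_zero_of_restrict_eq_zero ψ U h (W ⊓ U) inf_le_right]
  exact map_zero _

/-- on a Noetherian scheme, an ideal whose zero locus contains that of `J` has a power contained in `J` -/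
theorem exists_pow_le_of_support_le [IsNoetherian X] (I J : X.IdealSheafData)
    (h : J.support ≤ I.support) : ∃ m : ℕ, I ^ m ≤ J := by
  classical
  have hrad : I ≤ J.radical := by
    refine (Scheme.IdealSheafData.le_radical (I := I)).trans ?_
    rw [← Scheme.IdealSheafData.vanishingIdeal_support, ← Scheme.IdealSheafData.vanishingIdeal_support]
    rw [← Scheme.IdealSheafData.le_support_iff_le_vanishingIdeal]
    exact h
  obtain ⟨s, hs⟩ : ∃ s : Finset X.affineOpens, ∀ x : X, ∃ U ∈ s, x ∈ U.1 := by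
    obtain ⟨s, hs⟩ := isCompact_univ.elim_finite_subcover (fun U : X.affineOpens => (U.1 : Set X))
      (fun U => U.1.2) (by
        intro x _
        obtain ⟨_, ⟨U, hU, rfl⟩, hxU, -⟩ :=
          X.isBasis_affineOpens.exists_subset_of_mem_open (Set.mem_univ x) isOpen_univ
        exact Set.mem_iUnion.2 ⟨⟨U, hU⟩, hxU⟩)
    refine ⟨s, fun x => ?_⟩
    obtain ⟨U, hU, hxU⟩ := Set.mem_iUnion₂.1 (hs (Set.mem_univ x))
    exact ⟨U, hU, hxU⟩
  have hex : ∀ U : X.affineOpens, ∃ m : ℕ, (I.ideal U) ^ m ≤ J.ideal U := by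
    intro U
    haveI : IsNoetherianRing Γ(X, U.1) := IsLocallyNoetherian.component_noetherian U
    have h1 : I.ideal U ≤ (J.ideal U).radical := by
      have := hrad U
      rwa [Scheme.IdealSheafData.radical_ideal] at this
    exact Ideal.exists_pow_le_of_le_radical_of_fg h1 ((isNoetherianRing_iff_ideal_fg _).1 inferInstance _)
  choose m hm using hex
  refine ⟨s.sup m, ?_⟩
  refine Scheme.IdealSheafData.le_of_iSup_eq_top (fun U : s => U.1) ?_ (fun U => ?_)
  · rw [eq_top_iff]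
    intro x _
    obtain ⟨U, hU, hxU⟩ := hs x
    exact Opens.mem_iSup.2 ⟨⟨U, hU⟩, hxU⟩
  · change (I.ideal U.1) ^ (s.sup m) ≤ J.ideal U.1
    exact (Ideal.pow_le_pow_right (Finset.le_sup U.2)).trans (hm U.1)

section main

variable [IsNoetherian X]

/-- `I^(m+n) G ⟶ I^n G`, with sections in `I^m · (I^n G)` -/
theorem exists_pow_add_lift (G : X.Modules) [G.IsQuasicoherent] (I : X.IdealSheafData) (m n : ℕ) :
    ∃ α : (Dual3.idealMul (I ^ (m + n))).obj G ⟶ (Dual3.idealMul (I ^ n)).obj G,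
      α ≫ Dual3.idealMulι (I ^ n) G = Dual3.idealMulι (I ^ (m + n)) G ∧
      ∀ (U : X.affineOpens) (s : Γ((Dual3.idealMul (I ^ (m + n))).obj G, U.1)),
        α.app U.1 s ∈ ((I ^ m).ideal U) •
          (⊤ : Submodule Γ(X, U.1) Γ((Dual3.idealMul (I ^ n)).obj G, U.1)) := by
  have h1 : ∀ (U : X.affineOpens) (s : Γ((Dual3.idealMul (I ^ (m + n))).obj G, U.1)),
      (Dual3.idealMulι (I ^ (m + n)) G).app U.1 s ∈
        ((I ^ n).ideal U) • (⊤ : Submodule Γ(X, U.1) Γ(G, U.1)) := by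
    intro U s
    refine Submodule.smul_mono_left ?_ (idealMulι_app_mem (I ^ (m + n)) G U s)
    change (I.ideal U) ^ (m + n) ≤ (I.ideal U) ^ n
    exact Ideal.pow_le_pow_right (Nat.le_add_left n m)
  obtain ⟨α, hα⟩ := exists_lift_idealMul (I ^ n) G _ h1
  refine ⟨α, hα, fun U s => ?_⟩
  have h2 : (Dual3.idealMulι (I ^ (m + n)) G).app U.1 s ∈
      ((I ^ m).ideal U) • (((I ^ n).ideal U) • (⊤ : Submodule Γ(X, U.1) Γ(G, U.1))) := by
    have h3 := idealMulι_app_mem (I ^ (m + n)) G U s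
    have h4 : (I ^ (m + n)).ideal U = (I ^ m).ideal U * (I ^ n).ideal U := by
      change (I.ideal U) ^ (m + n) = (I.ideal U) ^ m * (I.ideal U) ^ n
      exact pow_add _ _ _
    rw [h4, Submodule.mul_smul] at h3
    exact h3
  have key : ∀ y : Γ(G, U.1), y ∈ ((I ^ m).ideal U) • (((I ^ n).ideal U) •
      (⊤ : Submodule Γ(X, U.1) Γ(G, U.1))) →
      ∃ t : Γ((Dual3.idealMul (I ^ n)).obj G, U.1), t ∈ ((I ^ m).ideal U) •
        (⊤ : Submodule Γ(X, U.1) Γ((Dual3.idealMul (I ^ n)).obj G, U.1)) ∧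
        (Dual3.idealMulι (I ^ n) G).app U.1 t = y := by
    intro y hy
    refine Submodule.smul_induction_on hy (fun a ha g hg => ?_) (fun y₁ y₂ h₁ h₂ => ?_)
    · obtain ⟨t₀, ht₀⟩ := exists_idealMul_app_eq (I ^ n) G U g hg
      refine ⟨a • t₀, Submodule.smul_mem_smul ha trivial, ?_⟩
      rw [Scheme.Modules.Hom.app_smul, ht₀]
    · obtain ⟨t₁, ht₁, e₁⟩ := h₁
      obtain ⟨t₂, ht₂, e₂⟩ := h₂
      exact ⟨t₁ + t₂, Submodule.add_mem _ ht₁ ht₂, by rw [map_add, e₁, e₂]⟩
  obtain ⟨t, ht, et⟩ := key _ h2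
  have e : α.app U.1 s = t := by
    apply app_injective_of_mono (Dual3.idealMulι (I ^ n) G) U.1
    rw [et]
    exact congrArg (fun φ : (Dual3.idealMul (I ^ (m + n))).obj G ⟶ G => φ.app U.1 s) hα
  rw [e]
  exact ht

open Groth.Agent.Lib.Helper17.AnnIdeal in
/-- **a morphism `I^n G ⟶ F` vanishing off `V(I)` vanishes on `I^N G` for `N` large.** -/
theorem exists_pow_comp_eq_zero (F G : X.Modules) (hF : Coh.IsQCoh F) (hG : Coh.IsCoh G)
    (I : X.IdealSheafData) (U : X.Opens) (hU : (U : Set X) = (I.support : Set X)ᶜ) (n : ℕ)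
    (ψ : (Dual3.idealMul (I ^ n)).obj G ⟶ F)
    (hψ : (Scheme.Modules.restrictFunctor U.ι).map ψ = 0) :
    ∃ (N : ℕ) (ι : (Dual3.idealMul (I ^ N)).obj G ⟶ (Dual3.idealMul (I ^ n)).obj G),
      ι ≫ Dual3.idealMulι (I ^ n) G = Dual3.idealMulι (I ^ N) G ∧ ι ≫ ψ = 0 := by
  classical
  haveI : F.IsQuasicoherent := hF
  haveI : G.IsQuasicoherent := hG.1
  haveI : SheafOfModules.IsFiniteType.{u} (R := X.ringCatSheaf) G := hG.2
  have hGn : Coh.IsCoh ((Dual3.idealMul (I ^ n)).obj G) :=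
    ⟨inferInstance, isFiniteType_of_mono (Dual3.idealMulι (I ^ n) G)⟩
  haveI : SheafOfModules.IsFiniteType.{u} (R := X.ringCatSheaf) ((Dual3.idealMul (I ^ n)).obj G) := hGn.2
  haveI : (kernel ψ).IsQuasicoherent := isQuasicoherent_kernel ψ
  have hT : Coh.IsCoh (kernel ψ) := ⟨inferInstance, isFiniteType_of_mono (kernel.ι ψ)⟩
  have hQ : Coh.IsCoh (Abelian.coimage ψ) := isCoh_cokernel (kernel.ι ψ) hT hGn
  haveI : (Abelian.coimage ψ).IsQuasicoherent := hQ.1
  haveI : SheafOfModules.IsFiniteType.{u} (R := X.ringCatSheaf) (Abelian.coimage ψ : X.Modules) := hQ.2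
  have hsupp : CohB1.support (Abelian.coimage ψ) ⊆ (I.support : Set X) := by
    intro x hx
    by_contra hxI
    have hxU : x ∈ U := by
      change x ∈ (U : Set X)
      rw [hU]
      exact hxI
    apply hx
    have key : ∀ q : (Abelian.coimage ψ).presheaf.stalk x, q = 0 := by
      intro q
      obtain ⟨g, rfl⟩ := stalkHom_surjective_of_epi (Abelian.coimage.π ψ) x q
      apply stalkHom_injective_of_mono (Abelian.factorThruCoimage ψ) x
      rw [← stalkHom_comp, Abelian.coimage.fac, map_zero]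
      exact stalkHom_eq_zero_of_restrict_eq_zero ψ U hψ x hxU g
    exact ⟨fun q₁ q₂ => by rw [key q₁, key q₂]⟩
  obtain ⟨m, hm⟩ := exists_pow_le_of_support_le I (annIdeal (Abelian.coimage ψ)) (by
    rw [← SetLike.coe_subset_coe, support_annIdeal]
    exact hsupp)
  obtain ⟨α, hα, hαmem⟩ := exists_pow_add_lift G I m n
  refine ⟨m + n, α, hα, ?_⟩
  -- `α` factors through `I^m · (I^n G)`, which is killed in the coimage
  obtain ⟨β, hβ⟩ := exists_lift_idealMul (I ^ m) ((Dual3.idealMul (I ^ n)).obj G) α hαmem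
  have hkill : Dual3.idealMulι (I ^ m) ((Dual3.idealMul (I ^ n)).obj G) ≫ Abelian.coimage.π ψ = 0 :=
    idealMulι_comp_eq_zero (I ^ m) _ (fun V a ha s => by
      have h1 := hm V ha
      rw [annIdeal_ideal] at h1
      exact Module.mem_annihilator.1 h1 s) _
  rw [← Abelian.coimage.fac ψ, ← hβ, Category.assoc, ← Category.assoc (Dual3.idealMulι (I ^ m) _), hkill,
    zero_comp, comp_zero]

end main

end Groth.Agent.Lib.Helper6.DevDel
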