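import Groth.Agent.Lib.Helper6.CohTopClosed

/-!
# Restriction of abelian sheaves to an open subspace (helper6)
-/

universe u

open CategoryTheory Limits Opposite TopologicalSpace

namespace Groth.Agent.Lib.Helper6.CohTopRestr

open CohTop

variable {X : TopCat.{u}} (U : Opens X)

/-- The image functor `Opens U ⥤ Opens X`. -/
abbrev jF : Opens (TopCat.of U) ⥤ Opens X := U.isOpenEmbedding.isOpenMap.functor

lemma restr_obj (G : Ab X) (W : Opens (TopCat.of U)) :
    ((restrFunctor U).obj G).obj.obj (op W) = G.obj.obj (op ((jF U).obj W)) := rfl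

lemma restr_map_app {G G' : Ab X} (g : G ⟶ G') (W : Opens (TopCat.of U)) :
    ((restrFunctor U).map g).hom.app (op W) = g.hom.app (op ((jF U).obj W)) := rfl

lemma jF_top : (jF U).obj ⊤ = U := by
  ext x
  simp only [jF]
  constructor
  · rintro ⟨y, -, rfl⟩
    exact y.2
  · intro hx
    exact ⟨⟨x, hx⟩, trivial, rfl⟩

instance : (restrFunctor U).IsRightAdjoint := by
  dsimp only [restrFunctor, Opens.sheafRestrict]
  infer_instance

instance restr_pfl : PreservesFiniteLimits (restrFunctor U) := by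
  have := (Adjunction.ofIsRightAdjoint (restrFunctor U)).rightAdjoint_preservesLimits
  exact PreservesLimits.preservesFiniteLimits _

lemma mem_jF_obj {W : Opens (TopCat.of U)} {x : X} :
    x ∈ (jF U).obj W ↔ ∃ y : U, y ∈ W ∧ y.1 = x := Iff.rfl

/-- Restriction to an open preserves epimorphisms. -/
lemma epi_restr_map {F G : Ab X} (φ : F ⟶ G) [hφ : Epi φ] : Epi ((restrFunctor U).map φ) := by
  have hls := (TopCat.Sheaf.isLocallySurjective_iff_epi (F := F) (G := G) φ).2 hφ
  rw [TopCat.Presheaf.isLocallySurjective_iff] at hls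
  refine (TopCat.Sheaf.isLocallySurjective_iff_epi _).1 ?_
  rw [TopCat.Presheaf.isLocallySurjective_iff]
  intro W t y hy
  obtain ⟨V, hV, ⟨s, hs⟩, hyV⟩ := hls ((jF U).obj W) t y.1 ⟨y, hy, rfl⟩
  let W' : Opens (TopCat.of U) := ⟨Subtype.val ⁻¹' (V : Set X), V.2.preimage continuous_subtype_val⟩
  have hW'V : (jF U).obj W' ≤ V := by
    rintro _ ⟨z, hz, rfl⟩
    exact hz
  have hW'W : W' ≤ W := by
    intro z hz
    obtain ⟨z', hz', hzz'⟩ := hV hz
    have : z' = z := Subtype.ext hzz'
    rw [← this]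
    exact hz'
  refine ⟨W', hW'W, ⟨F.obj.map (homOfLE hW'V).op s, ?_⟩, hyV⟩
  have nat := ConcreteCategory.congr_hom (φ.hom.naturality (homOfLE hW'V).op) s
  rw [ConcreteCategory.comp_apply, ConcreteCategory.comp_apply, hs] at nat
  refine nat.trans ?_
  change (G.obj.map _ (G.obj.map _ t)) = G.obj.map _ t
  rw [← ConcreteCategory.comp_apply, ← G.obj.map_comp]
  rfl

attribute [local instance] HasDerivedCategory.standard in
/-- Restriction to an open preserves short exact sequences. -/
lemma restr_shortExact {S : ShortComplex (Ab X)} (hS : S.ShortExact) :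
    (S.map (restrFunctor U)).ShortExact := by
  have := hS.epi_g
  exact RDAcyc.map_shortExact _ hS (epi_restr_map U S.g)

/-- The restriction of a flasque sheaf is flasque. -/
instance restr_flasque (F : Ab X) [hF : TopCat.Sheaf.IsFlasque F] :
    TopCat.Sheaf.IsFlasque ((restrFunctor U).obj F) where
  epi {W₁ W₂} i := hF.epi ((jF U).map i.unop).op

section Theta

open Abelian SheafCoh CohTopLeray DeltaCompare

/-- `G(U) ≅ (G|_U)(⊤)`. -/
noncomputable def secIso (G : Ab X) :
    G.obj.obj (op U) ≅ ((restrFunctor U).obj G).obj.obj (op ⊤) :=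
  G.obj.mapIso (eqToIso (jF_top U)).op

lemma secIso_naturality {G G' : Ab X} (g : G ⟶ G') :
    g.hom.app (op U) ≫ (secIso U G').hom =
      (secIso U G).hom ≫ ((restrFunctor U).map g).hom.app (op ⊤) :=
  (g.hom.naturality _).symm

lemma addEquiv₀_mk₀ {A B : Ab X} (f : A ⟶ B) : Ext.addEquiv₀ (Ext.mk₀ f) = f := by
  rw [← Ext.addEquiv₀_symm_apply, AddEquiv.apply_symm_apply]

lemma H'equiv₀_naturality {G G' : Ab X} (g : G ⟶ G')
    (x : Ext (Zfree (Opens.grothendieckTopology X) U) G 0) :
    H'equiv₀ (Opens.grothendieckTopology X) G' U (x.comp (Ext.mk₀ g) (add_zero 0)) =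
      g.hom.app (op U) (H'equiv₀ (Opens.grothendieckTopology X) G U x) := by
  obtain ⟨φ, rfl⟩ := Ext.addEquiv₀.symm.surjective x
  simp only [H'equiv₀, AddEquiv.trans_apply, Ext.addEquiv₀_symm_apply, Ext.mk₀_comp_mk₀,
    addEquiv₀_mk₀, homAddEquiv_apply]
  exact homEquiv_naturality_right _ φ g

/-- `H^0(U, G) ≃+ H^0(U, G|_U)`. -/
noncomputable def equivθ (G : Ab X) :
    Ext (Zfree (Opens.grothendieckTopology X) U) G 0 ≃+
      CohTop.H ((restrFunctor U).obj G) 0 :=
  (H'equiv₀ (Opens.grothendieckTopology X) G U).trans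
    ((secIso U G).addCommGroupIsoToAddEquiv.trans
      (Sheaf.H.equiv₀ ((restrFunctor U).obj G) (isTerminalTop (α := Opens (TopCat.of U)))).symm)

lemma equivθ_naturality {G G' : Ab X} (g : G ⟶ G')
    (x : Ext (Zfree (Opens.grothendieckTopology X) U) G 0) :
    equivθ U G' (x.comp (Ext.mk₀ g) (add_zero 0)) =
      Sheaf.H.map ((restrFunctor U).map g) 0 (equivθ U G x) := by
  have h2 := Sheaf.H.equiv₀_symm_naturality (isTerminalTop (α := Opens (TopCat.of U)))
    ((restrFunctor U).map g)
    ((secIso U G).hom (H'equiv₀ (Opens.grothendieckTopology X) G U x))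
  refine Eq.trans ?_ h2.symm
  refine congrArg (Sheaf.H.equiv₀ ((restrFunctor U).obj G')
    (isTerminalTop (α := Opens (TopCat.of U)))).symm ?_
  have h1 := ConcreteCategory.congr_hom (secIso_naturality U g)
    (H'equiv₀ (Opens.grothendieckTopology X) G U x)
  rw [ConcreteCategory.comp_apply, ConcreteCategory.comp_apply] at h1
  refine Eq.trans ?_ h1
  exact congrArg (secIso U G').hom (H'equiv₀_naturality U g x)

/-- The natural isomorphism `H^0(U, -) ≅ H^0(U, (-)|_U)`. -/
noncomputable def θ : extFunctorObj (Zfree (Opens.grothendieckTopology X) U) 0 ≅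
    restrFunctor U ⋙ extFunctorObj (ZZ (TopCat.of U)) 0 :=
  NatIso.ofComponents (fun G => (equivθ U G).toAddCommGrpIso) (fun {G G'} g => by
    ext x
    exact equivθ_naturality U g x)

/-- `H^n(U, F) ≃+ H^n(U, F|_U)`. -/
theorem nonempty_HU_addEquiv (F : Ab X) (n : ℕ) :
    Nonempty (CohTop.HU F n U ≃+ CohTop.H (CohTop.restr F U) n) := by
  obtain ⟨e⟩ := delta_compare
    (fun n => extFunctorObj (Zfree (Opens.grothendieckTopology X) U) n)
    (fun n => restrFunctor U ⋙ extFunctorObj (ZZ (TopCat.of U)) n) (θ U)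
    (fun _ => True) (fun G _ => by
      have hE := ExtAcyc.sesUnder_shortExact G
      have hI : Injective (ExtAcyc.sesUnder G).X₂ := inferInstance
      refine ⟨_, _, (ExtAcyc.sesUnder G).f, (ExtAcyc.sesUnder G).g, trivial,
        ExtShift.hasShift_ext _ _ hE (fun n x => Ext.eq_zero_of_injective x),
        ExtShift.hasShift_ext_comp (restrFunctor U) (ZZ (TopCat.of U)) _
          (restr_shortExact U hE) (fun n x => ?_)⟩
      exact flasque_H_eq_zero ((restrFunctor U).obj (ExtAcyc.sesUnder G).X₂) n x) n F trivial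
  exact ⟨e.addCommGroupIsoToAddEquiv⟩

end Theta

end Groth.Agent.Lib.Helper6.CohTopRestr
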