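import Groth.Agent.Lib.Helper6.DevSum
import Mathlib
set_option backward.isDefEq.respectTransparency.types false
set_option autoImplicit false

/-!
# Direct images of `O_Y / J_W` along closed affine morphisms
-/

universe u
open CategoryTheory CategoryTheory.Limits AlgebraicGeometry Opposite TopologicalSpace
open Groth.Agent.Lib.Helper17.CohKer Groth.Agent.Lib.Helper17.StalkExact Groth.Agent.Lib.Helper28.QCohLoc

namespace Groth.Agent.Lib.Helper6.DevFin
open Groth.Agent.Lib.Helper6.DevSub Groth.Agent.Lib.Helper6.DevCore Groth.Agent.Lib.Helper6.DevSoc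
  Groth.Agent.Lib.Helper6.DevRed Groth.Agent.Lib.Helper6.DevSum Groth.Agent.Lib.Helper17.Serre

variable {X Y : Scheme.{u}}

/-- sections of `O_X / I` over an affine open are killed by the ideal -/
theorem smul_quotMod_eq_zero (I : X.IdealSheafData) (U : X.affineOpens) (a : Γ(X, U.1)) (ha : a ∈ I.ideal U)
    (t : Γ(ClSub.quotMod I, U.1)) : a • t = 0 := by
  have h0 : I.subschemeι.app U.1 a = 0 := by
    have : a ∈ RingHom.ker (I.subschemeι.app U.1).hom := by rw [I.ker_subschemeι_app U]; exact ha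
    exact this
  have : (a • t : Γ(ClSub.quotMod I, U.1)) =
      ((I.subschemeι.app U.1).hom a • (show Γ(Coh.structureModule I.subscheme, I.subschemeι ⁻¹ᵁ U.1) from t) :
        Γ(Coh.structureModule I.subscheme, I.subschemeι ⁻¹ᵁ U.1)) := rfl
  rw [this, h0, zero_smul]
  rfl

/-- a section over an open set missing the support is zero -/
theorem section_eq_zero_of_notMem_support (F : X.Modules) (V : X.Opens)
    (h : ∀ x ∈ V, x ∉ CohB1.support F) (t : Γ(F, V)) : t = 0 := by
  refine TopCat.Presheaf.section_ext ((SheafOfModules.toSheaf.{u} X.ringCatSheaf).obj F) V _ _ (fun y hy => ?_)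
  have hs : Subsingleton (F.presheaf.stalk y) := not_not.1 (h y hy)
  exact hs.elim _ _

/-- the support of the direct image of `O_Y / I` along a closed map -/
theorem support_push_quotMod (f : Y ⟶ X) (hf : IsClosedMap f) (I : Y.IdealSheafData) :
    CohB1.support ((Coh.push f).obj (ClSub.quotMod I)) = f '' (I.support : Set Y) := by
  apply subset_antisymm
  · intro x hx
    by_contra hxr
    apply hx
    let V : X.Opens := ⟨(f '' (I.support : Set Y))ᶜ, (hf _ I.support.isClosed).isOpen_compl⟩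
    suffices h : ∀ m : ((Coh.push f).obj (ClSub.quotMod I)).presheaf.stalk x, m = 0 from
      ⟨fun m m' => by rw [h m, h m']⟩
    intro m
    obtain ⟨U, hxU, t, rfl⟩ := TopCat.Presheaf.exists_germ_eq ((Coh.push f).obj (ClSub.quotMod I)).presheaf m
    have hW : x ∈ U ⊓ V := ⟨hxU, hxr⟩
    rw [← germ_res' ((Coh.push f).obj (ClSub.quotMod I)) x (inf_le_left : U ⊓ V ≤ U) hW]
    have h0 : res ((Coh.push f).obj (ClSub.quotMod I)) (inf_le_left : U ⊓ V ≤ U) t = 0 := by
      refine section_eq_zero_of_notMem_support (ClSub.quotMod I) (f ⁻¹ᵁ (U ⊓ V)) ?_ _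
      intro w hw hws
      rw [support_quotMod] at hws
      exact hw.2 ⟨w, hws, rfl⟩
    rw [h0]
    exact map_zero _
  · rintro x ⟨w, hw, rfl⟩ hsub
    let F := ClSub.quotMod I
    let one : Γ((Coh.push f).obj F, ⊤) :=
      (ClSub.toSubscheme I).app (f ⁻¹ᵁ ⊤) (show Γ(Coh.structureModule Y, f ⁻¹ᵁ ⊤) from (1 : Γ(Y, f ⁻¹ᵁ ⊤)))
    have h1 : ((Coh.push f).obj F).presheaf.germ ⊤ (f w) trivial one =
        ((Coh.push f).obj F).presheaf.germ ⊤ (f w) trivial 0 := hsub.elim _ _
    obtain ⟨W, hxW, i₁, i₂, hW⟩ := TopCat.Presheaf.germ_eq _ _ _ _ _ _ h1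
    apply gen_ne_zero I w hw
    have h2 : gen I w = F.presheaf.germ (f ⁻¹ᵁ ⊤) w trivial one := by
      unfold gen
      have := germ_eq_smul_oneGerm w (f ⁻¹ᵁ ⊤) trivial 1
      rw [map_one, one_smul] at this
      rw [← this, stalkHom_germ]
    rw [h2, ← germ_res' F w (show f ⁻¹ᵁ W ≤ f ⁻¹ᵁ ⊤ from fun _ _ => trivial) hxW]
    have h3 : res F (show f ⁻¹ᵁ W ≤ f ⁻¹ᵁ ⊤ from fun _ _ => trivial) one = 0 := by
      have := hW
      rw [map_zero] at this
      exact this
    rw [h3]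
    exact map_zero _

/-- the stalk at `f y` of the direct image of `O_Y / J_W`, `W` the closure of `y`, along an affine morphism is
killed by the maximal ideal. -/
theorem maximalIdeal_smul_push (f : Y ⟶ X) [IsAffineHom f] (y : Y) (Z : Closeds Y) (hZ : closure {y} = (Z : Set Y))
    (x : X) (hx : f y = x) (a : X.presheaf.stalk x) (ha : a ∈ IsLocalRing.maximalIdeal (X.presheaf.stalk x))
    (m : ((Coh.push f).obj (ClSub.quotMod (Scheme.IdealSheafData.vanishingIdeal Z))).presheaf.stalk x) :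
    a • m = 0 := by
  subst hx
  obtain ⟨U₂, h₂, t, rfl⟩ := TopCat.Presheaf.exists_germ_eq
    ((Coh.push f).obj (ClSub.quotMod (Scheme.IdealSheafData.vanishingIdeal Z))).presheaf m
  obtain ⟨U₁, h₁, s, rfl⟩ := TopCat.Presheaf.exists_germ_eq X.presheaf a
  obtain ⟨_, ⟨U, hU, rfl⟩, hyU, hUU⟩ :=
    X.isBasis_affineOpens.exists_subset_of_mem_open (show f y ∈ U₁ ⊓ U₂ from ⟨h₁, h₂⟩) (U₁ ⊓ U₂).2
  have hU₁ : U ≤ U₁ := fun z hz => (hUU hz).1
  have hU₂ : U ≤ U₂ := fun z hz => (hUU hz).2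
  have e1 : X.presheaf.germ U₁ (f y) h₁ s = X.presheaf.germ U (f y) hyU (resO hU₁ s) :=
    (TopCat.Presheaf.germ_res_apply X.presheaf (homOfLE hU₁) (f y) hyU s).symm
  rw [e1] at ha ⊢
  rw [← germ_res' ((Coh.push f).obj (ClSub.quotMod (Scheme.IdealSheafData.vanishingIdeal Z))) (f y) hU₂ hyU,
    ← germ_smul']
  have hV : IsAffineOpen (f ⁻¹ᵁ U) := hU.preimage f
  have hmem : f.app U (resO hU₁ s) ∈ (Scheme.IdealSheafData.vanishingIdeal Z).ideal ⟨f ⁻¹ᵁ U, hV⟩ := by
    refine mem_vanishingIdeal_of_germ_mem Z y hZ ⟨f ⁻¹ᵁ U, hV⟩ hyU _ ?_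
    rw [← Scheme.Hom.germ_stalkMap_apply]
    exact map_nonunit (f.stalkMap y).hom _ ha
  have h0 : (resO hU₁ s •
      res ((Coh.push f).obj (ClSub.quotMod (Scheme.IdealSheafData.vanishingIdeal Z))) hU₂ t :
      Γ((Coh.push f).obj (ClSub.quotMod (Scheme.IdealSheafData.vanishingIdeal Z)), U)) = 0 := by
    have : (resO hU₁ s •
        res ((Coh.push f).obj (ClSub.quotMod (Scheme.IdealSheafData.vanishingIdeal Z))) hU₂ t :
        Γ((Coh.push f).obj (ClSub.quotMod (Scheme.IdealSheafData.vanishingIdeal Z)), U)) =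
        ((f.app U).hom (resO hU₁ s) •
          (show Γ(ClSub.quotMod (Scheme.IdealSheafData.vanishingIdeal Z), f ⁻¹ᵁ U) from
            res ((Coh.push f).obj (ClSub.quotMod (Scheme.IdealSheafData.vanishingIdeal Z))) hU₂ t) :
          Γ(ClSub.quotMod (Scheme.IdealSheafData.vanishingIdeal Z), f ⁻¹ᵁ U)) := rfl
    rw [this]
    exact smul_quotMod_eq_zero _ ⟨f ⁻¹ᵁ U, hV⟩ _ hmem _
  rw [h0]
  exact map_zero _

end Groth.Agent.Lib.Helper6.DevFin
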