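import Groth.Agent.Lib.Helper16.PBM2
import Groth.Agent.Lib.Helper2.SerreVan
import Groth.Prelude.Def_BrSev
import Mathlib
set_option backward.isDefEq.respectTransparency.types false
set_option autoImplicit false
universe u
open AlgebraicGeometry CategoryTheory Opposite TopologicalSpace CategoryTheory.Limits

/-!
# Helper6 — ASBunTens: tensor products of finite direct sums, and of absolutely isotypical modules
-/

namespace Groth.Agent.Lib.Helper6.ASBunTens

variable {Y : Scheme.{u}}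

instance additive_flip_obj (B : Y.Modules) : ((DCoh.tensorBi (X := Y)).flip.obj B).Additive where
  map_add {P Q f g} := by
    show ((DCoh.tensorBi (X := Y)).map (f + g)).app B = _
    rw [Functor.map_add]
    rfl

/-- a finite direct sum of copies indexed by a finite type of cardinality `N` is the `N`-th power -/
theorem nonempty_sigma_iso_pow {ι : Type} [Fintype ι] (M : Y.Modules) (N : ℕ) (h : Fintype.card ι = N) :
    Nonempty ((∐ fun _ : ι => M) ≅ BrSev.pow M N) := by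
  subst h
  exact ⟨Sigma.whiskerEquiv (f := fun _ : ι => M) (g := fun _ : Fin (Fintype.card ι) => M)
    (Fintype.equivFin ι) (fun _ => Iso.refl M)⟩

/-- `A^r ⊗ B^s ≅ (A ⊗ B)^{rs}` -/
theorem nonempty_pow_tensor (A B : Y.Modules) (r s : ℕ) :
    Nonempty (CohB1.tensorMod (BrSev.pow A r) (BrSev.pow B s) ≅
      BrSev.pow (CohB1.tensorMod A B) (r * s)) := by
  -- first variable
  let e1 : CohB1.tensorMod (BrSev.pow A r) (BrSev.pow B s) ≅
      ∐ fun _ : Fin s => CohB1.tensorMod (BrSev.pow A r) B :=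
    PreservesCoproduct.iso ((DCoh.tensorBi (X := Y)).obj (BrSev.pow A r)) (fun _ : Fin s => B)
  let e2 : CohB1.tensorMod (BrSev.pow A r) B ≅ ∐ fun _ : Fin r => CohB1.tensorMod A B :=
    PreservesCoproduct.iso ((DCoh.tensorBi (X := Y)).flip.obj B) (fun _ : Fin r => A)
  let e3 : (∐ fun _ : Fin s => CohB1.tensorMod (BrSev.pow A r) B) ≅
      ∐ fun _ : Fin s => ∐ fun _ : Fin r => CohB1.tensorMod A B := Sigma.mapIso (fun _ => e2)
  let e4 := sigmaSigmaIso (fun _ : Fin s => Fin r) (fun _ _ => CohB1.tensorMod A B)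
  obtain ⟨e5⟩ := nonempty_sigma_iso_pow (ι := Σ _ : Fin s, Fin r) (CohB1.tensorMod A B) (r * s) (by
    rw [Fintype.card_sigma]
    simp [mul_comm])
  exact ⟨e1 ≪≫ e3 ≪≫ e4 ≪≫ e5⟩

theorem nonempty_pow_iso {A B : Y.Modules} (e : A ≅ B) (r : ℕ) :
    Nonempty (BrSev.pow A r ≅ BrSev.pow B r) := ⟨Sigma.mapIso (fun _ => e)⟩

section Main

variable {k : Type u} [Field k] {X : Scheme.{u}} (f : X ⟶ Spec (CommRingCat.of k)) (n : ℕ)
  (K : Type u) [Field K] [Algebra k K] (e : BrSev.Splitting f K n)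

/-- `O_e(j) ⊗ O_e(l) ≅ O_e(j + l)` -/
theorem nonempty_twist_tensor (j l : ℤ) :
    Nonempty (CohB1.tensorMod (e.twist j) (e.twist l) ≅ e.twist (j + l)) := by
  obtain ⟨μ⟩ := Groth.Agent.Lib.Helper2.SerreVan.nonempty_Tw_twist_iso n K j l
  exact ⟨Groth.Agent.Lib.Helper16.PBM.muIso e.iso.hom _ _ ≪≫
    (Scheme.Modules.pullback e.iso.hom).mapIso μ⟩

/-- S14204 -/
theorem isTwPow_tensorMod (j l : ℤ) (r s : ℕ) (W W' : X.Modules)
    (hWt : BrSev.IsTwPow e j r W) (hW't : BrSev.IsTwPow e l s W') :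
    BrSev.IsTwPow e (j + l) (r * s) (CohB1.tensorMod W W') := by
  obtain ⟨e₁⟩ := hWt
  obtain ⟨e₂⟩ := hW't
  obtain ⟨e₃⟩ := nonempty_pow_tensor (e.twist j) (e.twist l) r s
  obtain ⟨e₄⟩ := nonempty_twist_tensor f n K e j l
  obtain ⟨e₅⟩ := nonempty_pow_iso e₄ (r * s)
  refine ⟨(Groth.Agent.Lib.Helper16.PBM.muIso (BrSev.proj f K) W W').symm ≪≫ ?_ ≪≫ e₃ ≪≫ e₅⟩
  exact (DCoh.tensorBi.mapIso e₁).app _ ≪≫ (DCoh.tensorBi.obj _).mapIso e₂

end Main

end Groth.Agent.Lib.Helper6.ASBunTens
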