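import Mathlib

/-!
# Extending algebra maps to adic completions

For an `R`-algebra `Q`, an ideal `I` of `R` and an `R`-algebra `B` which is adically complete for
`I B`, every `R`-algebra map `θ : Q → B` extends to the `I Q`-adic completion of `Q`
(`completionLift`), and two `R`-algebra maps out of the completion which agree on `Q` are equal
when `I` is finitely generated (`completion_algHom_ext`).
-/

namespace Groth.Agent.Lib.Helper6

section completion

variable {R : Type*} [CommRing R] (I : Ideal R) {Q : Type*} [CommRing Q] [Algebra R Q]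
  {B : Type*} [CommRing B] [Algebra R B]

lemma map_pow_le (θ : Q →ₐ[R] B) (n : ℕ) :
    (I.map (algebraMap R Q)) ^ n ≤ ((I.map (algebraMap R B)) ^ n).comap (θ : Q →+* B) := by
  rw [← Ideal.map_le_iff_le_comap, Ideal.map_pow, Ideal.map_map]
  have : (θ : Q →+* B).comp (algebraMap R Q) = algebraMap R B := θ.comp_algebraMap
  rw [this]

/-- The maps `Q^ → B / I^n B` induced by `θ : Q → B`. -/
noncomputable def stage (θ : Q →ₐ[R] B) (n : ℕ) :
    AdicCompletion (I.map (algebraMap R Q)) Q →ₐ[R] B ⧸ (I.map (algebraMap R B)) ^ n :=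
  { toRingHom := (Ideal.quotientMap ((I.map (algebraMap R B)) ^ n) (θ : Q →+* B)
        (map_pow_le I θ n)).comp
      (AdicCompletion.evalₐ (I.map (algebraMap R Q)) n : _ →+* _)
    commutes' := fun r => by
      simp only [RingHom.toMonoidHom_eq_coe, OneHom.toFun_eq_coe, MonoidHom.toOneHom_coe,
        MonoidHom.coe_coe, RingHom.coe_comp, RingHom.coe_coe, Function.comp_apply]
      rw [AdicCompletion.algebraMap_apply, AdicCompletion.evalₐ_of, Ideal.quotientMap_mk]
      simp }

lemma stage_mk (θ : Q →ₐ[R] B) (n : ℕ)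
    (a : AdicCompletion.AdicCauchySequence (I.map (algebraMap R Q)) Q) :
    stage I θ n (AdicCompletion.mk _ _ a) = Ideal.Quotient.mk _ (θ (a n)) := by
  change (Ideal.quotientMap ((I.map (algebraMap R B)) ^ n) (θ : Q →+* B) (map_pow_le I θ n))
    (AdicCompletion.evalₐ (I.map (algebraMap R Q)) n (AdicCompletion.mk _ _ a)) = _
  rw [AdicCompletion.evalₐ_mk, Ideal.quotientMap_mk]
  rfl

lemma stage_of (θ : Q →ₐ[R] B) (n : ℕ) (q : Q) :
    stage I θ n (AdicCompletion.of _ _ q) = Ideal.Quotient.mk _ (θ q) := by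
  change (Ideal.quotientMap ((I.map (algebraMap R B)) ^ n) (θ : Q →+* B) (map_pow_le I θ n))
    (AdicCompletion.evalₐ (I.map (algebraMap R Q)) n (AdicCompletion.of _ _ q)) = _
  rw [AdicCompletion.evalₐ_of, Ideal.quotientMap_mk]
  rfl

lemma stage_compat (θ : Q →ₐ[R] B) {m n : ℕ} (hle : m ≤ n) :
    (Ideal.Quotient.factorₐ R (Ideal.pow_le_pow_right hle)).comp (stage I θ n) = stage I θ m := by
  apply AlgHom.ext
  intro x
  induction x using AdicCompletion.induction_on with
  | h a =>
    rw [AlgHom.comp_apply, stage_mk, stage_mk]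
    rw [Ideal.Quotient.factorₐ_apply_mk, Ideal.Quotient.eq, ← map_sub]
    apply map_pow_le I θ m
    have := a.2 hle
    rw [SModEq.sub_mem] at this
    simpa using (Ideal.neg_mem_iff _).mpr this

lemma eq_of_forall_mk_eq {S : Type*} [CommRing S] (K : Ideal S) [IsHausdorff K S] {x y : S}
    (h : ∀ n, Ideal.Quotient.mk (K ^ n) x = Ideal.Quotient.mk (K ^ n) y) : x = y := by
  rw [← sub_eq_zero]
  apply IsHausdorff.haus' (I := K)
  intro n
  rw [SModEq.zero, smul_eq_mul, Ideal.mul_top]
  exact (Ideal.Quotient.eq).mp (h n)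

section lift

variable [IsAdicComplete (I.map (algebraMap R B)) B]

/-- The extension of `θ : Q → B` to the `I Q`-adic completion of `Q`, for `B` complete. -/
noncomputable def completionLift (θ : Q →ₐ[R] B) :
    AdicCompletion (I.map (algebraMap R Q)) Q →ₐ[R] B :=
  IsAdicComplete.liftAlgHom (I.map (algebraMap R B)) (stage I θ)
    (fun hle => stage_compat I θ hle)

lemma completionLift_of (θ : Q →ₐ[R] B) (q : Q) :
    completionLift I θ (AdicCompletion.of _ _ q) = θ q := by
  apply eq_of_forall_mk_eq (I.map (algebraMap R B))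
  intro n
  have := IsAdicComplete.mk_liftAlgHom (I.map (algebraMap R B)) (stage I θ)
    (fun hle => stage_compat I θ hle) n (AdicCompletion.of _ _ q)
  rw [stage_of] at this
  exact this

end lift

lemma algebraMap_comp_eq :
    (algebraMap Q (AdicCompletion (I.map (algebraMap R Q)) Q)).comp (algebraMap R Q) =
      algebraMap R (AdicCompletion (I.map (algebraMap R Q)) Q) :=
  RingHom.ext fun _ => rfl

lemma mem_map_of_evalₐ_eq_zero (hI : I.FG) (n : ℕ)
    (y : AdicCompletion (I.map (algebraMap R Q)) Q)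
    (hy : AdicCompletion.evalₐ (I.map (algebraMap R Q)) n y = 0) :
    y ∈ (I ^ n).map (algebraMap R (AdicCompletion (I.map (algebraMap R Q)) Q)) := by
  have hJ : (I.map (algebraMap R Q)).FG := hI.map _
  have h1 : y ∈ ((I.map (algebraMap R Q)) ^ n • ⊤ :
      Submodule Q (AdicCompletion (I.map (algebraMap R Q)) Q)) := by
    rw [AdicCompletion.pow_smul_top_eq_ker_eval hJ, LinearMap.mem_ker,
      ← AdicCompletion.factor_evalₐ_eq_eval (I.map (algebraMap R Q)) y
        (by rw [smul_eq_mul, Ideal.mul_top]), hy, map_zero]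
  rw [Ideal.smul_top_eq_map, Submodule.restrictScalars_mem, ← Ideal.map_pow, Ideal.map_map,
    algebraMap_comp_eq] at h1
  exact h1

lemma completion_algHom_ext [IsAdicComplete (I.map (algebraMap R B)) B] (hI : I.FG)
    {α β : AdicCompletion (I.map (algebraMap R Q)) Q →ₐ[R] B}
    (h : ∀ q : Q, α (AdicCompletion.of _ _ q) = β (AdicCompletion.of _ _ q)) : α = β := by
  apply IsAdicComplete.algHom_ext (I.map (algebraMap R B))
  intro n
  apply AlgHom.ext
  intro x
  obtain ⟨q, hq⟩ := Ideal.Quotient.mk_surjective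
    (AdicCompletion.evalₐ (I.map (algebraMap R Q)) n x)
  have hy : x - AdicCompletion.of _ _ q ∈
      (I ^ n).map (algebraMap R (AdicCompletion (I.map (algebraMap R Q)) Q)) := by
    apply mem_map_of_evalₐ_eq_zero I hI n
    rw [map_sub, AdicCompletion.evalₐ_of, hq, sub_self]
  have key : ∀ γ : AdicCompletion (I.map (algebraMap R Q)) Q →ₐ[R] B,
      Ideal.Quotient.mk ((I.map (algebraMap R B)) ^ n) (γ x) =
        Ideal.Quotient.mk ((I.map (algebraMap R B)) ^ n) (γ (AdicCompletion.of _ _ q)) := by
    intro γ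
    rw [Ideal.Quotient.eq, ← map_sub, ← Ideal.map_pow]
    have h2 := Ideal.mem_map_of_mem (γ : _ →+* B) hy
    rw [Ideal.map_map, γ.comp_algebraMap] at h2
    exact h2
  change Ideal.Quotient.mk _ (α x) = Ideal.Quotient.mk _ (β x)
  rw [key α, key β, h q]

end completion

end Groth.Agent.Lib.Helper6
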