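import Mathlib
import Groth.Prelude.Def_BMCoh3

/-!
# Elements of the open-system colimits of a Borel–Moore pre-theory (helper6)
-/

universe u

open AlgebraicGeometry CategoryTheory CategoryTheory.Limits Opposite

namespace Groth.Agent.Lib.Helper6.BMColim

open BMCoh

variable {V : ObjectProperty Scheme.{u}} [IsConstructible V] {R : Type u} [CommRing R]
  {A : Coefs R} (T : PreTheory V R A) (X : Obj V) (P : X.scheme.Opens → Prop) (i n : ℤ) (M : A.Cat)

/-- the diagram of the open-system colimit -/
noncomputable abbrev F : (Idx X P)ᵒᵖ ⥤ (A.Cat ⥤ ModuleCat.{u} R) := (idxDiag X P).op ⋙ T.H i n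

/-- the diagram evaluated at a coefficient module -/
noncomputable abbrev G : (Idx X P)ᵒᵖ ⥤ ModuleCat.{u} R := F T X P i n ⋙ (evaluation _ _).obj M

/-- the evaluated colimit cocone is a colimit -/
noncomputable def isColimitEval :
    IsColimit (((evaluation A.Cat (ModuleCat.{u} R)).obj M).mapCocone (colimit.cocone (F T X P i n))) :=
  isColimitOfPreserves _ (colimit.isColimit _)

/-- restriction between members of the index family -/
noncomputable abbrev resMap {U U' : Idx X P} (h : U' ≤ U) :
    T.gp (X.res U.1) M i n ⟶ T.gp (X.res U'.1) M i n :=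
  T.pull ((idxDiag X P).map (homOfLE h)) M i n

lemma resMap_ι {U U' : Idx X P} (h : U' ≤ U) :
    resMap T X P i n M h ≫ (T.ocolimι X P i n U').app M = (T.ocolimι X P i n U).app M := by
  have := colimit.w (F T X P i n) (homOfLE h).op
  exact congrArg (fun t => t.app M) this

lemma resMap_ι_apply {U U' : Idx X P} (h : U' ≤ U) (b : T.gp (X.res U.1) M i n) :
    ((T.ocolimι X P i n U').app M).hom ((resMap T X P i n M h).hom b) =
      ((T.ocolimι X P i n U).app M).hom b :=
  congrArg (fun t => t.hom b) (resMap_ι T X P i n M h)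

lemma resMap_comp {U U' U'' : Idx X P} (h : U' ≤ U) (h' : U'' ≤ U') (b : T.gp (X.res U.1) M i n) :
    (resMap T X P i n M h').hom ((resMap T X P i n M h).hom b) =
      (resMap T X P i n M (h'.trans h)).hom b := by
  have h2 := (G T X P i n M).map_comp (homOfLE h).op (homOfLE h').op
  have h3 : (homOfLE h).op ≫ (homOfLE h').op = ((homOfLE (h'.trans h)).op : op U ⟶ op U'') :=
    Subsingleton.elim _ _
  rw [h3] at h2
  exact (congrArg (fun t => t.hom b) h2).symm

variable [IsCodirectedOrder (Idx X P)] [Nonempty (Idx X P)]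

instance : IsFiltered (Idx X P)ᵒᵖ := by
  have : IsCofiltered (Idx X P) := isCofiltered_of_directed_ge_nonempty _
  infer_instance

/-- every element of the colimit comes from a member of the index family -/
lemma exists_rep (a : (T.ocolim X P i n).obj M) :
    ∃ (U : Idx X P) (b : T.gp (X.res U.1) M i n), ((T.ocolimι X P i n U).app M).hom b = a := by
  obtain ⟨j, y, hy⟩ := Concrete.isColimit_exists_rep (G T X P i n M) (isColimitEval T X P i n M) a
  exact ⟨j.unop, y, hy⟩

/-- two representatives agree in the colimit iff they agree on a smaller member -/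
lemma ι_eq_iff {U U' : Idx X P} (b : T.gp (X.res U.1) M i n) (b' : T.gp (X.res U'.1) M i n) :
    ((T.ocolimι X P i n U).app M).hom b = ((T.ocolimι X P i n U').app M).hom b' ↔
      ∃ (U'' : Idx X P) (h : U'' ≤ U) (h' : U'' ≤ U'),
        (resMap T X P i n M h).hom b = (resMap T X P i n M h').hom b' := by
  have := Concrete.isColimit_rep_eq_iff_exists (G T X P i n M) (i := op U) (j := op U')
    (isColimitEval T X P i n M) b b'
  refine this.trans ⟨?_, ?_⟩
  · rintro ⟨k, f, g, hfg⟩
    exact ⟨k.unop, leOfHom f.unop, leOfHom g.unop, hfg⟩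
  · rintro ⟨U'', h, h', hh⟩
    exact ⟨op U'', (homOfLE h).op, (homOfLE h').op, hh⟩

lemma ι_eq_zero_iff {U : Idx X P} (b : T.gp (X.res U.1) M i n) :
    ((T.ocolimι X P i n U).app M).hom b = 0 ↔
      ∃ (U'' : Idx X P) (h : U'' ≤ U), (resMap T X P i n M h).hom b = 0 := by
  have h0 : ((T.ocolimι X P i n U).app M).hom b = 0 ↔
      ((T.ocolimι X P i n U).app M).hom b = ((T.ocolimι X P i n U).app M).hom 0 := by
    rw [map_zero]
  rw [h0, ι_eq_iff]
  constructor
  · rintro ⟨U'', h, h', hh⟩
    exact ⟨U'', h, by rw [hh, map_zero]⟩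
  · rintro ⟨U'', h, hh⟩
    exact ⟨U'', h, h, by rw [hh, map_zero]⟩

end Groth.Agent.Lib.Helper6.BMColim
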