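import Mathlib

/-!
# Maximal points of closed subsets of Noetherian spaces (helper6)
-/

open TopologicalSpace Topology Set

namespace Groth.Agent.Lib.Helper6.BMComp

variable {X : Type*} [TopologicalSpace X]

/-- `x` is a maximal point of `Z`: it lies in `Z` and no other point of `Z` specializes to it. -/
def IsMaxPt (Z : Set X) (x : X) : Prop := x ∈ Z ∧ ∀ y ∈ Z, x ∈ closure ({y} : Set X) → y = x

variable [QuasiSober X]

lemma exists_mem_eq_closure {Z : Set X} {S : Set (Set X)} (hS1 : ∀ t ∈ S, IsClosed t)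
    (hS2 : ∀ t ∈ S, IsIrreducible t) (hZS : Z = ⋃₀ S) {x : X} (hx : IsMaxPt Z x) {k : Set X}
    (hk : k ∈ S) (hxk : x ∈ k) : k = closure {x} := by
  obtain ⟨y, hy⟩ := QuasiSober.sober (hS2 k hk) (hS1 k hk)
  have hyk : y ∈ k := hy.mem
  have hyZ : y ∈ Z := by
    rw [hZS]
    exact ⟨k, hk, hyk⟩
  have hxy : x ∈ closure ({y} : Set X) := by
    rw [hy.def]
    exact hxk
  rw [← hx.2 y hyZ hxy]
  exact hy.def.symm

variable [NoetherianSpace X]

lemma exists_compl_closed {Z : Set X} (hZ : IsClosed Z) {x : X} (hx : IsMaxPt Z x) :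
    ∃ Z' : Set X, IsClosed Z' ∧ Z' ⊆ Z ∧ x ∉ Z' ∧ Z = closure {x} ∪ Z' := by
  obtain ⟨S, hSf, hS1, hS2, hZS⟩ := NoetherianSpace.exists_finite_set_isClosed_irreducible hZ
  refine ⟨⋃₀ {k ∈ S | x ∉ k}, ?_, ?_, ?_, ?_⟩
  · rw [Set.sUnion_eq_biUnion]
    exact Set.Finite.isClosed_biUnion (hSf.subset (fun k (hk : k ∈ {k ∈ S | x ∉ k}) => hk.1))
      (fun k hk => hS1 k hk.1)
  · rintro z ⟨k, ⟨hk, _⟩, hzk⟩
    rw [hZS]
    exact ⟨k, hk, hzk⟩
  · rintro ⟨k, ⟨_, hxk⟩, hxk'⟩
    exact hxk hxk'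
  · apply Set.Subset.antisymm
    · intro z hz
      rw [hZS] at hz
      obtain ⟨k, hk, hzk⟩ := hz
      by_cases hxk : x ∈ k
      · left
        rw [← exists_mem_eq_closure hS1 hS2 hZS hx hk hxk]
        exact hzk
      · right
        exact ⟨k, ⟨hk, hxk⟩, hzk⟩
    · apply Set.union_subset
      · exact closure_minimal (Set.singleton_subset_iff.2 hx.1) hZ
      · rintro z ⟨k, ⟨hk, _⟩, hzk⟩
        rw [hZS]
        exact ⟨k, hk, hzk⟩

lemma finite_setOf_isMaxPt [T0Space X] {Z : Set X} (hZ : IsClosed Z) : {x | IsMaxPt Z x}.Finite := by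
  obtain ⟨S, hSf, hS1, hS2, hZS⟩ := NoetherianSpace.exists_finite_set_isClosed_irreducible hZ
  refine Set.Finite.of_finite_image (f := fun x => closure ({x} : Set X)) (hSf.subset ?_) ?_
  · rintro _ ⟨x, hx, rfl⟩
    have hxZ := hx.1
    rw [hZS] at hxZ
    obtain ⟨k, hk, hxk⟩ := hxZ
    change closure ({x} : Set X) ∈ S
    rw [← exists_mem_eq_closure hS1 hS2 hZS hx hk hxk]
    exact hk
  · intro x _ y _ hxy
    replace hxy : closure ({x} : Set X) = closure {y} := hxy
    have h1 : x ⤳ y := by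
      rw [specializes_iff_mem_closure, hxy]
      exact subset_closure rfl
    have h2 : y ⤳ x := by
      rw [specializes_iff_mem_closure, ← hxy]
      exact subset_closure rfl
    exact (h1.antisymm h2).eq

end Groth.Agent.Lib.Helper6.BMComp
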