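import Mathlib
import Groth.Prelude.Def_WeilCoh

/-!
# Dimension lemmas for the Borel–Moore cluster (helper6)

Elementary facts on `WeilCoh.natDim` (Krull dimension read as a natural number) for finite
dimensional spaces: monotonicity under inducing maps, strict monotonicity for a proper closed
subset of an irreducible set, and existence of a point whose closure has the dimension of the space.
-/

universe u

open TopologicalSpace Topology Order Set

namespace Groth.Agent.Lib.Helper6.BMDim

section Top

variable {X Y : Type*} [TopologicalSpace X] [TopologicalSpace Y]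

lemma natDim_le_of_isInducing {f : Y → X} (hf : IsInducing f) (hX : topologicalKrullDim X < ⊤) :
    WeilCoh.natDim Y ≤ WeilCoh.natDim X := by
  have h := hf.topologicalKrullDim_le
  unfold WeilCoh.natDim
  have h1 : (topologicalKrullDim Y).unbotD 0 ≤ (topologicalKrullDim X).unbotD 0 := by
    cases hY : topologicalKrullDim Y with
    | bot => simp
    | coe a =>
      cases hX' : topologicalKrullDim X with
      | bot => rw [hY, hX'] at h; simp at h
      | coe b =>
        rw [hY, hX'] at h
        simpa using h
  refine ENat.toNat_le_toNat h1 ?_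
  cases hX' : topologicalKrullDim X with
  | bot => simp
  | coe b =>
    rw [hX'] at hX
    simp only [WithBot.unbotD_coe]
    intro hb
    rw [hb] at hX
    exact lt_irrefl _ hX

lemma finDim_of_isInducing {f : Y → X} (hf : IsInducing f) (hX : topologicalKrullDim X < ⊤) :
    topologicalKrullDim Y < ⊤ :=
  lt_of_le_of_lt hf.topologicalKrullDim_le hX

lemma nonempty_irreducibleCloseds [Nonempty X] : Nonempty (IrreducibleCloseds X) :=
  ⟨⟨closure {Classical.arbitrary X}, isIrreducible_singleton.closure, isClosed_closure⟩⟩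

lemma natDim_coe [Nonempty X] (hX : topologicalKrullDim X < ⊤) :
    ((WeilCoh.natDim X : ℕ) : WithBot ℕ∞) = topologicalKrullDim X := by
  have : Nonempty (IrreducibleCloseds X) := nonempty_irreducibleCloseds
  have h0 : (0 : WithBot ℕ∞) ≤ topologicalKrullDim X := Order.krullDim_nonneg
  unfold WeilCoh.natDim
  cases hX' : topologicalKrullDim X with
  | bot => rw [hX'] at h0; simp at h0
  | coe b =>
    rw [hX'] at hX
    simp only [WithBot.unbotD_coe]
    have hb : b ≠ ⊤ := by
      intro hb
      rw [hb] at hX
      exact lt_irrefl _ hX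
    lift b to ℕ using hb
    simp

lemma le_natDim_of_ltSeries [Nonempty X] (hX : topologicalKrullDim X < ⊤)
    (l : LTSeries (IrreducibleCloseds X)) : l.length ≤ WeilCoh.natDim X := by
  have h : ((l.length : ℕ) : WithBot ℕ∞) ≤ topologicalKrullDim X :=
    Order.le_krullDim_iff.2 ⟨l, rfl⟩
  rw [← natDim_coe hX] at h
  exact_mod_cast h

lemma exists_ltSeries [Nonempty X] (hX : topologicalKrullDim X < ⊤) :
    ∃ l : LTSeries (IrreducibleCloseds X), l.length = WeilCoh.natDim X :=
  Order.le_krullDim_iff.1 (natDim_coe hX).le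

/-- a proper closed subset of an irreducible set has smaller dimension -/
lemma natDim_add_one_le {A B : Set X} (hAB : A ⊆ B) (hne : A ≠ B) (hA : IsClosed A)
    (hAn : A.Nonempty) (hB : IsIrreducible B) (hd : topologicalKrullDim ↥B < ⊤) :
    WeilCoh.natDim ↥A + 1 ≤ WeilCoh.natDim ↥B := by
  have : Nonempty ↥A := hAn.to_subtype
  have : Nonempty ↥B := hB.nonempty.to_subtype
  have hι : IsInducing (Set.inclusion hAB) := (Topology.IsEmbedding.inclusion hAB).isInducing
  have hdA : topologicalKrullDim ↥A < ⊤ := finDim_of_isInducing hι hd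
  obtain ⟨l, hl⟩ := exists_ltSeries hdA
  let topB : IrreducibleCloseds ↥B :=
    ⟨Set.univ, (isIrreducible_iff_irreducibleSpace.1 hB).isIrreducible_univ, isClosed_univ⟩
  let l' : LTSeries (IrreducibleCloseds ↥B) :=
    l.map (IrreducibleCloseds.map (Set.inclusion hAB) hι.continuous)
      (IrreducibleCloseds.map_strictMono_of_isInducing hι)
  have hlt : l'.last < topB := by
    have hcl : IsClosed ((Subtype.val : ↥B → X) ⁻¹' A) := hA.preimage continuous_subtype_val
    have hsub : ((l'.last : IrreducibleCloseds ↥B) : Set ↥B) ⊆ (Subtype.val : ↥B → X) ⁻¹' A := by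
      change closure (Set.inclusion hAB '' _) ⊆ _
      refine closure_minimal ?_ hcl
      rintro _ ⟨a, _, rfl⟩
      exact a.2
    refine lt_of_le_of_ne (fun b _ => Set.mem_univ b) ?_
    intro heq
    apply hne
    refine Set.Subset.antisymm hAB (fun b hb => ?_)
    have : (⟨b, hb⟩ : ↥B) ∈ ((l'.last : IrreducibleCloseds ↥B) : Set ↥B) := by
      rw [heq]
      exact Set.mem_univ _
    exact hsub this
  have h2 := le_natDim_of_ltSeries hd (l'.snoc topB hlt)
  simp only [RelSeries.snoc_length, l', LTSeries.map_length] at h2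
  omega

lemma closure_singleton_ssubset [T0Space X] {x y : X} (hy : y ∈ closure ({x} : Set X)) (hne : y ≠ x) :
    closure ({y} : Set X) ⊆ closure {x} ∧ closure ({y} : Set X) ≠ closure {x} := by
  refine ⟨closure_minimal (Set.singleton_subset_iff.2 hy) isClosed_closure, fun heq => hne ?_⟩
  have h1 : x ⤳ y := specializes_iff_mem_closure.2 hy
  have h2 : y ⤳ x := by
    rw [specializes_iff_mem_closure, heq]
    exact subset_closure rfl
  exact (h1.antisymm h2).eq.symm

lemma natDim_closure_le (hX : topologicalKrullDim X < ⊤) (S : Set X) :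
    WeilCoh.natDim ↥S ≤ WeilCoh.natDim X :=
  natDim_le_of_isInducing IsInducing.subtypeVal hX

lemma finDim_subtype (hX : topologicalKrullDim X < ⊤) (S : Set X) :
    topologicalKrullDim ↥S < ⊤ :=
  finDim_of_isInducing IsInducing.subtypeVal hX

lemma natDim_mono_set (hX : topologicalKrullDim X < ⊤) {S S' : Set X} (h : S ⊆ S') :
    WeilCoh.natDim ↥S ≤ WeilCoh.natDim ↥S' :=
  natDim_le_of_isInducing (Topology.IsEmbedding.inclusion h).isInducing (finDim_subtype hX S')

/-- a proper specialization has smaller dimension -/
lemma natDim_closure_lt [T0Space X] (hX : topologicalKrullDim X < ⊤) {x y : X}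
    (hy : y ∈ closure ({x} : Set X)) (hne : y ≠ x) :
    WeilCoh.natDim ↥(closure ({y} : Set X)) < WeilCoh.natDim ↥(closure ({x} : Set X)) := by
  obtain ⟨h1, h2⟩ := closure_singleton_ssubset hy hne
  have := natDim_add_one_le h1 h2 isClosed_closure ⟨y, subset_closure rfl⟩
    isIrreducible_singleton.closure (finDim_subtype hX _)
  omega

/-- along a strictly increasing chain of irreducible closed sets the dimension grows -/
lemma le_natDim_ltSeries (hX : topologicalKrullDim X < ⊤) (l : LTSeries (IrreducibleCloseds X)) :
    ∀ (k : ℕ) (hk : k < l.length + 1), k ≤ WeilCoh.natDim ↥((l ⟨k, hk⟩ : IrreducibleCloseds X) : Set X) := by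
  intro k
  induction k with
  | zero => intro _; exact Nat.zero_le _
  | succ k ih =>
    intro hk
    have hk' : k < l.length + 1 := by omega
    have h1 := ih hk'
    have hlt : l ⟨k, hk'⟩ < l ⟨k + 1, hk⟩ := l.strictMono (by simp [Fin.lt_def])
    have h2 := natDim_add_one_le (A := ((l ⟨k, hk'⟩ : IrreducibleCloseds X) : Set X))
      (B := ((l ⟨k + 1, hk⟩ : IrreducibleCloseds X) : Set X)) hlt.le
      (fun h => hlt.ne (IrreducibleCloseds.ext h)) (l ⟨k, hk'⟩).isClosed
      (l ⟨k, hk'⟩).isIrreducible.nonempty (l ⟨k + 1, hk⟩).isIrreducible (finDim_subtype hX _)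
    omega

/-- in a nonempty finite dimensional quasi-sober space some point has a closure of the dimension of
the space -/
lemma exists_natDim_closure_eq [QuasiSober X] [Nonempty X] (hX : topologicalKrullDim X < ⊤) :
    ∃ ξ : X, WeilCoh.natDim ↥(closure ({ξ} : Set X)) = WeilCoh.natDim X := by
  obtain ⟨l, hl⟩ := exists_ltSeries hX
  have h := le_natDim_ltSeries hX l l.length (by omega)
  obtain ⟨ξ, hξ⟩ := QuasiSober.sober (l ⟨l.length, by omega⟩).isIrreducible
    (l ⟨l.length, by omega⟩).isClosed
  refine ⟨ξ, le_antisymm (natDim_closure_le hX _) ?_⟩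
  rw [hξ.def, ← hl]
  exact h

end Top

end Groth.Agent.Lib.Helper6.BMDim
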