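import Mathlib
import Groth.Prelude.Def_BMCoh3
import Groth.Agent.Lib.Helper6.BMDim
import Groth.Agent.Lib.Helper6.BMComp

/-!
# Geometry of objects of a constructible class (helper6)
-/

universe u

open AlgebraicGeometry CategoryTheory TopologicalSpace Topology Set

namespace Groth.Agent.Lib.Helper6.BMGeom

open BMCoh BMDim BMComp

section Scheme

variable {X : Scheme.{u}} (hX : topologicalKrullDim X < ⊤)

include hX

lemma pdim_le_dim (x : X) : WeilCoh.pdim X x ≤ WeilCoh.dim X :=
  natDim_closure_le hX _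

lemma pdim_mono {x y : X} (hy : y ∈ closure ({x} : Set X)) : WeilCoh.pdim X y ≤ WeilCoh.pdim X x :=
  natDim_mono_set hX (closure_minimal (Set.singleton_subset_iff.2 hy) isClosed_closure)

lemma pdim_lt {x y : X} (hy : y ∈ closure ({x} : Set X)) (hne : y ≠ x) :
    WeilCoh.pdim X y < WeilCoh.pdim X x :=
  natDim_closure_lt hX hy hne

lemma codim_mono {x y : X} (hy : y ∈ closure ({x} : Set X)) : WeilCoh.codim X x ≤ WeilCoh.codim X y := by
  have := pdim_mono hX hy
  unfold WeilCoh.codim
  omega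

lemma codim_lt {x y : X} (hy : y ∈ closure ({x} : Set X)) (hne : y ≠ x) :
    WeilCoh.codim X x < WeilCoh.codim X y := by
  have h1 := pdim_lt hX hy hne
  have h2 := pdim_le_dim hX x
  unfold WeilCoh.codim
  omega

lemma exists_codim_eq_zero [Nonempty X] : ∃ ξ : X, WeilCoh.pdim X ξ = WeilCoh.dim X :=
  exists_natDim_closure_eq hX

lemma dim_opens_le (U : X.Opens) : WeilCoh.dim (U : Scheme.{u}) ≤ WeilCoh.dim X :=
  natDim_closure_le hX (U : Set X)

lemma dim_opens_mono {U U' : X.Opens} (h : U ≤ U') :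
    WeilCoh.dim (U : Scheme.{u}) ≤ WeilCoh.dim (U' : Scheme.{u}) :=
  natDim_mono_set hX (S := (U : Set X)) (S' := (U' : Set X)) h

end Scheme

section Obj

variable {V : ObjectProperty Scheme.{u}} [IsConstructible V]

lemma finDim (X : Obj V) : topologicalKrullDim X.scheme < ⊤ := IsConstructible.finiteDim X.mem

instance isNoetherian (X : Obj V) : IsNoetherian X.scheme := IsConstructible.isNoetherian X.mem

lemma range_ptSubι (X : Obj V) (x : X.scheme) : Set.range (X.ptSubι x) = closure {x} := by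
  rw [Scheme.IdealSheafData.range_subschemeι, Scheme.IdealSheafData.coe_support_vanishingIdeal]
  rfl

lemma isClosedEmbedding_ptSubι (X : Obj V) (x : X.scheme) :
    IsClosedEmbedding (X.ptSubι x) := (X.ptSubι x).isClosedEmbedding

/-- the reduced closure of a point is homeomorphic to the closure -/
noncomputable def ptSubHomeo (X : Obj V) (x : X.scheme) :
    (X.ptSub x).scheme ≃ₜ ↥(closure ({x} : Set X.scheme)) :=
  ((isClosedEmbedding_ptSubι X x).isEmbedding.toHomeomorph).trans
    (Homeomorph.setCongr (range_ptSubι X x))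

lemma ptSubHomeo_apply (X : Obj V) (x : X.scheme) (w : (X.ptSub x).scheme) :
    ((ptSubHomeo X x w : ↥(closure ({x} : Set X.scheme))) : X.scheme) = X.ptSubι x w := rfl

lemma dim_ptSub (X : Obj V) (x : X.scheme) :
    WeilCoh.dim (X.ptSub x).scheme = WeilCoh.pdim X.scheme x := by
  unfold WeilCoh.dim WeilCoh.pdim WeilCoh.natDim
  rw [IsHomeomorph.topologicalKrullDim_eq _ (ptSubHomeo X x).isHomeomorph]

instance irreducibleSpace_ptSub (X : Obj V) (x : X.scheme) : IrreducibleSpace (X.ptSub x).scheme := by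
  have : IrreducibleSpace ↥(closure ({x} : Set X.scheme)) :=
    Subtype.irreducibleSpace isIrreducible_singleton.closure
  exact (ptSubHomeo X x).symm.surjective.irreducibleSpace (ptSubHomeo X x).symm.continuous

lemma exists_ptSubι_eq (X : Obj V) (x : X.scheme) {z : X.scheme} (hz : z ∈ closure ({x} : Set X.scheme)) :
    ∃ w : (X.ptSub x).scheme, X.ptSubι x w = z := by
  rw [← range_ptSubι X x] at hz
  exact hz

/-- every nonempty open of the reduced closure of `x` contains (the preimage of) `x` -/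
lemma exists_mem_ptSubι_eq (X : Obj V) (x : X.scheme) (W : (X.ptSub x).scheme.Opens)
    (hW : (W : Set (X.ptSub x).scheme).Nonempty) : ∃ w ∈ W, X.ptSubι x w = x := by
  obtain ⟨η, hη⟩ := exists_ptSubι_eq X x (subset_closure rfl : x ∈ closure ({x} : Set X.scheme))
  refine ⟨η, ?_, hη⟩
  obtain ⟨w, hw⟩ := hW
  -- `η` specializes to `w`
  have h1 : X.ptSubι x w ∈ closure ({x} : Set X.scheme) := by
    rw [← range_ptSubι X x]
    exact ⟨w, rfl⟩
  have h2 : η ⤳ w := by
    rw [← (isClosedEmbedding_ptSubι X x).isInducing.specializes_iff, hη]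
    exact specializes_iff_mem_closure.2 h1
  exact h2.mem_open W.2 hw

lemma natDim_of_isEmpty (T : Type*) [TopologicalSpace T] [IsEmpty T] : WeilCoh.natDim T = 0 := by
  unfold WeilCoh.natDim topologicalKrullDim
  have : IsEmpty (IrreducibleCloseds T) := ⟨fun c => IsEmpty.false c.isIrreducible.nonempty.some⟩
  rw [Order.krullDim_eq_bot]
  rfl

/-- an open containing the points of codimension zero has the dimension of the whole object -/
lemma dim_eq_of_containsFj_zero (X : Obj V) (U : X.scheme.Opens) (hU : ContainsFj X 0 U) :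
    WeilCoh.dim (U : Scheme.{u}) = WeilCoh.dim X.scheme := by
  by_cases hne : Nonempty X.scheme
  · obtain ⟨ξ, hξ⟩ := exists_codim_eq_zero (finDim X)
    have hξU : ξ ∈ U := hU ξ (by unfold WeilCoh.codim; omega)
    let WP : (X.ptSub ξ).scheme.Opens := (X.ptSubι ξ) ⁻¹ᵁ U
    have hWP : (WP : Set (X.ptSub ξ).scheme).Nonempty := by
      obtain ⟨η, hη⟩ := exists_ptSubι_eq X ξ (subset_closure rfl : ξ ∈ closure ({ξ} : Set X.scheme))
      exact ⟨η, by change X.ptSubι ξ η ∈ U; rw [hη]; exact hξU⟩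
    have h1 : WeilCoh.dim (WP : Scheme.{u}) = WeilCoh.dim (X.ptSub ξ).scheme :=
      IsConstructible.dim_open (X.ptSub ξ).mem inferInstance WP hWP
    have h2 : WeilCoh.dim (WP : Scheme.{u}) ≤ WeilCoh.dim (U : Scheme.{u}) := by
      let g : ↥WP → ↥U := fun w => ⟨X.ptSubι ξ w.1, w.2⟩
      have hg : IsInducing g := by
        have h0 : IsInducing (fun w : ↥WP => X.ptSubι ξ w.1) :=
          (isClosedEmbedding_ptSubι X ξ).isInducing.comp IsInducing.subtypeVal
        exact h0.codRestrict (fun w => w.2)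
      exact natDim_le_of_isInducing hg (finDim_subtype (finDim X) _)
    rw [dim_ptSub, hξ] at h1
    exact le_antisymm (dim_opens_le (finDim X) U) (by omega)
  · have : IsEmpty X.scheme := not_nonempty_iff.1 hne
    have : IsEmpty ↥(U : Scheme.{u}) := ⟨fun z => IsEmpty.false (U.ι z)⟩
    unfold WeilCoh.dim
    rw [natDim_of_isEmpty, natDim_of_isEmpty]

lemma dim_eq_of_containsFj (X : Obj V) (j : ℕ) (U : X.scheme.Opens) (hU : ContainsFj X j U) :
    WeilCoh.dim (U : Scheme.{u}) = WeilCoh.dim X.scheme :=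
  dim_eq_of_containsFj_zero X U (containsFj_mono X (Nat.zero_le j) U hU)

/-- an open containing `F_jX`, as a member of the index family -/
def idxMk (X : Obj V) (j : ℕ) (U : X.scheme.Opens) (hU : ContainsFj X j U) :
    Idx X (ContainsFj X j) :=
  ⟨U, hU, dim_eq_of_containsFj X j U hU⟩

instance (X : Obj V) (j : ℕ) : Nonempty (Idx X (ContainsFj X j)) :=
  ⟨idxMk X j ⊤ (fun _ _ => trivial)⟩

instance (X : Obj V) (j : ℕ) : IsCodirectedOrder (Idx X (ContainsFj X j)) where
  directed U U' :=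
    ⟨idxMk X j (U.1 ⊓ U'.1) (fun y hy => ⟨U.2.1 y hy, U'.2.1 y hy⟩),
      (inf_le_left : U.1 ⊓ U'.1 ≤ U.1), (inf_le_right : U.1 ⊓ U'.1 ≤ U'.1)⟩

/-- a nonempty open of the reduced closure of a point, as a member of the index family -/
def ptIdxMk (X : Obj V) (x : X.scheme) (W : (X.ptSub x).scheme.Opens)
    (hW : (W : Set (X.ptSub x).scheme).Nonempty) : ptIdx X x :=
  ⟨W, hW, IsConstructible.dim_open (X.ptSub x).mem inferInstance W hW⟩

instance (X : Obj V) (x : X.scheme) : Nonempty (ptIdx X x) :=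
  ⟨ptIdxMk X x ⊤ (by
    obtain ⟨η, _⟩ := exists_ptSubι_eq X x (subset_closure rfl : x ∈ closure ({x} : Set X.scheme))
    exact ⟨η, trivial⟩)⟩

instance (X : Obj V) (x : X.scheme) : IsCodirectedOrder (ptIdx X x) where
  directed W W' := by
    obtain ⟨w, hw, _⟩ := exists_mem_ptSubι_eq X x W.1 W.2.1
    obtain ⟨w', hw', _⟩ := exists_mem_ptSubι_eq X x W'.1 W'.2.1
    have hne : ((W.1 ⊓ W'.1 : (X.ptSub x).scheme.Opens) : Set (X.ptSub x).scheme).Nonempty :=
      nonempty_preirreducible_inter W.1.2 W'.1.2 ⟨w, hw⟩ ⟨w', hw'⟩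
    exact ⟨ptIdxMk X x (W.1 ⊓ W'.1) hne, (inf_le_left : W.1 ⊓ W'.1 ≤ W.1),
      (inf_le_right : W.1 ⊓ W'.1 ≤ W'.1)⟩

end Obj

end Groth.Agent.Lib.Helper6.BMGeom
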