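import Mathlib
import Groth.Prelude.Def_BMCoh3
import Groth.Agent.Lib.Helper6.BMGeom

/-!
# One-point decompositions (helper6)

A nonempty open `W` of the reduced closure of a point `x` of an object `X`, two opens `U₀ ≤ U` of `X`
(of the dimension of `X`) with `U ∖ U₀` the image of `W`: then `W` is a closed subscheme of `U` with open
complement `U₀`, a decomposition in the sense of the Gysin sequence.
-/

universe u

open AlgebraicGeometry CategoryTheory TopologicalSpace Topology Set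

namespace Groth.Agent.Lib.Helper6.BMDecomp

open BMCoh BMGeom

variable {V : ObjectProperty Scheme.{u}} [IsConstructible V]

/-- the data of a one-point decomposition -/
structure Piece (X : Obj V) (x : X.scheme) where
  /-- the open of the reduced closure -/
  W : ptIdx X x
  /-- the ambient open -/
  U : X.scheme.Opens
  /-- the open complement -/
  U₀ : X.scheme.Opens
  le : U₀ ≤ U
  mem_iff : ∀ z : X.scheme, (z ∈ U ∧ z ∉ U₀) ↔ z ∈ X.ptSubι x '' (W.1 : Set (X.ptSub x).scheme)
  dimU : WeilCoh.dim (U : Scheme.{u}) = WeilCoh.dim X.scheme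
  dimU₀ : WeilCoh.dim (U₀ : Scheme.{u}) = WeilCoh.dim X.scheme

namespace Piece

variable {X : Obj V} {x : X.scheme} (p : Piece X x)

lemma range_subset : Set.range (p.W.1.ι ≫ X.ptSubι x) ⊆ Set.range p.U.ι := by
  rintro _ ⟨w, rfl⟩
  rw [Scheme.Opens.range_ι]
  exact ((p.mem_iff _).2 ⟨w.1, w.2, rfl⟩).1

/-- the closed immersion of the piece into the ambient open -/
noncomputable def f : ((X.ptSub x).res p.W.1).scheme ⟶ (X.res p.U).scheme :=
  IsOpenImmersion.lift p.U.ι (p.W.1.ι ≫ X.ptSubι x) p.range_subset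

@[reassoc]
lemma f_ι : p.f ≫ p.U.ι = p.W.1.ι ≫ X.ptSubι x :=
  IsOpenImmersion.lift_fac _ _ _

lemma f_apply (w : ((X.ptSub x).res p.W.1).scheme) :
    p.U.ι (p.f w) = X.ptSubι x (p.W.1.ι w) := by
  have := congrArg (fun g => g w) p.f_ι
  exact this

lemma range_f : Set.range p.f = p.U.ι ⁻¹' (p.U₀ : Set X.scheme)ᶜ := by
  ext u
  constructor
  · rintro ⟨w, rfl⟩
    change p.U.ι (p.f w) ∉ p.U₀
    rw [f_apply]
    exact ((p.mem_iff _).2 ⟨p.W.1.ι w, (w : ↥p.W.1).2, rfl⟩).2
  · intro hu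
    have hu1 : p.U.ι u ∈ p.U := by
      have : p.U.ι u ∈ Set.range p.U.ι := ⟨u, rfl⟩
      rwa [Scheme.Opens.range_ι] at this
    obtain ⟨w, hw, hwu⟩ := (p.mem_iff _).1 ⟨hu1, hu⟩
    refine ⟨(⟨w, hw⟩ : ↥p.W.1), ?_⟩
    apply p.U.ι.isOpenEmbedding.injective
    rw [f_apply]
    exact hwu

instance : IsClosedImmersion p.f := by
  have h1 : IsPreimmersion (p.f ≫ p.U.ι) := by
    rw [f_ι]
    infer_instance
  have h2 : IsPreimmersion p.f := IsPreimmersion.of_comp p.f p.U.ι
  refine IsClosedImmersion.of_isPreimmersion _ ?_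
  rw [range_f]
  exact (p.U₀.2.isClosed_compl).preimage p.U.ι.continuous

/-- the decomposition -/
noncomputable def decomp : Decomp (X.res p.U) where
  Z := (X.ptSub x).res p.W.1
  U := X.res p.U₀
  i := p.f
  closedImm := inferInstance
  j := X.resLE p.le (p.dimU₀.trans p.dimU.symm)
  range_eq := by
    rw [range_f]
    ext u
    constructor
    · rintro ⟨v, rfl⟩
      intro hv
      apply hv
      change p.U.ι ((X.scheme.homOfLE p.le) v) ∈ p.U₀
      have h1 : p.U.ι ((X.scheme.homOfLE p.le) v) = p.U₀.ι v :=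
        congrArg (fun g => g v) (X.scheme.homOfLE_ι p.le)
      rw [h1]
      have : p.U₀.ι v ∈ Set.range p.U₀.ι := ⟨v, rfl⟩
      rwa [Scheme.Opens.range_ι] at this
    · intro hu
      have hu' : p.U.ι u ∈ p.U₀ := not_not.1 hu
      have : p.U.ι u ∈ Set.range p.U₀.ι := by rwa [Scheme.Opens.range_ι]
      obtain ⟨v, hv⟩ := this
      refine ⟨v, ?_⟩
      apply p.U.ι.isOpenEmbedding.injective
      have h1 : p.U.ι ((X.scheme.homOfLE p.le) v) = p.U₀.ι v :=
        congrArg (fun g => g v) (X.scheme.homOfLE_ι p.le)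
      exact h1.trans hv

lemma dim_W : WeilCoh.dim ((X.ptSub x).res p.W.1).scheme = WeilCoh.pdim X.scheme x :=
  p.W.2.2.trans (dim_ptSub X x)

lemma relCodim_eq :
    relCodim ((X.ptSub x).res p.W.1).scheme (X.res p.U).scheme =
      (WeilCoh.dim X.scheme : ℤ) - (WeilCoh.pdim X.scheme x : ℤ) := by
  unfold relCodim
  rw [p.dim_W]
  change ((WeilCoh.dim (p.U : Scheme.{u}) : ℕ) : ℤ) - _ = _
  rw [p.dimU]

lemma codim_eq : p.decomp.codim = (WeilCoh.dim X.scheme : ℤ) - (WeilCoh.pdim X.scheme x : ℤ) :=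
  p.relCodim_eq

end Piece

end Groth.Agent.Lib.Helper6.BMDecomp
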