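import Mathlib
import Groth.Prelude.Def_BMCoh3
import Groth.Agent.Lib.Helper6.BMDecomp

/-!
# Geometric steps for the coniveau sequences (helper6)
-/

universe u

set_option linter.unusedSectionVars false

open AlgebraicGeometry CategoryTheory TopologicalSpace Topology Set

namespace Groth.Agent.Lib.Helper6.BMStep

open BMCoh BMGeom BMComp BMDecomp

variable {V : ObjectProperty Scheme.{u}} [IsConstructible V]

/-- the points of codimension `j + 1` outside an open -/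
def S (X : Obj V) (j : ℕ) (U₀ : X.scheme.Opens) : Set X.scheme :=
  {y | y ∉ U₀ ∧ WeilCoh.codim X.scheme y = j + 1}

lemma isMaxPt_of_mem_S {X : Obj V} {j : ℕ} {U₀ : X.scheme.Opens} (hU₀ : ContainsFj X j U₀)
    {y : X.scheme} (hy : y ∈ S X j U₀) : IsMaxPt ((U₀ : Set X.scheme)ᶜ) y := by
  refine ⟨hy.1, fun z hz hyz => ?_⟩
  by_contra hne
  have h1 := codim_lt (finDim X) hyz (Ne.symm hne)
  apply hz
  exact hU₀ z (by have := hy.2; omega)

lemma finite_S {X : Obj V} {j : ℕ} {U₀ : X.scheme.Opens} (hU₀ : ContainsFj X j U₀) :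
    (S X j U₀).Finite :=
  (finite_setOf_isMaxPt (U₀.2.isClosed_compl)).subset (fun _ hy => isMaxPt_of_mem_S hU₀ hy)

lemma containsFj_succ_of_S_eq_empty {X : Obj V} {j : ℕ} {U₀ : X.scheme.Opens}
    (hU₀ : ContainsFj X j U₀) (hS : S X j U₀ = ∅) : ContainsFj X (j + 1) U₀ := by
  intro y hy
  by_contra hyU
  by_cases h : WeilCoh.codim X.scheme y ≤ j
  · exact hyU (hU₀ y h)
  · have : y ∈ S X j U₀ := ⟨hyU, by omega⟩
    rw [hS] at this
    exact this

/-- the complement of the part of the closure of `x` outside `W` -/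
def cutOpen (X : Obj V) (x : X.scheme) (W : (X.ptSub x).scheme.Opens) : X.scheme.Opens :=
  ⟨(X.ptSubι x '' (W : Set (X.ptSub x).scheme)ᶜ)ᶜ,
    ((isClosedEmbedding_ptSubι X x).isClosedMap _ W.2.isClosed_compl).isOpen_compl⟩

lemma mem_cutOpen {X : Obj V} {x : X.scheme} {W : (X.ptSub x).scheme.Opens} {z : X.scheme} :
    z ∈ cutOpen X x W ↔ ∀ w : (X.ptSub x).scheme, X.ptSubι x w = z → w ∈ W := by
  change z ∉ _ ↔ _
  constructor
  · intro h w hw
    by_contra hwW
    exact h ⟨w, hwW, hw⟩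
  · rintro h ⟨w, hwW, hw⟩
    exact hwW (h w hw)

lemma mem_cutOpen_of_not_mem_closure {X : Obj V} {x : X.scheme} {W : (X.ptSub x).scheme.Opens}
    {z : X.scheme} (hz : z ∉ closure ({x} : Set X.scheme)) : z ∈ cutOpen X x W := by
  rw [mem_cutOpen]
  intro w hw
  exfalso
  apply hz
  rw [← range_ptSubι X x]
  exact ⟨w, hw⟩

lemma self_mem_cutOpen {X : Obj V} {x : X.scheme} {W : (X.ptSub x).scheme.Opens}
    (hW : (W : Set (X.ptSub x).scheme).Nonempty) : x ∈ cutOpen X x W := by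
  rw [mem_cutOpen]
  intro w hw
  obtain ⟨w', hw', hw'x⟩ := exists_mem_ptSubι_eq X x W hW
  have : w = w' := (isClosedEmbedding_ptSubι X x).injective (hw.trans hw'x.symm)
  rw [this]
  exact hw'

lemma containsFj_cutOpen {X : Obj V} {x : X.scheme} {j : ℕ} (hx : WeilCoh.codim X.scheme x = j)
    {W : (X.ptSub x).scheme.Opens} (hW : (W : Set (X.ptSub x).scheme).Nonempty) :
    ContainsFj X j (cutOpen X x W) := by
  intro y hy
  by_cases hyx : y = x
  · rw [hyx]
    exact self_mem_cutOpen hW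
  · by_cases hyc : y ∈ closure ({x} : Set X.scheme)
    · have := codim_lt (finDim X) hyc hyx
      omega
    · exact mem_cutOpen_of_not_mem_closure hyc

/-- the complement of the closure of a point -/
def complOpen (X : Obj V) (x : X.scheme) : X.scheme.Opens :=
  ⟨(closure ({x} : Set X.scheme))ᶜ, isClosed_closure.isOpen_compl⟩

lemma containsFj_complOpen {X : Obj V} {x : X.scheme} {j : ℕ}
    (hx : j < WeilCoh.codim X.scheme x) : ContainsFj X j (complOpen X x) := by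
  intro y hy hyc
  have := codim_mono (finDim X) hyc
  omega

lemma complOpen_le_cutOpen (X : Obj V) (x : X.scheme) (W : (X.ptSub x).scheme.Opens) :
    complOpen X x ≤ cutOpen X x W :=
  fun _ hz => mem_cutOpen_of_not_mem_closure hz

lemma ptSubι_mem_closure (X : Obj V) (x : X.scheme) (w : (X.ptSub x).scheme) :
    X.ptSubι x w ∈ closure ({x} : Set X.scheme) := by
  rw [← range_ptSubι X x]
  exact ⟨w, rfl⟩

lemma ptSubι_mem_cutOpen {X : Obj V} {x : X.scheme} {W : (X.ptSub x).scheme.Opens}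
    {w : (X.ptSub x).scheme} (hw : w ∈ W) : X.ptSubι x w ∈ cutOpen X x W := by
  rw [mem_cutOpen]
  intro w' hw'
  rw [(isClosedEmbedding_ptSubι X x).injective hw']
  exact hw

/-- the standard piece attached to a nonempty open of the closure of a point of positive
codimension -/
noncomputable def stdPiece (X : Obj V) (x : X.scheme) (hx : 0 < WeilCoh.codim X.scheme x)
    (W : ptIdx X x) : Piece X x where
  W := W
  U := cutOpen X x W.1
  U₀ := complOpen X x
  le := complOpen_le_cutOpen X x W.1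
  mem_iff z := by
    constructor
    · rintro ⟨h1, h2⟩
      have hz : z ∈ closure ({x} : Set X.scheme) := not_not.1 h2
      obtain ⟨w, hw⟩ := exists_ptSubι_eq X x hz
      exact ⟨w, mem_cutOpen.1 h1 w hw, hw⟩
    · rintro ⟨w, hw, rfl⟩
      exact ⟨ptSubι_mem_cutOpen hw, fun h => h (ptSubι_mem_closure X x w)⟩
  dimU := dim_eq_of_containsFj X _ _ (containsFj_cutOpen rfl W.2.1)
  dimU₀ := dim_eq_of_containsFj_zero X _ (containsFj_complOpen hx)

/-- the piece obtained by splitting off the component `closure {x}` of the complement of `U₀` -/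
noncomputable def splitPiece (X : Obj V) (x : X.scheme) (U₀ Ubig : X.scheme.Opens)
    (hle : U₀ ≤ Ubig) (hxU : x ∈ Ubig)
    (hd : WeilCoh.dim (U₀ : Scheme.{u}) = WeilCoh.dim X.scheme)
    (Z' : Set X.scheme) (hZ' : IsClosed Z') (hZ'sub : Z' ⊆ (U₀ : Set X.scheme)ᶜ) (hxZ' : x ∉ Z')
    (hZ'u : (U₀ : Set X.scheme)ᶜ = closure {x} ∪ Z') : Piece X x where
  W := ptIdxMk X x ((X.ptSubι x) ⁻¹ᵁ ((⟨Z'ᶜ, hZ'.isOpen_compl⟩ : X.scheme.Opens) ⊓ Ubig)) (by
    obtain ⟨η, hη⟩ := exists_ptSubι_eq X x (subset_closure rfl : x ∈ closure ({x} : Set X.scheme))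
    refine ⟨η, ?_⟩
    change X.ptSubι x η ∈ ((⟨Z'ᶜ, hZ'.isOpen_compl⟩ : X.scheme.Opens) ⊓ Ubig)
    rw [hη]
    exact ⟨hxZ', hxU⟩)
  U := Ubig ⊓ (⟨Z'ᶜ, hZ'.isOpen_compl⟩ : X.scheme.Opens)
  U₀ := U₀
  le := le_inf hle (fun z (hz : z ∈ U₀) (hzZ' : z ∈ Z') => hZ'sub hzZ' hz)
  mem_iff z := by
    constructor
    · rintro ⟨⟨h1, h2⟩, h3⟩
      have hz : z ∈ closure ({x} : Set X.scheme) ∪ Z' := by
        rw [← hZ'u]
        exact h3
      rcases hz with hz | hz
      · obtain ⟨w, hw⟩ := exists_ptSubι_eq X x hz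
        refine ⟨w, ?_, hw⟩
        change X.ptSubι x w ∈ ((⟨Z'ᶜ, hZ'.isOpen_compl⟩ : X.scheme.Opens) ⊓ Ubig)
        rw [hw]
        exact ⟨h2, h1⟩
      · exact absurd hz h2
    · rintro ⟨w, hw, rfl⟩
      have hw' : X.ptSubι x w ∈ (⟨Z'ᶜ, hZ'.isOpen_compl⟩ : X.scheme.Opens) ⊓ Ubig := hw
      refine ⟨⟨hw'.2, hw'.1⟩, ?_⟩
      have : X.ptSubι x w ∈ (U₀ : Set X.scheme)ᶜ := by
        rw [hZ'u]
        exact Or.inl (ptSubι_mem_closure X x w)
      exact this
  dimU := by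
    apply le_antisymm (dim_opens_le (finDim X) _)
    rw [← hd]
    exact dim_opens_mono (finDim X)
      (le_inf hle (fun z (hz : z ∈ U₀) (hzZ' : z ∈ Z') => hZ'sub hzZ' hz))
  dimU₀ := hd

/-- shrinking the open of the closure -/
noncomputable def shrinkPiece {X : Obj V} {x : X.scheme} (p : Piece X x)
    (hx : ∀ z ∈ p.U₀, z ∉ closure ({x} : Set X.scheme)) (W' : ptIdx X x) (hW' : W'.1 ≤ p.W.1) :
    Piece X x where
  W := W'
  U := p.U ⊓ cutOpen X x W'.1
  U₀ := p.U₀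
  le := le_inf p.le (fun z hz => mem_cutOpen_of_not_mem_closure (hx z hz))
  mem_iff z := by
    constructor
    · rintro ⟨⟨h1, h2⟩, h3⟩
      obtain ⟨w, _, hwz⟩ := (p.mem_iff z).1 ⟨h1, h3⟩
      exact ⟨w, mem_cutOpen.1 h2 w hwz, hwz⟩
    · rintro ⟨w, hw, rfl⟩
      obtain ⟨h1, h3⟩ := (p.mem_iff _).2 ⟨w, hW' hw, rfl⟩
      exact ⟨⟨h1, ptSubι_mem_cutOpen hw⟩, h3⟩
  dimU := by
    apply le_antisymm (dim_opens_le (finDim X) _)
    rw [← p.dimU₀]
    exact dim_opens_mono (finDim X)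
      (le_inf p.le (fun z hz => mem_cutOpen_of_not_mem_closure (hx z hz)))
  dimU₀ := p.dimU₀

/-- the same open of the closure, closed in a larger ambient open -/
noncomputable def bigPiece {X : Obj V} {x : X.scheme} (p : Piece X x) (j : ℕ)
    (hx : WeilCoh.codim X.scheme x = j + 1) (Ubig : X.scheme.Opens) (hle : p.U ≤ Ubig)
    (hUbig : ContainsFj X (j + 1) Ubig) : Piece X x where
  W := p.W
  U := Ubig ⊓ cutOpen X x p.W.1
  U₀ := (Ubig ⊓ cutOpen X x p.W.1) ⊓ complOpen X x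
  le := inf_le_left
  mem_iff z := by
    constructor
    · rintro ⟨⟨h1, h2⟩, h3⟩
      have hz : z ∈ closure ({x} : Set X.scheme) := by
        by_contra hz
        exact h3 ⟨⟨h1, h2⟩, hz⟩
      obtain ⟨w, hw⟩ := exists_ptSubι_eq X x hz
      exact ⟨w, mem_cutOpen.1 h2 w hw, hw⟩
    · rintro ⟨w, hw, rfl⟩
      obtain ⟨h1, _⟩ := (p.mem_iff _).2 ⟨w, hw, rfl⟩
      exact ⟨⟨hle h1, ptSubι_mem_cutOpen hw⟩, fun h => h.2 (ptSubι_mem_closure X x w)⟩
  dimU := dim_eq_of_containsFj X (j + 1) _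
    (fun y hy => ⟨hUbig y hy, containsFj_cutOpen hx p.W.2.1 y hy⟩)
  dimU₀ := dim_eq_of_containsFj_zero X _ (fun y hy =>
    ⟨⟨hUbig y (by omega), containsFj_cutOpen hx p.W.2.1 y (by omega)⟩,
      containsFj_complOpen (by omega) y hy⟩)

end Groth.Agent.Lib.Helper6.BMStep
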