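import Mathlib
import Groth.Prelude.Def_BMCoh3
import Groth.Agent.Lib.Helper6.BMStep
import Groth.Agent.Lib.Helper6.BMColim

/-!
# The Gysin sequences of one-point decompositions inside the coniveau colimits (helper6)
-/

universe u

set_option linter.unusedSectionVars false

open AlgebraicGeometry CategoryTheory CategoryTheory.Limits Opposite TopologicalSpace Topology Set

namespace Groth.Agent.Lib.Helper6.BMExact

open BMCoh BMGeom BMComp BMDecomp BMStep BMColim

variable {V : ObjectProperty Scheme.{u}} [IsConstructible V] {R : Type u} [CommRing R]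
  {A : Coefs R} (T : PreTheory V R A)

section pull

lemma pull_comp_apply {X Y Z : Obj V} (f : X ⟶ Y) (g : Y ⟶ Z) (M : A.Cat) (i n : ℤ)
    (b : T.gp Z M i n) :
    (T.pull f M i n).hom ((T.pull g M i n).hom b) = (T.pull (f ≫ g) M i n).hom b := by
  have h : (T.H i n).map (f ≫ g).op = (T.H i n).map g.op ≫ (T.H i n).map f.op := by
    rw [op_comp, CategoryTheory.Functor.map_comp]
  have h2 := congrArg (fun t => (t.app M).hom b) h
  exact h2.symm

lemma pull_id_apply {X : Obj V} (M : A.Cat) (i n : ℤ) (b : T.gp X M i n) :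
    (T.pull (𝟙 X) M i n).hom b = b := by
  have h : (T.H i n).map (𝟙 X).op = 𝟙 _ := by
    rw [op_id, CategoryTheory.Functor.map_id]
  have h2 := congrArg (fun t => (t.app M).hom b) h
  exact h2

lemma resLE_comp (X : Obj V) {U U' U'' : X.scheme.Opens} (h : U ≤ U') (h' : U' ≤ U'')
    (hd : WeilCoh.dim (U : Scheme.{u}) = WeilCoh.dim (U' : Scheme.{u}))
    (hd' : WeilCoh.dim (U' : Scheme.{u}) = WeilCoh.dim (U'' : Scheme.{u})) :
    X.resLE h hd ≫ X.resLE h' hd' = X.resLE (h.trans h') (hd.trans hd') :=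
  Hom.ext (Scheme.homOfLE_homOfLE X.scheme h h')

lemma pull_resLE_apply (X : Obj V) {U U' U'' : X.scheme.Opens} (h : U ≤ U') (h' : U' ≤ U'')
    (hd : WeilCoh.dim (U : Scheme.{u}) = WeilCoh.dim (U' : Scheme.{u}))
    (hd' : WeilCoh.dim (U' : Scheme.{u}) = WeilCoh.dim (U'' : Scheme.{u}))
    (M : A.Cat) (i n : ℤ) (b : T.gp (X.res U'') M i n) :
    (T.pull (X.resLE h hd) M i n).hom ((T.pull (X.resLE h' hd') M i n).hom b) =
      (T.pull (X.resLE (h.trans h') (hd.trans hd')) M i n).hom b := by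
  rw [pull_comp_apply, resLE_comp]

end pull

section colim

variable (X : Obj V) (i n : ℤ) (M : A.Cat)

lemma ocolimι_map {P Q : X.scheme.Opens → Prop} (h : ∀ U, P U → Q U) (U : Idx X P) :
    T.ocolimι X P i n U ≫ T.ocolimMap X h i n = T.ocolimι X Q i n ⟨U.1, h _ U.2.1, U.2.2⟩ :=
  colimit.ι_pre ((idxDiag X Q).op ⋙ T.H i n) (idxIncl X h).op (op U)

lemma ocolimMap_ι_apply {P Q : X.scheme.Opens → Prop} (h : ∀ U, P U → Q U) (U : Idx X P)
    (b : T.gp (X.res U.1) M i n) :
    ((T.ocolimMap X h i n).app M).hom (((T.ocolimι X P i n U).app M).hom b) =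
      ((T.ocolimι X Q i n ⟨U.1, h _ U.2.1, U.2.2⟩).app M).hom b :=
  congrArg (fun t => (t.app M).hom b) (ocolimι_map T X i n h U)

/-- the canonical map into the colimit, for an open with the two properties given separately -/
noncomputable abbrev ιO (P : X.scheme.Opens → Prop) (U : X.scheme.Opens) (hP : P U)
    (hd : WeilCoh.dim (U : Scheme.{u}) = WeilCoh.dim X.scheme) :
    T.gp (X.res U) M i n ⟶ (T.ocolim X P i n).obj M :=
  (T.ocolimι X P i n ⟨U, hP, hd⟩).app M

lemma ιO_pull (P : X.scheme.Opens → Prop) {U U' : X.scheme.Opens} (hP : P U) (hP' : P U')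
    (hd : WeilCoh.dim (U : Scheme.{u}) = WeilCoh.dim X.scheme)
    (hd' : WeilCoh.dim (U' : Scheme.{u}) = WeilCoh.dim X.scheme) (h : U' ≤ U)
    (b : T.gp (X.res U) M i n) :
    (ιO T X i n M P U' hP' hd').hom ((T.pull (X.resLE h (hd'.trans hd.symm)) M i n).hom b) =
      (ιO T X i n M P U hP hd).hom b :=
  resMap_ι_apply T X P i n M (U := ⟨U, hP, hd⟩) (U' := ⟨U', hP', hd'⟩) h b

end colim

section piece

variable {X : Obj V}

lemma codim_cast (X : Obj V) (x : X.scheme) :
    ((WeilCoh.codim X.scheme x : ℕ) : ℤ) =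
      (WeilCoh.dim X.scheme : ℤ) - (WeilCoh.pdim X.scheme x : ℤ) := by
  have := pdim_le_dim (finDim X) x
  unfold WeilCoh.codim
  omega

lemma relCodim_piece {x : X.scheme} (p : Piece X x) {j : ℕ} (hx : WeilCoh.codim X.scheme x = j) :
    relCodim ((X.ptSub x).res p.W.1).scheme (X.res p.U).scheme = (j : ℤ) := by
  rw [p.relCodim_eq, ← codim_cast, hx]

/-- the Gysin exactness of a piece at the ambient open -/
lemma piece_exact_push_pull {x : X.scheme} (p : Piece X x) (M : A.Cat) (i₀ n' i n : ℤ)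
    (hi' : i₀ + 1 = i + 2 * relCodim ((X.ptSub x).res p.W.1).scheme (X.res p.U).scheme)
    (hn' : n' = n + relCodim ((X.ptSub x).res p.W.1).scheme (X.res p.U).scheme) :
    Function.Exact (T.push p.f M i n (i₀ + 1) n' hi' hn').hom
      (T.pull (X.resLE p.le (p.dimU₀.trans p.dimU.symm)) M (i₀ + 1) n').hom :=
  T.exact_push_pull p.decomp M i₀ n' i n hi' hn'

/-- the push-forward data on a class represented on a piece -/
lemma cpt_ptι {j : ℕ} (P : T.PushData X j) (xc : X.cdPt j) (p : Piece X xc.1)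
    (hU : ContainsFj X j p.U) (M : A.Cat) (i n i' n' : ℤ) (hi : i' = i + 2 * (j : ℤ))
    (hn : n' = n + (j : ℤ)) (c : T.gp ((X.ptSub xc.1).res p.W.1) M i n) :
    (P.cpt xc M i n i' n' hi hn).hom (((T.ptι X xc.1 i n p.W).app M).hom c) =
      (ιO T X i' n' M (ContainsFj X j) p.U hU p.dimU).hom
        ((T.push p.f M i n i' n' (by rw [relCodim_piece p xc.2]; exact hi)
          (by rw [relCodim_piece p xc.2]; exact hn)).hom c) := by
  have h := P.cpt_spec xc M i n i' n' hi hn ⟨p.U, hU, p.dimU⟩ p.W p.f p.f_ι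
    (by rw [relCodim_piece p xc.2]; exact hi) (by rw [relCodim_piece p xc.2]; exact hn)
  exact congrArg (fun t => t.hom c) h

end piece

section basechange

lemma mem_opensRange_homOfLE {Y : Scheme.{u}} {U U' : Y.Opens} (e : U ≤ U') (v : U') :
    v ∈ (Y.homOfLE e).opensRange ↔ v.1 ∈ U := by
  constructor
  · rintro ⟨u, rfl⟩
    rw [Scheme.homOfLE_apply]
    exact u.2
  · intro hv
    exact ⟨⟨v.1, hv⟩, by rw [Scheme.homOfLE_apply']⟩

variable {X : Obj V} {x : X.scheme}

/-- the cartesian square of two nested pieces -/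
lemma piece_isPullback (p q : Piece X x) (hW : p.W.1 ≤ q.W.1) (hU : p.U ≤ q.U)
    (h : ∀ w ∈ q.W.1, X.ptSubι x w ∈ p.U → w ∈ p.W.1) :
    IsPullback ((X.ptSub x).scheme.homOfLE hW) p.f q.f (X.scheme.homOfLE hU) := by
  refine (IsOpenImmersion.isPullback p.f ((X.ptSub x).scheme.homOfLE hW)
    (X.scheme.homOfLE hU) q.f ?_ ?_).flip
  · rw [← cancel_mono q.U.ι, Category.assoc, Category.assoc, Scheme.homOfLE_ι, q.f_ι, p.f_ι,
      Scheme.homOfLE_ι_assoc]
  · ext w
    rw [SetLike.mem_coe, SetLike.mem_coe, Scheme.Hom.mem_preimage]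
    refine (mem_opensRange_homOfLE (Y := X.scheme) hU (q.f w)).trans
      (Iff.trans ?_ (mem_opensRange_homOfLE (Y := (X.ptSub x).scheme) hW w).symm)
    have h1 : (q.f w).1 = X.ptSubι x w.1 := q.f_apply w
    rw [h1]
    constructor
    · exact h w.1 w.2
    · intro hw
      have h2 : (p.f ⟨w.1, hw⟩).1 = X.ptSubι x w.1 := p.f_apply ⟨w.1, hw⟩
      rw [← h2]
      exact (p.f ⟨w.1, hw⟩).2

/-- base change between two nested pieces -/
lemma piece_push_pull (p q : Piece X x) (hW : p.W.1 ≤ q.W.1) (hU : p.U ≤ q.U)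
    (h : ∀ w ∈ q.W.1, X.ptSubι x w ∈ p.U → w ∈ p.W.1) (M : A.Cat) (i n i' n' : ℤ)
    (hi : i' = i + 2 * relCodim ((X.ptSub x).res q.W.1).scheme (X.res q.U).scheme)
    (hn : n' = n + relCodim ((X.ptSub x).res q.W.1).scheme (X.res q.U).scheme)
    (hi' : i' = i + 2 * relCodim ((X.ptSub x).res p.W.1).scheme (X.res p.U).scheme)
    (hn' : n' = n + relCodim ((X.ptSub x).res p.W.1).scheme (X.res p.U).scheme)
    (c : T.gp ((X.ptSub x).res q.W.1) M i n) :
    (T.pull (X.resLE hU (p.dimU.trans q.dimU.symm)) M i' n').hom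
        ((T.push q.f M i n i' n' hi hn).hom c) =
      (T.push p.f M i n i' n' hi' hn').hom
        ((T.pull ((X.ptSub x).resLE hW (p.W.2.2.trans q.W.2.2.symm)) M i n).hom c) := by
  have := T.push_pull q.f p.f (X.resLE hU (p.dimU.trans q.dimU.symm))
    ((X.ptSub x).resLE hW (p.W.2.2.trans q.W.2.2.symm)) (piece_isPullback p q hW hU h)
    M i n i' n' hi hn hi' hn'
  exact congrArg (fun t => t.hom c) this

end basechange

end Groth.Agent.Lib.Helper6.BMExact
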