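import Mathlib
import Groth.Prelude.Def_BMCoh3
import Groth.Agent.Lib.Helper6.BMExact

/-!
# Exactness of the coniveau sequence at the groups of `F_{j+1}X` (helper6)
-/

universe u

set_option linter.unusedSectionVars false

open AlgebraicGeometry CategoryTheory CategoryTheory.Limits Opposite TopologicalSpace Topology Set

namespace Groth.Agent.Lib.Helper6.BMPushExact

open BMCoh BMGeom BMComp BMDecomp BMStep BMColim BMExact

variable {V : ObjectProperty Scheme.{u}} [IsConstructible V] {R : Type u} [CommRing R]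
  {A : Coefs R} (T : PreTheory V R A) {X : Obj V} {j : ℕ} (P : T.PushData X (j + 1)) (M : A.Cat)
  (i n i₀ n' : ℤ) (hi : i₀ + 1 = i + 2 * ((j + 1 : ℕ) : ℤ)) (hn : n' = n + ((j + 1 : ℕ) : ℤ))

include hi hn in
lemma fjRes_cpt (xc : X.cdPt (j + 1)) (a : T.ptGp X xc.1 M i n) :
    ((T.fjRes X (Nat.le_succ j) (i₀ + 1) n').app M).hom
      ((P.cpt xc M i n (i₀ + 1) n' hi hn).hom a) = 0 := by
  obtain ⟨W, c, rfl⟩ := exists_rep T (X.ptSub xc.1) _ i n M a
  have hx0 : 0 < WeilCoh.codim X.scheme xc.1 := by rw [xc.2]; omega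
  have hU : ContainsFj X (j + 1) (stdPiece X xc.1 hx0 W).U := containsFj_cutOpen xc.2 W.2.1
  have hU₀ : ContainsFj X j (stdPiece X xc.1 hx0 W).U₀ :=
    containsFj_complOpen (by rw [xc.2]; omega)
  have h1 := cpt_ptι T P xc (stdPiece X xc.1 hx0 W) hU M i n (i₀ + 1) n' hi hn c
  refine (congrArg _ h1).trans ?_
  refine (ocolimMap_ι_apply T X (i₀ + 1) n' M (containsFj_mono X (Nat.le_succ j)) _ _).trans ?_
  refine (ιO_pull T X (i₀ + 1) n' M (ContainsFj X j) (containsFj_mono X (Nat.le_succ j) _ hU) hU₀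
    (stdPiece X xc.1 hx0 W).dimU (stdPiece X xc.1 hx0 W).dimU₀ (stdPiece X xc.1 hx0 W).le _).symm.trans ?_
  have h2 := (piece_exact_push_pull T (stdPiece X xc.1 hx0 W) M i₀ n' i n
    (by rw [relCodim_piece _ xc.2]; exact hi)
    (by rw [relCodim_piece _ xc.2]; exact hn)).apply_apply_eq_zero c
  refine (congrArg _ h2).trans ?_
  exact map_zero _

include hi hn in
lemma fjRes_tot (s : T.ptSum X (j + 1) M i n) :
    ((T.fjRes X (Nat.le_succ j) (i₀ + 1) n').app M).hom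
      ((P.tot M i n (i₀ + 1) n' hi hn).hom s) = 0 := by
  classical
  have key : ∀ s : DirectSum (X.cdPt (j + 1)) (fun x => T.ptGp X x.1 M i n),
      ((T.fjRes X (Nat.le_succ j) (i₀ + 1) n').app M).hom
        ((P.tot M i n (i₀ + 1) n' hi hn).hom s) = 0 := by
    intro s
    induction s using DirectSum.induction_on with
    | zero => rw [map_zero, map_zero]
    | of x a =>
      have h := P.tot_lof M i n (i₀ + 1) n' hi hn x a
      rw [DirectSum.lof_eq_of] at h
      refine (congrArg _ h).trans ?_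
      exact fjRes_cpt T P M i n i₀ n' hi hn x a
    | add s t hs ht => rw [map_add, map_add, hs, ht, add_zero]
  exact key s

lemma piece_U_le_cutOpen {x : X.scheme} (p : Piece X x)
    (hx : ∀ z ∈ p.U₀, z ∉ closure ({x} : Set X.scheme)) : p.U ≤ cutOpen X x p.W.1 := by
  intro z hz
  rw [mem_cutOpen]
  intro w hw
  have hzc : z ∈ closure ({x} : Set X.scheme) := hw ▸ ptSubι_mem_closure X x w
  have hz0 : z ∉ p.U₀ := fun h => hx z h hzc
  obtain ⟨w', hw', hw'z⟩ := (p.mem_iff z).1 ⟨hz, hz0⟩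
  have : w = w' := (isClosedEmbedding_ptSubι X x).injective (hw.trans hw'z.symm)
  rw [this]
  exact hw'

lemma resLE_refl (Y : Obj V) (U : Y.scheme.Opens)
    (hd : WeilCoh.dim (U : Scheme.{u}) = WeilCoh.dim (U : Scheme.{u})) :
    Y.resLE (le_refl U) hd = 𝟙 (Y.res U) :=
  Hom.ext (Scheme.homOfLE_rfl _ _)

lemma bigPiece_push_pull {x : X.scheme} (p : Piece X x)
    (hcl : ∀ z ∈ p.U₀, z ∉ closure ({x} : Set X.scheme)) (j : ℕ)
    (hx : WeilCoh.codim X.scheme x = j + 1) (Ubig : X.scheme.Opens) (hle : p.U ≤ Ubig)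
    (hUbig : ContainsFj X (j + 1) Ubig) (M : A.Cat) (i n i' n' : ℤ)
    (hi : i' = i + 2 * relCodim ((X.ptSub x).res p.W.1).scheme
      (X.res (bigPiece p j hx Ubig hle hUbig).U).scheme)
    (hn : n' = n + relCodim ((X.ptSub x).res p.W.1).scheme
      (X.res (bigPiece p j hx Ubig hle hUbig).U).scheme)
    (hi' : i' = i + 2 * relCodim ((X.ptSub x).res p.W.1).scheme (X.res p.U).scheme)
    (hn' : n' = n + relCodim ((X.ptSub x).res p.W.1).scheme (X.res p.U).scheme)
    (c : T.gp ((X.ptSub x).res p.W.1) M i n) :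
    (T.pull (X.resLE (le_inf hle (piece_U_le_cutOpen p hcl) :
        p.U ≤ (bigPiece p j hx Ubig hle hUbig).U)
      (p.dimU.trans (bigPiece p j hx Ubig hle hUbig).dimU.symm)) M i' n').hom
      ((T.push (bigPiece p j hx Ubig hle hUbig).f M i n i' n' hi hn).hom c) =
        (T.push p.f M i n i' n' hi' hn').hom c := by
  have h1 := piece_push_pull T p (bigPiece p j hx Ubig hle hUbig) (le_refl _)
    (le_inf hle (piece_U_le_cutOpen p hcl)) (fun w hw _ => hw) M i n i' n' hi hn hi' hn' c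
  refine h1.trans ?_
  have h2 : (X.ptSub x).resLE (le_refl p.W.1) (p.W.2.2.trans p.W.2.2.symm) = 𝟙 _ :=
    resLE_refl (X.ptSub x) p.W.1 _
  have h3 : (T.pull ((X.ptSub x).resLE (le_refl p.W.1) (p.W.2.2.trans p.W.2.2.symm)) M i n).hom c
      = c := by
    rw [h2]
    exact pull_id_apply T M i n c
  exact congrArg _ h3

include hi hn in
lemma step {x : X.scheme} (hx : WeilCoh.codim X.scheme x = j + 1) (pa : Piece X x)
    (hcl : ∀ z ∈ pa.U₀, z ∉ closure ({x} : Set X.scheme))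
    (U : X.scheme.Opens) (hU : ContainsFj X (j + 1) U)
    (hdU : WeilCoh.dim (U : Scheme.{u}) = WeilCoh.dim X.scheme) (hpale : pa.U ≤ U)
    (b : T.gp (X.res U) M (i₀ + 1) n')
    (hb : (T.pull (X.resLE (pa.le.trans hpale) (pa.dimU₀.trans hdU.symm)) M (i₀ + 1) n').hom b = 0)
    (ih : ∀ (U' : X.scheme.Opens) (hU' : ContainsFj X (j + 1) U')
      (hdU' : WeilCoh.dim (U' : Scheme.{u}) = WeilCoh.dim X.scheme) (hle' : pa.U ≤ U')
      (b' : T.gp (X.res U') M (i₀ + 1) n'),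
      (T.pull (X.resLE hle' (pa.dimU.trans hdU'.symm)) M (i₀ + 1) n').hom b' = 0 →
      (ιO T X (i₀ + 1) n' M (ContainsFj X (j + 1)) U' hU' hdU').hom b' ∈
        LinearMap.range (P.tot M i n (i₀ + 1) n' hi hn).hom) :
    (ιO T X (i₀ + 1) n' M (ContainsFj X (j + 1)) U hU hdU).hom b ∈
      LinearMap.range (P.tot M i n (i₀ + 1) n' hi hn).hom := by
  classical
  have hrel : relCodim ((X.ptSub x).res pa.W.1).scheme (X.res pa.U).scheme = ((j + 1 : ℕ) : ℤ) :=
    relCodim_piece pa hx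
  have h0 : (T.pull (X.resLE pa.le (pa.dimU₀.trans pa.dimU.symm)) M (i₀ + 1) n').hom
      ((T.pull (X.resLE hpale (pa.dimU.trans hdU.symm)) M (i₀ + 1) n').hom b) = 0 := by
    rw [pull_resLE_apply]
    exact hb
  obtain ⟨c, hc⟩ := (piece_exact_push_pull T pa M i₀ n' i n (by rw [hrel]; exact hi)
    (by rw [hrel]; exact hn) _).1 h0
  have hpbU : (bigPiece pa j hx U hpale hU).U ≤ U := inf_le_left
  have hUb : ContainsFj X (j + 1) (bigPiece pa j hx U hpale hU).U :=
    fun y hy => ⟨hU y hy, containsFj_cutOpen hx pa.W.2.1 y hy⟩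
  have hab : pa.U ≤ (bigPiece pa j hx U hpale hU).U := le_inf hpale (piece_U_le_cutOpen pa hcl)
  have hib : i₀ + 1 = i + 2 * relCodim ((X.ptSub x).res (bigPiece pa j hx U hpale hU).W.1).scheme
      (X.res (bigPiece pa j hx U hpale hU).U).scheme := by
    rw [relCodim_piece (bigPiece pa j hx U hpale hU) hx]
    exact hi
  have hnb : n' = n + relCodim ((X.ptSub x).res (bigPiece pa j hx U hpale hU).W.1).scheme
      (X.res (bigPiece pa j hx U hpale hU).U).scheme := by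
    rw [relCodim_piece (bigPiece pa j hx U hpale hU) hx]
    exact hn
  have hbc := bigPiece_push_pull T pa hcl j hx U hpale hU M i n (i₀ + 1) n'
    hib hnb (by rw [hrel]; exact hi) (by rw [hrel]; exact hn) c
  have hih := ih (bigPiece pa j hx U hpale hU).U hUb (bigPiece pa j hx U hpale hU).dimU hab
    ((T.pull (X.resLE hpbU ((bigPiece pa j hx U hpale hU).dimU.trans hdU.symm)) M (i₀ + 1) n').hom b -
      (T.push (bigPiece pa j hx U hpale hU).f M i n (i₀ + 1) n' hib hnb).hom c) (by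
    have e1 := pull_resLE_apply T X hab hpbU (pa.dimU.trans (bigPiece pa j hx U hpale hU).dimU.symm)
      ((bigPiece pa j hx U hpale hU).dimU.trans hdU.symm) M (i₀ + 1) n' b
    rw [map_sub]
    exact (congrArg₂ (fun a b => a - b) e1 hbc).trans (sub_eq_zero.2 hc.symm))
  have hcpt := cpt_ptι T P ⟨x, hx⟩ (bigPiece pa j hx U hpale hU) hUb M i n (i₀ + 1) n' hi hn c
  have hlof := P.tot_lof M i n (i₀ + 1) n' hi hn ⟨x, hx⟩
    (((T.ptι X x i n pa.W).app M).hom c)
  have hpull := ιO_pull T X (i₀ + 1) n' M (ContainsFj X (j + 1)) hU hUb hdU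
    (bigPiece pa j hx U hpale hU).dimU hpbU b
  rw [← hpull]
  have hsplit : (T.pull (X.resLE hpbU ((bigPiece pa j hx U hpale hU).dimU.trans hdU.symm)) M
      (i₀ + 1) n').hom b =
      ((T.pull (X.resLE hpbU ((bigPiece pa j hx U hpale hU).dimU.trans hdU.symm)) M (i₀ + 1) n').hom b -
      (T.push (bigPiece pa j hx U hpale hU).f M i n (i₀ + 1) n' hib hnb).hom c) +
      (T.push (bigPiece pa j hx U hpale hU).f M i n (i₀ + 1) n' hib hnb).hom c :=
    (sub_add_cancel _ _).symm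
  rw [hsplit, map_add]
  refine Submodule.add_mem _ hih ?_
  refine ⟨_, hlof.trans (hcpt.trans ?_)⟩
  rfl

include hi hn in
lemma mem_range_aux : ∀ (r : ℕ) (U : X.scheme.Opens) (hU : ContainsFj X (j + 1) U)
    (hdU : WeilCoh.dim (U : Scheme.{u}) = WeilCoh.dim X.scheme)
    (U₀ : X.scheme.Opens) (hU₀ : ContainsFj X j U₀)
    (hd₀ : WeilCoh.dim (U₀ : Scheme.{u}) = WeilCoh.dim X.scheme) (hle : U₀ ≤ U)
    (b : T.gp (X.res U) M (i₀ + 1) n')
    (_ : (T.pull (X.resLE hle (hd₀.trans hdU.symm)) M (i₀ + 1) n').hom b = 0)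
    (_ : (S X j U₀).ncard ≤ r),
    (ιO T X (i₀ + 1) n' M (ContainsFj X (j + 1)) U hU hdU).hom b ∈
      LinearMap.range (P.tot M i n (i₀ + 1) n' hi hn).hom := by
  classical
  have base : ∀ (U : X.scheme.Opens) (hU : ContainsFj X (j + 1) U)
      (hdU : WeilCoh.dim (U : Scheme.{u}) = WeilCoh.dim X.scheme)
      (U₀ : X.scheme.Opens) (_ : ContainsFj X j U₀)
      (hd₀ : WeilCoh.dim (U₀ : Scheme.{u}) = WeilCoh.dim X.scheme) (hle : U₀ ≤ U)
      (b : T.gp (X.res U) M (i₀ + 1) n')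
      (_ : (T.pull (X.resLE hle (hd₀.trans hdU.symm)) M (i₀ + 1) n').hom b = 0)
      (_ : S X j U₀ = ∅),
      (ιO T X (i₀ + 1) n' M (ContainsFj X (j + 1)) U hU hdU).hom b ∈
        LinearMap.range (P.tot M i n (i₀ + 1) n' hi hn).hom := by
    intro U hU hdU U₀ hU₀ hd₀ hle b hb hS
    have hU₀' := containsFj_succ_of_S_eq_empty hU₀ hS
    rw [← ιO_pull T X (i₀ + 1) n' M (ContainsFj X (j + 1)) hU hU₀' hdU hd₀ hle b, hb, map_zero]
    exact zero_mem _
  intro r
  induction r with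
  | zero =>
    intro U hU hdU U₀ hU₀ hd₀ hle b hb hr
    refine base U hU hdU U₀ hU₀ hd₀ hle b hb ?_
    exact (Set.ncard_eq_zero (finite_S hU₀)).1 (Nat.le_zero.1 hr)
  | succ r ih =>
    intro U hU hdU U₀ hU₀ hd₀ hle b hb hr
    by_cases hS : S X j U₀ = ∅
    · exact base U hU hdU U₀ hU₀ hd₀ hle b hb hS
    obtain ⟨x, hxS⟩ := Set.nonempty_iff_ne_empty.2 hS
    have hmax := isMaxPt_of_mem_S hU₀ hxS
    obtain ⟨Z', hZ'c, hZ'sub, hxZ', hZ'u⟩ :=
      exists_compl_closed (Z := (U₀ : Set X.scheme)ᶜ) U₀.2.isClosed_compl hmax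
    have hxU : x ∈ U := hU x (le_of_eq hxS.2)
    have hcl : ∀ z ∈ U₀, z ∉ closure ({x} : Set X.scheme) := by
      intro z hz hzc
      have : z ∈ (U₀ : Set X.scheme)ᶜ := by
        rw [hZ'u]
        exact Or.inl hzc
      exact this hz
    -- the piece
    have hpaU : (splitPiece X x U₀ U hle hxU hd₀ Z' hZ'c hZ'sub hxZ' hZ'u).U =
        U ⊓ (⟨Z'ᶜ, hZ'c.isOpen_compl⟩ : X.scheme.Opens) := rfl
    have hUa : ContainsFj X j (splitPiece X x U₀ U hle hxU hd₀ Z' hZ'c hZ'sub hxZ' hZ'u).U := by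
      rw [hpaU]
      intro y hy
      refine ⟨hU y (by omega), fun hyZ' => hZ'sub hyZ' (hU₀ y hy)⟩
    have hSa : (S X j (splitPiece X x U₀ U hle hxU hd₀ Z' hZ'c hZ'sub hxZ' hZ'u).U).ncard ≤ r := by
      have hsub : S X j (splitPiece X x U₀ U hle hxU hd₀ Z' hZ'c hZ'sub hxZ' hZ'u).U ⊆
          S X j U₀ \ {x} := by
        rintro y ⟨hy1, hy2⟩
        have hyU : y ∈ U := hU y (le_of_eq hy2)
        have hyZ' : y ∈ Z' := by
          by_contra hyZ'
          apply hy1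
          rw [hpaU]
          exact ⟨hyU, hyZ'⟩
        refine ⟨⟨fun hy0 => hZ'sub hyZ' hy0, hy2⟩, ?_⟩
        rintro rfl
        exact hxZ' hyZ'
      have h1 := Set.ncard_le_ncard hsub ((finite_S hU₀).sdiff)
      have h2 := Set.ncard_sdiff_singleton_of_mem hxS
      omega
    refine step T P M i n i₀ n' hi hn hxS.2
      (splitPiece X x U₀ U hle hxU hd₀ Z' hZ'c hZ'sub hxZ' hZ'u) hcl U hU hdU inf_le_left b hb ?_
    intro U' hU' hdU' hle' b' hb'
    exact ih U' hU' hdU' _ hUa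
      (splitPiece X x U₀ U hle hxU hd₀ Z' hZ'c hZ'sub hxZ' hZ'u).dimU hle' b' hb' hSa

include hi hn in
/-- exactness of the coniveau sequence at the groups of `F_{j+1}X` -/
theorem exact_tot_fjRes :
    Function.Exact (P.tot M i n (i₀ + 1) n' hi hn).hom
      ((T.fjRes X (Nat.le_succ j) (i₀ + 1) n').app M).hom := by
  intro a
  constructor
  · intro ha
    obtain ⟨U, b, rfl⟩ := exists_rep T X (ContainsFj X (j + 1)) (i₀ + 1) n' M a
    have h1 := ocolimMap_ι_apply T X (i₀ + 1) n' M (containsFj_mono X (Nat.le_succ j)) U b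
    obtain ⟨U₀, hle, hb⟩ := (ι_eq_zero_iff T X (ContainsFj X j) (i₀ + 1) n' M _).1 (h1.symm.trans ha)
    exact mem_range_aux T P M i n i₀ n' hi hn _ U.1 U.2.1 U.2.2 U₀.1 U₀.2.1 U₀.2.2 hle b hb le_rfl
  · rintro ⟨s, rfl⟩
    exact fjRes_tot T P M i n i₀ n' hi hn s

end Groth.Agent.Lib.Helper6.BMPushExact
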