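import Mathlib
import Groth.Prelude.Def_BMCoh3
import Groth.Agent.Lib.Helper6.BMPushExact

/-!
# Exactness of the coniveau sequence at the groups of `F_jX` (helper6)
-/

universe u

set_option linter.unusedSectionVars false

open AlgebraicGeometry CategoryTheory CategoryTheory.Limits Opposite TopologicalSpace Topology Set

namespace Groth.Agent.Lib.Helper6.BMResExact

open BMCoh BMGeom BMComp BMDecomp BMStep BMColim BMExact BMPushExact

variable {V : ObjectProperty Scheme.{u}} [IsConstructible V] {R : Type u} [CommRing R]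
  {A : Coefs R} (T : PreTheory V R A) {X : Obj V}

lemma codim_piece {x : X.scheme} (p : Piece X x) {j : ℕ} (hx : WeilCoh.codim X.scheme x = j + 1) :
    p.decomp.codim = (j : ℤ) + 1 := by
  have := relCodim_piece p hx
  rw [Nat.cast_add, Nat.cast_one] at this
  exact this

/-- the residue data on a class represented on the open part of a piece -/
lemma cpt_fjι {j : ℕ} (Q : T.ResData X j) (xc : X.cdPt (j + 1)) (p : Piece X xc.1)
    (hU₀ : ContainsFj X j p.U₀) (M : A.Cat) (i n i' n' : ℤ)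
    (hi : i' = i + 1 - 2 * ((j : ℤ) + 1)) (hn : n' = n - ((j : ℤ) + 1))
    (b : T.gp (X.res p.U₀) M i n) :
    (Q.cpt xc M i n i' n' hi hn).hom
        ((ιO T X i n M (ContainsFj X j) p.U₀ hU₀ p.dimU₀).hom b) =
      ((T.ptι X xc.1 i' n' p.W).app M).hom
        ((T.res p.decomp M i n i' n' (by rw [codim_piece p xc.2]; exact hi)
          (by rw [codim_piece p xc.2]; exact hn)).hom b) := by
  have hg : (𝟙 ((X.ptSub xc.1).res p.W.1) : (X.ptSub xc.1).res p.W.1 ⟶ p.decomp.Z).hom ≫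
      p.decomp.i ≫ (X.resι p.U p.dimU).hom = p.W.1.ι ≫ X.ptSubι xc.1 := by
    change 𝟙 _ ≫ p.f ≫ p.U.ι = _
    rw [Category.id_comp]
    exact p.f_ι
  have hh : (𝟙 (X.res p.U₀) : X.res p.U₀ ⟶ p.decomp.U).hom ≫ p.decomp.j.hom ≫
      (X.resι p.U p.dimU).hom = p.U₀.ι := by
    change 𝟙 _ ≫ X.scheme.homOfLE p.le ≫ p.U.ι = _
    rw [Category.id_comp]
    exact X.scheme.homOfLE_ι p.le
  have h := Q.cpt_spec xc M i n i' n' hi hn (X.resι p.U p.dimU) p.decomp p.W (𝟙 _) hg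
    ⟨p.U₀, hU₀, p.dimU₀⟩ (𝟙 _) hh
    (by rw [codim_piece p xc.2]; exact hi) (by rw [codim_piece p xc.2]; exact hn)
  have h2 := congrArg (fun t => t.hom b) h
  have e1 : (T.pull (𝟙 (X.res p.U₀)) M i n).hom b = b := pull_id_apply T M i n b
  have e2 := pull_id_apply T (X := (X.ptSub xc.1).res p.W.1) M i' n'
    ((T.res p.decomp M i n i' n' (by rw [codim_piece p xc.2]; exact hi)
      (by rw [codim_piece p xc.2]; exact hn)).hom b)
  exact (congrArg (fun t => (Q.cpt xc M i n i' n' hi hn).hom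
      ((ιO T X i n M (ContainsFj X j) p.U₀ hU₀ p.dimU₀).hom t)) e1).symm.trans
    (h2.trans (congrArg (fun t => ((T.ptι X xc.1 i' n' p.W).app M).hom t) e2))

/-- the piece cut out by the closure of a point inside an open containing it -/
noncomputable def inPiece (X : Obj V) (x : X.scheme) (j : ℕ)
    (hx : WeilCoh.codim X.scheme x = j + 1) (U : X.scheme.Opens)
    (hU : ContainsFj X j U) (hxU : x ∈ U) : Piece X x where
  W := ptIdxMk X x ((X.ptSubι x) ⁻¹ᵁ U) (by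
    obtain ⟨η, hη⟩ := exists_ptSubι_eq X x (subset_closure rfl : x ∈ closure ({x} : Set X.scheme))
    refine ⟨η, ?_⟩
    change X.ptSubι x η ∈ U
    rw [hη]
    exact hxU)
  U := U
  U₀ := U ⊓ complOpen X x
  le := inf_le_left
  mem_iff z := by
    constructor
    · rintro ⟨h1, h2⟩
      have hz : z ∈ closure ({x} : Set X.scheme) := by
        by_contra hz
        exact h2 ⟨h1, hz⟩
      obtain ⟨w, hw⟩ := exists_ptSubι_eq X x hz
      refine ⟨w, ?_, hw⟩
      change X.ptSubι x w ∈ U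
      rw [hw]
      exact h1
    · rintro ⟨w, hw, rfl⟩
      exact ⟨hw, fun h => h.2 (ptSubι_mem_closure X x w)⟩
  dimU := dim_eq_of_containsFj X j U hU
  dimU₀ := dim_eq_of_containsFj X j _
    (fun y hy => ⟨hU y hy, containsFj_complOpen (by omega) y hy⟩)

variable {j : ℕ} (Q : T.ResData X j) (M : A.Cat) (i n i' n' : ℤ)
  (hi : i' = i + 1 - 2 * ((j : ℤ) + 1)) (hn : n' = n - ((j : ℤ) + 1))

lemma cpt_fjRes (xc : X.cdPt (j + 1)) (a' : T.fjGp X (j + 1) M i n) :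
    (Q.cpt xc M i n i' n' hi hn).hom (((T.fjRes X (Nat.le_succ j) i n).app M).hom a') = 0 := by
  obtain ⟨U, b, rfl⟩ := exists_rep T X (ContainsFj X (j + 1)) i n M a'
  have h1 := ocolimMap_ι_apply T X i n M (containsFj_mono X (Nat.le_succ j)) U b
  have hU₀ : ContainsFj X j (inPiece X xc.1 j xc.2 U.1 (containsFj_mono X (Nat.le_succ j) _ U.2.1) (U.2.1 _ (le_of_eq xc.2))).U₀ :=
    fun y hy => ⟨U.2.1 y (by omega), containsFj_complOpen (by rw [xc.2]; omega) y hy⟩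
  have h2 := ιO_pull T X i n M (ContainsFj X j) (containsFj_mono X (Nat.le_succ j) _ U.2.1) hU₀
    U.2.2 (inPiece X xc.1 j xc.2 U.1 (containsFj_mono X (Nat.le_succ j) _ U.2.1) (U.2.1 _ (le_of_eq xc.2))).dimU₀ (inPiece X xc.1 j xc.2 U.1 (containsFj_mono X (Nat.le_succ j) _ U.2.1) (U.2.1 _ (le_of_eq xc.2))).le b
  have h3 := cpt_fjι T Q xc (inPiece X xc.1 j xc.2 U.1 (containsFj_mono X (Nat.le_succ j) _ U.2.1) (U.2.1 _ (le_of_eq xc.2))) hU₀ M i n i' n' hi hn
    ((T.pull (X.resLE (inPiece X xc.1 j xc.2 U.1 (containsFj_mono X (Nat.le_succ j) _ U.2.1) (U.2.1 _ (le_of_eq xc.2))).le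
      ((inPiece X xc.1 j xc.2 U.1 (containsFj_mono X (Nat.le_succ j) _ U.2.1) (U.2.1 _ (le_of_eq xc.2))).dimU₀.trans U.2.2.symm)) M i n).hom b)
  have h4 := (T.exact_pull_res (inPiece X xc.1 j xc.2 U.1 (containsFj_mono X (Nat.le_succ j) _ U.2.1) (U.2.1 _ (le_of_eq xc.2))).decomp M i n i' n'
    (by rw [codim_piece _ xc.2]; exact hi)
    (by rw [codim_piece _ xc.2]; exact hn)).apply_apply_eq_zero b
  refine (congrArg _ (h1.trans h2.symm)).trans (h3.trans ?_)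
  refine (congrArg _ h4).trans ?_
  exact map_zero _

include hi hn in
lemma tot_fjRes (a' : T.fjGp X (j + 1) M i n) :
    (Q.tot M i n i' n' hi hn).hom (((T.fjRes X (Nat.le_succ j) i n).app M).hom a') = 0 := by
  refine DFinsupp.ext fun x => ?_
  exact cpt_fjRes T Q M i n i' n' hi hn x a'

omit Q hi hn in
/-- compatibility of the residue maps of two nested pieces -/
lemma piece_res_pull {x : X.scheme} (p q : Piece X x) (hW : q.W.1 ≤ p.W.1) (hU : q.U ≤ p.U)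
    (h₀ : q.U₀ ≤ p.U₀) (hi : i' = i + 1 - 2 * p.decomp.codim) (hn : n' = n - p.decomp.codim)
    (hi' : i' = i + 1 - 2 * q.decomp.codim) (hn' : n' = n - q.decomp.codim)
    (b : T.gp (X.res p.U₀) M i n) :
    (T.pull ((X.ptSub x).resLE hW (q.W.2.2.trans p.W.2.2.symm)) M i' n').hom
        ((T.res p.decomp M i n i' n' hi hn).hom b) =
      (T.res q.decomp M i n i' n' hi' hn').hom
        ((T.pull (X.resLE h₀ (q.dimU₀.trans p.dimU₀.symm)) M i n).hom b) := by
  have hZ : ((X.ptSub x).resLE hW (q.W.2.2.trans p.W.2.2.symm) :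
      q.decomp.Z ⟶ p.decomp.Z).hom ≫ p.decomp.i =
      q.decomp.i ≫ (X.resLE hU (q.dimU.trans p.dimU.symm)).hom := by
    change (X.ptSub x).scheme.homOfLE hW ≫ p.f = q.f ≫ X.scheme.homOfLE hU
    rw [← cancel_mono p.U.ι, Category.assoc, Category.assoc, Scheme.homOfLE_ι, p.f_ι,
      Scheme.homOfLE_ι_assoc, q.f_ι]
  have hUU : (X.resLE h₀ (q.dimU₀.trans p.dimU₀.symm) : q.decomp.U ⟶ p.decomp.U) ≫ p.decomp.j =
      q.decomp.j ≫ (X.resLE hU (q.dimU.trans p.dimU.symm)) := by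
    apply Hom.ext
    change X.scheme.homOfLE h₀ ≫ X.scheme.homOfLE p.le = X.scheme.homOfLE q.le ≫
      X.scheme.homOfLE hU
    rw [Scheme.homOfLE_homOfLE, Scheme.homOfLE_homOfLE]
  have h3 := T.res_pull p.decomp q.decomp (X.resLE hU (q.dimU.trans p.dimU.symm))
    ((X.ptSub x).resLE hW (q.W.2.2.trans p.W.2.2.symm))
    (X.resLE h₀ (q.dimU₀.trans p.dimU₀.symm)) hZ hUU M i n i' n' hi hn hi' hn'
  exact congrArg (fun t => t.hom b) h3

/-- one step of the extension: a class on the open part of a piece whose residue at the point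
vanishes extends over the generic point -/
lemma step_res {x : X.scheme} (hx : WeilCoh.codim X.scheme x = j + 1) (p : Piece X x)
    (hcl : ∀ z ∈ p.U₀, z ∉ closure ({x} : Set X.scheme)) (hU₀ : ContainsFj X j p.U₀)
    (b : T.gp (X.res p.U₀) M i n)
    (hb : (Q.cpt ⟨x, hx⟩ M i n i' n' hi hn).hom
      ((ιO T X i n M (ContainsFj X j) p.U₀ hU₀ p.dimU₀).hom b) = 0) :
    ∃ (U₁ : X.scheme.Opens) (hle : p.U₀ ≤ U₁) (_ : x ∈ U₁)
      (hd : WeilCoh.dim (U₁ : Scheme.{u}) = WeilCoh.dim X.scheme) (b₁ : T.gp (X.res U₁) M i n),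
      (T.pull (X.resLE hle (p.dimU₀.trans hd.symm)) M i n).hom b₁ = b := by
  have h1 := cpt_fjι T Q ⟨x, hx⟩ p hU₀ M i n i' n' hi hn b
  rw [hb] at h1
  obtain ⟨W', hW', h2⟩ := (ι_eq_zero_iff T (X.ptSub x)
    (fun U => (U : Set (X.ptSub x).scheme).Nonempty) i' n' M _).1 h1.symm
  have hD' : (shrinkPiece p hcl W' hW').decomp.codim = (j : ℤ) + 1 := codim_piece _ hx
  have hD : p.decomp.codim = (j : ℤ) + 1 := codim_piece _ hx
  have h4 := piece_res_pull T M i n i' n' p (shrinkPiece p hcl W' hW') hW' inf_le_left (le_refl _)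
    (by rw [hD]; exact hi) (by rw [hD]; exact hn) (by rw [hD']; exact hi) (by rw [hD']; exact hn) b
  have e1 : (T.pull (X.resLE (le_refl p.U₀) (p.dimU₀.trans p.dimU₀.symm)) M i n).hom b = b := by
    rw [resLE_refl]
    exact pull_id_apply T M i n b
  have h5 : (T.res (shrinkPiece p hcl W' hW').decomp M i n i' n' (by rw [hD']; exact hi)
      (by rw [hD']; exact hn)).hom b = 0 :=
    ((congrArg (fun t => (T.res (shrinkPiece p hcl W' hW').decomp M i n i' n'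
      (by rw [hD']; exact hi) (by rw [hD']; exact hn)).hom t) e1).symm.trans h4.symm).trans h2
  obtain ⟨b₁, hb₁⟩ := ((T.exact_pull_res (shrinkPiece p hcl W' hW').decomp M i n i' n'
    (by rw [hD']; exact hi) (by rw [hD']; exact hn)) b).1 h5
  refine ⟨(shrinkPiece p hcl W' hW').U, (shrinkPiece p hcl W' hW').le, ?_,
    (shrinkPiece p hcl W' hW').dimU, b₁, hb₁⟩
  refine ⟨?_, self_mem_cutOpen W'.2.1⟩
  obtain ⟨w, hw, hwx⟩ := exists_mem_ptSubι_eq X x p.W.1 p.W.2.1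
  have := ((p.mem_iff x).2 ⟨w, hw, hwx⟩).1
  exact this

lemma mem_range_res_aux : ∀ (r : ℕ) (U₀ : X.scheme.Opens) (hU₀ : ContainsFj X j U₀)
    (hd₀ : WeilCoh.dim (U₀ : Scheme.{u}) = WeilCoh.dim X.scheme) (b : T.gp (X.res U₀) M i n)
    (_ : ∀ xc : X.cdPt (j + 1), (Q.cpt xc M i n i' n' hi hn).hom
      ((ιO T X i n M (ContainsFj X j) U₀ hU₀ hd₀).hom b) = 0)
    (_ : (S X j U₀).ncard ≤ r),
    (ιO T X i n M (ContainsFj X j) U₀ hU₀ hd₀).hom b ∈
      LinearMap.range ((T.fjRes X (Nat.le_succ j) i n).app M).hom := by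
  have base : ∀ (U₀ : X.scheme.Opens) (hU₀ : ContainsFj X j U₀)
      (hd₀ : WeilCoh.dim (U₀ : Scheme.{u}) = WeilCoh.dim X.scheme) (b : T.gp (X.res U₀) M i n)
      (_ : S X j U₀ = ∅),
      (ιO T X i n M (ContainsFj X j) U₀ hU₀ hd₀).hom b ∈
        LinearMap.range ((T.fjRes X (Nat.le_succ j) i n).app M).hom := by
    intro U₀ hU₀ hd₀ b hS
    have hU₀' := containsFj_succ_of_S_eq_empty hU₀ hS
    exact ⟨_, ocolimMap_ι_apply T X i n M (containsFj_mono X (Nat.le_succ j)) ⟨U₀, hU₀', hd₀⟩ b⟩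
  intro r
  induction r with
  | zero =>
    intro U₀ hU₀ hd₀ b _ hr
    exact base U₀ hU₀ hd₀ b ((Set.ncard_eq_zero (finite_S hU₀)).1 (Nat.le_zero.1 hr))
  | succ r ih =>
    intro U₀ hU₀ hd₀ b hb hr
    by_cases hS : S X j U₀ = ∅
    · exact base U₀ hU₀ hd₀ b hS
    obtain ⟨x, hxS⟩ := Set.nonempty_iff_ne_empty.2 hS
    have hmax := isMaxPt_of_mem_S hU₀ hxS
    obtain ⟨Z', hZ'c, hZ'sub, hxZ', hZ'u⟩ :=
      exists_compl_closed (Z := (U₀ : Set X.scheme)ᶜ) U₀.2.isClosed_compl hmax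
    have hcl : ∀ z ∈ U₀, z ∉ closure ({x} : Set X.scheme) := by
      intro z hz hzc
      have : z ∈ (U₀ : Set X.scheme)ᶜ := by
        rw [hZ'u]
        exact Or.inl hzc
      exact this hz
    obtain ⟨U₁, hle, hxU₁, hd₁, b₁, hb₁⟩ := step_res T Q M i n i' n' hi hn hxS.2
      (splitPiece X x U₀ ⊤ le_top trivial hd₀ Z' hZ'c hZ'sub hxZ' hZ'u) hcl hU₀ b (hb ⟨x, hxS.2⟩)
    have hle' : U₀ ≤ U₁ := hle
    have hU₁ : ContainsFj X j U₁ := fun y hy => hle' (hU₀ y hy)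
    have hSa : (S X j U₁).ncard ≤ r := by
      have hsub : S X j U₁ ⊆ S X j U₀ \ {x} := by
        rintro y ⟨hy1, hy2⟩
        refine ⟨⟨fun hy0 => hy1 (hle' hy0), hy2⟩, ?_⟩
        rintro rfl
        exact hy1 hxU₁
      have h1 := Set.ncard_le_ncard hsub ((finite_S hU₀).sdiff)
      have h2 := Set.ncard_sdiff_singleton_of_mem hxS
      omega
    have hpull := ιO_pull T X i n M (ContainsFj X j) hU₁ hU₀ hd₁ hd₀ hle' b₁
    have hb₁' : (T.pull (X.resLE hle' (hd₀.trans hd₁.symm)) M i n).hom b₁ = b := hb₁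
    rw [hb₁'] at hpull
    rw [hpull]
    refine ih U₁ hU₁ hd₁ b₁ ?_ hSa
    intro xc
    rw [← hpull]
    exact hb xc

include hi hn in
/-- exactness of the coniveau sequence at the groups of `F_jX` -/
theorem exact_fjRes_tot :
    Function.Exact ((T.fjRes X (Nat.le_succ j) i n).app M).hom (Q.tot M i n i' n' hi hn).hom := by
  intro a
  constructor
  · intro ha
    obtain ⟨U₀, b, rfl⟩ := exists_rep T X (ContainsFj X j) i n M a
    refine mem_range_res_aux T Q M i n i' n' hi hn _ U₀.1 U₀.2.1 U₀.2.2 b ?_ le_rfl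
    intro xc
    have := congrArg (fun t => t xc) ha
    exact this
  · rintro ⟨a', rfl⟩
    exact tot_fjRes T Q M i n i' n' hi hn a'

omit Q hi hn i' n' in
/-- every class of `H^i(F_jX)` is represented on the open part of a piece at a given point of
codimension `j + 1` -/
lemma exists_piece_rep (xc : X.cdPt (j + 1)) (a : T.fjGp X j M i n) :
    ∃ (p : Piece X xc.1) (hU₀ : ContainsFj X j p.U₀) (b' : T.gp (X.res p.U₀) M i n),
      (ιO T X i n M (ContainsFj X j) p.U₀ hU₀ p.dimU₀).hom b' = a := by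
  obtain ⟨U₀, b, rfl⟩ := exists_rep T X (ContainsFj X j) i n M a
  by_cases hxU : xc.1 ∈ U₀.1
  · have hU₀' : ContainsFj X j (inPiece X xc.1 j xc.2 U₀.1 U₀.2.1 hxU).U₀ :=
      fun y hy => ⟨U₀.2.1 y hy, containsFj_complOpen (by rw [xc.2]; omega) y hy⟩
    refine ⟨inPiece X xc.1 j xc.2 U₀.1 U₀.2.1 hxU, hU₀', _,
      ιO_pull T X i n M (ContainsFj X j) U₀.2.1 hU₀' U₀.2.2
        (inPiece X xc.1 j xc.2 U₀.1 U₀.2.1 hxU).dimU₀ (inPiece X xc.1 j xc.2 U₀.1 U₀.2.1 hxU).le b⟩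
  · have hxS : xc.1 ∈ S X j U₀.1 := ⟨hxU, xc.2⟩
    have hmax := isMaxPt_of_mem_S U₀.2.1 hxS
    obtain ⟨Z', hZ'c, hZ'sub, hxZ', hZ'u⟩ :=
      exists_compl_closed (Z := (U₀.1 : Set X.scheme)ᶜ) U₀.1.2.isClosed_compl hmax
    exact ⟨splitPiece X xc.1 U₀.1 ⊤ le_top trivial U₀.2.2 Z' hZ'c hZ'sub hxZ' hZ'u, U₀.2.1, b, rfl⟩

/-- the residue at a point of codimension `j + 1` of a class represented on an open containing the
point vanishes -/
lemma cpt_eq_zero_of_mem (xc : X.cdPt (j + 1)) (U₀ : X.scheme.Opens) (hU₀ : ContainsFj X j U₀)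
    (hd₀ : WeilCoh.dim (U₀ : Scheme.{u}) = WeilCoh.dim X.scheme) (hxU : xc.1 ∈ U₀)
    (b : T.gp (X.res U₀) M i n) :
    (Q.cpt xc M i n i' n' hi hn).hom ((ιO T X i n M (ContainsFj X j) U₀ hU₀ hd₀).hom b) = 0 := by
  have hU₀' : ContainsFj X j (inPiece X xc.1 j xc.2 U₀ hU₀ hxU).U₀ :=
    fun y hy => ⟨hU₀ y hy, containsFj_complOpen (by rw [xc.2]; omega) y hy⟩
  have h2 := ιO_pull T X i n M (ContainsFj X j) hU₀ hU₀' hd₀
    (inPiece X xc.1 j xc.2 U₀ hU₀ hxU).dimU₀ (inPiece X xc.1 j xc.2 U₀ hU₀ hxU).le b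
  have h3 := cpt_fjι T Q xc (inPiece X xc.1 j xc.2 U₀ hU₀ hxU) hU₀' M i n i' n' hi hn
    ((T.pull (X.resLE (inPiece X xc.1 j xc.2 U₀ hU₀ hxU).le
      ((inPiece X xc.1 j xc.2 U₀ hU₀ hxU).dimU₀.trans hd₀.symm)) M i n).hom b)
  have h4 := (T.exact_pull_res (inPiece X xc.1 j xc.2 U₀ hU₀ hxU).decomp M i n i' n'
    (by rw [codim_piece _ xc.2]; exact hi)
    (by rw [codim_piece _ xc.2]; exact hn)).apply_apply_eq_zero b
  refine (congrArg _ h2.symm).trans (h3.trans ?_)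
  refine (congrArg _ h4).trans ?_
  exact map_zero _

end Groth.Agent.Lib.Helper6.BMResExact
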