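import Mathlib
import Groth.Prelude.Def_BMCoh3
import Groth.Agent.Lib.Helper6.BMResExact

/-!
# Bijectivity of the restriction between consecutive coniveau groups when the groups of the points
vanish (helper6)
-/

universe u

set_option linter.unusedSectionVars false

open AlgebraicGeometry CategoryTheory CategoryTheory.Limits Opposite TopologicalSpace Topology Set

namespace Groth.Agent.Lib.Helper6.BMBij

open BMCoh BMGeom BMComp BMDecomp BMStep BMColim BMExact BMPushExact BMResExact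

variable {V : ObjectProperty Scheme.{u}} [IsConstructible V] {R : Type u} [CommRing R]
  {A : Coefs R} (T : PreTheory V R A) {X : Obj V} {j : ℕ} (M : A.Cat)

section surj

variable (i n i' n' : ℤ) (hi : i' = i + 1 - 2 * ((j : ℤ) + 1)) (hn : n' = n - ((j : ℤ) + 1))

/-- one step of the extension, from the vanishing of the residue in the group of the point -/
lemma step_res_core {x : X.scheme} (hx : WeilCoh.codim X.scheme x = j + 1) (p : Piece X x)
    (hcl : ∀ z ∈ p.U₀, z ∉ closure ({x} : Set X.scheme))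
    (b : T.gp (X.res p.U₀) M i n)
    (h1 : ((T.ptι X x i' n' p.W).app M).hom
      ((T.res p.decomp M i n i' n' (by rw [codim_piece p hx]; exact hi)
        (by rw [codim_piece p hx]; exact hn)).hom b) = 0) :
    ∃ (U₁ : X.scheme.Opens) (hle : p.U₀ ≤ U₁) (_ : x ∈ U₁)
      (hd : WeilCoh.dim (U₁ : Scheme.{u}) = WeilCoh.dim X.scheme) (b₁ : T.gp (X.res U₁) M i n),
      (T.pull (X.resLE hle (p.dimU₀.trans hd.symm)) M i n).hom b₁ = b := by
  obtain ⟨W', hW', h2⟩ := (ι_eq_zero_iff T (X.ptSub x)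
    (fun U => (U : Set (X.ptSub x).scheme).Nonempty) i' n' M _).1 h1
  have hD' : (shrinkPiece p hcl W' hW').decomp.codim = (j : ℤ) + 1 := codim_piece _ hx
  have hD : p.decomp.codim = (j : ℤ) + 1 := codim_piece _ hx
  have h4 := piece_res_pull T M i n i' n' p (shrinkPiece p hcl W' hW') hW' inf_le_left (le_refl _)
    (by rw [hD]; exact hi) (by rw [hD]; exact hn) (by rw [hD']; exact hi) (by rw [hD']; exact hn) b
  have e1 : (T.pull (X.resLE (le_refl p.U₀) (p.dimU₀.trans p.dimU₀.symm)) M i n).hom b = b := by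
    rw [resLE_refl]
    exact pull_id_apply T M i n b
  have h5 : (T.res (shrinkPiece p hcl W' hW').decomp M i n i' n' (by rw [hD']; exact hi)
      (by rw [hD']; exact hn)).hom b = 0 :=
    ((congrArg (fun t => (T.res (shrinkPiece p hcl W' hW').decomp M i n i' n'
      (by rw [hD']; exact hi) (by rw [hD']; exact hn)).hom t) e1).symm.trans h4.symm).trans h2
  obtain ⟨b₁, hb₁⟩ := ((T.exact_pull_res (shrinkPiece p hcl W' hW').decomp M i n i' n'
    (by rw [hD']; exact hi) (by rw [hD']; exact hn)) b).1 h5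
  refine ⟨(shrinkPiece p hcl W' hW').U, (shrinkPiece p hcl W' hW').le, ?_,
    (shrinkPiece p hcl W' hW').dimU, b₁, hb₁⟩
  refine ⟨?_, self_mem_cutOpen W'.2.1⟩
  obtain ⟨w, hw, hwx⟩ := exists_mem_ptSubι_eq X x p.W.1 p.W.2.1
  have := ((p.mem_iff x).2 ⟨w, hw, hwx⟩).1
  exact this

include hi hn in
lemma surj_aux (hz : ∀ x : X.scheme, WeilCoh.codim X.scheme x = j + 1 →
      IsZero (T.ptGp X x M i' n')) :
    ∀ (r : ℕ) (U₀ : X.scheme.Opens) (hU₀ : ContainsFj X j U₀)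
    (hd₀ : WeilCoh.dim (U₀ : Scheme.{u}) = WeilCoh.dim X.scheme) (b : T.gp (X.res U₀) M i n)
    (_ : (S X j U₀).ncard ≤ r),
    (ιO T X i n M (ContainsFj X j) U₀ hU₀ hd₀).hom b ∈
      LinearMap.range ((T.fjRes X (Nat.le_succ j) i n).app M).hom := by
  have base : ∀ (U₀ : X.scheme.Opens) (hU₀ : ContainsFj X j U₀)
      (hd₀ : WeilCoh.dim (U₀ : Scheme.{u}) = WeilCoh.dim X.scheme) (b : T.gp (X.res U₀) M i n)
      (_ : S X j U₀ = ∅),
      (ιO T X i n M (ContainsFj X j) U₀ hU₀ hd₀).hom b ∈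
        LinearMap.range ((T.fjRes X (Nat.le_succ j) i n).app M).hom := by
    intro U₀ hU₀ hd₀ b hS
    have hU₀' := containsFj_succ_of_S_eq_empty hU₀ hS
    exact ⟨_, ocolimMap_ι_apply T X i n M (containsFj_mono X (Nat.le_succ j)) ⟨U₀, hU₀', hd₀⟩ b⟩
  intro r
  induction r with
  | zero =>
    intro U₀ hU₀ hd₀ b hr
    exact base U₀ hU₀ hd₀ b ((Set.ncard_eq_zero (finite_S hU₀)).1 (Nat.le_zero.1 hr))
  | succ r ih =>
    intro U₀ hU₀ hd₀ b hr
    by_cases hS : S X j U₀ = ∅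
    · exact base U₀ hU₀ hd₀ b hS
    obtain ⟨x, hxS⟩ := Set.nonempty_iff_ne_empty.2 hS
    have hmax := isMaxPt_of_mem_S hU₀ hxS
    obtain ⟨Z', hZ'c, hZ'sub, hxZ', hZ'u⟩ :=
      exists_compl_closed (Z := (U₀ : Set X.scheme)ᶜ) U₀.2.isClosed_compl hmax
    have hcl : ∀ z ∈ U₀, z ∉ closure ({x} : Set X.scheme) := by
      intro z hz hzc
      have : z ∈ (U₀ : Set X.scheme)ᶜ := by
        rw [hZ'u]
        exact Or.inl hzc
      exact this hz
    have hsub := ModuleCat.subsingleton_of_isZero (hz x hxS.2)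
    obtain ⟨U₁, hle, hxU₁, hd₁, b₁, hb₁⟩ := step_res_core T M i n i' n' hi hn hxS.2
      (splitPiece X x U₀ ⊤ le_top trivial hd₀ Z' hZ'c hZ'sub hxZ' hZ'u) hcl b
      (Subsingleton.elim _ _)
    have hle' : U₀ ≤ U₁ := hle
    have hU₁ : ContainsFj X j U₁ := fun y hy => hle' (hU₀ y hy)
    have hSa : (S X j U₁).ncard ≤ r := by
      have hsub : S X j U₁ ⊆ S X j U₀ \ {x} := by
        rintro y ⟨hy1, hy2⟩
        refine ⟨⟨fun hy0 => hy1 (hle' hy0), hy2⟩, ?_⟩
        rintro rfl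
        exact hy1 hxU₁
      have h1 := Set.ncard_le_ncard hsub ((finite_S hU₀).sdiff)
      have h2 := Set.ncard_sdiff_singleton_of_mem hxS
      omega
    have hpull := ιO_pull T X i n M (ContainsFj X j) hU₁ hU₀ hd₁ hd₀ hle' b₁
    have hb₁' : (T.pull (X.resLE hle' (hd₀.trans hd₁.symm)) M i n).hom b₁ = b := hb₁
    rw [hb₁'] at hpull
    rw [hpull]
    exact ih U₁ hU₁ hd₁ b₁ hSa

include hi hn in
lemma surjective_fjRes (hz : ∀ x : X.scheme, WeilCoh.codim X.scheme x = j + 1 →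
      IsZero (T.ptGp X x M i' n')) :
    Function.Surjective ((T.fjRes X (Nat.le_succ j) i n).app M).hom := by
  intro a
  obtain ⟨U₀, b, rfl⟩ := exists_rep T X (ContainsFj X j) i n M a
  exact surj_aux T M i n i' n' hi hn hz _ U₀.1 U₀.2.1 U₀.2.2 b le_rfl

end surj

section inj

variable (i n i₀ n' : ℤ) (hi : i₀ + 1 = i + 2 * ((j + 1 : ℕ) : ℤ)) (hn : n' = n + ((j + 1 : ℕ) : ℤ))

include hi hn in
/-- one step: a class vanishing on the open part of a piece vanishes on a neighbourhood of the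
generic point, when the group of the point vanishes -/
lemma step_inj {x : X.scheme} (hx : WeilCoh.codim X.scheme x = j + 1) (pa : Piece X x)
    (hcl : ∀ z ∈ pa.U₀, z ∉ closure ({x} : Set X.scheme))
    (hzx : IsZero (T.ptGp X x M i n))
    (U : X.scheme.Opens) (hdU : WeilCoh.dim (U : Scheme.{u}) = WeilCoh.dim X.scheme)
    (hpale : pa.U ≤ U) (b : T.gp (X.res U) M (i₀ + 1) n')
    (hb : (T.pull (X.resLE (pa.le.trans hpale) (pa.dimU₀.trans hdU.symm)) M (i₀ + 1) n').hom b = 0) :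
    ∃ (U₁ : X.scheme.Opens) (_ : pa.U₀ ≤ U₁) (h₂ : U₁ ≤ U) (_ : x ∈ U₁)
      (hd : WeilCoh.dim (U₁ : Scheme.{u}) = WeilCoh.dim X.scheme),
      (T.pull (X.resLE h₂ (hd.trans hdU.symm)) M (i₀ + 1) n').hom b = 0 := by
  have hrel : relCodim ((X.ptSub x).res pa.W.1).scheme (X.res pa.U).scheme = ((j + 1 : ℕ) : ℤ) :=
    relCodim_piece pa hx
  have h0 : (T.pull (X.resLE pa.le (pa.dimU₀.trans pa.dimU.symm)) M (i₀ + 1) n').hom
      ((T.pull (X.resLE hpale (pa.dimU.trans hdU.symm)) M (i₀ + 1) n').hom b) = 0 := by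
    rw [pull_resLE_apply]
    exact hb
  obtain ⟨c, hc⟩ := (piece_exact_push_pull T pa M i₀ n' i n (by rw [hrel]; exact hi)
    (by rw [hrel]; exact hn) _).1 h0
  have hsub := ModuleCat.subsingleton_of_isZero hzx
  have h1 : ((T.ptι X x i n pa.W).app M).hom c = 0 := Subsingleton.elim _ _
  obtain ⟨W', hW', h2⟩ := (ι_eq_zero_iff T (X.ptSub x)
    (fun U => (U : Set (X.ptSub x).scheme).Nonempty) i n M _).1 h1
  have hrel' : relCodim ((X.ptSub x).res (shrinkPiece pa hcl W' hW').W.1).scheme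
      (X.res (shrinkPiece pa hcl W' hW').U).scheme = ((j + 1 : ℕ) : ℤ) :=
    relCodim_piece (shrinkPiece pa hcl W' hW') hx
  have hbc := piece_push_pull T (shrinkPiece pa hcl W' hW') pa hW' inf_le_left
    (fun w _ hw => mem_cutOpen.1 hw.2 w rfl) M i n (i₀ + 1) n'
    (by rw [hrel]; exact hi) (by rw [hrel]; exact hn) (by rw [hrel']; exact hi)
    (by rw [hrel']; exact hn) c
  have h2' : (T.pull ((X.ptSub x).resLE hW' ((shrinkPiece pa hcl W' hW').W.2.2.trans
      pa.W.2.2.symm)) M i n).hom c = 0 := h2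
  refine ⟨(shrinkPiece pa hcl W' hW').U, (shrinkPiece pa hcl W' hW').le,
    (inf_le_left : (shrinkPiece pa hcl W' hW').U ≤ pa.U).trans hpale, ?_,
    (shrinkPiece pa hcl W' hW').dimU, ?_⟩
  · refine ⟨?_, self_mem_cutOpen W'.2.1⟩
    obtain ⟨w, hw, hwx⟩ := exists_mem_ptSubι_eq X x pa.W.1 pa.W.2.1
    have := ((pa.mem_iff x).2 ⟨w, hw, hwx⟩).1
    exact this
  · have e1 := pull_resLE_apply T X (inf_le_left : (shrinkPiece pa hcl W' hW').U ≤ pa.U) hpale
      ((shrinkPiece pa hcl W' hW').dimU.trans pa.dimU.symm) (pa.dimU.trans hdU.symm) M (i₀ + 1) n' b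
    refine e1.symm.trans ?_
    refine (congrArg _ hc.symm).trans ?_
    refine hbc.trans ?_
    refine (congrArg _ h2').trans ?_
    exact map_zero _

include hi hn in
lemma inj_aux (hz : ∀ x : X.scheme, WeilCoh.codim X.scheme x = j + 1 →
      IsZero (T.ptGp X x M i n)) :
    ∀ (r : ℕ) (U : X.scheme.Opens) (hU : ContainsFj X (j + 1) U)
    (hdU : WeilCoh.dim (U : Scheme.{u}) = WeilCoh.dim X.scheme)
    (U₀ : X.scheme.Opens) (_ : ContainsFj X j U₀)
    (hd₀ : WeilCoh.dim (U₀ : Scheme.{u}) = WeilCoh.dim X.scheme) (hle : U₀ ≤ U)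
    (b : T.gp (X.res U) M (i₀ + 1) n')
    (_ : (T.pull (X.resLE hle (hd₀.trans hdU.symm)) M (i₀ + 1) n').hom b = 0)
    (_ : (S X j U₀).ncard ≤ r),
    (ιO T X (i₀ + 1) n' M (ContainsFj X (j + 1)) U hU hdU).hom b = 0 := by
  have base : ∀ (U : X.scheme.Opens) (hU : ContainsFj X (j + 1) U)
      (hdU : WeilCoh.dim (U : Scheme.{u}) = WeilCoh.dim X.scheme)
      (U₀ : X.scheme.Opens) (_ : ContainsFj X j U₀)
      (hd₀ : WeilCoh.dim (U₀ : Scheme.{u}) = WeilCoh.dim X.scheme) (hle : U₀ ≤ U)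
      (b : T.gp (X.res U) M (i₀ + 1) n')
      (_ : (T.pull (X.resLE hle (hd₀.trans hdU.symm)) M (i₀ + 1) n').hom b = 0)
      (_ : S X j U₀ = ∅),
      (ιO T X (i₀ + 1) n' M (ContainsFj X (j + 1)) U hU hdU).hom b = 0 := by
    intro U hU hdU U₀ hU₀ hd₀ hle b hb hS
    have hU₀' := containsFj_succ_of_S_eq_empty hU₀ hS
    rw [← ιO_pull T X (i₀ + 1) n' M (ContainsFj X (j + 1)) hU hU₀' hdU hd₀ hle b, hb, map_zero]
  intro r
  induction r with
  | zero =>
    intro U hU hdU U₀ hU₀ hd₀ hle b hb hr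
    refine base U hU hdU U₀ hU₀ hd₀ hle b hb ?_
    exact (Set.ncard_eq_zero (finite_S hU₀)).1 (Nat.le_zero.1 hr)
  | succ r ih =>
    intro U hU hdU U₀ hU₀ hd₀ hle b hb hr
    by_cases hS : S X j U₀ = ∅
    · exact base U hU hdU U₀ hU₀ hd₀ hle b hb hS
    obtain ⟨x, hxS⟩ := Set.nonempty_iff_ne_empty.2 hS
    have hmax := isMaxPt_of_mem_S hU₀ hxS
    obtain ⟨Z', hZ'c, hZ'sub, hxZ', hZ'u⟩ :=
      exists_compl_closed (Z := (U₀ : Set X.scheme)ᶜ) U₀.2.isClosed_compl hmax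
    have hxU : x ∈ U := hU x (le_of_eq hxS.2)
    have hcl : ∀ z ∈ U₀, z ∉ closure ({x} : Set X.scheme) := by
      intro z hz hzc
      have : z ∈ (U₀ : Set X.scheme)ᶜ := by
        rw [hZ'u]
        exact Or.inl hzc
      exact this hz
    obtain ⟨U₁, hle₁, h₂, hxU₁, hd₁, hb₁⟩ := step_inj T M i n i₀ n' hi hn hxS.2
      (splitPiece X x U₀ U hle hxU hd₀ Z' hZ'c hZ'sub hxZ' hZ'u) hcl (hz x hxS.2) U hdU
      inf_le_left b hb
    have hle' : U₀ ≤ U₁ := hle₁
    have hU₁ : ContainsFj X j U₁ := fun y hy => hle' (hU₀ y hy)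
    have hSa : (S X j U₁).ncard ≤ r := by
      have hsub : S X j U₁ ⊆ S X j U₀ \ {x} := by
        rintro y ⟨hy1, hy2⟩
        refine ⟨⟨fun hy0 => hy1 (hle' hy0), hy2⟩, ?_⟩
        rintro rfl
        exact hy1 hxU₁
      have h1 := Set.ncard_le_ncard hsub ((finite_S hU₀).sdiff)
      have h2 := Set.ncard_sdiff_singleton_of_mem hxS
      omega
    exact ih U hU hdU U₁ hU₁ hd₁ h₂ b hb₁ hSa

include hi hn in
lemma injective_fjRes (hz : ∀ x : X.scheme, WeilCoh.codim X.scheme x = j + 1 →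
      IsZero (T.ptGp X x M i n)) :
    Function.Injective ((T.fjRes X (Nat.le_succ j) (i₀ + 1) n').app M).hom := by
  rw [injective_iff_map_eq_zero]
  intro a ha
  obtain ⟨U, b, rfl⟩ := exists_rep T X (ContainsFj X (j + 1)) (i₀ + 1) n' M a
  have h1 := ocolimMap_ι_apply T X (i₀ + 1) n' M (containsFj_mono X (Nat.le_succ j)) U b
  obtain ⟨U₀, hle, hb⟩ := (ι_eq_zero_iff T X (ContainsFj X j) (i₀ + 1) n' M _).1 (h1.symm.trans ha)
  exact inj_aux T M i n i₀ n' hi hn hz _ U.1 U.2.1 U.2.2 U₀.1 U₀.2.1 U₀.2.2 hle b hb le_rfl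

end inj

end Groth.Agent.Lib.Helper6.BMBij
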