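import Mathlib
import Groth.Prelude.Def_BMCoh3
import Groth.Agent.Lib.Helper6.BMBij

/-!
# The map from the cohomology of `X` to the groups of `F_jX` (helper6)
-/

universe u

set_option linter.unusedSectionVars false

open AlgebraicGeometry CategoryTheory CategoryTheory.Limits Opposite TopologicalSpace Topology Set

namespace Groth.Agent.Lib.Helper6.BMToFj

open BMCoh BMGeom BMComp BMDecomp BMStep BMColim BMExact BMPushExact BMResExact BMBij

variable {V : ObjectProperty Scheme.{u}} [IsConstructible V] {R : Type u} [CommRing R]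
  {A : Coefs R} (T : PreTheory V R A) (X : Obj V) (M : A.Cat) (i n : ℤ)

lemma toFj_apply (k : ℕ) (a : T.gp X M i n) :
    ((T.toFj X k i n).app M).hom a =
      (ιO T X i n M (ContainsFj X k) ⊤ (fun _ _ => trivial) (dim_top X.scheme)).hom
        ((T.pull X.resTop M i n).hom a) := rfl

lemma toFj_succ_apply (k : ℕ) (a : T.gp X M i n) :
    ((T.fjRes X (Nat.le_succ k) i n).app M).hom (((T.toFj X (k + 1) i n).app M).hom a) =
      ((T.toFj X k i n).app M).hom a := by
  rw [toFj_apply, toFj_apply]
  exact ocolimMap_ι_apply T X i n M (containsFj_mono X (Nat.le_succ k)) _ _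

/-- the restriction to the whole space as an open is bijective -/
lemma bijective_pull_resTop : Function.Bijective (T.pull X.resTop M i n).hom := by
  have hiso : IsIso X.resTop := by
    refine ⟨⟨⟨(X.scheme.topIso).inv, inferInstance, (dim_top X.scheme).symm⟩, ?_, ?_⟩⟩
    · apply Hom.ext
      exact (X.scheme.topIso).hom_inv_id
    · apply Hom.ext
      exact (X.scheme.topIso).inv_hom_id
  have h2 : IsIso (T.pull X.resTop M i n) := by
    change IsIso (((T.H i n).map X.resTop.op).app M)
    infer_instance
  exact ConcreteCategory.bijective_of_isIso (T.pull X.resTop M i n)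

lemma eq_top_of_containsFj {d : ℕ} (hd : WeilCoh.dim X.scheme ≤ d) (U : X.scheme.Opens)
    (hU : ContainsFj X d U) : U = ⊤ := by
  rw [eq_top_iff]
  intro y _
  apply hU
  unfold WeilCoh.codim
  omega

/-- for `d` at least the dimension, the map to the groups of `F_dX` is bijective -/
lemma bijective_toFj_of_le {d : ℕ} (hd : WeilCoh.dim X.scheme ≤ d) :
    Function.Bijective ((T.toFj X d i n).app M).hom := by
  have htop : ∀ U : Idx X (ContainsFj X d),
      U = ⟨⊤, fun _ _ => trivial, dim_top X.scheme⟩ :=
    fun U => Subtype.ext (eq_top_of_containsFj X hd U.1 U.2.1)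
  have hι : Function.Bijective
      (ιO T X i n M (ContainsFj X d) ⊤ (fun _ _ => trivial) (dim_top X.scheme)).hom := by
    constructor
    · rw [injective_iff_map_eq_zero]
      intro b hb
      obtain ⟨U'', h, hh⟩ := (ι_eq_zero_iff T X (ContainsFj X d) i n M
        (U := ⟨⊤, fun _ _ => trivial, dim_top X.scheme⟩) b).1 hb
      obtain rfl := htop U''
      have h1 : (idxDiag X (ContainsFj X d)).map (homOfLE h) = 𝟙 _ := by
        rw [← (idxDiag X (ContainsFj X d)).map_id]
        congr 1
      have h2 : (resMap T X (ContainsFj X d) i n M h).hom b = b := by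
        change (T.pull ((idxDiag X (ContainsFj X d)).map (homOfLE h)) M i n).hom b = b
        rw [h1]
        exact pull_id_apply T M i n b
      rw [← h2]
      exact hh
    · intro a
      obtain ⟨U, b, rfl⟩ := exists_rep T X (ContainsFj X d) i n M a
      obtain rfl := htop U
      exact ⟨b, rfl⟩
  have : ((T.toFj X d i n).app M).hom =
      (ιO T X i n M (ContainsFj X d) ⊤ (fun _ _ => trivial) (dim_top X.scheme)).hom ∘
        (T.pull X.resTop M i n).hom := by
    funext a
    exact toFj_apply T X M i n d a
  rw [this]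
  exact hι.comp (bijective_pull_resTop T X M i n)

lemma bijective_fjRes (j : ℕ)
    (h0 : ∀ x : X.scheme, WeilCoh.codim X.scheme x = j + 1 →
      IsZero (T.ptGp X x M (i - 2 * ((j : ℤ) + 1)) (n - ((j : ℤ) + 1))))
    (h1 : ∀ x : X.scheme, WeilCoh.codim X.scheme x = j + 1 →
      IsZero (T.ptGp X x M (i + 1 - 2 * ((j : ℤ) + 1)) (n - ((j : ℤ) + 1)))) :
    Function.Bijective ((T.fjRes X (Nat.le_succ j) i n).app M).hom := by
  constructor
  · obtain ⟨i₀, rfl⟩ : ∃ i₀, i = i₀ + 1 := ⟨i - 1, by ring⟩
    exact injective_fjRes T M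
      (i₀ + 1 - 2 * ((j : ℤ) + 1)) (n - ((j : ℤ) + 1)) i₀ n (by push_cast; ring) (by push_cast; ring) h0
  · exact surjective_fjRes T M i n
      (i + 1 - 2 * ((j : ℤ) + 1)) (n - ((j : ℤ) + 1)) rfl rfl h1

/-- if the groups of all points vanish in negative degrees, `H^i(X) → H^i(F_jX)` is bijective for
`i ≤ 2j` -/
lemma bijective_toFj (hv : ∀ (x : X.scheme) (i n : ℤ), i < 0 → IsZero (T.ptGp X x M i n)) (j : ℕ)
    (hj : i ≤ 2 * (j : ℤ)) : Function.Bijective ((T.toFj X j i n).app M).hom := by
  have step : ∀ k, j ≤ k → Function.Bijective ((T.toFj X (k + 1) i n).app M).hom →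
      Function.Bijective ((T.toFj X k i n).app M).hom := by
    intro k hk h
    have hk' : (j : ℤ) ≤ (k : ℤ) := by exact_mod_cast hk
    have hres := bijective_fjRes T X M i n k (fun x _ => hv x _ _ (by linarith))
      (fun x _ => hv x _ _ (by linarith))
    have : ((T.toFj X k i n).app M).hom =
        ((T.fjRes X (Nat.le_succ k) i n).app M).hom ∘ ((T.toFj X (k + 1) i n).app M).hom :=
      funext fun a => (toFj_succ_apply T X M i n k a).symm
    rw [this]
    exact hres.comp h
  have key : ∀ m, Function.Bijective ((T.toFj X (j + m) i n).app M).hom →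
      Function.Bijective ((T.toFj X j i n).app M).hom := by
    intro m
    induction m with
    | zero => exact id
    | succ m ih =>
      intro h
      exact ih (step (j + m) (Nat.le_add_right j m) h)
  exact key (WeilCoh.dim X.scheme) (bijective_toFj_of_le T X M i n (Nat.le_add_left _ _))

end Groth.Agent.Lib.Helper6.BMToFj
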