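import Mathlib
import Groth.Prelude.Def_BMCoh3
import Groth.Agent.Lib.Helper6.BMToFj

/-!
# Restriction to a big open is bijective in degree two (helper6)
-/

universe u

set_option linter.unusedSectionVars false

open AlgebraicGeometry CategoryTheory CategoryTheory.Limits Opposite TopologicalSpace Topology Set

namespace Groth.Agent.Lib.Helper6.BMBigOpen

open BMCoh BMDim BMGeom BMComp BMDecomp BMStep BMColim BMExact BMPushExact BMResExact BMBij BMToFj

variable {V : ObjectProperty Scheme.{u}} [IsConstructible V] {R : Type u} [CommRing R]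
  {A : Coefs R} (T : PreTheory V R A) (M : A.Cat)

/-- an isomorphism of schemes between objects, as a morphism of objects -/
noncomputable def homOfIso {U Y : Obj V} (e : U.scheme ≅ Y.scheme) : U ⟶ Y :=
  ⟨e.hom, inferInstance, dim_eq_of_iso e⟩

/-- the restriction along an isomorphism is bijective -/
lemma bijective_pull_of_iso {U Y : Obj V} (e : U.scheme ≅ Y.scheme) (i n : ℤ) :
    Function.Bijective (T.pull (homOfIso e) M i n).hom := by
  have hiso : IsIso (homOfIso e) := by
    refine ⟨⟨⟨e.inv, inferInstance, (dim_eq_of_iso e).symm⟩, ?_, ?_⟩⟩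
    · apply Hom.ext
      exact e.hom_inv_id
    · apply Hom.ext
      exact e.inv_hom_id
  have h2 : IsIso (T.pull (homOfIso e) M i n) := by
    change IsIso (((T.H i n).map (homOfIso e).op).app M)
    infer_instance
  exact ConcreteCategory.bijective_of_isIso _

/-- the codimension of a point in an open of the dimension of the whole is at least its
codimension in the whole -/
lemma codim_res_ge (X : Obj V) (U' : X.scheme.Opens)
    (hd : WeilCoh.dim (U' : Scheme.{u}) = WeilCoh.dim X.scheme) (u : ↥U') :
    WeilCoh.codim X.scheme u.1 ≤ WeilCoh.codim (U' : Scheme.{u}) u := by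
  have h1 : WeilCoh.pdim (U' : Scheme.{u}) u ≤ WeilCoh.pdim X.scheme u.1 := by
    unfold WeilCoh.pdim
    have hsub : ∀ v : ↥(closure ({u} : Set ↥U')), (v.1 : X.scheme) ∈ closure ({u.1} : Set X.scheme) := by
      intro v
      have := image_closure_subset_closure_image (f := (Subtype.val : ↥U' → X.scheme))
        continuous_subtype_val (s := {u}) ⟨v.1, v.2, rfl⟩
      rwa [Set.image_singleton] at this
    let g : ↥(closure ({u} : Set ↥U')) → ↥(closure ({u.1} : Set X.scheme)) :=
      fun v => ⟨v.1.1, hsub v⟩
    have hg : IsInducing g := by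
      have hcomp : IsInducing ((Subtype.val : ↥(closure ({u.1} : Set X.scheme)) → X.scheme) ∘ g) := by
        have : ((Subtype.val : ↥(closure ({u.1} : Set X.scheme)) → X.scheme) ∘ g) =
            (Subtype.val : ↥U' → X.scheme) ∘ (Subtype.val : ↥(closure ({u} : Set ↥U')) → ↥U') := rfl
        rw [this]
        exact IsInducing.subtypeVal.comp IsInducing.subtypeVal
      exact IsInducing.of_comp (continuous_induced_rng.2 hcomp.continuous)
        continuous_subtype_val hcomp
    exact natDim_le_of_isInducing hg (finDim_subtype (finDim X) _)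
  unfold WeilCoh.codim
  rw [hd]
  omega

variable (hv : ∀ (Y : Obj V) (y : Y.scheme) (i n : ℤ), i < 0 → IsZero (T.ptGp Y y M i n))

include hv in
/-- restriction to an open containing the points of codimension at most one is injective in
degree two -/
lemma injective_pull_resι (X : Obj V) (n : ℤ) (U' : X.scheme.Opens) (hU' : ContainsFj X 1 U')
    (hd : WeilCoh.dim (U' : Scheme.{u}) = WeilCoh.dim X.scheme) :
    Function.Injective (T.pull (X.resι U' hd) M 2 n).hom := by
  rw [injective_iff_map_eq_zero]
  intro a ha
  have hbij := bijective_toFj T X M 2 n (fun x i n hi => hv X x i n hi) 1 (by norm_num)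
  apply hbij.1
  rw [map_zero, toFj_apply]
  have h1 := ιO_pull T X 2 n M (ContainsFj X 1) (U := ⊤) (U' := U') (fun _ _ => trivial) hU'
    (dim_top X.scheme) hd le_top ((T.pull X.resTop M 2 n).hom a)
  rw [← h1, pull_comp_apply]
  have h2 : X.resLE (le_top : U' ≤ ⊤) (hd.trans (dim_top X.scheme).symm) ≫ X.resTop =
      X.resι U' hd := by
    apply Hom.ext
    exact X.scheme.homOfLE_ι le_top
  rw [h2, ha, map_zero]

/-- a morphism of objects as an isomorphism onto its image followed by the inclusion -/
lemma pull_factor {U X : Obj V} (f : U ⟶ X) (i n : ℤ) (a : T.gp X M i n) :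
    (T.pull f M i n).hom a =
      (T.pull (homOfIso (Y := X.res f.hom.opensRange) f.hom.isoOpensRange) M i n).hom
        ((T.pull (X.resι f.hom.opensRange
          ((dim_eq_of_iso f.hom.isoOpensRange).symm.trans f.dim_eq)) M i n).hom a) := by
  rw [pull_comp_apply]
  congr 3
  apply Hom.ext
  exact (f.hom.isoOpensRange_hom_ι).symm

include hv in
lemma injective_pull {U X : Obj V} (f : U ⟶ X) (hf : ContainsFj X 1 f.hom.opensRange) (n : ℤ) :
    Function.Injective (T.pull f M 2 n).hom := by
  intro a a' haa
  have h1 := pull_factor T M f 2 n a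
  have h2 := pull_factor T M f 2 n a'
  exact injective_pull_resι T M hv X n _ hf _
    ((bijective_pull_of_iso T M (Y := X.res f.hom.opensRange) f.hom.isoOpensRange 2 n).1
      (h1.symm.trans (haa.trans h2)))

include hv in
lemma surjective_pull_resι (X : Obj V) (n : ℤ) (U' : X.scheme.Opens) (hU' : ContainsFj X 1 U')
    (hd : WeilCoh.dim (U' : Scheme.{u}) = WeilCoh.dim X.scheme) :
    Function.Surjective (T.pull (X.resι U' hd) M 2 n).hom := by
  intro b'
  have hbij := bijective_toFj T X M 2 n (fun x i n hi => hv X x i n hi) 1 (by norm_num)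
  obtain ⟨a, ha⟩ := hbij.2 ((ιO T X 2 n M (ContainsFj X 1) U' hU' hd).hom b')
  refine ⟨a, ?_⟩
  rw [toFj_apply] at ha
  have h1 := ιO_pull T X 2 n M (ContainsFj X 1) (U := ⊤) (U' := U') (fun _ _ => trivial) hU'
    (dim_top X.scheme) hd le_top ((T.pull X.resTop M 2 n).hom a)
  rw [pull_comp_apply] at h1
  have h2 : X.resLE (le_top : U' ≤ ⊤) (hd.trans (dim_top X.scheme).symm) ≫ X.resTop =
      X.resι U' hd := by
    apply Hom.ext
    exact X.scheme.homOfLE_ι le_top
  rw [h2] at h1
  obtain ⟨U'', h, h', hh⟩ := (ι_eq_iff T X (ContainsFj X 1) 2 n M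
    (U := ⟨U', hU', hd⟩) (U' := ⟨U', hU', hd⟩) _ _).1 (h1.trans ha)
  have hinj := injective_pull T M hv (X.resLE (U := U''.1) (U' := U') h (U''.2.2.trans hd.symm))
    (by
      intro u hu
      have hu1 : WeilCoh.codim X.scheme u.1 ≤ 1 := (codim_res_ge X U' hd u).trans hu
      exact (mem_opensRange_homOfLE (Y := X.scheme) h u).2 (U''.2.1 u.1 hu1)) n
  exact hinj hh

include hv in
/-- restriction along a morphism of objects whose image contains all points of codimension at most
one is bijective in degree two -/
theorem bijective_pull {U X : Obj V} (f : U ⟶ X) (hf : ContainsFj X 1 f.hom.opensRange) (n : ℤ) :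
    Function.Bijective (T.pull f M 2 n).hom := by
  refine ⟨injective_pull T M hv f hf n, ?_⟩
  intro b
  obtain ⟨b', hb'⟩ :=
    (bijective_pull_of_iso T M (Y := X.res f.hom.opensRange) f.hom.isoOpensRange 2 n).2 b
  obtain ⟨a, ha⟩ := surjective_pull_resι T M hv X n f.hom.opensRange hf
    ((dim_eq_of_iso f.hom.isoOpensRange).symm.trans f.dim_eq) b'
  refine ⟨a, ?_⟩
  rw [pull_factor, ha, hb']

end Groth.Agent.Lib.Helper6.BMBigOpen
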