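import Mathlib
import Groth.Prelude.Def_BMCoh3
import Groth.Agent.Lib.Helper6.BMBigOpen

/-!
# Additivity of a Borel–Moore pre-theory along finite decompositions into open and closed pieces
(helper6)
-/

universe u

set_option linter.unusedSectionVars false

open AlgebraicGeometry CategoryTheory CategoryTheory.Limits Opposite TopologicalSpace Topology Set

namespace Groth.Agent.Lib.Helper6.BMAdd

open BMCoh BMDim BMGeom BMComp BMDecomp BMStep BMColim BMExact BMPushExact BMToFj BMBigOpen

variable {V : ObjectProperty Scheme.{u}} [IsConstructible V] {R : Type u} [CommRing R]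
  {A : Coefs R} (T : PreTheory V R A) (M : A.Cat)

lemma relCodim_eq_zero {W Z : Obj V} (g : W ⟶ Z) : relCodim W.scheme Z.scheme = 0 := by
  unfold relCodim
  rw [g.dim_eq]
  ring

/-- a morphism of objects with closed range is a closed immersion -/
lemma isClosedImmersion_of_isClosed_range {W Z : Obj V} (g : W ⟶ Z)
    (hg : IsClosed (Set.range g.hom)) : IsClosedImmersion g.hom :=
  IsClosedImmersion.of_isPreimmersion _ hg

/-- push-forward followed by restriction along the same open and closed immersion is the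
identity -/
lemma pull_push_self {W Z : Obj V} (g : W ⟶ Z) [IsProper g.hom] (i n : ℤ)
    (hi : i = i + 2 * relCodim W.scheme Z.scheme) (hn : n = n + relCodim W.scheme Z.scheme)
    (c : T.gp W M i n) :
    (T.pull g M i n).hom ((T.push g.hom M i n i n hi hn).hom c) = c := by
  have hpb : IsPullback (𝟙 W : W ⟶ W).hom (𝟙 W.scheme) g.hom g.hom :=
    IsKernelPair.id_of_mono g.hom
  have h2 := T.push_pull g.hom (𝟙 W.scheme) g (𝟙 W) hpb M i n i n hi hn
    (by unfold relCodim; ring) (by unfold relCodim; ring)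
  rw [T.push_id] at h2
  have h3 := congrArg (fun t => t.hom c) h2
  refine h3.trans ?_
  exact pull_id_apply T M i n c

/-- the decomposition attached to an open and closed piece -/
noncomputable def clopenDecomp {W Z : Obj V} (g : W ⟶ Z) (hg : IsClosed (Set.range g.hom))
    (hd : WeilCoh.dim ((⟨(Set.range g.hom)ᶜ, hg.isOpen_compl⟩ : Z.scheme.Opens) : Scheme.{u}) =
      WeilCoh.dim Z.scheme) : Decomp Z where
  Z := W
  U := Z.res ⟨(Set.range g.hom)ᶜ, hg.isOpen_compl⟩
  i := g.hom
  closedImm := isClosedImmersion_of_isClosed_range g hg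
  j := Z.resι _ hd
  range_eq := by
    change Set.range (Scheme.Opens.ι (⟨(Set.range g.hom)ᶜ, hg.isOpen_compl⟩ : Z.scheme.Opens)) = _
    rw [Scheme.Opens.range_ι]
    rfl

/-- a class pushed forward from an open and closed piece vanishes on every open of full dimension
disjoint from the piece -/
lemma pull_push_disjoint {W Z : Obj V} (g : W ⟶ Z) [IsProper g.hom]
    (hg : IsClosed (Set.range g.hom)) (O : Z.scheme.Opens)
    (hO : WeilCoh.dim (O : Scheme.{u}) = WeilCoh.dim Z.scheme)
    (hdisj : Disjoint (O : Set Z.scheme) (Set.range g.hom)) (i₀ n : ℤ)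
    (hi : i₀ + 1 = i₀ + 1 + 2 * relCodim W.scheme Z.scheme)
    (hn : n = n + relCodim W.scheme Z.scheme) (c : T.gp W M (i₀ + 1) n) :
    (T.pull (Z.resι O hO) M (i₀ + 1) n).hom
      ((T.push g.hom M (i₀ + 1) n (i₀ + 1) n hi hn).hom c) = 0 := by
  have hle : O ≤ (⟨(Set.range g.hom)ᶜ, hg.isOpen_compl⟩ : Z.scheme.Opens) :=
    fun z hz hzr => (Set.disjoint_left.1 hdisj) hz hzr
  have hd : WeilCoh.dim ((⟨(Set.range g.hom)ᶜ, hg.isOpen_compl⟩ : Z.scheme.Opens) : Scheme.{u}) =
      WeilCoh.dim Z.scheme := by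
    apply le_antisymm (dim_opens_le (finDim Z) _)
    rw [← hO]
    exact dim_opens_mono (finDim Z) hle
  have h1 := (T.exact_push_pull (clopenDecomp g hg hd) M i₀ n (i₀ + 1) n hi hn).apply_apply_eq_zero c
  have h2 : Z.resLE hle (hO.trans hd.symm) ≫ Z.resι _ hd = Z.resι O hO := by
    apply Hom.ext
    exact Z.scheme.homOfLE_ι hle
  rw [← h2, ← pull_comp_apply]
  refine (congrArg _ h1).trans ?_
  exact map_zero _

/-- a class on a disjoint union of two opens of full dimension vanishing on both vanishes -/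
lemma eq_zero_of_pull_eq_zero {X' Y' W : Obj V} (iX : X' ⟶ W) (iY : Y' ⟶ W)
    (h : Set.range iX.hom = (Set.range iY.hom)ᶜ) (i n : ℤ) (a : T.gp W M i n)
    (hX : (T.pull iX M i n).hom a = 0) (hY : (T.pull iY M i n).hom a = 0) : a = 0 := by
  obtain ⟨i0, rfl⟩ : ∃ i0 : ℤ, i = i0 + 1 := ⟨i - 1, by ring⟩
  have hcl : IsClosed (Set.range iY.hom) := by
    have h1 : Set.range iY.hom = (Set.range iX.hom)ᶜ := by rw [h, compl_compl]
    rw [h1]
    exact iX.hom.isOpenEmbedding.isOpen_range.isClosed_compl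
  have hci : IsClosedImmersion iY.hom := IsClosedImmersion.of_isPreimmersion _ hcl
  let D : BMCoh.Decomp W :=
    { Z := Y', U := X', i := iY.hom, closedImm := hci, j := iX, range_eq := h }
  have hc : BMCoh.relCodim Y'.scheme W.scheme = 0 := relCodim_eq_zero iY
  have E3 := T.exact_push_pull D M i0 n (i0 + 1) n (by rw [hc]; ring) (by rw [hc]; ring)
  obtain ⟨b, hb⟩ := (E3 a).1 hX
  have hs := pull_push_self T M iY (i0 + 1) n (by rw [hc]; ring) (by rw [hc]; ring) b
  have hb0 : b = 0 := by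
    rw [← hs]
    exact (congrArg (T.pull iY M (i0 + 1) n).hom hb).trans hY
  rw [hb0, map_zero] at hb
  exact hb.symm

lemma dim_eq_of_le (Z : Obj V) {O O' : Z.scheme.Opens} (h : O' ≤ O)
    (hd : WeilCoh.dim (O' : Scheme.{u}) = WeilCoh.dim Z.scheme) :
    WeilCoh.dim (O : Scheme.{u}) = WeilCoh.dim Z.scheme := by
  apply le_antisymm (dim_opens_le (finDim Z) _)
  rw [← hd]
  exact dim_opens_mono (finDim Z) h

section family

variable {Z : Obj V} {κ : Type*} (Rk : κ → Z.scheme.Opens)
  (hdisj : ∀ k k', k ≠ k' → Disjoint (Rk k : Set Z.scheme) (Rk k'))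
  (hdim : ∀ k, WeilCoh.dim (Rk k : Scheme.{u}) = WeilCoh.dim Z.scheme)

include hdisj hdim in
/-- a class on a finite disjoint union of opens of full dimension vanishing on each vanishes -/
lemma eq_zero_of_forall_pull_eq_zero_aux (i n : ℤ) (s : Finset κ) (hs : s.Nonempty) :
    ∀ (O : Z.scheme.Opens) (hO : ∀ z, z ∈ O ↔ ∃ k ∈ s, z ∈ Rk k)
      (hdO : WeilCoh.dim (O : Scheme.{u}) = WeilCoh.dim Z.scheme) (c : T.gp (Z.res O) M i n),
      (∀ k (hk : k ∈ s), (T.pull (Z.resLE (fun z hz => (hO z).2 ⟨k, hk, hz⟩ : Rk k ≤ O)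
        ((hdim k).trans hdO.symm)) M i n).hom c = 0) → c = 0 := by
  classical
  induction hs using Finset.Nonempty.cons_induction with
  | singleton k =>
    intro O hO hdO c hc
    have hOk : O = Rk k := by
      ext z
      rw [SetLike.mem_coe, SetLike.mem_coe, hO]
      simp
    subst hOk
    have h1 := hc k (Finset.mem_singleton_self k)
    rw [resLE_refl] at h1
    rw [← h1]
    exact (pull_id_apply T M i n c).symm
  | cons k s hk hs ih =>
    intro O hO hdO c hc
    obtain ⟨k₀, hk₀⟩ := hs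
    have hOs : ∀ z, z ∈ (⨆ k' ∈ s, Rk k' : Z.scheme.Opens) ↔ ∃ k' ∈ s, z ∈ Rk k' := by
      intro z
      simp only [Opens.mem_iSup, exists_prop]
    have hle_s : (⨆ k' ∈ s, Rk k' : Z.scheme.Opens) ≤ O := by
      intro z hz
      obtain ⟨k', hk', hz'⟩ := (hOs z).1 hz
      exact (hO z).2 ⟨k', Finset.mem_cons.2 (Or.inr hk'), hz'⟩
    have hle_k : Rk k ≤ O := fun z hz => (hO z).2 ⟨k, Finset.mem_cons_self k s, hz⟩
    have hd_s : WeilCoh.dim ((⨆ k' ∈ s, Rk k' : Z.scheme.Opens) : Scheme.{u}) =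
        WeilCoh.dim Z.scheme :=
      dim_eq_of_le Z (fun z hz => (hOs z).2 ⟨k₀, hk₀, hz⟩ : Rk k₀ ≤ _) (hdim k₀)
    refine eq_zero_of_pull_eq_zero T M (Z.resLE hle_k ((hdim k).trans hdO.symm))
      (Z.resLE hle_s (hd_s.trans hdO.symm)) ?_ i n c (hc k (Finset.mem_cons_self k s)) ?_
    · ext v
      change v ∈ Set.range (Z.scheme.homOfLE hle_k) ↔ v ∉ Set.range (Z.scheme.homOfLE hle_s)
      have e1 := mem_opensRange_homOfLE (Y := Z.scheme) hle_k v
      have e2 := mem_opensRange_homOfLE (Y := Z.scheme) hle_s v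
      change v ∈ Set.range (Z.scheme.homOfLE hle_k) ↔ _ at e1
      change v ∈ Set.range (Z.scheme.homOfLE hle_s) ↔ _ at e2
      rw [e1, e2, hOs]
      constructor
      · rintro hvk ⟨k', hk', hvk'⟩
        have hne : k ≠ k' := by
          rintro rfl
          exact hk hk'
        exact (Set.disjoint_left.1 (hdisj k k' hne)) hvk hvk'
      · intro hv
        obtain ⟨k', hk', hvk'⟩ := (hO v.1).1 v.2
        rcases Finset.mem_cons.1 hk' with rfl | hk'
        · exact hvk'
        · exact absurd ⟨k', hk', hvk'⟩ hv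
    · apply ih _ hOs hd_s
      intro k' hk'
      rw [pull_resLE_apply]
      exact hc k' (Finset.mem_cons.2 (Or.inr hk'))

include hdisj hdim in
lemma eq_zero_of_forall_pull_eq_zero (i n : ℤ) (s : Finset κ) (hs : s.Nonempty)
    (hcov : ∀ z : Z.scheme, ∃ k ∈ s, z ∈ Rk k) (c : T.gp Z M i n)
    (hc : ∀ k ∈ s, (T.pull (Z.resι (Rk k) (hdim k)) M i n).hom c = 0) : c = 0 := by
  have h1 := eq_zero_of_forall_pull_eq_zero_aux T M Rk hdisj hdim i n s hs ⊤
    (fun z => ⟨fun _ => hcov z, fun _ => trivial⟩) (dim_top Z.scheme)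
    ((T.pull Z.resTop M i n).hom c) (by
      intro k hk
      rw [pull_comp_apply]
      have h2 : Z.resLE (le_top : Rk k ≤ ⊤) ((hdim k).trans (dim_top Z.scheme).symm) ≫ Z.resTop =
          Z.resι (Rk k) (hdim k) := by
        apply Hom.ext
        exact Z.scheme.homOfLE_ι le_top
      rw [h2]
      exact hc k hk)
  exact (bijective_pull_resTop T Z M i n).1 (h1.trans (map_zero _).symm)

end family

section morphisms

variable {Z : Obj V} {κ : Type*} [Fintype κ] [Nonempty κ] {W : κ → Obj V} (g : ∀ k, W k ⟶ Z)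
  (hdisj : ∀ k k', k ≠ k' → Disjoint (Set.range (g k).hom) (Set.range (g k').hom))
  (hcov : ∀ z : Z.scheme, ∃ k, z ∈ Set.range (g k).hom)

include hdisj hcov in
lemma isClosed_range_of_family (k : κ) : IsClosed (Set.range (g k).hom) := by
  have : (Set.range (g k).hom)ᶜ = ⋃ k' ∈ {k' | k' ≠ k}, Set.range (g k').hom := by
    ext z
    simp only [Set.mem_compl_iff, Set.mem_iUnion, Set.mem_setOf_eq, exists_prop]
    constructor
    · intro hz
      obtain ⟨k', hk'⟩ := hcov z
      refine ⟨k', ?_, hk'⟩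
      rintro rfl
      exact hz hk'
    · rintro ⟨k', hne, hz'⟩ hz
      exact (Set.disjoint_left.1 (hdisj k' k hne)) hz' hz
  rw [← isOpen_compl_iff, this]
  exact isOpen_biUnion (fun k' _ => (g k').hom.isOpenEmbedding.isOpen_range)

lemma dim_opensRange {W' : Obj V} (f : W' ⟶ Z) :
    WeilCoh.dim (f.hom.opensRange : Scheme.{u}) = WeilCoh.dim Z.scheme :=
  (dim_eq_of_iso f.hom.isoOpensRange).symm.trans f.dim_eq

/-- vanishing of the restriction to the image is vanishing of the restriction along the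
morphism -/
lemma pull_resι_opensRange_eq_zero_iff {W' : Obj V} (f : W' ⟶ Z) (i n : ℤ) (c : T.gp Z M i n) :
    (T.pull (Z.resι f.hom.opensRange (dim_opensRange f)) M i n).hom c = 0 ↔
      (T.pull f M i n).hom c = 0 := by
  rw [pull_factor T M f i n c]
  constructor
  · intro h
    rw [h, map_zero]
  · intro h
    exact (bijective_pull_of_iso T M (Y := Z.res f.hom.opensRange) f.hom.isoOpensRange i n).1
      (h.trans (map_zero _).symm)

include hdisj hcov in
/-- a class vanishing on every piece of a finite decomposition into open and closed pieces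
vanishes -/
lemma eq_zero_of_forall_pull_g_eq_zero (i n : ℤ) (c : T.gp Z M i n)
    (hc : ∀ k, (T.pull (g k) M i n).hom c = 0) : c = 0 := by
  refine eq_zero_of_forall_pull_eq_zero T M (fun k => (g k).hom.opensRange) ?_
    (fun k => dim_opensRange (g k)) i n Finset.univ Finset.univ_nonempty ?_ c ?_
  · intro k k' hne
    exact hdisj k k' hne
  · intro z
    obtain ⟨k, hk⟩ := hcov z
    exact ⟨k, Finset.mem_univ k, hk⟩
  · intro k _
    exact (pull_resι_opensRange_eq_zero_iff T M (g k) i n c).2 (hc k)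

end morphisms

section pushes

variable {Z : Obj V} {κ : Type*} [Fintype κ] [Nonempty κ] {W : κ → Obj V} (g : ∀ k, W k ⟶ Z)
  (hdisj : ∀ k k', k ≠ k' → Disjoint (Set.range (g k).hom) (Set.range (g k').hom))
  (hcov : ∀ z : Z.scheme, ∃ k, z ∈ Set.range (g k).hom) [∀ k, IsProper (g k).hom]

lemma hi_zero {W' : Obj V} (f : W' ⟶ Z) (i : ℤ) : i = i + 2 * relCodim W'.scheme Z.scheme := by
  rw [relCodim_eq_zero f]
  ring

lemma hn_zero {W' : Obj V} (f : W' ⟶ Z) (n : ℤ) : n = n + relCodim W'.scheme Z.scheme := by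
  rw [relCodim_eq_zero f]
  ring

include hdisj hcov in
lemma pull_push_of_ne (k m : κ) (hne : m ≠ k) (i₀ n : ℤ) (c : T.gp (W k) M (i₀ + 1) n) :
    (T.pull (g m) M (i₀ + 1) n).hom
      ((T.push (g k).hom M (i₀ + 1) n (i₀ + 1) n (hi_zero (g k) _) (hn_zero (g k) _)).hom c) = 0 := by
  rw [← pull_resι_opensRange_eq_zero_iff]
  exact pull_push_disjoint T M (g k) (isClosed_range_of_family g hdisj hcov k) _
    (dim_opensRange (g m)) (hdisj m k hne) i₀ n _ _ c

include hdisj hcov in
/-- every class is the sum of the push-forwards of its restrictions to the pieces -/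
lemma eq_sum_push_pull (i₀ n : ℤ) (c : T.gp Z M (i₀ + 1) n) :
    c = ∑ k, (T.push (g k).hom M (i₀ + 1) n (i₀ + 1) n (hi_zero (g k) _) (hn_zero (g k) _)).hom
      ((T.pull (g k) M (i₀ + 1) n).hom c) := by
  classical
  rw [← sub_eq_zero]
  apply eq_zero_of_forall_pull_g_eq_zero T M g hdisj hcov
  intro m
  rw [map_sub, map_sum, sub_eq_zero]
  rw [Finset.sum_eq_single m]
  · exact (pull_push_self T M (g m) (i₀ + 1) n _ _ _).symm
  · intro k _ hkm
    exact pull_push_of_ne T M g hdisj hcov k m (Ne.symm hkm) i₀ n _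
  · intro h
    exact absurd (Finset.mem_univ m) h

end pushes

end Groth.Agent.Lib.Helper6.BMAdd
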