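import Mathlib
import Groth.Prelude.Def_WeilCoh
import Groth.Agent.Lib.Helper6.BMDim

/-!
# Dimension of closures of points along closed maps (helper6)
-/

universe u

open TopologicalSpace Topology Order Set

namespace Groth.Agent.Lib.Helper6.BMClosedDim

open BMDim

variable {S T : Type*} [TopologicalSpace S] [TopologicalSpace T]

/-- in a quasi-sober finite dimensional space, a point whose closure has dimension `e + 1` has a
proper specialization whose closure has dimension at least `e` -/
lemma exists_specialization [QuasiSober T] (hT : topologicalKrullDim T < ⊤) (t : T) (e : ℕ)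
    (he : WeilCoh.natDim ↥(closure ({t} : Set T)) = e + 1) :
    ∃ t' ∈ closure ({t} : Set T), t' ≠ t ∧ e ≤ WeilCoh.natDim ↥(closure ({t'} : Set T)) := by
  have hB : topologicalKrullDim ↥(closure ({t} : Set T)) < ⊤ := finDim_subtype hT _
  have : Nonempty ↥(closure ({t} : Set T)) := ⟨⟨t, subset_closure rfl⟩⟩
  have : QuasiSober ↥(closure ({t} : Set T)) :=
    (isClosed_closure.isClosedEmbedding_subtypeVal).quasiSober
  obtain ⟨l, hl⟩ := exists_ltSeries hB
  rw [he] at hl
  have h1 := le_natDim_ltSeries hB l e (by omega)
  obtain ⟨ξ, hξ⟩ := QuasiSober.sober (l ⟨e, by omega⟩).isIrreducible (l ⟨e, by omega⟩).isClosed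
  have hlt : l ⟨e, by omega⟩ < l ⟨e + 1, by omega⟩ := l.strictMono (by simp [Fin.lt_def])
  refine ⟨ξ.1, ξ.2, ?_, ?_⟩
  · intro hξt
    -- then the closure of `ξ` is everything
    have hξ' : ξ = ⟨t, subset_closure rfl⟩ := Subtype.ext hξt
    have huniv : ((l ⟨e, by omega⟩ : IrreducibleCloseds ↥(closure ({t} : Set T))) :
        Set ↥(closure ({t} : Set T))) = Set.univ := by
      rw [← hξ.def, hξ']
      ext z
      simp only [Set.mem_univ, iff_true]
      rw [closure_subtype]
      simp only [Set.image_singleton]
      exact z.2
    have hle : l ⟨e + 1, by omega⟩ ≤ l ⟨e, by omega⟩ := by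
      intro z _
      change z ∈ ((l ⟨e, by omega⟩ : IrreducibleCloseds ↥(closure ({t} : Set T))) :
        Set ↥(closure ({t} : Set T)))
      rw [huniv]
      exact Set.mem_univ z
    exact absurd hlt (not_lt_of_ge hle)
  · refine h1.trans ?_
    rw [← hξ.def]
    let g : ↥(closure ({ξ} : Set ↥(closure ({t} : Set T)))) → ↥(closure ({ξ.1} : Set T)) :=
      fun z => ⟨z.1.1, by
        have h2 := z.2
        rw [closure_subtype] at h2
        simpa using h2⟩
    have hg : IsInducing g := by
      have h0 : IsInducing (fun z : ↥(closure ({ξ} : Set ↥(closure ({t} : Set T)))) => z.1.1) :=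
        IsInducing.subtypeVal.comp IsInducing.subtypeVal
      exact h0.codRestrict _
    exact natDim_le_of_isInducing hg (finDim_subtype hT _)

/-- along a closed continuous map, the closure of the image of a point has dimension at most that
of the closure of the point -/
lemma natDim_closure_image_le [T0Space S] [QuasiSober T] (hS : topologicalKrullDim S < ⊤)
    (hT : topologicalKrullDim T < ⊤) {f : S → T} (hf : Continuous f) (hcl : IsClosedMap f) (s : S) :
    WeilCoh.natDim ↥(closure ({f s} : Set T)) ≤ WeilCoh.natDim ↥(closure ({s} : Set S)) := by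
  induction h : WeilCoh.natDim ↥(closure ({s} : Set S)) using Nat.strong_induction_on
    generalizing s with
  | _ d ih =>
    rcases Nat.eq_zero_or_pos (WeilCoh.natDim ↥(closure ({f s} : Set T))) with h0 | hpos
    · omega
    · obtain ⟨e, he⟩ : ∃ e, WeilCoh.natDim ↥(closure ({f s} : Set T)) = e + 1 := ⟨WeilCoh.natDim ↥(closure ({f s} : Set T)) - 1, by omega⟩
      obtain ⟨t', ht', hne, hle⟩ := exists_specialization hT (f s) e he
      have himg : closure ({f s} : Set T) = f '' closure ({s} : Set S) := by
        rw [← hcl.closure_image_eq_of_continuous hf, Set.image_singleton]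
      rw [himg] at ht'
      obtain ⟨s', hs', rfl⟩ := ht'
      have hs'ne : s' ≠ s := fun h => hne (by rw [h])
      have hlt := natDim_closure_lt hS hs' hs'ne
      have := ih _ (h ▸ hlt) s' rfl
      omega

end Groth.Agent.Lib.Helper6.BMClosedDim
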