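import Mathlib
import Groth.Prelude.Def_BMCoh3
import Groth.Agent.Lib.Helper6.BMGeom

/-!
# The reduced closed subscheme on a closed subset of an object (helper6)
-/

universe u

open AlgebraicGeometry CategoryTheory TopologicalSpace Topology Set

namespace Groth.Agent.Lib.Helper6.BMZ

open BMCoh BMGeom

/-- the reduced induced closed subscheme is reduced -/
instance isReduced_vanishingIdeal_subscheme {Y : Scheme.{u}} (C : Closeds Y) :
    IsReduced (Scheme.IdealSheafData.vanishingIdeal C).subscheme := by
  have : ∀ U, IsReduced ((Scheme.IdealSheafData.vanishingIdeal C).subschemeCover.openCover.X U) := by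
    intro U
    change IsReduced (Spec (.of (Γ(Y, U.1) ⧸ (Scheme.IdealSheafData.vanishingIdeal C).ideal U)))
    have hrad : ((Scheme.IdealSheafData.vanishingIdeal C).ideal U).IsRadical := by
      rw [Scheme.IdealSheafData.vanishingIdeal_ideal]
      exact PrimeSpectrum.isRadical_vanishingIdeal _
    have : _root_.IsReduced (Γ(Y, U.1) ⧸ (Scheme.IdealSheafData.vanishingIdeal C).ideal U) :=
      (Ideal.isRadical_iff_quotient_reduced _).1 hrad
    infer_instance
  exact IsReduced.of_openCover _ (Scheme.IdealSheafData.vanishingIdeal C).subschemeCover.openCover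

/-- the kernel of a morphism from a reduced scheme is the vanishing ideal of the closure of its
range -/
lemma ker_eq_vanishingIdeal {W Y : Scheme.{u}} [IsReduced W] (h : W ⟶ Y) :
    h.ker = Scheme.IdealSheafData.vanishingIdeal
      (Closeds.closure (h '' ((⊤ : Closeds W) : Set W))) := by
  rw [← Scheme.IdealSheafData.map_vanishingIdeal, Scheme.IdealSheafData.vanishingIdeal_top,
    Scheme.nilradical_eq_bot, Scheme.IdealSheafData.map_bot]

/-- a morphism from a reduced scheme with range in a closed set factors through the reduced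
induced closed subscheme -/
noncomputable def liftVanishing {W Y : Scheme.{u}} [IsReduced W] (h : W ⟶ Y) (C : Closeds Y)
    (hr : Set.range h ⊆ C) : W ⟶ (Scheme.IdealSheafData.vanishingIdeal C).subscheme :=
  IsClosedImmersion.lift (Scheme.IdealSheafData.vanishingIdeal C).subschemeι h (by
    rw [Scheme.IdealSheafData.ker_subschemeι, ker_eq_vanishingIdeal]
    apply Scheme.IdealSheafData.vanishingIdeal_antimono
    rw [Closeds.closure_le]
    rintro _ ⟨w, _, rfl⟩
    exact hr ⟨w, rfl⟩)

@[reassoc]
lemma liftVanishing_fac {W Y : Scheme.{u}} [IsReduced W] (h : W ⟶ Y) (C : Closeds Y)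
    (hr : Set.range h ⊆ C) :
    liftVanishing h C hr ≫ (Scheme.IdealSheafData.vanishingIdeal C).subschemeι = h :=
  IsClosedImmersion.lift_fac _ _ _

/-- the lift of an immersion from a reduced scheme onto an open part of the closed set is an
open immersion -/
lemma isOpenImmersion_liftVanishing {W Y : Scheme.{u}} [IsReduced W] (h : W ⟶ Y)
    [IsPreimmersion h] (C : Closeds Y) (hr : Set.range h ⊆ C) (O : Y.Opens)
    (hO : Set.range h = (C : Set Y) ∩ O) : IsOpenImmersion (liftVanishing h C hr) := by
  have hfac := liftVanishing_fac h C hr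
  have hpre : IsPreimmersion (liftVanishing h C hr) := by
    have : IsPreimmersion (liftVanishing h C hr ≫
        (Scheme.IdealSheafData.vanishingIdeal C).subschemeι) := by
      rw [hfac]
      infer_instance
    exact IsPreimmersion.of_comp _ (Scheme.IdealSheafData.vanishingIdeal C).subschemeι
  have happ : ∀ w : W, (Scheme.IdealSheafData.vanishingIdeal C).subschemeι
      (liftVanishing h C hr w) = h w := fun w => congrArg (fun g => g w) hfac
  have hsub : Set.range (liftVanishing h C hr) ⊆
      Set.range ((Scheme.IdealSheafData.vanishingIdeal C).subschemeι ⁻¹ᵁ O).ι := by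
    rintro _ ⟨w, rfl⟩
    rw [Scheme.Opens.range_ι]
    change (Scheme.IdealSheafData.vanishingIdeal C).subschemeι (liftVanishing h C hr w) ∈ O
    rw [happ]
    have : h w ∈ (C : Set Y) ∩ O := hO ▸ ⟨w, rfl⟩
    exact this.2
  have hfac' : IsOpenImmersion.lift
      ((Scheme.IdealSheafData.vanishingIdeal C).subschemeι ⁻¹ᵁ O).ι (liftVanishing h C hr) hsub ≫
      ((Scheme.IdealSheafData.vanishingIdeal C).subschemeι ⁻¹ᵁ O).ι = liftVanishing h C hr :=
    IsOpenImmersion.lift_fac _ _ _
  have hpre' : IsPreimmersion (IsOpenImmersion.lift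
      ((Scheme.IdealSheafData.vanishingIdeal C).subschemeι ⁻¹ᵁ O).ι (liftVanishing h C hr) hsub) := by
    have : IsPreimmersion (IsOpenImmersion.lift
        ((Scheme.IdealSheafData.vanishingIdeal C).subschemeι ⁻¹ᵁ O).ι (liftVanishing h C hr) hsub ≫
        ((Scheme.IdealSheafData.vanishingIdeal C).subschemeι ⁻¹ᵁ O).ι) := by
      rw [hfac']
      exact hpre
    exact IsPreimmersion.of_comp _ ((Scheme.IdealSheafData.vanishingIdeal C).subschemeι ⁻¹ᵁ O).ι
  have hsurj : Function.Surjective (IsOpenImmersion.lift
      ((Scheme.IdealSheafData.vanishingIdeal C).subschemeι ⁻¹ᵁ O).ι (liftVanishing h C hr) hsub) := by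
    intro z
    have hzC : (Scheme.IdealSheafData.vanishingIdeal C).subschemeι z.1 ∈ (C : Set Y) := by
      have : (Scheme.IdealSheafData.vanishingIdeal C).subschemeι z.1 ∈
          Set.range (Scheme.IdealSheafData.vanishingIdeal C).subschemeι := ⟨z.1, rfl⟩
      rw [Scheme.IdealSheafData.range_subschemeι,
        Scheme.IdealSheafData.coe_support_vanishingIdeal] at this
      exact this
    have hzO : (Scheme.IdealSheafData.vanishingIdeal C).subschemeι z.1 ∈ O := z.2
    obtain ⟨w, hw⟩ : (Scheme.IdealSheafData.vanishingIdeal C).subschemeι z.1 ∈ Set.range h := by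
      rw [hO]
      exact ⟨hzC, hzO⟩
    refine ⟨w, ?_⟩
    apply ((Scheme.IdealSheafData.vanishingIdeal C).subschemeι ⁻¹ᵁ O).ι.isOpenEmbedding.injective
    have h1 : ((Scheme.IdealSheafData.vanishingIdeal C).subschemeι ⁻¹ᵁ O).ι
        (IsOpenImmersion.lift ((Scheme.IdealSheafData.vanishingIdeal C).subschemeι ⁻¹ᵁ O).ι
          (liftVanishing h C hr) hsub w) = liftVanishing h C hr w :=
      congrArg (fun g => g w) hfac'
    rw [h1]
    apply (Scheme.IdealSheafData.vanishingIdeal C).subschemeι.isClosedEmbedding.injective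
    rw [happ, hw]
    rfl
  have hci : IsClosedImmersion (IsOpenImmersion.lift
      ((Scheme.IdealSheafData.vanishingIdeal C).subschemeι ⁻¹ᵁ O).ι (liftVanishing h C hr) hsub) := by
    refine IsClosedImmersion.of_isPreimmersion _ ?_
    rw [hsurj.range_eq]
    exact isClosed_univ
  have hS : Surjective (IsOpenImmersion.lift
      ((Scheme.IdealSheafData.vanishingIdeal C).subschemeι ⁻¹ᵁ O).ι (liftVanishing h C hr) hsub) :=
    ⟨hsurj⟩
  have hiso := isIso_of_isClosedImmersion_of_surjective (IsOpenImmersion.lift
      ((Scheme.IdealSheafData.vanishingIdeal C).subschemeι ⁻¹ᵁ O).ι (liftVanishing h C hr) hsub)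
  rw [← hfac']
  infer_instance

end Groth.Agent.Lib.Helper6.BMZ
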