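import Mathlib
import Groth.Prelude.Def_BMCoh4
import Groth.Agent.Lib.Helper6.BMZ
import Groth.Agent.Lib.Helper6.BMColim
import Groth.Agent.Lib.Helper6.BMStep
import Groth.Agent.Lib.Helper6.BMClosedDim

/-!
# Uniqueness of push-forward data between the groups of points along a proper morphism (helper6)
-/

universe u

set_option linter.unusedSectionVars false

open AlgebraicGeometry CategoryTheory CategoryTheory.Limits Opposite TopologicalSpace Topology Set

namespace Groth.Agent.Lib.Helper6.BMPtPush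

open BMCoh BMDim BMGeom BMColim BMZ BMClosedDim BMStep

variable {V : ObjectProperty Scheme.{u}} [IsConstructible V]

section lift

variable {Y X : Obj V} (φ : Y.scheme ⟶ X.scheme) (y : Y.scheme) (x : X.scheme) (hyx : φ y = x)

include hyx in
lemma range_subset : Set.range (Y.ptSubι y ≫ φ) ⊆
    ((⟨closure ({x} : Set X.scheme), isClosed_closure⟩ : Closeds X.scheme) : Set X.scheme) := by
  rintro _ ⟨w, rfl⟩
  have h1 : Y.ptSubι y w ∈ closure ({y} : Set Y.scheme) := ptSubι_mem_closure Y y w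
  have h2 : y ⤳ Y.ptSubι y w := specializes_iff_mem_closure.2 h1
  have h3 : φ y ⤳ φ (Y.ptSubι y w) := h2.map φ.continuous
  rw [hyx] at h3
  exact specializes_iff_mem_closure.1 h3

/-- the induced morphism between the reduced closures -/
noncomputable def ψ : (Y.ptSub y).scheme ⟶ (X.ptSub x).scheme :=
  liftVanishing (Y.ptSubι y ≫ φ) ⟨closure ({x} : Set X.scheme), isClosed_closure⟩
    (range_subset φ y x hyx)

@[reassoc]
lemma ψ_fac : ψ φ y x hyx ≫ X.ptSubι x = Y.ptSubι y ≫ φ :=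
  liftVanishing_fac _ _ _

lemma ψ_apply (w : (Y.ptSub y).scheme) : X.ptSubι x (ψ φ y x hyx w) = φ (Y.ptSubι y w) :=
  congrArg (fun g => g w) (ψ_fac φ y x hyx)

instance [IsProper φ] : IsProper (ψ φ y x hyx) := by
  have : IsProper (ψ φ y x hyx ≫ X.ptSubι x) := by
    rw [ψ_fac]
    infer_instance
  exact IsProper.of_comp _ (X.ptSubι x)

include hyx in
/-- the only point of the closure of `y` over `x` is `y`, when the two closures have the same
dimension -/
lemma eq_of_map_eq [IsProper φ] (hdim : WeilCoh.pdim Y.scheme y = WeilCoh.pdim X.scheme x)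
    {z : Y.scheme} (hz : z ∈ closure ({y} : Set Y.scheme)) (hzx : φ z = x) : z = y := by
  by_contra hne
  have h1 := natDim_closure_lt (finDim Y) hz hne
  have h2 := natDim_closure_image_le (finDim Y) (finDim X) φ.continuous φ.isClosedMap z
  rw [hzx] at h2
  unfold WeilCoh.pdim at hdim
  omega

end lift

section rep

variable {Y X : Obj V} (φ : Y.scheme ⟶ X.scheme) [IsProper φ] (y : Y.scheme) (x : X.scheme)
  (hyx : φ y = x) (hdim : WeilCoh.pdim Y.scheme y = WeilCoh.pdim X.scheme x)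

include hyx hdim in
/-- every nonempty open of the closure of `y` contains the inverse image of a nonempty open of the
closure of `x`, over which the morphism between the closures is proper -/
lemma exists_proper_rep (W : ptIdx Y y) :
    ∃ (W₀ : ptIdx Y y) (W'₀ : ptIdx X x) (_ : W₀ ≤ W)
      (f : ((Y.ptSub y).res W₀.1).scheme ⟶ ((X.ptSub x).res W'₀.1).scheme) (_ : IsProper f),
      f ≫ W'₀.1.ι ≫ X.ptSubι x = W₀.1.ι ≫ Y.ptSubι y ≫ φ := by
  obtain ⟨yg, hygW, hyg⟩ := exists_mem_ptSubι_eq Y y W.1 W.2.1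
  obtain ⟨xg, hxg⟩ := exists_ptSubι_eq X x (subset_closure rfl : x ∈ closure ({x} : Set X.scheme))
  have hψyg : ψ φ y x hyx yg = xg := by
    apply (X.ptSubι x).isClosedEmbedding.injective
    rw [ψ_apply, hyg, hyx, hxg]
  have hcl : IsClosed (ψ φ y x hyx '' (W.1 : Set (Y.ptSub y).scheme)ᶜ) :=
    (ψ φ y x hyx).isClosedMap _ W.1.2.isClosed_compl
  let W' : (X.ptSub x).scheme.Opens :=
    ⟨(ψ φ y x hyx '' (W.1 : Set (Y.ptSub y).scheme)ᶜ)ᶜ, hcl.isOpen_compl⟩
  have hxgW' : xg ∈ W' := by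
    rintro ⟨z, hzW, hz⟩
    have h1 : Y.ptSubι y z = y := by
      apply eq_of_map_eq φ y x hyx hdim (ptSubι_mem_closure Y y z)
      rw [← ψ_apply φ y x hyx, hz, hxg]
    have : z = yg := (Y.ptSubι y).isClosedEmbedding.injective (h1.trans hyg.symm)
    exact hzW (this ▸ hygW)
  have hle : (ψ φ y x hyx) ⁻¹ᵁ W' ≤ W.1 := by
    intro w hw
    by_contra hwW
    exact hw ⟨w, hwW, rfl⟩
  have hne : (((ψ φ y x hyx) ⁻¹ᵁ W' : (Y.ptSub y).scheme.Opens) :
      Set (Y.ptSub y).scheme).Nonempty :=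
    ⟨yg, by change ψ φ y x hyx yg ∈ W'; rw [hψyg]; exact hxgW'⟩
  refine ⟨ptIdxMk Y y ((ψ φ y x hyx) ⁻¹ᵁ W') hne, ptIdxMk X x W' ⟨xg, hxgW'⟩, hle,
    (ψ φ y x hyx) ∣_ W', IsZariskiLocalAtTarget.restrict (P := @IsProper) inferInstance W', ?_⟩
  change ((ψ φ y x hyx) ∣_ W') ≫ W'.ι ≫ X.ptSubι x = ((ψ φ y x hyx) ⁻¹ᵁ W').ι ≫ Y.ptSubι y ≫ φ
  rw [morphismRestrict_ι_assoc, ψ_fac]

end rep

section uniq

variable {R : Type u} [CommRing R] {A : Coefs R} (T : PreTheory V R A)
  {Y X : Obj V} (φ : Y.scheme ⟶ X.scheme) [IsProper φ] (y : Y.scheme) (x : X.scheme)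

/-- push-forward data between the groups of points along a proper morphism are unique -/
theorem subsingleton_ptPush : Subsingleton (T.PtPush φ y x) := by
  refine ⟨fun P P' => ?_⟩
  have hyx : φ y = x := P.maps_pt
  have hdim : WeilCoh.pdim Y.scheme y = WeilCoh.pdim X.scheme x := by
    have h := P.codim_eq
    unfold relCodim at h
    rw [dim_ptSub, dim_ptSub] at h
    omega
  have hcpt : P.cpt = P'.cpt := by
    funext M i n
    refine ModuleCat.hom_ext (LinearMap.ext fun a => ?_)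
    obtain ⟨W, c, rfl⟩ := exists_rep T (Y.ptSub y)
      (fun U => (U : Set (Y.ptSub y).scheme).Nonempty) i n M a
    obtain ⟨W₀, W'₀, hle, f, hf, hfac⟩ := exists_proper_rep φ y x hyx hdim W
    rw [← resMap_ι_apply T (Y.ptSub y) (fun U => (U : Set (Y.ptSub y).scheme).Nonempty)
      i n M (U := W) (U' := W₀) hle c]
    obtain ⟨c₀, hc₀⟩ : ∃ c₀ : T.gp ((Y.ptSub y).res W₀.1) M i n, c₀ = (resMap T (Y.ptSub y)
      (fun U => (U : Set (Y.ptSub y).scheme).Nonempty) i n M (U := W) (U' := W₀) hle).hom c :=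
      ⟨_, rfl⟩
    rw [← hc₀]
    have hr : relCodim ((Y.ptSub y).res W₀.1).scheme ((X.ptSub x).res W'₀.1).scheme = 0 := by
      have h1 : WeilCoh.dim ((Y.ptSub y).res W₀.1).scheme = WeilCoh.dim (Y.ptSub y).scheme :=
        W₀.2.2
      have h2 : WeilCoh.dim ((X.ptSub x).res W'₀.1).scheme = WeilCoh.dim (X.ptSub x).scheme :=
        W'₀.2.2
      have h := P.codim_eq
      unfold relCodim at h ⊢
      rw [h1, h2]
      exact h
    have h1 := P.cpt_spec M i n W₀ W'₀ f hfac (by rw [hr]; ring) (by rw [hr]; ring)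
    have h2 := P'.cpt_spec M i n W₀ W'₀ f hfac (by rw [hr]; ring) (by rw [hr]; ring)
    exact (congrArg (fun t => t.hom c₀) h1).trans (congrArg (fun t => t.hom c₀) h2).symm
  cases P
  cases P'
  simp only at hcpt
  subst hcpt
  rfl

end uniq

end Groth.Agent.Lib.Helper6.BMPtPush
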