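import Mathlib
import Groth.Prelude.Def_BMCoh4
import Groth.Agent.Lib.Helper6.BMPtPush

/-!
# Fibres of a generically finite proper morphism from an integral object over points of
codimension one of its image (helper6)
-/

universe u

set_option linter.unusedSectionVars false

open AlgebraicGeometry CategoryTheory CategoryTheory.Limits Opposite TopologicalSpace Topology Set

namespace Groth.Agent.Lib.Helper6.BMFibre

open BMCoh BMDim BMGeom BMComp BMColim BMZ BMClosedDim BMStep BMPtPush

variable {V : ObjectProperty Scheme.{u}} [IsConstructible V]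

/-- every point of a subset lies in the closure of a maximal point of the subset -/
lemma exists_isMaxPt_generalization (X : Obj V) (E : Set X.scheme) (z : X.scheme) (hz : z ∈ E) :
    ∃ e : X.scheme, IsMaxPt E e ∧ z ∈ closure ({e} : Set X.scheme) := by
  induction h : WeilCoh.codim X.scheme z using Nat.strong_induction_on generalizing z with
  | _ m ih =>
    by_cases hzm : IsMaxPt E z
    · exact ⟨z, hzm, subset_closure rfl⟩
    · have hz' : ¬ ∀ y ∈ E, z ∈ closure ({y} : Set X.scheme) → y = z := fun h => hzm ⟨hz, h⟩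
      obtain ⟨y, hy⟩ := not_forall.1 hz'
      obtain ⟨hyE, hy⟩ := Classical.not_imp.1 hy
      obtain ⟨hzy, hne⟩ := Classical.not_imp.1 hy
      have hlt := codim_lt (finDim X) hzy (Ne.symm hne)
      obtain ⟨e, he, hye⟩ := ih _ (h ▸ hlt) y hyE rfl
      exact ⟨e, he, closure_minimal (Set.singleton_subset_iff.2 hye) isClosed_closure hzy⟩

section fibre

variable {Y X : Obj V} (φ : Y.scheme ⟶ X.scheme) [IsProper φ] [IsIntegral Y.scheme]
  (w : X.scheme) (hηw : φ (genericPoint Y.scheme) = w)
  (hd : WeilCoh.dim Y.scheme = WeilCoh.pdim X.scheme w)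

lemma mem_closure_genericPoint (z : Y.scheme) :
    z ∈ closure ({genericPoint Y.scheme} : Set Y.scheme) := by
  rw [(genericPoint_spec Y.scheme).def]
  exact Set.mem_univ z

include hηw in
lemma map_mem_closure (z : Y.scheme) : φ z ∈ closure ({w} : Set X.scheme) := by
  have h2 : genericPoint Y.scheme ⤳ z :=
    specializes_iff_mem_closure.2 (mem_closure_genericPoint z)
  have h3 := h2.map φ.continuous
  rw [hηw] at h3
  exact specializes_iff_mem_closure.1 h3

lemma pdim_genericPoint :
    WeilCoh.pdim Y.scheme (genericPoint Y.scheme) = WeilCoh.dim Y.scheme := by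
  unfold WeilCoh.pdim WeilCoh.dim WeilCoh.natDim
  rw [(genericPoint_spec Y.scheme).def]
  rw [IsHomeomorph.topologicalKrullDim_eq _ (Homeomorph.Set.univ Y.scheme).isHomeomorph]

variable (x : X.scheme) (hx : WeilCoh.pdim X.scheme x + 1 = WeilCoh.pdim X.scheme w)

include hηw hd hx in
/-- a point over `x` has a closure of the dimension of that of `x` -/
lemma pdim_eq_of_map_eq {y : Y.scheme} (hy : φ y = x) :
    WeilCoh.pdim Y.scheme y = WeilCoh.pdim X.scheme x := by
  have hne : y ≠ genericPoint Y.scheme := by
    rintro rfl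
    rw [hηw] at hy
    rw [hy] at hx
    omega
  have h1 := pdim_lt (finDim Y) (mem_closure_genericPoint y) hne
  rw [pdim_genericPoint] at h1
  have h2 := natDim_closure_image_le (finDim Y) (finDim X) φ.continuous φ.isClosedMap y
  rw [hy] at h2
  unfold WeilCoh.pdim at *
  omega

include hηw hd hx in
lemma codim_eq_one_of_map_eq {y : Y.scheme} (hy : φ y = x) :
    WeilCoh.codim Y.scheme y = 1 := by
  have := pdim_eq_of_map_eq φ w hηw hd x hx hy
  unfold WeilCoh.codim
  omega

include hηw hd hx in
/-- the points over `x` are maximal points of the inverse image of the closure of `x` -/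
lemma isMaxPt_of_map_eq {y : Y.scheme} (hy : φ y = x) :
    IsMaxPt (φ ⁻¹' closure ({x} : Set X.scheme)) y := by
  refine ⟨?_, fun y' hy' hyy' => ?_⟩
  · change φ y ∈ closure ({x} : Set X.scheme)
    rw [hy]
    exact subset_closure rfl
  · by_contra hne
    have h1 := pdim_lt (finDim Y) hyy' (Ne.symm hne)
    have h2 := pdim_eq_of_map_eq φ w hηw hd x hx hy
    have hne' : y' ≠ genericPoint Y.scheme := by
      rintro rfl
      change φ (genericPoint Y.scheme) ∈ closure ({x} : Set X.scheme) at hy'
      rw [hηw] at hy'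
      have := pdim_mono (finDim X) hy'
      omega
    have h3 := pdim_lt (finDim Y) (mem_closure_genericPoint y') hne'
    rw [pdim_genericPoint] at h3
    omega

include hηw hd hx in
lemma finite_fibre : {y : Y.scheme | φ y = x}.Finite :=
  (finite_setOf_isMaxPt (isClosed_closure.preimage φ.continuous)).subset
    fun _ hy => isMaxPt_of_map_eq φ w hηw hd x hx hy

include hηw hd hx in
/-- two points of the fibre over `x` one of which specializes to the other are equal -/
lemma eq_of_mem_closure_of_map_eq {y z : Y.scheme} (hy : φ y = x) (hz : φ z = x)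
    (hzy : z ∈ closure ({y} : Set Y.scheme)) : z = y :=
  eq_of_map_eq φ y x hy (pdim_eq_of_map_eq φ w hηw hd x hx hy) hzy hz

end fibre

section shrink

variable {Y X : Obj V} (φ : Y.scheme ⟶ X.scheme) [IsProper φ] [IsIntegral Y.scheme]
  (w : X.scheme) (hηw : φ (genericPoint Y.scheme) = w)
  (hd : WeilCoh.dim Y.scheme = WeilCoh.pdim X.scheme w)
  (x : X.scheme) (hx : WeilCoh.pdim X.scheme x + 1 = WeilCoh.pdim X.scheme w)

/-- the closed set over which the inverse image of the closure of `x` is not the disjoint union of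
the closures of the points of the fibre over `x` -/
def bad : Set X.scheme :=
  φ '' (⋃ e ∈ {e : Y.scheme | IsMaxPt (φ ⁻¹' closure ({x} : Set X.scheme)) e ∧ φ e ≠ x},
      closure ({e} : Set Y.scheme)) ∪
    φ '' (⋃ p ∈ {p : Y.scheme × Y.scheme | φ p.1 = x ∧ φ p.2 = x ∧ p.1 ≠ p.2},
      closure ({p.1} : Set Y.scheme) ∩ closure ({p.2} : Set Y.scheme))

include hηw hd hx in
lemma isClosed_bad : IsClosed (bad φ x) := by
  have hF := finite_fibre φ w hηw hd x hx
  refine IsClosed.union (φ.isClosedMap _ ?_) (φ.isClosedMap _ ?_)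
  · exact ((finite_setOf_isMaxPt (isClosed_closure.preimage φ.continuous)).subset
      fun e he => he.1).isClosed_biUnion fun _ _ => isClosed_closure
  · refine ((hF.prod hF).subset ?_).isClosed_biUnion fun _ _ =>
      isClosed_closure.inter isClosed_closure
    rintro p ⟨h1, h2, _⟩
    exact ⟨h1, h2⟩

include hηw hd hx in
lemma not_mem_bad : x ∉ bad φ x := by
  rintro (⟨z, hz, hzx⟩ | ⟨z, hz, hzx⟩)
  · simp only [Set.mem_iUnion, exists_prop] at hz
    obtain ⟨e, ⟨heE, hex⟩, hze⟩ := hz
    -- `x` lies in the closure of `φ e`, and `φ e` in the closure of `x`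
    have h1 : φ e ∈ closure ({x} : Set X.scheme) := heE.1
    have h2 : e ⤳ z := specializes_iff_mem_closure.2 hze
    have h3 := h2.map φ.continuous
    rw [hzx] at h3
    have h4 : x ⤳ φ e := specializes_iff_mem_closure.2 h1
    exact hex (h3.antisymm h4).eq
  · simp only [Set.mem_iUnion, exists_prop] at hz
    obtain ⟨p, ⟨hp1, hp2, hne⟩, hz1, hz2⟩ := hz
    have e1 := eq_of_mem_closure_of_map_eq φ w hηw hd x hx hp1 hzx hz1
    have e2 := eq_of_mem_closure_of_map_eq φ w hηw hd x hx hp2 hzx hz2
    exact hne (e1.symm.trans e2)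

include hηw hd hx in
/-- away from the bad set, every point over the closure of `x` lies in the closure of a point of
the fibre -/
lemma exists_of_map_not_mem_bad {z : Y.scheme} (hz : φ z ∈ closure ({x} : Set X.scheme))
    (hzb : φ z ∉ bad φ x) : ∃ y : Y.scheme, φ y = x ∧ z ∈ closure ({y} : Set Y.scheme) := by
  obtain ⟨e, he, hze⟩ := exists_isMaxPt_generalization Y (φ ⁻¹' closure ({x} : Set X.scheme)) z hz
  by_cases hex : φ e = x
  · exact ⟨e, hex, hze⟩
  · exfalso
    apply hzb
    left
    refine ⟨z, ?_, rfl⟩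
    simp only [Set.mem_iUnion, exists_prop]
    exact ⟨e, ⟨he, hex⟩, hze⟩

/-- away from the bad set, the closures of two distinct points of the fibre are disjoint -/
lemma eq_of_map_not_mem_bad {z y y' : Y.scheme} (hy : φ y = x) (hy' : φ y' = x)
    (hz : z ∈ closure ({y} : Set Y.scheme)) (hz' : z ∈ closure ({y'} : Set Y.scheme))
    (hzb : φ z ∉ bad φ x) : y = y' := by
  by_contra hne
  apply hzb
  right
  refine ⟨z, ?_, rfl⟩
  simp only [Set.mem_iUnion, exists_prop]
  exact ⟨(y, y'), ⟨hy, hy', hne⟩, hz, hz'⟩

end shrink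

end Groth.Agent.Lib.Helper6.BMFibre
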