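import Mathlib
import Groth.Prelude.Def_BMCoh3
import Groth.Agent.Lib.Helper6.BMZ
import Groth.Agent.Lib.Helper6.BMAdd

/-!
# Finitely many points of one codimension at a time: the closed subscheme of their closures
(helper6)
-/

universe u

set_option linter.unusedSectionVars false

open AlgebraicGeometry CategoryTheory CategoryTheory.Limits Opposite TopologicalSpace Topology Set

namespace Groth.Agent.Lib.Helper6.BMMulti

open BMCoh BMDim BMGeom BMComp BMDecomp BMStep BMColim BMExact BMPushExact BMResExact BMToFj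
  BMBigOpen BMAdd BMZ

variable {V : ObjectProperty Scheme.{u}} [IsConstructible V]

/-- an open containing the points of codimension at most `j + 1` together with finitely many
points of codimension `j + 1` whose closures are pairwise disjoint in the open -/
structure Config (X : Obj V) (j : ℕ) where
  Y : X.scheme.Opens
  hY : ContainsFj X (j + 1) Y
  F : Finset X.scheme
  hF : ∀ x ∈ F, WeilCoh.codim X.scheme x = j + 1
  hne : F.Nonempty
  disj : ∀ x ∈ F, ∀ x' ∈ F, x ≠ x' → ∀ z ∈ Y, z ∈ closure ({x} : Set X.scheme) →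
    z ∉ closure ({x'} : Set X.scheme)

namespace Config

variable {X : Obj V} {j : ℕ} (K : Config X j)

/-- the index type -/
abbrev κ : Type u := {x : X.scheme // x ∈ K.F}

instance : Nonempty K.κ := by
  obtain ⟨x, hx⟩ := K.hne
  exact ⟨⟨x, hx⟩⟩

lemma codim_eq (x : K.κ) : WeilCoh.codim X.scheme x.1 = j + 1 := K.hF x.1 x.2

lemma dimY : WeilCoh.dim (K.Y : Scheme.{u}) = WeilCoh.dim X.scheme :=
  dim_eq_of_containsFj X (j + 1) K.Y K.hY

/-- the union of the closures -/
def clos : Set X.scheme := ⋃ x ∈ K.F, closure ({x} : Set X.scheme)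

lemma isClosed_clos : IsClosed K.clos :=
  K.F.finite_toSet.isClosed_biUnion (fun _ _ => isClosed_closure)

lemma mem_clos {z : X.scheme} : z ∈ K.clos ↔ ∃ x ∈ K.F, z ∈ closure ({x} : Set X.scheme) := by
  unfold clos
  simp only [Set.mem_iUnion, exists_prop]

/-- the open complement of the closures -/
def U₀ : X.scheme.Opens := K.Y ⊓ ⟨K.closᶜ, K.isClosed_clos.isOpen_compl⟩

lemma U₀_le : K.U₀ ≤ K.Y := inf_le_left

lemma mem_U₀ {z : X.scheme} : z ∈ K.U₀ ↔ z ∈ K.Y ∧ z ∉ K.clos := Iff.rfl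

lemma containsFj_U₀ : ContainsFj X j K.U₀ := by
  intro y hy
  refine ⟨K.hY y (by omega), ?_⟩
  intro hyc
  obtain ⟨x, hx, hyx⟩ := K.mem_clos.1 hyc
  have := codim_mono (finDim X) hyx
  have := K.hF x hx
  omega

lemma dimU₀ : WeilCoh.dim (K.U₀ : Scheme.{u}) = WeilCoh.dim X.scheme :=
  dim_eq_of_containsFj X j K.U₀ K.containsFj_U₀

/-- a point of codimension `j + 1` outside the finite set lies in the open complement -/
lemma mem_U₀_of_not_mem {x : X.scheme} (hx : WeilCoh.codim X.scheme x = j + 1) (hxF : x ∉ K.F) :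
    x ∈ K.U₀ := by
  refine ⟨K.hY x (le_of_eq hx), ?_⟩
  intro hxc
  obtain ⟨x', hx', hxx'⟩ := K.mem_clos.1 hxc
  have hne : x ≠ x' := by
    rintro rfl
    exact hxF hx'
  have := codim_lt (finDim X) hxx' hne
  have := K.hF x' hx'
  omega

lemma mem_Y (x : K.κ) : x.1 ∈ K.Y := K.hY x.1 (le_of_eq (K.codim_eq x))

/-- the piece of the closure of a point of the finite set inside the open -/
noncomputable def piece (x : K.κ) : Piece X x.1 :=
  inPiece X x.1 j (K.codim_eq x) K.Y (containsFj_mono X (Nat.le_succ j) _ K.hY) (K.mem_Y x)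

lemma piece_U (x : K.κ) : (K.piece x).U = K.Y := rfl

/-- the closed subset of the open: the trace of the closures -/
def C : Closeds (X.res K.Y).scheme :=
  ⟨K.Y.ι ⁻¹' K.clos, K.isClosed_clos.preimage K.Y.ι.continuous⟩

lemma mem_C {y : (X.res K.Y).scheme} : y ∈ K.C ↔ K.Y.ι y ∈ K.clos := Iff.rfl

/-- the reduced closed subscheme on the trace of the closures -/
noncomputable abbrev Zobj : Obj V :=
  ⟨(Scheme.IdealSheafData.vanishingIdeal K.C).subscheme,
    IsConstructible.of_isClosedImmersion (Scheme.IdealSheafData.vanishingIdeal K.C).subschemeι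
      (h := (inferInstance : IsClosedImmersion
        (Scheme.IdealSheafData.vanishingIdeal K.C).subschemeι)) (X.res K.Y).mem⟩

/-- its closed immersion -/
noncomputable abbrev ιZ : K.Zobj.scheme ⟶ (X.res K.Y).scheme :=
  (Scheme.IdealSheafData.vanishingIdeal K.C).subschemeι

lemma range_ιZ : Set.range K.ιZ = (K.C : Set (X.res K.Y).scheme) := by
  rw [Scheme.IdealSheafData.range_subschemeι, Scheme.IdealSheafData.coe_support_vanishingIdeal]

end Config

instance isReduced_ptSub (X : Obj V) (x : X.scheme) : IsReduced (X.ptSub x).scheme :=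
  isReduced_vanishingIdeal_subscheme _

namespace Config

variable {X : Obj V} {j : ℕ} (K : Config X j)

/-- the closed immersion of a piece into the open -/
noncomputable abbrev h (x : K.κ) :
    ((X.ptSub x.1).res (K.piece x).W.1).scheme ⟶ (X.res K.Y).scheme := (K.piece x).f

instance (x : K.κ) : IsClosedImmersion (K.h x) :=
  inferInstanceAs (IsClosedImmersion (K.piece x).f)

lemma h_ι (x : K.κ) : K.h x ≫ K.Y.ι = (K.piece x).W.1.ι ≫ X.ptSubι x.1 := (K.piece x).f_ι

lemma mem_range_h (x : K.κ) (y : (X.res K.Y).scheme) :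
    y ∈ Set.range (K.h x) ↔ K.Y.ι y ∈ closure ({x.1} : Set X.scheme) := by
  have h1 : Set.range (K.h x) = K.Y.ι ⁻¹' ((K.piece x).U₀ : Set X.scheme)ᶜ := (K.piece x).range_f
  rw [h1]
  change K.Y.ι y ∉ (K.Y ⊓ complOpen X x.1) ↔ _
  constructor
  · intro hy
    by_contra hc
    apply hy
    refine ⟨?_, hc⟩
    have : K.Y.ι y ∈ Set.range K.Y.ι := ⟨y, rfl⟩
    rwa [Scheme.Opens.range_ι] at this
  · intro hy hy'
    exact hy'.2 hy

lemma range_h_subset (x : K.κ) : Set.range (K.h x) ⊆ (K.C : Set (X.res K.Y).scheme) := by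
  intro y hy
  rw [mem_range_h] at hy
  exact K.mem_clos.2 ⟨x.1, x.2, hy⟩

/-- the open of the ambient open cutting out one closure -/
def O (x : K.κ) : (X.res K.Y).scheme.Opens :=
  ⟨K.Y.ι ⁻¹' (⋃ x' ∈ {x' : X.scheme | x' ∈ K.F ∧ x' ≠ x.1}, closure ({x'} : Set X.scheme))ᶜ,
    (((K.F.finite_toSet.subset
      (fun x' (hx' : x' ∈ {x' : X.scheme | x' ∈ K.F ∧ x' ≠ x.1}) => hx'.1)).isClosed_biUnion
      (fun _ _ => isClosed_closure)).isOpen_compl).preimage K.Y.ι.continuous⟩

lemma mem_O (x : K.κ) (y : (X.res K.Y).scheme) :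
    y ∈ K.O x ↔ ∀ x' ∈ K.F, x' ≠ x.1 → K.Y.ι y ∉ closure ({x'} : Set X.scheme) := by
  change K.Y.ι y ∉ _ ↔ _
  simp only [Set.mem_iUnion, exists_prop, not_exists, not_and]
  constructor
  · intro hy x' hx' hne
    exact hy x' ⟨hx', hne⟩
  · intro hy x' hx'
    exact hy x' hx'.1 hx'.2

lemma range_h_eq (x : K.κ) :
    Set.range (K.h x) = (K.C : Set (X.res K.Y).scheme) ∩ K.O x := by
  ext y
  rw [mem_range_h]
  constructor
  · intro hy
    refine ⟨K.mem_clos.2 ⟨x.1, x.2, hy⟩, ?_⟩
    rw [SetLike.mem_coe, mem_O]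
    intro x' hx' hne
    have hyY : K.Y.ι y ∈ K.Y := by
      have : K.Y.ι y ∈ Set.range K.Y.ι := ⟨y, rfl⟩
      rwa [Scheme.Opens.range_ι] at this
    exact K.disj x.1 x.2 x' hx' (Ne.symm hne) _ hyY hy
  · rintro ⟨hyC, hyO⟩
    obtain ⟨x', hx', hyx'⟩ := K.mem_clos.1 hyC
    by_cases hxx : x' = x.1
    · rw [← hxx]
      exact hyx'
    · exact absurd hyx' ((K.mem_O x y).1 hyO x' hx' hxx)

/-- the lift of a piece to the reduced closed subscheme -/
noncomputable def ℓhom (x : K.κ) :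
    ((X.ptSub x.1).res (K.piece x).W.1).scheme ⟶ K.Zobj.scheme :=
  liftVanishing (K.h x) K.C (K.range_h_subset x)

lemma ℓhom_ιZ (x : K.κ) : K.ℓhom x ≫ K.ιZ = K.h x := liftVanishing_fac _ _ _

instance (x : K.κ) : IsOpenImmersion (K.ℓhom x) :=
  isOpenImmersion_liftVanishing (K.h x) K.C (K.range_h_subset x) (K.O x) (K.range_h_eq x)

end Config

/-- the closure of a point maps into the closure of its image, inducingly -/
lemma natDim_closure_le_of_isInducing {A B : Type*} [TopologicalSpace A] [TopologicalSpace B]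
    {f : A → B} (hf : IsInducing f) (a : A) (hB : topologicalKrullDim B < ⊤) :
    WeilCoh.natDim ↥(closure ({a} : Set A)) ≤ WeilCoh.natDim ↥(closure ({f a} : Set B)) := by
  have hsub : ∀ v : ↥(closure ({a} : Set A)), f v.1 ∈ closure ({f a} : Set B) := by
    intro v
    have := image_closure_subset_closure_image (f := f) hf.continuous (s := {a}) ⟨v.1, v.2, rfl⟩
    rwa [Set.image_singleton] at this
  let g : ↥(closure ({a} : Set A)) → ↥(closure ({f a} : Set B)) := fun v => ⟨f v.1, hsub v⟩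
  have hg : IsInducing g := by
    have hcomp : IsInducing ((Subtype.val : ↥(closure ({f a} : Set B)) → B) ∘ g) := by
      have : ((Subtype.val : ↥(closure ({f a} : Set B)) → B) ∘ g) =
          f ∘ (Subtype.val : ↥(closure ({a} : Set A)) → A) := rfl
      rw [this]
      exact hf.comp IsInducing.subtypeVal
    exact IsInducing.of_comp (continuous_induced_rng.2 hcomp.continuous)
      continuous_subtype_val hcomp
  exact natDim_le_of_isInducing hg (finDim_subtype hB _)

namespace Config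

variable {X : Obj V} {j : ℕ} (K : Config X j)

lemma pdim_eq (x : K.κ) : WeilCoh.pdim X.scheme x.1 + (j + 1) = WeilCoh.dim X.scheme := by
  have h1 := K.codim_eq x
  have h2 := pdim_le_dim (finDim X) x.1
  unfold WeilCoh.codim at h1
  omega

lemma dim_Zobj (x : K.κ) : WeilCoh.dim K.Zobj.scheme = WeilCoh.pdim X.scheme x.1 := by
  apply le_antisymm
  · obtain ⟨w, hw⟩ := (K.piece x).W.2.1
    have hne : Nonempty K.Zobj.scheme := ⟨K.ℓhom x ⟨w, hw⟩⟩
    obtain ⟨ξ, hξ⟩ := exists_natDim_closure_eq (X := K.Zobj.scheme) (finDim K.Zobj)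
    change _ = WeilCoh.dim K.Zobj.scheme at hξ
    rw [← hξ]
    have hind : IsInducing (fun z : K.Zobj.scheme => K.Y.ι (K.ιZ z)) :=
      K.Y.ι.isOpenEmbedding.isInducing.comp K.ιZ.isClosedEmbedding.isInducing
    refine (natDim_closure_le_of_isInducing hind ξ (finDim X)).trans ?_
    change WeilCoh.pdim X.scheme (K.Y.ι (K.ιZ ξ)) ≤ _
    have hC : K.ιZ ξ ∈ (K.C : Set (X.res K.Y).scheme) := by
      rw [← K.range_ιZ]
      exact ⟨ξ, rfl⟩
    obtain ⟨x', hx', hyx'⟩ := K.mem_clos.1 hC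
    have h1 := pdim_mono (finDim X) hyx'
    have h2 := K.pdim_eq ⟨x', hx'⟩
    have h3 := K.pdim_eq x
    change WeilCoh.pdim X.scheme x' + (j + 1) = _ at h2
    omega
  · rw [← (K.piece x).dim_W]
    exact natDim_le_of_isInducing (K.ℓhom x).isOpenEmbedding.isInducing (finDim K.Zobj)

/-- the pieces as open and closed parts of the reduced closed subscheme -/
noncomputable def ℓ (x : K.κ) : (X.ptSub x.1).res (K.piece x).W.1 ⟶ K.Zobj :=
  ⟨K.ℓhom x, inferInstance, (K.piece x).dim_W.trans (K.dim_Zobj x).symm⟩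

lemma mem_range_ℓ (x : K.κ) (z : K.Zobj.scheme) :
    z ∈ Set.range (K.ℓ x).hom ↔ K.Y.ι (K.ιZ z) ∈ closure ({x.1} : Set X.scheme) := by
  rw [← mem_range_h]
  constructor
  · rintro ⟨w, rfl⟩
    exact ⟨w, (congrArg (fun g => g w) (K.ℓhom_ιZ x)).symm⟩
  · rintro ⟨w, hw⟩
    refine ⟨w, ?_⟩
    apply K.ιZ.isClosedEmbedding.injective
    exact (congrArg (fun g => g w) (K.ℓhom_ιZ x)).trans hw

lemma disjoint_range_ℓ (x x' : K.κ) (hne : x ≠ x') :
    Disjoint (Set.range (K.ℓ x).hom) (Set.range (K.ℓ x').hom) := by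
  rw [Set.disjoint_left]
  intro z hz hz'
  rw [mem_range_ℓ] at hz hz'
  have hyY : K.Y.ι (K.ιZ z) ∈ K.Y := by
    have : K.Y.ι (K.ιZ z) ∈ Set.range K.Y.ι := ⟨_, rfl⟩
    rwa [Scheme.Opens.range_ι] at this
  exact K.disj x.1 x.2 x'.1 x'.2 (fun h => hne (Subtype.ext h)) _ hyY hz hz'

lemma cover_range_ℓ (z : K.Zobj.scheme) : ∃ x : K.κ, z ∈ Set.range (K.ℓ x).hom := by
  have hC : K.ιZ z ∈ (K.C : Set (X.res K.Y).scheme) := by
    rw [← K.range_ιZ]
    exact ⟨z, rfl⟩
  obtain ⟨x, hx, hyx⟩ := K.mem_clos.1 hC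
  exact ⟨⟨x, hx⟩, (K.mem_range_ℓ ⟨x, hx⟩ z).2 hyx⟩

instance (x : K.κ) : IsProper (K.ℓ x).hom := by
  have := isClosedImmersion_of_isClosed_range (K.ℓ x)
    (isClosed_range_of_family K.ℓ K.disjoint_range_ℓ K.cover_range_ℓ x)
  infer_instance

/-- the decomposition of the open into the reduced closed subscheme and the open complement -/
noncomputable def D : Decomp (X.res K.Y) where
  Z := K.Zobj
  U := X.res K.U₀
  i := K.ιZ
  closedImm := inferInstance
  j := X.resLE K.U₀_le (K.dimU₀.trans K.dimY.symm)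
  range_eq := by
    rw [K.range_ιZ]
    ext y
    change y ∈ Set.range (X.scheme.homOfLE K.U₀_le) ↔ K.Y.ι y ∉ K.clos
    have e1 := mem_opensRange_homOfLE (Y := X.scheme) K.U₀_le y
    change y ∈ Set.range (X.scheme.homOfLE K.U₀_le) ↔ _ at e1
    rw [e1, K.mem_U₀]
    constructor
    · exact fun hy => hy.2
    · intro hy
      exact ⟨y.2, hy⟩

lemma codim_D : K.D.codim = (j : ℤ) + 1 := by
  change relCodim K.Zobj.scheme (K.Y : Scheme.{u}) = _
  unfold relCodim
  obtain ⟨x⟩ := (inferInstance : Nonempty K.κ)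
  rw [K.dim_Zobj x, K.dimY]
  have := K.pdim_eq x
  omega

end Config

end Groth.Agent.Lib.Helper6.BMMulti
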