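import Mathlib
import Groth.Prelude.Def_BMCoh3
import Groth.Agent.Lib.Helper6.BMMulti

/-!
# The residue and push-forward data on a configuration of finitely many points (helper6)
-/

universe u

set_option linter.unusedSectionVars false

open AlgebraicGeometry CategoryTheory CategoryTheory.Limits Opposite TopologicalSpace Topology Set

namespace Groth.Agent.Lib.Helper6.BMMultiCoh

open BMCoh BMDim BMGeom BMComp BMDecomp BMStep BMColim BMExact BMPushExact BMResExact BMToFj
  BMBigOpen BMAdd BMZ BMMulti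

variable {V : ObjectProperty Scheme.{u}} [IsConstructible V] {R : Type u} [CommRing R]
  {A : Coefs R} (T : PreTheory V R A) (M : A.Cat)

lemma push_congr {X' Y' : Obj V} {f f' : X'.scheme ⟶ Y'.scheme} [IsProper f] [IsProper f']
    (e : f = f') (i n i' n' : ℤ) (hi : i' = i + 2 * relCodim X'.scheme Y'.scheme)
    (hn : n' = n + relCodim X'.scheme Y'.scheme) :
    T.push f M i n i' n' hi hn = T.push f' M i n i' n' hi hn := by
  subst e
  rfl

section general

variable {Z : Obj V} {κ : Type*} [Fintype κ] [Nonempty κ] {W : κ → Obj V} (g : ∀ k, W k ⟶ Z)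
  (hdisj : ∀ k k', k ≠ k' → Disjoint (Set.range (g k).hom) (Set.range (g k').hom))
  (hcov : ∀ z : Z.scheme, ∃ k, z ∈ Set.range (g k).hom) [∀ k, IsProper (g k).hom]

include hdisj hcov in
lemma eq_sum_push_pull' (i n : ℤ) (c : T.gp Z M i n) :
    c = ∑ k, (T.push (g k).hom M i n i n (hi_zero (g k) _) (hn_zero (g k) _)).hom
      ((T.pull (g k) M i n).hom c) := by
  obtain ⟨i₀, rfl⟩ : ∃ i₀, i = i₀ + 1 := ⟨i - 1, by ring⟩
  exact eq_sum_push_pull T M g hdisj hcov i₀ n c

include hdisj hcov in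
lemma pull_sum_push (i n : ℤ) (c : ∀ k, T.gp (W k) M i n) (m : κ) :
    (T.pull (g m) M i n).hom (∑ k, (T.push (g k).hom M i n i n (hi_zero (g k) _)
      (hn_zero (g k) _)).hom (c k)) = c m := by
  classical
  obtain ⟨i₀, rfl⟩ : ∃ i₀, i = i₀ + 1 := ⟨i - 1, by ring⟩
  rw [map_sum, Finset.sum_eq_single m]
  · exact pull_push_self T M (g m) (i₀ + 1) n _ _ _
  · intro k _ hkm
    exact pull_push_of_ne T M g hdisj hcov k m (Ne.symm hkm) i₀ n _
  · intro h
    exact absurd (Finset.mem_univ m) h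

end general

section config

variable {X : Obj V} {j : ℕ} (K : Config X j) (i n i' n' : ℤ)

/-- a piece, as an object -/
noncomputable abbrev Wobj (x : K.κ) : Obj V := (X.ptSub x.1).res (K.piece x).W.1

lemma relCodim_W (x : K.κ) :
    relCodim (Wobj K x).scheme (X.res K.Y).scheme = ((j + 1 : ℕ) : ℤ) :=
  relCodim_piece (K.piece x) (K.codim_eq x)

lemma relCodim_Z : relCodim K.Zobj.scheme (X.res K.Y).scheme = ((j + 1 : ℕ) : ℤ) := by
  have := K.codim_D
  rw [Nat.cast_add, Nat.cast_one]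
  exact this

lemma relCodim_DZ : relCodim K.D.Z.scheme (X.res K.Y).scheme = ((j + 1 : ℕ) : ℤ) :=
  relCodim_Z K

variable (hi2 : i + 1 = i' + 2 * ((j + 1 : ℕ) : ℤ)) (hn2 : n = n' + ((j + 1 : ℕ) : ℤ))

include hi2 hn2 in
/-- push-forward from a piece through the reduced closed subscheme -/
lemma push_ιZ_push_ℓ (x : K.κ) (c : T.gp (Wobj K x) M i' n') :
    (T.push K.ιZ M i' n' (i + 1) n (by rw [relCodim_Z]; exact hi2)
        (by rw [relCodim_Z]; exact hn2)).hom
      ((T.push (K.ℓ x).hom M i' n' i' n' (hi_zero (K.ℓ x) _) (hn_zero (K.ℓ x) _)).hom c) =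
      (T.push (K.h x) M i' n' (i + 1) n (by rw [relCodim_W]; exact hi2)
        (by rw [relCodim_W]; exact hn2)).hom c := by
  have : IsProper (K.ℓhom x) := inferInstanceAs (IsProper (K.ℓ x).hom)
  have h1 := T.push_comp (K.ℓ x).hom K.ιZ M i' n' i' n' (i + 1) n (hi_zero (K.ℓ x) _)
    (hn_zero (K.ℓ x) _) (by rw [relCodim_Z]; exact hi2) (by rw [relCodim_Z]; exact hn2)
    (by rw [relCodim_W]; exact hi2) (by rw [relCodim_W]; exact hn2)
  have h2 := push_congr T M (K.ℓhom_ιZ x) i' n' (i + 1) n (by rw [relCodim_W]; exact hi2)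
    (by rw [relCodim_W]; exact hn2)
  exact congrArg (fun t => t.hom c) (h1.trans h2)

end config

section resdata

variable {X : Obj V} {j : ℕ} (K : Config X j) (Q : T.ResData X j) (i n i' n' : ℤ)
  (hi : i' = i + 1 - 2 * ((j : ℤ) + 1)) (hn : n' = n - ((j : ℤ) + 1))

/-- the residue at a point of the configuration of a class on the open complement -/
lemma cpt_multi (x : K.κ) (b : T.gp (X.res K.U₀) M i n) :
    (Q.cpt ⟨x.1, K.codim_eq x⟩ M i n i' n' hi hn).hom
        ((ιO T X i n M (ContainsFj X j) K.U₀ K.containsFj_U₀ K.dimU₀).hom b) =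
      ((T.ptι X x.1 i' n' (K.piece x).W).app M).hom
        ((T.pull (K.ℓ x) M i' n').hom
          ((T.res K.D M i n i' n' (by rw [K.codim_D]; exact hi)
            (by rw [K.codim_D]; exact hn)).hom b)) := by
  have hg : (K.ℓ x).hom ≫ K.D.i ≫ (X.resι K.Y K.dimY).hom =
      (K.piece x).W.1.ι ≫ X.ptSubι x.1 := by
    change K.ℓhom x ≫ K.ιZ ≫ K.Y.ι = _
    rw [← Category.assoc, K.ℓhom_ιZ, K.h_ι]
  have hh : (𝟙 (X.res K.U₀) : X.res K.U₀ ⟶ K.D.U).hom ≫ K.D.j.hom ≫
      (X.resι K.Y K.dimY).hom = K.U₀.ι := by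
    change 𝟙 _ ≫ X.scheme.homOfLE K.U₀_le ≫ K.Y.ι = _
    rw [Category.id_comp]
    exact X.scheme.homOfLE_ι K.U₀_le
  have h := Q.cpt_spec ⟨x.1, K.codim_eq x⟩ M i n i' n' hi hn (X.resι K.Y K.dimY) K.D
    (K.piece x).W (K.ℓ x) hg ⟨K.U₀, K.containsFj_U₀, K.dimU₀⟩ (𝟙 _) hh
    (by rw [K.codim_D]; exact hi) (by rw [K.codim_D]; exact hn)
  have h2 := congrArg (fun t => t.hom b) h
  have e1 : (T.pull (𝟙 (X.res K.U₀)) M i n).hom b = b := pull_id_apply T M i n b
  exact (congrArg (fun t => (Q.cpt ⟨x.1, K.codim_eq x⟩ M i n i' n' hi hn).hom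
      ((ιO T X i n M (ContainsFj X j) K.U₀ K.containsFj_U₀ K.dimU₀).hom t)) e1).symm.trans h2

/-- the residue at a point of codimension `j + 1` outside the configuration vanishes -/
lemma cpt_multi_of_not_mem (xc : X.cdPt (j + 1)) (hx : xc.1 ∉ K.F) (b : T.gp (X.res K.U₀) M i n) :
    (Q.cpt xc M i n i' n' hi hn).hom
      ((ιO T X i n M (ContainsFj X j) K.U₀ K.containsFj_U₀ K.dimU₀).hom b) = 0 :=
  cpt_eq_zero_of_mem T Q M i n i' n' hi hn xc K.U₀ K.containsFj_U₀ K.dimU₀
    (K.mem_U₀_of_not_mem xc.2 hx) b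

end resdata

section pushdata

variable {X : Obj V} {j : ℕ} (K : Config X j) (i n i' n' : ℤ)
  (hi : i' = i + 1 - 2 * ((j : ℤ) + 1)) (hn : n' = n - ((j : ℤ) + 1))
  (hi2 : i + 1 = i' + 2 * ((j + 1 : ℕ) : ℤ)) (hn2 : n = n' + ((j + 1 : ℕ) : ℤ))

include hi2 hn2 in
/-- the total push-forward of classes represented on the pieces of a configuration -/
lemma tot_sum_lof [DecidableEq (X.cdPt (j + 1))] (P : T.PushData X (j + 1))
    (c : ∀ x : K.κ, T.gp (Wobj K x) M i' n') :
    (P.tot M i' n' (i + 1) n hi2 hn2).hom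
        (∑ x : K.κ, DirectSum.lof R (X.cdPt (j + 1)) (fun y => T.ptGp X y.1 M i' n')
          ⟨x.1, K.codim_eq x⟩ (((T.ptι X x.1 i' n' (K.piece x).W).app M).hom (c x))) =
      (ιO T X (i + 1) n M (ContainsFj X (j + 1)) K.Y K.hY K.dimY).hom
        (∑ x : K.κ, (T.push (K.h x) M i' n' (i + 1) n (by rw [relCodim_W]; exact hi2)
          (by rw [relCodim_W]; exact hn2)).hom (c x)) := by
  rw [map_sum, map_sum]
  refine Finset.sum_congr rfl fun x _ => ?_
  refine (P.tot_lof M i' n' (i + 1) n hi2 hn2 ⟨x.1, K.codim_eq x⟩ _).trans ?_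
  exact cpt_ptι T P ⟨x.1, K.codim_eq x⟩ (K.piece x) K.hY M i' n' (i + 1) n hi2 hn2 (c x)

include hi hn hi2 hn2 in
/-- the composite of the residue of the configuration and the push-forwards of the pieces
vanishes -/
lemma sum_push_res_eq_zero (b : T.gp (X.res K.U₀) M i n) :
    ∑ x : K.κ, (T.push (K.h x) M i' n' (i + 1) n (by rw [relCodim_W]; exact hi2)
      (by rw [relCodim_W]; exact hn2)).hom ((T.pull (K.ℓ x) M i' n').hom
        ((T.res K.D M i n i' n' (by rw [K.codim_D]; exact hi)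
          (by rw [K.codim_D]; exact hn)).hom b)) = 0 := by
  have h1 : ∀ x : K.κ, (T.push (K.h x) M i' n' (i + 1) n (by rw [relCodim_W]; exact hi2)
      (by rw [relCodim_W]; exact hn2)).hom ((T.pull (K.ℓ x) M i' n').hom
        ((T.res K.D M i n i' n' (by rw [K.codim_D]; exact hi)
          (by rw [K.codim_D]; exact hn)).hom b)) =
      (T.push K.ιZ M i' n' (i + 1) n (by rw [relCodim_Z]; exact hi2)
        (by rw [relCodim_Z]; exact hn2)).hom
      ((T.push (K.ℓ x).hom M i' n' i' n' (hi_zero (K.ℓ x) _) (hn_zero (K.ℓ x) _)).hom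
        ((T.pull (K.ℓ x) M i' n').hom ((T.res K.D M i n i' n' (by rw [K.codim_D]; exact hi)
          (by rw [K.codim_D]; exact hn)).hom b))) :=
    fun x => (push_ιZ_push_ℓ T M K i n i' n' hi2 hn2 x _).symm
  rw [Finset.sum_congr rfl (fun x _ => h1 x), ← map_sum,
    ← eq_sum_push_pull' T M K.ℓ K.disjoint_range_ℓ K.cover_range_ℓ i' n']
  exact (T.exact_res_push K.D M i n i' n' (by rw [K.codim_D]; exact hi)
    (by rw [K.codim_D]; exact hn) (by rw [relCodim_DZ]; exact hi2)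
    (by rw [relCodim_DZ]; exact hn2)).apply_apply_eq_zero b

include hi hn hi2 hn2 in
/-- classes on the pieces whose push-forwards sum to zero are the residues of a class on the open
complement -/
lemma exists_res_eq (c : ∀ x : K.κ, T.gp (Wobj K x) M i' n')
    (hc : ∑ x : K.κ, (T.push (K.h x) M i' n' (i + 1) n (by rw [relCodim_W]; exact hi2)
      (by rw [relCodim_W]; exact hn2)).hom (c x) = 0) :
    ∃ b : T.gp (X.res K.U₀) M i n, ∀ x : K.κ, (T.pull (K.ℓ x) M i' n').hom
      ((T.res K.D M i n i' n' (by rw [K.codim_D]; exact hi)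
        (by rw [K.codim_D]; exact hn)).hom b) = c x := by
  have h0 : (T.push K.ιZ M i' n' (i + 1) n (by rw [relCodim_Z]; exact hi2)
      (by rw [relCodim_Z]; exact hn2)).hom
      (∑ x : K.κ, (T.push (K.ℓ x).hom M i' n' i' n' (hi_zero (K.ℓ x) _)
        (hn_zero (K.ℓ x) _)).hom (c x)) = 0 := by
    rw [map_sum, ← hc]
    exact Finset.sum_congr rfl fun x _ => push_ιZ_push_ℓ T M K i n i' n' hi2 hn2 x (c x)
  obtain ⟨b, hb⟩ := ((T.exact_res_push K.D M i n i' n' (by rw [K.codim_D]; exact hi)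
    (by rw [K.codim_D]; exact hn) (by rw [relCodim_DZ]; exact hi2)
    (by rw [relCodim_DZ]; exact hn2)) _).1 h0
  refine ⟨b, fun x => ?_⟩
  rw [hb]
  exact pull_sum_push T M K.ℓ K.disjoint_range_ℓ K.cover_range_ℓ i' n' c x

end pushdata

end Groth.Agent.Lib.Helper6.BMMultiCoh
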