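import Mathlib
import Groth.Prelude.Def_BMCoh3
import Groth.Agent.Lib.Helper6.BMMultiCoh

/-!
# The trace of the closure of a point on an open, as a closed subscheme of the open (helper6)
-/

universe u

set_option linter.unusedSectionVars false

open AlgebraicGeometry CategoryTheory CategoryTheory.Limits Opposite TopologicalSpace Topology Set

namespace Groth.Agent.Lib.Helper6.BMOPiece

open BMCoh BMDim BMGeom BMComp BMDecomp BMStep BMColim BMExact BMPushExact BMResExact BMToFj
  BMBigOpen BMAdd BMZ BMMulti BMMultiCoh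

variable {V : ObjectProperty Scheme.{u}} [IsConstructible V]

section defs

variable (X : Obj V) (x : X.scheme) (U : X.scheme.Opens) (hxU : x ∈ U)

/-- the trace of the closure of `x` on the open `U` -/
noncomputable def oW : ptIdx X x :=
  ptIdxMk X x ((X.ptSubι x) ⁻¹ᵁ U) (by
    obtain ⟨η, hη⟩ := exists_ptSubι_eq X x (subset_closure rfl : x ∈ closure ({x} : Set X.scheme))
    refine ⟨η, ?_⟩
    change X.ptSubι x η ∈ U
    rw [hη]
    exact hxU)

lemma mem_oW (w : (X.ptSub x).scheme) : w ∈ (oW X x U hxU).1 ↔ X.ptSubι x w ∈ U := Iff.rfl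

lemma oW_range_subset :
    Set.range ((oW X x U hxU).1.ι ≫ X.ptSubι x) ⊆ Set.range U.ι := by
  rintro _ ⟨w, rfl⟩
  rw [Scheme.Opens.range_ι]
  exact (w : ↥(oW X x U hxU).1).2

/-- the closed immersion of the trace into the open -/
noncomputable def oF : ((X.ptSub x).res (oW X x U hxU).1).scheme ⟶ (X.res U).scheme :=
  IsOpenImmersion.lift U.ι ((oW X x U hxU).1.ι ≫ X.ptSubι x) (oW_range_subset X x U hxU)

@[reassoc]
lemma oF_ι : oF X x U hxU ≫ U.ι = (oW X x U hxU).1.ι ≫ X.ptSubι x :=
  IsOpenImmersion.lift_fac _ _ _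

lemma oF_apply (w : ((X.ptSub x).res (oW X x U hxU).1).scheme) :
    U.ι (oF X x U hxU w) = X.ptSubι x ((oW X x U hxU).1.ι w) :=
  congrArg (fun g => g w) (oF_ι X x U hxU)

lemma range_oF : Set.range (oF X x U hxU) = U.ι ⁻¹' closure ({x} : Set X.scheme) := by
  ext u
  constructor
  · rintro ⟨w, rfl⟩
    change U.ι _ ∈ closure ({x} : Set X.scheme)
    rw [oF_apply]
    exact ptSubι_mem_closure X x _
  · intro hu
    have hu1 : U.ι u ∈ U := by
      have : U.ι u ∈ Set.range U.ι := ⟨u, rfl⟩
      rwa [Scheme.Opens.range_ι] at this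
    obtain ⟨w, hw⟩ := exists_ptSubι_eq X x hu
    have hwW : w ∈ (oW X x U hxU).1 := by
      rw [mem_oW, hw]
      exact hu1
    refine ⟨(⟨w, hwW⟩ : ↥(oW X x U hxU).1), ?_⟩
    apply U.ι.isOpenEmbedding.injective
    rw [oF_apply]
    exact hw

instance : IsClosedImmersion (oF X x U hxU) := by
  have h1 : IsPreimmersion (oF X x U hxU ≫ U.ι) := by
    rw [oF_ι]
    infer_instance
  have h2 : IsPreimmersion (oF X x U hxU) := IsPreimmersion.of_comp _ U.ι
  refine IsClosedImmersion.of_isPreimmersion _ ?_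
  rw [range_oF]
  exact isClosed_closure.preimage U.ι.continuous

end defs

section basechange

variable {X : Obj V} {x : X.scheme}

lemma oW_mono {U U' : X.scheme.Opens} (hxU : x ∈ U) (hxU' : x ∈ U') (h : U' ≤ U) :
    (oW X x U' hxU').1 ≤ (oW X x U hxU).1 := fun _ hw => h hw

/-- the cartesian square of the traces on two nested opens -/
lemma oF_isPullback {U U' : X.scheme.Opens} (hxU : x ∈ U) (hxU' : x ∈ U') (h : U' ≤ U) :
    IsPullback ((X.ptSub x).scheme.homOfLE (oW_mono hxU hxU' h)) (oF X x U' hxU')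
      (oF X x U hxU) (X.scheme.homOfLE h) := by
  refine (IsOpenImmersion.isPullback (oF X x U' hxU')
    ((X.ptSub x).scheme.homOfLE (oW_mono hxU hxU' h)) (X.scheme.homOfLE h) (oF X x U hxU) ?_ ?_).flip
  · rw [← cancel_mono U.ι, Category.assoc, Category.assoc, Scheme.homOfLE_ι, oF_ι, oF_ι,
      Scheme.homOfLE_ι_assoc]
  · ext w
    rw [SetLike.mem_coe, SetLike.mem_coe, Scheme.Hom.mem_preimage]
    refine (mem_opensRange_homOfLE (Y := X.scheme) h (oF X x U hxU w)).trans
      (Iff.trans ?_ (mem_opensRange_homOfLE (Y := (X.ptSub x).scheme) (oW_mono hxU hxU' h) w).symm)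
    have h1 : (oF X x U hxU w).1 = X.ptSubι x w.1 := oF_apply X x U hxU w
    rw [h1]
    rfl

variable {R : Type u} [CommRing R] {A : Coefs R} (T : PreTheory V R A) (M : A.Cat)

/-- base change for the traces on two nested opens -/
lemma oF_push_pull {U U' : X.scheme.Opens} (hxU : x ∈ U) (hxU' : x ∈ U') (h : U' ≤ U)
    (hd : WeilCoh.dim (U' : Scheme.{u}) = WeilCoh.dim (U : Scheme.{u})) (i n i' n' : ℤ)
    (hi : i' = i + 2 * relCodim ((X.ptSub x).res (oW X x U hxU).1).scheme (X.res U).scheme)
    (hn : n' = n + relCodim ((X.ptSub x).res (oW X x U hxU).1).scheme (X.res U).scheme)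
    (hi' : i' = i + 2 * relCodim ((X.ptSub x).res (oW X x U' hxU').1).scheme (X.res U').scheme)
    (hn' : n' = n + relCodim ((X.ptSub x).res (oW X x U' hxU').1).scheme (X.res U').scheme)
    (c : T.gp ((X.ptSub x).res (oW X x U hxU).1) M i n) :
    (T.pull (X.resLE h hd) M i' n').hom ((T.push (oF X x U hxU) M i n i' n' hi hn).hom c) =
      (T.push (oF X x U' hxU') M i n i' n' hi' hn').hom
        ((T.pull ((X.ptSub x).resLE (oW_mono hxU hxU' h)
          ((oW X x U' hxU').2.2.trans (oW X x U hxU).2.2.symm)) M i n).hom c) := by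
  have := T.push_pull (oF X x U hxU) (oF X x U' hxU') (X.resLE h hd)
    ((X.ptSub x).resLE (oW_mono hxU hxU' h) ((oW X x U' hxU').2.2.trans (oW X x U hxU).2.2.symm))
    (oF_isPullback hxU hxU' h) M i n i' n' hi hn hi' hn'
  exact congrArg (fun t => t.hom c) this

end basechange

section iso

variable {R : Type u} [CommRing R] {A : Coefs R} (T : PreTheory V R A) (M : A.Cat)

/-- push-forward along an isomorphism is bijective -/
lemma bijective_push_of_isIso {W' Y' : Obj V} (f : W'.scheme ⟶ Y'.scheme) [IsIso f] (i n : ℤ)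
    (hi : i = i + 2 * relCodim W'.scheme Y'.scheme) (hn : n = n + relCodim W'.scheme Y'.scheme) :
    Function.Bijective (T.push f M i n i n hi hn).hom := by
  have hd : WeilCoh.dim W'.scheme = WeilCoh.dim Y'.scheme := dim_eq_of_iso (asIso f)
  have hr : relCodim Y'.scheme W'.scheme = 0 := by
    unfold relCodim
    rw [hd]
    ring
  have hr' : relCodim W'.scheme W'.scheme = 0 := by
    unfold relCodim
    ring
  have hr'' : relCodim Y'.scheme Y'.scheme = 0 := by
    unfold relCodim
    ring
  have h1 := T.push_comp f (inv f) M i n i n i n hi hn (by rw [hr]; ring) (by rw [hr]; ring)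
    (by rw [hr']; ring) (by rw [hr']; ring)
  have h2 := T.push_comp (inv f) f M i n i n i n (by rw [hr]; ring) (by rw [hr]; ring) hi hn
    (by rw [hr'']; ring) (by rw [hr'']; ring)
  have e1 := push_congr T M (IsIso.hom_inv_id f) i n i n (by rw [hr']; ring) (by rw [hr']; ring)
  have e2 := push_congr T M (IsIso.inv_hom_id f) i n i n (by rw [hr'']; ring) (by rw [hr'']; ring)
  rw [e1, T.push_id] at h1
  rw [e2, T.push_id] at h2
  refine Function.bijective_iff_has_inverse.2 ⟨(T.push (inv f) M i n i n (by rw [hr]; ring)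
    (by rw [hr]; ring)).hom, ?_, ?_⟩
  · intro c
    exact congrArg (fun t => t.hom c) h1
  · intro c
    exact congrArg (fun t => t.hom c) h2

end iso

end Groth.Agent.Lib.Helper6.BMOPiece
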