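import Mathlib
import Groth.Prelude.Def_BMCoh4
import Groth.Agent.Lib.Helper6.BMPtPush
import Groth.Agent.Lib.Helper6.BMOPiece

/-!
# Push-forward data between groups of points along a proper morphism that is an isomorphism
over a nonempty open of the closure of the target point are bijective (helper6)
-/

universe u

set_option linter.unusedSectionVars false

open AlgebraicGeometry CategoryTheory CategoryTheory.Limits Opposite TopologicalSpace Topology Set

namespace Groth.Agent.Lib.Helper6.BMPtPushBij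

open BMCoh BMDim BMGeom BMColim BMZ BMClosedDim BMStep BMPtPush BMExact BMOPiece

variable {V : ObjectProperty Scheme.{u}} [IsConstructible V]

section pre

variable {Y X : Obj V} (φ : Y.scheme ⟶ X.scheme) (y : Y.scheme) (x : X.scheme) (hyx : φ y = x)

lemma nonempty_pre (W' : (X.ptSub x).scheme.Opens)
    (hW' : (W' : Set (X.ptSub x).scheme).Nonempty) :
    (((ψ φ y x hyx) ⁻¹ᵁ W' : (Y.ptSub y).scheme.Opens) : Set (Y.ptSub y).scheme).Nonempty := by
  obtain ⟨yg, hyg⟩ := exists_ptSubι_eq Y y (subset_closure rfl : y ∈ closure ({y} : Set Y.scheme))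
  obtain ⟨w, hwW', hw⟩ := exists_mem_ptSubι_eq X x W' hW'
  refine ⟨yg, ?_⟩
  change ψ φ y x hyx yg ∈ W'
  have : ψ φ y x hyx yg = w := by
    apply (X.ptSubι x).isClosedEmbedding.injective
    rw [ψ_apply, hyg, hyx, hw]
  rw [this]
  exact hwW'

/-- the inverse image of a member of the index family of the groups of `x` -/
noncomputable def pre (W' : ptIdx X x) : ptIdx Y y :=
  ptIdxMk Y y ((ψ φ y x hyx) ⁻¹ᵁ W'.1) (nonempty_pre φ y x hyx W'.1 W'.2.1)

lemma pre_mono {W' W'' : ptIdx X x} (h : W'' ≤ W') : pre φ y x hyx W'' ≤ pre φ y x hyx W' :=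
  (ψ φ y x hyx).preimage_mono h

/-- the restriction of the morphism between the closures -/
noncomputable def rf (W' : ptIdx X x) :
    ((Y.ptSub y).res (pre φ y x hyx W').1).scheme ⟶ ((X.ptSub x).res W'.1).scheme :=
  (ψ φ y x hyx) ∣_ W'.1

instance [IsProper φ] (W' : ptIdx X x) : IsProper (rf φ y x hyx W') :=
  IsZariskiLocalAtTarget.restrict (P := @IsProper) inferInstance W'.1

lemma rf_fac (W' : ptIdx X x) :
    rf φ y x hyx W' ≫ W'.1.ι ≫ X.ptSubι x = (pre φ y x hyx W').1.ι ≫ Y.ptSubι y ≫ φ := by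
  change ((ψ φ y x hyx) ∣_ W'.1) ≫ W'.1.ι ≫ X.ptSubι x =
    ((ψ φ y x hyx) ⁻¹ᵁ W'.1).ι ≫ Y.ptSubι y ≫ φ
  rw [morphismRestrict_ι_assoc, ψ_fac]

include hyx in
lemma relCodim_rf (hcd : relCodim (Y.ptSub y).scheme (X.ptSub x).scheme = 0) (W' : ptIdx X x) :
    relCodim ((Y.ptSub y).res (pre φ y x hyx W').1).scheme ((X.ptSub x).res W'.1).scheme = 0 := by
  have h1 : WeilCoh.dim ((Y.ptSub y).res (pre φ y x hyx W').1).scheme =
      WeilCoh.dim (Y.ptSub y).scheme := (pre φ y x hyx W').2.2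
  have h2 : WeilCoh.dim ((X.ptSub x).res W'.1).scheme = WeilCoh.dim (X.ptSub x).scheme := W'.2.2
  unfold relCodim at hcd ⊢
  rw [h1, h2]
  exact hcd

/-- the cartesian square of the restrictions over two nested opens -/
lemma rf_isPullback {W' W'' : ptIdx X x} (h : W'' ≤ W') :
    IsPullback ((Y.ptSub y).scheme.homOfLE (pre_mono φ y x hyx h)) (rf φ y x hyx W'')
      (rf φ y x hyx W') ((X.ptSub x).scheme.homOfLE h) := by
  refine (IsOpenImmersion.isPullback (rf φ y x hyx W'')
    ((Y.ptSub y).scheme.homOfLE (pre_mono φ y x hyx h)) ((X.ptSub x).scheme.homOfLE h)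
    (rf φ y x hyx W') ?_ ?_).flip
  · exact (morphismRestrict_homOfLE (ψ φ y x hyx) W''.1 W'.1 h).symm
  · ext v
    rw [SetLike.mem_coe, SetLike.mem_coe, Scheme.Hom.mem_preimage]
    refine (mem_opensRange_homOfLE (Y := (X.ptSub x).scheme) h (rf φ y x hyx W' v)).trans
      (Iff.trans ?_ (mem_opensRange_homOfLE (Y := (Y.ptSub y).scheme)
        (pre_mono φ y x hyx h) v).symm)
    have h1 : (rf φ y x hyx W' v).1 = ψ φ y x hyx v.1 :=
      morphismRestrict_base_coe (ψ φ y x hyx) W'.1 v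
    rw [h1]
    rfl

end pre

section bij

variable {R : Type u} [CommRing R] {A : Coefs R} (T : PreTheory V R A) (M : A.Cat)
  {Y X : Obj V} (φ : Y.scheme ⟶ X.scheme) [IsProper φ] (y : Y.scheme) (x : X.scheme)

lemma hi_of {r : ℤ} (h : r = 0) (i : ℤ) : i = i + 2 * r := by rw [h]; ring

lemma hn_of {r : ℤ} (h : r = 0) (n : ℤ) : n = n + r := by rw [h]; ring

/-- every member of the index family of `y` contains the inverse image of a member of the index
family of `x` -/
lemma exists_pre_le (hyx : φ y = x) (hdim : WeilCoh.pdim Y.scheme y = WeilCoh.pdim X.scheme x)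
    (W : ptIdx Y y) : ∃ W'₀ : ptIdx X x, pre φ y x hyx W'₀ ≤ W := by
  obtain ⟨yg, hygW, hyg⟩ := exists_mem_ptSubι_eq Y y W.1 W.2.1
  obtain ⟨xg, hxg⟩ := exists_ptSubι_eq X x (subset_closure rfl : x ∈ closure ({x} : Set X.scheme))
  have hcl : IsClosed (ψ φ y x hyx '' (W.1 : Set (Y.ptSub y).scheme)ᶜ) :=
    (ψ φ y x hyx).isClosedMap _ W.1.2.isClosed_compl
  let W' : (X.ptSub x).scheme.Opens :=
    ⟨(ψ φ y x hyx '' (W.1 : Set (Y.ptSub y).scheme)ᶜ)ᶜ, hcl.isOpen_compl⟩
  have hxgW' : xg ∈ W' := by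
    rintro ⟨z, hzW, hz⟩
    have h1 : Y.ptSubι y z = y := by
      apply eq_of_map_eq φ y x hyx hdim (ptSubι_mem_closure Y y z)
      rw [← ψ_apply φ y x hyx, hz, hxg]
    have : z = yg := (Y.ptSubι y).isClosedEmbedding.injective (h1.trans hyg.symm)
    exact hzW (this ▸ hygW)
  refine ⟨ptIdxMk X x W' ⟨xg, hxgW'⟩, ?_⟩
  intro w hw
  by_contra hwW
  exact hw ⟨w, hwW, rfl⟩

variable (L : T.PtPush φ y x) (i n : ℤ)

/-- the datum on a class represented on an inverse image -/
lemma cpt_ptι_pre (W' : ptIdx X x)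
    (c : T.gp ((Y.ptSub y).res (pre φ y x L.maps_pt W').1) M i n) :
    (L.cpt M i n).hom (((T.ptι Y y i n (pre φ y x L.maps_pt W')).app M).hom c) =
      ((T.ptι X x i n W').app M).hom
        ((T.push (rf φ y x L.maps_pt W') M i n i n
          (hi_of (relCodim_rf φ y x L.maps_pt L.codim_eq W') i)
          (hn_of (relCodim_rf φ y x L.maps_pt L.codim_eq W') n)).hom c) := by
  have h := L.cpt_spec M i n (pre φ y x L.maps_pt W') W' (rf φ y x L.maps_pt W')
    (rf_fac φ y x L.maps_pt W') (hi_of (relCodim_rf φ y x L.maps_pt L.codim_eq W') i)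
    (hn_of (relCodim_rf φ y x L.maps_pt L.codim_eq W') n)
  exact congrArg (fun t => t.hom c) h

/-- a push-forward datum along a proper morphism that is an isomorphism over the small opens of
the closure of the target point is bijective -/
theorem bijective_cpt (U₀ : (X.ptSub x).scheme.Opens)
    (hU₀ : (U₀ : Set (X.ptSub x).scheme).Nonempty)
    (hiso : ∀ W' : ptIdx X x, W'.1 ≤ U₀ → IsIso (rf φ y x L.maps_pt W')) :
    Function.Bijective (L.cpt M i n).hom := by
  have hyx : φ y = x := L.maps_pt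
  have hdim : WeilCoh.pdim Y.scheme y = WeilCoh.pdim X.scheme x := by
    have h := L.codim_eq
    unfold relCodim at h
    rw [dim_ptSub, dim_ptSub] at h
    omega
  constructor
  · rw [injective_iff_map_eq_zero]
    intro a ha
    obtain ⟨W₁, c₁, rfl⟩ := exists_rep T (Y.ptSub y)
      (fun U => (U : Set (Y.ptSub y).scheme).Nonempty) i n M a
    obtain ⟨W'₀, hW'₀⟩ := exists_pre_le φ y x hyx hdim W₁
    obtain ⟨W', h1, h2⟩ := exists_le_le W'₀ (ptIdxMk X x U₀ hU₀)
    have hle : pre φ y x L.maps_pt W' ≤ W₁ := (pre_mono φ y x L.maps_pt h1).trans hW'₀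
    rw [← resMap_ι_apply T (Y.ptSub y) (fun U => (U : Set (Y.ptSub y).scheme).Nonempty)
      i n M (U := W₁) (U' := pre φ y x L.maps_pt W') hle c₁] at ha ⊢
    obtain ⟨c, hc⟩ : ∃ c : T.gp ((Y.ptSub y).res (pre φ y x L.maps_pt W').1) M i n,
        c = (resMap T (Y.ptSub y) (fun U => (U : Set (Y.ptSub y).scheme).Nonempty) i n M
          (U := W₁) (U' := pre φ y x L.maps_pt W') hle).hom c₁ := ⟨_, rfl⟩
    rw [← hc] at ha ⊢
    rw [cpt_ptι_pre] at ha
    obtain ⟨W'', hle'', hW''⟩ := (ι_eq_zero_iff T (X.ptSub x)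
      (fun U => (U : Set (X.ptSub x).scheme).Nonempty) i n M (U := W') _).1 ha
    have hbc := T.push_pull (rf φ y x L.maps_pt W') (rf φ y x L.maps_pt W'')
      ((X.ptSub x).resLE hle'' (W''.2.2.trans W'.2.2.symm))
      ((Y.ptSub y).resLE (pre_mono φ y x L.maps_pt hle'')
        ((pre φ y x L.maps_pt W'').2.2.trans (pre φ y x L.maps_pt W').2.2.symm))
      (rf_isPullback φ y x L.maps_pt hle'') M i n i n
      (hi_of (relCodim_rf φ y x L.maps_pt L.codim_eq W') i)
      (hn_of (relCodim_rf φ y x L.maps_pt L.codim_eq W') n)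
      (hi_of (relCodim_rf φ y x L.maps_pt L.codim_eq W'') i)
      (hn_of (relCodim_rf φ y x L.maps_pt L.codim_eq W'') n)
    have hbc' := congrArg (fun t => t.hom c) hbc
    have hiso'' := hiso W'' (hle''.trans h2)
    have hc0 : (T.pull ((Y.ptSub y).resLE (pre_mono φ y x L.maps_pt hle'')
        ((pre φ y x L.maps_pt W'').2.2.trans (pre φ y x L.maps_pt W').2.2.symm)) M i n).hom c =
        0 := by
      apply (bijective_push_of_isIso T M (rf φ y x L.maps_pt W'') i n
        (hi_of (relCodim_rf φ y x L.maps_pt L.codim_eq W'') i)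
        (hn_of (relCodim_rf φ y x L.maps_pt L.codim_eq W'') n)).1
      refine Eq.trans ?_ (map_zero _).symm
      exact hbc'.symm.trans hW''
    rw [← resMap_ι_apply T (Y.ptSub y) (fun U => (U : Set (Y.ptSub y).scheme).Nonempty)
      i n M (U := pre φ y x L.maps_pt W') (U' := pre φ y x L.maps_pt W'')
      (pre_mono φ y x L.maps_pt hle'') c]
    refine (congrArg _ hc0).trans ?_
    exact map_zero _
  · intro a'
    obtain ⟨W'₁, c'₁, rfl⟩ := exists_rep T (X.ptSub x)
      (fun U => (U : Set (X.ptSub x).scheme).Nonempty) i n M a'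
    obtain ⟨W', h1, h2⟩ := exists_le_le W'₁ (ptIdxMk X x U₀ hU₀)
    rw [← resMap_ι_apply T (X.ptSub x) (fun U => (U : Set (X.ptSub x).scheme).Nonempty)
      i n M (U := W'₁) (U' := W') h1 c'₁]
    have hiso' := hiso W' h2
    obtain ⟨c, hc⟩ := (bijective_push_of_isIso T M (rf φ y x L.maps_pt W') i n
      (hi_of (relCodim_rf φ y x L.maps_pt L.codim_eq W') i)
      (hn_of (relCodim_rf φ y x L.maps_pt L.codim_eq W') n)).2
      ((resMap T (X.ptSub x) (fun U => (U : Set (X.ptSub x).scheme).Nonempty) i n M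
        (U := W'₁) (U' := W') h1).hom c'₁)
    refine ⟨((T.ptι Y y i n (pre φ y x L.maps_pt W')).app M).hom c, ?_⟩
    rw [cpt_ptι_pre, hc]

end bij

end Groth.Agent.Lib.Helper6.BMPtPushBij
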