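import Mathlib
import Groth.Prelude.Def_BMCoh4
import Groth.Agent.Lib.Helper6.BMFibre
import Groth.Agent.Lib.Helper6.BMPtPushBij
import Groth.Agent.Lib.Helper6.BMResExact
import Groth.Agent.Lib.Helper6.BMMulti

/-!
# The local situation of a generically finite proper morphism over a point of codimension one of
its image (helper6)
-/

universe u

set_option linter.unusedSectionVars false

open AlgebraicGeometry CategoryTheory CategoryTheory.Limits Opposite TopologicalSpace Topology Set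

namespace Groth.Agent.Lib.Helper6.BMLoc

open BMCoh BMDim BMGeom BMComp BMDecomp BMColim BMZ BMClosedDim BMStep BMPtPush BMFibre BMExact
  BMResExact BMOPiece BMMulti BMAdd

variable {V : ObjectProperty Scheme.{u}} [IsConstructible V]

/-- the cartesian square of the restrictions of a morphism over two nested opens -/
lemma restrict_isPullback {A B : Scheme.{u}} (f : A ⟶ B) {U U' : B.Opens} (h : U' ≤ U) :
    IsPullback (A.homOfLE (f.preimage_mono h)) (f ∣_ U') (f ∣_ U) (B.homOfLE h) := by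
  refine (IsOpenImmersion.isPullback (f ∣_ U') (A.homOfLE (f.preimage_mono h)) (B.homOfLE h)
    (f ∣_ U) ?_ ?_).flip
  · exact (morphismRestrict_homOfLE f U' U h).symm
  · ext v
    rw [SetLike.mem_coe, SetLike.mem_coe, Scheme.Hom.mem_preimage]
    refine (mem_opensRange_homOfLE (Y := B) h ((f ∣_ U) v)).trans
      (Iff.trans ?_ (mem_opensRange_homOfLE (Y := A) (f.preimage_mono h) v).symm)
    have h1 : ((f ∣_ U) v).1 = f v.1 := morphismRestrict_base_coe f U v
    rw [h1]
    rfl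

section loc

variable {Y X : Obj V} (φ : Y.scheme ⟶ X.scheme) [IsProper φ] [IsIntegral Y.scheme] {q : ℕ}
  (w : X.cdPt q) (x : X.cdPt (q + 1))

/-- a neighbourhood of `x` over which the inverse image of the closure of `x` is the disjoint
union of the closures of the points of the fibre -/
structure Loc where
  N : X.scheme.Opens
  hN : ContainsFj X q N
  hxN : x.1 ∈ N
  good : ∀ v ∈ N, v ∉ bad φ x.1
  hηw : φ (genericPoint Y.scheme) = w.1
  hd : WeilCoh.dim Y.scheme = WeilCoh.pdim X.scheme w.1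
  hxw : x.1 ∈ closure ({w.1} : Set X.scheme)

namespace Loc

variable {φ w x} (K : Loc φ w x)

lemma hx (_K : Loc φ w x) : WeilCoh.pdim X.scheme x.1 + 1 = WeilCoh.pdim X.scheme w.1 := by
  have h1 := w.2
  have h2 := x.2
  have h3 := pdim_le_dim (finDim X) w.1
  have h4 := pdim_le_dim (finDim X) x.1
  unfold WeilCoh.codim at h1 h2
  omega

/-- the piece of `X` at `x` -/
noncomputable def p : Piece X x.1 := inPiece X x.1 q x.2 K.N K.hN K.hxN

lemma containsFj_pU₀ : ContainsFj X q K.p.U₀ :=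
  fun y hy => ⟨K.hN y hy, containsFj_complOpen (by rw [x.2]; omega) y hy⟩

lemma mem_pU₀ (v : X.scheme) : v ∈ K.p.U₀ ↔ v ∈ K.N ∧ v ∉ closure ({x.1} : Set X.scheme) :=
  Iff.rfl

/-- the inverse image of the neighbourhood -/
noncomputable def YN : Y.scheme.Opens := φ ⁻¹ᵁ K.p.U

/-- the inverse image of the open part of the piece -/
noncomputable def YN₀ : Y.scheme.Opens := φ ⁻¹ᵁ K.p.U₀

lemma YN₀_le : K.YN₀ ≤ K.YN := φ.preimage_mono K.p.le

lemma w_mem_pU₀ : w.1 ∈ K.p.U₀ := K.containsFj_pU₀ w.1 (le_of_eq w.2)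

lemma η_mem_YN₀ : genericPoint Y.scheme ∈ K.YN₀ := by
  change φ (genericPoint Y.scheme) ∈ K.p.U₀
  rw [K.hηw]
  exact K.w_mem_pU₀

lemma η_mem_YN : genericPoint Y.scheme ∈ K.YN := K.YN₀_le K.η_mem_YN₀

lemma dim_opens_of_mem (O : Y.scheme.Opens) (hO : genericPoint Y.scheme ∈ O) :
    WeilCoh.dim (O : Scheme.{u}) = WeilCoh.dim Y.scheme :=
  IsConstructible.dim_open Y.mem inferInstance O ⟨_, hO⟩

lemma dimYN : WeilCoh.dim (K.YN : Scheme.{u}) = WeilCoh.dim Y.scheme :=
  dim_opens_of_mem K.YN K.η_mem_YN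

lemma dimYN₀ : WeilCoh.dim (K.YN₀ : Scheme.{u}) = WeilCoh.dim Y.scheme :=
  dim_opens_of_mem K.YN₀ K.η_mem_YN₀

/-- the restriction of the morphism over the neighbourhood -/
noncomputable def φN : (Y.res K.YN).scheme ⟶ (X.res K.p.U).scheme := φ ∣_ K.p.U

instance : IsProper K.φN := IsZariskiLocalAtTarget.restrict (P := @IsProper) inferInstance K.p.U

/-- the restriction of the morphism over the open part of the piece -/
noncomputable def φN₀ : (Y.res K.YN₀).scheme ⟶ (X.res K.p.U₀).scheme := φ ∣_ K.p.U₀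

instance : IsProper K.φN₀ :=
  IsZariskiLocalAtTarget.restrict (P := @IsProper) inferInstance K.p.U₀

lemma φN_apply (u : (Y.res K.YN).scheme) : (K.φN u).1 = φ u.1 :=
  morphismRestrict_base_coe φ K.p.U u

/-- the trace on the inverse image of the neighbourhood of the inverse image of the closure of
`x` -/
def C : Closeds (Y.res K.YN).scheme :=
  ⟨K.YN.ι ⁻¹' (φ ⁻¹' closure ({x.1} : Set X.scheme)),
    (isClosed_closure.preimage φ.continuous).preimage K.YN.ι.continuous⟩

lemma mem_C (u : (Y.res K.YN).scheme) :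
    u ∈ K.C ↔ φ (K.YN.ι u) ∈ closure ({x.1} : Set X.scheme) := Iff.rfl

lemma map_mem_N (u : (Y.res K.YN).scheme) : φ (K.YN.ι u) ∈ K.N := u.2

lemma pU_eq : K.p.U = K.N := rfl

/-- the scheme-theoretic inverse image of the closed part of the piece -/
noncomputable abbrev Z'obj : Obj V :=
  ⟨pullback K.φN K.p.f,
    IsConstructible.of_isClosedImmersion (pullback.fst K.φN K.p.f) (Y.res K.YN).mem⟩

lemma range_fst : Set.range (pullback.fst K.φN K.p.f) = (K.C : Set (Y.res K.YN).scheme) := by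
  rw [Scheme.Pullback.range_fst, K.p.range_f]
  ext u
  change (K.φN u).1 ∉ K.p.U₀ ↔ φ (K.YN.ι u) ∈ closure ({x.1} : Set X.scheme)
  rw [K.φN_apply, K.mem_pU₀]
  constructor
  · intro h
    by_contra h2
    exact h ⟨K.map_mem_N u, h2⟩
  · intro h h2
    exact h2.2 h

lemma range_homOfLE_YN₀ :
    Set.range (Y.scheme.homOfLE K.YN₀_le) = (K.C : Set (Y.res K.YN).scheme)ᶜ := by
  ext u
  have h1 := mem_opensRange_homOfLE (Y := Y.scheme) K.YN₀_le u
  change u ∈ Set.range (Y.scheme.homOfLE K.YN₀_le) ↔ _ at h1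
  rw [h1]
  change φ u.1 ∈ K.p.U₀ ↔ ¬ (φ (K.YN.ι u) ∈ closure ({x.1} : Set X.scheme))
  rw [K.mem_pU₀]
  constructor
  · intro h
    exact h.2
  · intro h
    exact ⟨K.map_mem_N u, h⟩

/-- the decomposition of the inverse image of the neighbourhood with the scheme-theoretic inverse
image as closed part -/
noncomputable def D' : Decomp (Y.res K.YN) where
  Z := K.Z'obj
  U := Y.res K.YN₀
  i := pullback.fst K.φN K.p.f
  closedImm := inferInstance
  j := Y.resLE K.YN₀_le (K.dimYN₀.trans K.dimYN.symm)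
  range_eq := by
    rw [K.range_fst]
    exact K.range_homOfLE_YN₀

/-- the reduced closed subscheme on the inverse image of the closure of `x` -/
noncomputable abbrev Z''obj : Obj V :=
  ⟨(Scheme.IdealSheafData.vanishingIdeal K.C).subscheme,
    IsConstructible.of_isClosedImmersion (Scheme.IdealSheafData.vanishingIdeal K.C).subschemeι
      (h := (inferInstance : IsClosedImmersion
        (Scheme.IdealSheafData.vanishingIdeal K.C).subschemeι)) (Y.res K.YN).mem⟩

noncomputable abbrev ιZ'' : K.Z''obj.scheme ⟶ (Y.res K.YN).scheme :=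
  (Scheme.IdealSheafData.vanishingIdeal K.C).subschemeι

lemma range_ιZ'' : Set.range K.ιZ'' = (K.C : Set (Y.res K.YN).scheme) := by
  rw [Scheme.IdealSheafData.range_subschemeι, Scheme.IdealSheafData.coe_support_vanishingIdeal]

/-- the decomposition with the reduced inverse image as closed part -/
noncomputable def D'' : Decomp (Y.res K.YN) where
  Z := K.Z''obj
  U := Y.res K.YN₀
  i := K.ιZ''
  closedImm := inferInstance
  j := Y.resLE K.YN₀_le (K.dimYN₀.trans K.dimYN.symm)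
  range_eq := by
    rw [K.range_ιZ'']
    exact K.range_homOfLE_YN₀

/-- the closed immersion of the reduced inverse image into the scheme-theoretic one -/
noncomputable def k : K.Z''obj.scheme ⟶ K.Z'obj.scheme :=
  IsClosedImmersion.lift (pullback.fst K.φN K.p.f) K.ιZ'' (by
    rw [Scheme.IdealSheafData.ker_subschemeι,
      ← Scheme.IdealSheafData.le_support_iff_le_vanishingIdeal]
    intro u hu
    change u ∈ ((pullback.fst K.φN K.p.f).ker.support : Set (Y.res K.YN).scheme)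
    rw [Scheme.Hom.support_ker, K.range_fst]
    exact subset_closure hu)

@[reassoc]
lemma k_fst : K.k ≫ pullback.fst K.φN K.p.f = K.ιZ'' := IsClosedImmersion.lift_fac _ _ _

instance : IsClosedImmersion K.k := by
  have : IsClosedImmersion (K.k ≫ pullback.fst K.φN K.p.f) := by
    rw [k_fst]
    infer_instance
  exact IsClosedImmersion.of_comp K.k (pullback.fst K.φN K.p.f)

instance : Surjective K.k := by
  refine ⟨fun z => ?_⟩
  have hz : pullback.fst K.φN K.p.f z ∈ Set.range K.ιZ'' := by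
    rw [K.range_ιZ'', ← K.range_fst]
    exact ⟨z, rfl⟩
  obtain ⟨z'', hz''⟩ := hz
  refine ⟨z'', ?_⟩
  apply (pullback.fst K.φN K.p.f).isClosedEmbedding.injective
  rw [← hz'']
  exact congrArg (fun g => g z'') K.k_fst

/-- the fibre over `x` -/
abbrev κ (_K : Loc φ w x) : Type u := {y : Y.scheme // φ y = x.1}

noncomputable instance : Fintype K.κ := (finite_fibre φ w.1 K.hηw K.hd x.1 K.hx).fintype

lemma mem_YN (y : K.κ) : y.1 ∈ K.YN := by
  change φ y.1 ∈ K.N
  rw [y.2]
  exact K.hxN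

lemma pdim_κ (y : K.κ) : WeilCoh.pdim Y.scheme y.1 = WeilCoh.pdim X.scheme x.1 :=
  pdim_eq_of_map_eq φ w.1 K.hηw K.hd x.1 K.hx y.2

lemma codim_κ (y : K.κ) : WeilCoh.codim Y.scheme y.1 = 1 :=
  codim_eq_one_of_map_eq φ w.1 K.hηw K.hd x.1 K.hx y.2

/-- the trace of the closure of a point of the fibre -/
noncomputable def Wy (y : K.κ) : ptIdx Y y.1 := oW Y y.1 K.YN (K.mem_YN y)

/-- its closed immersion into the inverse image of the neighbourhood -/
noncomputable def fy (y : K.κ) :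
    ((Y.ptSub y.1).res (K.Wy y).1).scheme ⟶ (Y.res K.YN).scheme := oF Y y.1 K.YN (K.mem_YN y)

instance (y : K.κ) : IsClosedImmersion (K.fy y) :=
  inferInstanceAs (IsClosedImmersion (oF Y y.1 K.YN (K.mem_YN y)))

lemma fy_ι (y : K.κ) : K.fy y ≫ K.YN.ι = (K.Wy y).1.ι ≫ Y.ptSubι y.1 :=
  oF_ι Y y.1 K.YN (K.mem_YN y)

lemma mem_range_fy (y : K.κ) (u : (Y.res K.YN).scheme) :
    u ∈ Set.range (K.fy y) ↔ K.YN.ι u ∈ closure ({y.1} : Set Y.scheme) := by
  have h := range_oF Y y.1 K.YN (K.mem_YN y)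
  change u ∈ Set.range (oF Y y.1 K.YN (K.mem_YN y)) ↔ _
  rw [h]
  rfl

lemma range_fy_subset (y : K.κ) : Set.range (K.fy y) ⊆ (K.C : Set (Y.res K.YN).scheme) := by
  intro u hu
  rw [mem_range_fy] at hu
  change φ (K.YN.ι u) ∈ closure ({x.1} : Set X.scheme)
  have h2 : y.1 ⤳ K.YN.ι u := specializes_iff_mem_closure.2 hu
  have h3 := h2.map φ.continuous
  rw [y.2] at h3
  exact specializes_iff_mem_closure.1 h3

/-- the complement of the closures of the other points of the fibre -/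
def O (y : K.κ) : (Y.res K.YN).scheme.Opens :=
  ⟨K.YN.ι ⁻¹' (⋃ y' ∈ {y' : Y.scheme | φ y' = x.1 ∧ y' ≠ y.1},
      closure ({y'} : Set Y.scheme))ᶜ,
    ((((finite_fibre φ w.1 K.hηw K.hd x.1 K.hx).subset
      (fun y' (hy' : y' ∈ {y' : Y.scheme | φ y' = x.1 ∧ y' ≠ y.1}) => hy'.1)).isClosed_biUnion
      (fun _ _ => isClosed_closure)).isOpen_compl).preimage K.YN.ι.continuous⟩

lemma mem_O (y : K.κ) (u : (Y.res K.YN).scheme) :
    u ∈ K.O y ↔ ∀ y' : Y.scheme, φ y' = x.1 → y' ≠ y.1 →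
      K.YN.ι u ∉ closure ({y'} : Set Y.scheme) := by
  change K.YN.ι u ∉ _ ↔ _
  simp only [Set.mem_iUnion, exists_prop, not_exists, not_and]
  constructor
  · intro h y' h1 h2
    exact h y' ⟨h1, h2⟩
  · rintro h y' ⟨h1, h2⟩
    exact h y' h1 h2

lemma range_fy_eq (y : K.κ) :
    Set.range (K.fy y) = (K.C : Set (Y.res K.YN).scheme) ∩ K.O y := by
  ext u
  constructor
  · intro hu
    refine ⟨K.range_fy_subset y hu, ?_⟩
    rw [mem_range_fy] at hu
    rw [SetLike.mem_coe, mem_O]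
    intro y' h1 h2 hu'
    exact h2 (eq_of_map_not_mem_bad φ x.1 y.2 h1 hu hu' (K.good _ (K.map_mem_N u))).symm
  · rintro ⟨hC, hO⟩
    rw [SetLike.mem_coe, mem_O] at hO
    obtain ⟨y', hy', huy'⟩ := exists_of_map_not_mem_bad φ w.1 K.hηw K.hd x.1 K.hx hC
      (K.good _ (K.map_mem_N u))
    rw [mem_range_fy]
    by_cases h : y' = y.1
    · rw [← h]
      exact huy'
    · exact absurd huy' (hO y' hy' h)

/-- the pieces as opens of the reduced inverse image -/
noncomputable def ℓhom (y : K.κ) :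
    ((Y.ptSub y.1).res (K.Wy y).1).scheme ⟶ K.Z''obj.scheme :=
  liftVanishing (K.fy y) K.C (K.range_fy_subset y)

lemma ℓhom_ιZ'' (y : K.κ) : K.ℓhom y ≫ K.ιZ'' = K.fy y := liftVanishing_fac _ _ _

instance (y : K.κ) : IsOpenImmersion (K.ℓhom y) :=
  isOpenImmersion_liftVanishing (K.fy y) K.C (K.range_fy_subset y) (K.O y) (K.range_fy_eq y)

lemma dim_Wy (y : K.κ) :
    WeilCoh.dim ((Y.ptSub y.1).res (K.Wy y).1).scheme = WeilCoh.pdim Y.scheme y.1 :=
  (K.Wy y).2.2.trans (dim_ptSub Y y.1)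

lemma dim_Z'' (y : K.κ) : WeilCoh.dim K.Z''obj.scheme = WeilCoh.pdim Y.scheme y.1 := by
  apply le_antisymm
  · obtain ⟨v, hv⟩ := (K.Wy y).2.1
    have hne : Nonempty K.Z''obj.scheme := ⟨K.ℓhom y ⟨v, hv⟩⟩
    obtain ⟨ξ, hξ⟩ := exists_natDim_closure_eq (X := K.Z''obj.scheme) (finDim K.Z''obj)
    change _ = WeilCoh.dim K.Z''obj.scheme at hξ
    rw [← hξ]
    have hind : IsInducing (fun z : K.Z''obj.scheme => K.YN.ι (K.ιZ'' z)) :=
      K.YN.ι.isOpenEmbedding.isInducing.comp K.ιZ''.isClosedEmbedding.isInducing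
    refine (natDim_closure_le_of_isInducing hind ξ (finDim Y)).trans ?_
    change WeilCoh.pdim Y.scheme (K.YN.ι (K.ιZ'' ξ)) ≤ _
    have hC : K.ιZ'' ξ ∈ (K.C : Set (Y.res K.YN).scheme) := by
      rw [← K.range_ιZ'']
      exact ⟨ξ, rfl⟩
    obtain ⟨y', hy', huy'⟩ := exists_of_map_not_mem_bad φ w.1 K.hηw K.hd x.1 K.hx hC
      (K.good _ (K.map_mem_N _))
    have h1 := pdim_mono (finDim Y) huy'
    have h2 := K.pdim_κ ⟨y', hy'⟩
    have h3 := K.pdim_κ y
    change WeilCoh.pdim Y.scheme y' = _ at h2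
    omega
  · rw [← K.dim_Wy y]
    exact natDim_le_of_isInducing (K.ℓhom y).isOpenEmbedding.isInducing (finDim K.Z''obj)

/-- the pieces as open and closed parts of the reduced inverse image -/
noncomputable def ℓ (y : K.κ) : (Y.ptSub y.1).res (K.Wy y).1 ⟶ K.Z''obj :=
  ⟨K.ℓhom y, inferInstance, (K.dim_Wy y).trans (K.dim_Z'' y).symm⟩

lemma mem_range_ℓ (y : K.κ) (z : K.Z''obj.scheme) :
    z ∈ Set.range (K.ℓ y).hom ↔ K.YN.ι (K.ιZ'' z) ∈ closure ({y.1} : Set Y.scheme) := by
  rw [← mem_range_fy]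
  constructor
  · rintro ⟨v, rfl⟩
    exact ⟨v, (congrArg (fun g => g v) (K.ℓhom_ιZ'' y)).symm⟩
  · rintro ⟨v, hv⟩
    refine ⟨v, ?_⟩
    apply K.ιZ''.isClosedEmbedding.injective
    exact (congrArg (fun g => g v) (K.ℓhom_ιZ'' y)).trans hv

lemma disjoint_range_ℓ (y y' : K.κ) (hne : y ≠ y') :
    Disjoint (Set.range (K.ℓ y).hom) (Set.range (K.ℓ y').hom) := by
  rw [Set.disjoint_left]
  intro z hz hz'
  rw [mem_range_ℓ] at hz hz'
  exact hne (Subtype.ext (eq_of_map_not_mem_bad φ x.1 y.2 y'.2 hz hz'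
    (K.good _ (K.map_mem_N _))))

lemma cover_range_ℓ (z : K.Z''obj.scheme) : ∃ y : K.κ, z ∈ Set.range (K.ℓ y).hom := by
  have hC : K.ιZ'' z ∈ (K.C : Set (Y.res K.YN).scheme) := by
    rw [← K.range_ιZ'']
    exact ⟨z, rfl⟩
  obtain ⟨y', hy', huy'⟩ := exists_of_map_not_mem_bad φ w.1 K.hηw K.hd x.1 K.hx hC
    (K.good _ (K.map_mem_N _))
  exact ⟨⟨y', hy'⟩, (K.mem_range_ℓ ⟨y', hy'⟩ z).2 huy'⟩

instance : Nonempty K.κ := by
  have hcl : IsClosed (Set.range φ) := φ.isClosedMap.isClosed_range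
  have hw : w.1 ∈ Set.range φ := ⟨genericPoint Y.scheme, K.hηw⟩
  obtain ⟨y, hy⟩ := closure_minimal (Set.singleton_subset_iff.2 hw) hcl K.hxw
  exact ⟨⟨y, hy⟩⟩

instance (y : K.κ) : IsProper (K.ℓ y).hom := by
  have := isClosedImmersion_of_isClosed_range (K.ℓ y)
    (isClosed_range_of_family K.ℓ K.disjoint_range_ℓ K.cover_range_ℓ y)
  infer_instance

lemma dim_Z''_eq : (WeilCoh.dim K.Z''obj.scheme : ℤ) + 1 = WeilCoh.dim Y.scheme := by
  obtain ⟨y⟩ := (inferInstance : Nonempty K.κ)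
  have h1 := K.dim_Z'' y
  have h2 := K.pdim_κ y
  have h3 := K.hx
  have h4 := K.hd
  omega

lemma dim_Z' : WeilCoh.dim K.Z'obj.scheme = WeilCoh.dim K.Z''obj.scheme := by
  have hh : IsHomeomorph K.k :=
    (K.k.isClosedEmbedding.isEmbedding.toHomeomorphOfSurjective K.k.surjective).isHomeomorph
  unfold WeilCoh.dim WeilCoh.natDim
  rw [IsHomeomorph.topologicalKrullDim_eq _ hh]

lemma codim_D'' : K.D''.codim = 1 := by
  change relCodim K.Z''obj.scheme (K.YN : Scheme.{u}) = 1
  unfold relCodim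
  rw [K.dimYN]
  have := K.dim_Z''_eq
  omega

lemma codim_D' : K.D'.codim = 1 := by
  change relCodim K.Z'obj.scheme (K.YN : Scheme.{u}) = 1
  unfold relCodim
  rw [K.dimYN, K.dim_Z']
  have := K.dim_Z''_eq
  omega

lemma relCodim_k : relCodim K.Z''obj.scheme K.Z'obj.scheme = 0 := by
  unfold relCodim
  rw [K.dim_Z']
  ring

lemma dim_Wx : WeilCoh.dim ((X.ptSub x.1).res K.p.W.1).scheme = WeilCoh.pdim X.scheme x.1 :=
  K.p.dim_W

lemma relCodim_snd : relCodim K.Z'obj.scheme ((X.ptSub x.1).res K.p.W.1).scheme = 0 := by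
  unfold relCodim
  rw [K.dim_Z', K.dim_Wx]
  have h1 := K.dim_Z''_eq
  have h3 := K.hx
  have h4 := K.hd
  omega

lemma relCodim_φN₀ : relCodim (Y.res K.YN₀).scheme (X.res K.p.U₀).scheme = (q : ℤ) := by
  have h1 : WeilCoh.dim (Y.res K.YN₀).scheme = WeilCoh.dim Y.scheme := K.dimYN₀
  have h2 : WeilCoh.dim (X.res K.p.U₀).scheme = WeilCoh.dim X.scheme := K.p.dimU₀
  unfold relCodim
  rw [h1, h2, K.hd]
  have h3 := w.2
  have h4 := pdim_le_dim (finDim X) w.1
  unfold WeilCoh.codim at h3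
  omega

/-- the cartesian square of the closed parts -/
lemma isPullback_Z : IsPullback K.D'.i (pullback.snd K.φN K.p.f) K.φN K.p.decomp.i :=
  IsPullback.of_hasPullback K.φN K.p.f

/-- the cartesian square of the open parts -/
lemma isPullback_U : IsPullback K.D'.j.hom K.φN₀ K.φN K.p.decomp.j.hom :=
  restrict_isPullback φ K.p.le

/-- the map of closed parts, typed for the compatibility of residues with push-forward -/
noncomputable def fZ : K.D'.Z.scheme ⟶ K.p.decomp.Z.scheme := pullback.snd K.φN K.p.f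

instance : IsProper K.fZ := inferInstanceAs (IsProper (pullback.snd K.φN K.p.f))

/-- the map of open parts, typed for the compatibility of residues with push-forward -/
noncomputable def fU : K.D'.U.scheme ⟶ K.p.decomp.U.scheme := K.φN₀

instance : IsProper K.fU := inferInstanceAs (IsProper K.φN₀)

/-- the closed immersion of the reduced inverse image, typed for the reduction hypothesis -/
noncomputable def kk : K.D''.Z.scheme ⟶ K.D'.Z.scheme := K.k

instance : IsClosedImmersion K.kk := inferInstanceAs (IsClosedImmersion K.k)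

instance : Surjective K.kk := inferInstanceAs (Surjective K.k)

lemma isPullback_Z' : IsPullback K.D'.i K.fZ K.φN K.p.decomp.i := K.isPullback_Z

lemma isPullback_U' : IsPullback K.D'.j.hom K.fU K.φN K.p.decomp.j.hom := K.isPullback_U

lemma kk_i : K.kk ≫ K.D'.i = K.D''.i := K.k_fst

lemma relCodim_fU : relCodim K.D'.U.scheme K.p.decomp.U.scheme = (q : ℤ) := K.relCodim_φN₀

lemma relCodim_fZ : relCodim K.D'.Z.scheme K.p.decomp.Z.scheme = 0 := K.relCodim_snd

lemma relCodim_kk : relCodim K.D''.Z.scheme K.D'.Z.scheme = 0 := K.relCodim_k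

lemma relCodim_Z''_Wx :
    relCodim K.D''.Z.scheme K.p.decomp.Z.scheme = 0 := by
  have h1 := K.relCodim_kk
  have h2 := K.relCodim_fZ
  unfold relCodim at *
  omega

end Loc

end loc

end Groth.Agent.Lib.Helper6.BMLoc
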