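import Mathlib
import Groth.Prelude.Def_BMCoh3
import Groth.Agent.Lib.Helper6.BMLoc

/-!
# The reduced closed complement of an open containing `F_jX`, and the decompositions of the opens
between the two (helper6)
-/

universe u

set_option linter.unusedSectionVars false

open AlgebraicGeometry CategoryTheory CategoryTheory.Limits Opposite TopologicalSpace Topology Set

namespace Groth.Agent.Lib.Helper6.BMClosedZ

open BMCoh BMDim BMGeom BMComp BMDecomp BMColim BMZ BMClosedDim BMStep BMExact BMMulti BMLoc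

variable {V : ObjectProperty Scheme.{u}} [IsConstructible V]

section dims

variable {Z X : Obj V} (ι : Z.scheme ⟶ X.scheme) [IsClosedImmersion ι]

/-- a closed immersion preserves the dimension of the closure of a point -/
lemma pdim_eq (z : Z.scheme) : WeilCoh.pdim Z.scheme z = WeilCoh.pdim X.scheme (ι z) := by
  apply le_antisymm
  · exact natDim_closure_le_of_isInducing ι.isClosedEmbedding.isInducing z (finDim X)
  · exact natDim_closure_image_le (finDim Z) (finDim X) ι.continuous
      ι.isClosedEmbedding.isClosedMap z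

lemma codim_eq {c : ℕ} (hdim : WeilCoh.dim Z.scheme + c = WeilCoh.dim X.scheme) (z : Z.scheme) :
    WeilCoh.codim X.scheme (ι z) = WeilCoh.codim Z.scheme z + c := by
  have h1 := pdim_eq ι z
  have h2 := pdim_le_dim (finDim Z) z
  unfold WeilCoh.codim
  omega

/-- the inverse image of an open containing `F_{c+m}X` contains `F_mZ` -/
lemma containsFj_preimage {c m : ℕ} (hdim : WeilCoh.dim Z.scheme + c = WeilCoh.dim X.scheme)
    (X' : X.scheme.Opens) (hX' : ContainsFj X (c + m) X') : ContainsFj Z m (ι ⁻¹ᵁ X') := by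
  intro z hz
  change ι z ∈ X'
  apply hX'
  rw [codim_eq ι hdim z]
  omega

end dims

section compl

variable (X : Obj V) (U : X.scheme.Opens)

/-- the closed complement -/
def Cc : Closeds X.scheme := ⟨(U : Set X.scheme)ᶜ, U.2.isClosed_compl⟩

/-- the reduced closed subscheme on the complement -/
noncomputable def Zobj : Obj V :=
  ⟨(Scheme.IdealSheafData.vanishingIdeal (Cc X U)).subscheme,
    IsConstructible.of_isClosedImmersion (Scheme.IdealSheafData.vanishingIdeal (Cc X U)).subschemeι
      (h := (inferInstance : IsClosedImmersion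
        (Scheme.IdealSheafData.vanishingIdeal (Cc X U)).subschemeι)) X.mem⟩

noncomputable def ιZ : (Zobj X U).scheme ⟶ X.scheme :=
  (Scheme.IdealSheafData.vanishingIdeal (Cc X U)).subschemeι

instance : IsClosedImmersion (ιZ X U) :=
  inferInstanceAs (IsClosedImmersion (Scheme.IdealSheafData.vanishingIdeal (Cc X U)).subschemeι)

lemma range_ιZ : Set.range (ιZ X U) = (U : Set X.scheme)ᶜ := by
  change Set.range (Scheme.IdealSheafData.vanishingIdeal (Cc X U)).subschemeι = _
  rw [Scheme.IdealSheafData.range_subschemeι, Scheme.IdealSheafData.coe_support_vanishingIdeal]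
  rfl

lemma ιZ_not_mem (z : (Zobj X U).scheme) : ιZ X U z ∉ U := by
  have h : ιZ X U z ∈ Set.range (ιZ X U) := ⟨z, rfl⟩
  rw [range_ιZ] at h
  exact h

lemma exists_ιZ_eq {x : X.scheme} (hx : x ∉ U) : ∃ z : (Zobj X U).scheme, ιZ X U z = x := by
  have h : x ∈ Set.range (ιZ X U) := by
    rw [range_ιZ]
    exact hx
  exact h

instance : IsReduced (Zobj X U).scheme :=
  inferInstanceAs (IsReduced (Scheme.IdealSheafData.vanishingIdeal (Cc X U)).subscheme)

/-- the dimension of the complement of an open containing `F_jX` but not some point of codimension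
`j + 1` -/
lemma dim_Zobj {j : ℕ} (hU : ContainsFj X j U) {x : X.scheme} (hxU : x ∉ U)
    (hx : WeilCoh.codim X.scheme x = j + 1) :
    WeilCoh.dim (Zobj X U).scheme + (j + 1) = WeilCoh.dim X.scheme := by
  obtain ⟨z, hz⟩ := exists_ιZ_eq X U hxU
  have hne : Nonempty (Zobj X U).scheme := ⟨z⟩
  obtain ⟨ξ, hξ⟩ := exists_natDim_closure_eq (X := (Zobj X U).scheme) (finDim (Zobj X U))
  change WeilCoh.pdim (Zobj X U).scheme ξ = WeilCoh.dim (Zobj X U).scheme at hξ
  have h1 := pdim_eq (ιZ X U) ξ
  have h2 : ¬ WeilCoh.codim X.scheme (ιZ X U ξ) ≤ j := fun h => ιZ_not_mem X U ξ (hU _ h)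
  have h3 := pdim_eq (ιZ X U) z
  rw [hz] at h3
  have h4 := pdim_le_dim (finDim (Zobj X U)) z
  have h5 := pdim_le_dim (finDim X) x
  have h6 := pdim_le_dim (finDim X) (ιZ X U ξ)
  unfold WeilCoh.codim at h2 hx
  omega

variable {X U}

/-- the open of `X` whose complement is the image of the complement of an open of `Z` -/
def bigOpen (Vz : (Zobj X U).scheme.Opens) : X.scheme.Opens :=
  ⟨(ιZ X U '' (Vz : Set (Zobj X U).scheme)ᶜ)ᶜ,
    ((ιZ X U).isClosedEmbedding.isClosedMap _ Vz.2.isClosed_compl).isOpen_compl⟩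

lemma le_bigOpen (Vz : (Zobj X U).scheme.Opens) : U ≤ bigOpen Vz := by
  rintro x hx ⟨z, _, rfl⟩
  exact ιZ_not_mem X U z hx

lemma preimage_bigOpen_le (Vz : (Zobj X U).scheme.Opens) : (ιZ X U) ⁻¹ᵁ (bigOpen Vz) ≤ Vz := by
  intro z hz
  by_contra hzV
  exact hz ⟨z, hzV, rfl⟩

lemma containsFj_bigOpen {c m : ℕ}
    (hdim : WeilCoh.dim (Zobj X U).scheme + c = WeilCoh.dim X.scheme)
    (Vz : (Zobj X U).scheme.Opens) (hVz : ContainsFj (Zobj X U) m Vz) :
    ContainsFj X (c + m) (bigOpen Vz) := by
  rintro x hx ⟨z, hzV, rfl⟩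
  apply hzV
  apply hVz
  rw [codim_eq (ιZ X U) hdim z] at hx
  omega

/-- the decomposition of an open containing `U` into the trace of the complement and `U` -/
noncomputable def dec (X' : X.scheme.Opens) (hle : U ≤ X')
    (hd : WeilCoh.dim (U : Scheme.{u}) = WeilCoh.dim (X' : Scheme.{u})) : Decomp (X.res X') where
  Z := (Zobj X U).res ((ιZ X U) ⁻¹ᵁ X')
  U := X.res U
  i := ιZ X U ∣_ X'
  closedImm := IsZariskiLocalAtTarget.restrict (P := @IsClosedImmersion) inferInstance X'
  j := X.resLE hle hd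
  range_eq := by
    ext v
    have h1 := mem_opensRange_homOfLE (Y := X.scheme) hle v
    change v ∈ Set.range (X.scheme.homOfLE hle) ↔ _ at h1
    change v ∈ Set.range (X.scheme.homOfLE hle) ↔ v ∉ Set.range (ιZ X U ∣_ X')
    rw [h1]
    constructor
    · rintro hv ⟨z, rfl⟩
      have h2 : ((ιZ X U ∣_ X') z).1 = ιZ X U z.1 := morphismRestrict_base_coe (ιZ X U) X' z
      rw [h2] at hv
      exact ιZ_not_mem X U z.1 hv
    · intro hv
      by_contra hvU
      obtain ⟨z, hz⟩ := exists_ιZ_eq X U hvU
      have hzX' : z ∈ (ιZ X U) ⁻¹ᵁ X' := by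
        change ιZ X U z ∈ X'
        rw [hz]
        exact v.2
      apply hv
      refine ⟨⟨z, hzX'⟩, ?_⟩
      apply Subtype.ext
      rw [morphismRestrict_base_coe]
      exact hz

end compl

end Groth.Agent.Lib.Helper6.BMClosedZ
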