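import Mathlib
import Groth.Prelude.Def_BMCoh3
import Groth.Agent.Lib.Helper6.BMClosedZ

/-!
# Restriction from `F_{j+1+m}X` to `F_jX` is bijective when the groups of `F_mZ` vanish for the
reduced closed subschemes `Z` of codimension `j + 1` (helper6)
-/

universe u

set_option linter.unusedSectionVars false

open AlgebraicGeometry CategoryTheory CategoryTheory.Limits Opposite TopologicalSpace Topology Set

namespace Groth.Agent.Lib.Helper6.BMClosedZCoh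

open BMCoh BMDim BMGeom BMComp BMDecomp BMColim BMZ BMClosedDim BMStep BMExact BMMulti BMLoc
  BMClosedZ

variable {V : ObjectProperty Scheme.{u}} [IsConstructible V]

section geom

variable (X : Obj V)

/-- points with closures of every dimension up to that of the object exist -/
lemma exists_pdim_eq [Nonempty X.scheme] (e : ℕ) (he : e ≤ WeilCoh.dim X.scheme) :
    ∃ y : X.scheme, WeilCoh.pdim X.scheme y = WeilCoh.dim X.scheme - e := by
  induction e with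
  | zero =>
    obtain ⟨ξ, hξ⟩ := exists_codim_eq_zero (X := X.scheme) (finDim X)
    exact ⟨ξ, by rw [hξ]; rfl⟩
  | succ e ih =>
    obtain ⟨y, hy⟩ := ih (by omega)
    have h : WeilCoh.natDim ↥(closure ({y} : Set X.scheme)) =
        (WeilCoh.dim X.scheme - (e + 1)) + 1 := by
      change WeilCoh.pdim X.scheme y = _
      omega
    obtain ⟨t', ht', hne, hle⟩ := exists_specialization (finDim X) y _ h
    have hlt := pdim_lt (finDim X) ht' hne
    refine ⟨t', ?_⟩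
    change WeilCoh.dim X.scheme - (e + 1) ≤ WeilCoh.pdim X.scheme t' at hle
    omega

variable {X}

/-- an open containing `F_jX` and not everything can be shrunk so that its complement has
codimension exactly `j + 1` -/
lemma exists_good {j : ℕ} (U : X.scheme.Opens) (hU : ContainsFj X j U) {x₀ : X.scheme}
    (hx₀ : x₀ ∉ U) :
    ∃ U₁ : X.scheme.Opens, U₁ ≤ U ∧ ContainsFj X j U₁ ∧
      WeilCoh.dim (Zobj X U₁).scheme + (j + 1) = WeilCoh.dim X.scheme := by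
  have hne : Nonempty X.scheme := ⟨x₀⟩
  have h1 : ¬ WeilCoh.codim X.scheme x₀ ≤ j := fun h => hx₀ (hU _ h)
  have h2 := pdim_le_dim (finDim X) x₀
  have h3 : j + 1 ≤ WeilCoh.dim X.scheme := by
    unfold WeilCoh.codim at h1
    omega
  obtain ⟨y, hy⟩ := exists_pdim_eq X (j + 1) h3
  have hcy : WeilCoh.codim X.scheme y = j + 1 := by
    unfold WeilCoh.codim
    omega
  have hU₁ : ContainsFj X j (U ⊓ complOpen X y) :=
    fun z hz => ⟨hU z hz, containsFj_complOpen (by omega) z hz⟩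
  have hyU₁ : y ∉ U ⊓ complOpen X y := fun h => h.2 (subset_closure rfl)
  exact ⟨U ⊓ complOpen X y, inf_le_left, hU₁, dim_Zobj X _ hU₁ hyU₁ hcy⟩

end geom

variable {R : Type u} [CommRing R] {A : Coefs R} (T : PreTheory V R A) (M : A.Cat) {X : Obj V}
  {j : ℕ} (m : ℕ)

instance isClosedImmersion_restrict {A B : Scheme.{u}} (f : A ⟶ B) [IsClosedImmersion f]
    (U : B.Opens) : IsClosedImmersion (f ∣_ U) :=
  IsZariskiLocalAtTarget.restrict (P := @IsClosedImmersion) inferInstance U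

section codim

variable (U : X.scheme.Opens)
  (hdim : WeilCoh.dim (Zobj X U).scheme + (j + 1) = WeilCoh.dim X.scheme)

include hdim in
lemma relCodim_preimage (X' : X.scheme.Opens)
    (hdX' : WeilCoh.dim (X' : Scheme.{u}) = WeilCoh.dim X.scheme)
    (hdZ' : WeilCoh.dim (((ιZ X U) ⁻¹ᵁ X' : (Zobj X U).scheme.Opens) : Scheme.{u}) =
      WeilCoh.dim (Zobj X U).scheme) :
    relCodim ((Zobj X U).res ((ιZ X U) ⁻¹ᵁ X')).scheme (X.res X').scheme = (j : ℤ) + 1 := by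
  change relCodim (((ιZ X U) ⁻¹ᵁ X' : (Zobj X U).scheme.Opens) : Scheme.{u})
    (X' : Scheme.{u}) = _
  unfold relCodim
  rw [hdX', hdZ']
  omega

end codim

section steps

variable (i n i' n' : ℤ)

/-- a class on an open containing `F_jX` whose complement has codimension exactly `j + 1` extends
to an open containing `F_{j+1+m}X` -/
lemma surj_step (hi : i' = i + 1 - 2 * ((j : ℤ) + 1)) (hn : n' = n - ((j : ℤ) + 1))
    (U : X.scheme.Opens) (hdU : WeilCoh.dim (U : Scheme.{u}) = WeilCoh.dim X.scheme)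
    (hdim : WeilCoh.dim (Zobj X U).scheme + (j + 1) = WeilCoh.dim X.scheme)
    (hz : IsZero (T.fjGp (Zobj X U) m M i' n')) (b : T.gp (X.res U) M i n) :
    ∃ (X'' : X.scheme.Opens) (_ : ContainsFj X (j + 1 + m) X'') (hle : U ≤ X'')
      (hd'' : WeilCoh.dim (X'' : Scheme.{u}) = WeilCoh.dim X.scheme)
      (b'' : T.gp (X.res X'') M i n),
      (T.pull (X.resLE hle (hdU.trans hd''.symm)) M i n).hom b'' = b := by
  have hdtop : WeilCoh.dim ((⊤ : X.scheme.Opens) : Scheme.{u}) = WeilCoh.dim X.scheme :=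
    dim_top X.scheme
  have hF₁ : ContainsFj (Zobj X U) m ((ιZ X U) ⁻¹ᵁ ⊤) := fun z _ => trivial
  have hdZ₁ := dim_eq_of_containsFj (Zobj X U) m _ hF₁
  have hc₁ : (dec (X := X) (U := U) ⊤ le_top (hdU.trans hdtop.symm)).codim = (j : ℤ) + 1 :=
    relCodim_preimage U hdim ⊤ hdtop hdZ₁
  obtain ⟨r, hr⟩ : ∃ r : T.gp ((Zobj X U).res ((ιZ X U) ⁻¹ᵁ ⊤)) M i' n',
      r = (T.res (dec (X := X) (U := U) ⊤ le_top (hdU.trans hdtop.symm)) M i n i' n'
        (by rw [hc₁]; exact hi) (by rw [hc₁]; exact hn)).hom b := ⟨_, rfl⟩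
  have hr0 : ((T.ocolimι (Zobj X U) (ContainsFj (Zobj X U) m) i' n'
      ⟨(ιZ X U) ⁻¹ᵁ ⊤, hF₁, hdZ₁⟩).app M).hom r = 0 :=
    (ModuleCat.subsingleton_of_isZero hz).elim _ _
  obtain ⟨Vz, hVle, hVr⟩ := (ι_eq_zero_iff T (Zobj X U) (ContainsFj (Zobj X U) m) i' n' M
    (U := ⟨(ιZ X U) ⁻¹ᵁ ⊤, hF₁, hdZ₁⟩) r).1 hr0
  have hX'' : ContainsFj X (j + 1 + m) (bigOpen Vz.1) := containsFj_bigOpen hdim Vz.1 Vz.2.1
  have hle : U ≤ bigOpen Vz.1 := le_bigOpen Vz.1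
  have hd'' := dim_eq_of_containsFj X _ (bigOpen Vz.1) hX''
  have hF₂ : ContainsFj (Zobj X U) m ((ιZ X U) ⁻¹ᵁ (bigOpen Vz.1)) :=
    containsFj_preimage (ιZ X U) hdim _ hX''
  have hdZ₂ := dim_eq_of_containsFj (Zobj X U) m _ hF₂
  have hc₂ : (dec (X := X) (U := U) (bigOpen Vz.1) hle (hdU.trans hd''.symm)).codim =
      (j : ℤ) + 1 := relCodim_preimage U hdim _ hd'' hdZ₂
  have hleZ : (ιZ X U) ⁻¹ᵁ (bigOpen Vz.1) ≤ (ιZ X U) ⁻¹ᵁ ⊤ := fun _ _ => trivial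
  have hrp := T.res_pull (dec (X := X) (U := U) ⊤ le_top (hdU.trans hdtop.symm))
    (dec (X := X) (U := U) (bigOpen Vz.1) hle (hdU.trans hd''.symm))
    (X.resLE le_top (hd''.trans hdtop.symm))
    ((Zobj X U).resLE hleZ (hdZ₂.trans hdZ₁.symm)) (𝟙 (X.res U))
    (restrict_isPullback (ιZ X U) (le_top : bigOpen Vz.1 ≤ ⊤)).w
    ((Category.id_comp (X.resLE le_top (hdU.trans hdtop.symm))).trans
      (resLE_comp X hle le_top (hdU.trans hd''.symm) (hd''.trans hdtop.symm)).symm)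
    M i n i' n' (by rw [hc₁]; exact hi) (by rw [hc₁]; exact hn)
    (by rw [hc₂]; exact hi) (by rw [hc₂]; exact hn)
  have hrp' := congrArg (fun t => t.hom b) hrp
  have e1 : (T.pull (𝟙 (X.res U)) M i n).hom b = b := pull_id_apply T M i n b
  have hVr' : (T.pull ((Zobj X U).resLE hVle (Vz.2.2.trans hdZ₁.symm)) M i' n').hom r = 0 := hVr
  have e2 := pull_resLE_apply T (Zobj X U) (preimage_bigOpen_le Vz.1) hVle
    (hdZ₂.trans Vz.2.2.symm) (Vz.2.2.trans hdZ₁.symm) M i' n' r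
  rw [hVr', map_zero] at e2
  have hres0 : (T.res (dec (X := X) (U := U) (bigOpen Vz.1) hle (hdU.trans hd''.symm)) M i n i' n'
      (by rw [hc₂]; exact hi) (by rw [hc₂]; exact hn)).hom b = 0 := by
    have h3 : (T.res (dec (X := X) (U := U) (bigOpen Vz.1) hle (hdU.trans hd''.symm)) M i n i' n'
        (by rw [hc₂]; exact hi) (by rw [hc₂]; exact hn)).hom
        ((T.pull (𝟙 (X.res U)) M i n).hom b) = 0 := by
      refine hrp'.symm.trans ?_
      change (T.pull ((Zobj X U).resLE hleZ (hdZ₂.trans hdZ₁.symm)) M i' n').hom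
        ((T.res (dec (X := X) (U := U) ⊤ le_top (hdU.trans hdtop.symm)) M i n i' n' _ _).hom b) = 0
      rw [← hr]
      exact e2.symm
    rwa [e1] at h3
  obtain ⟨b'', hb''⟩ := ((T.exact_pull_res
    (dec (X := X) (U := U) (bigOpen Vz.1) hle (hdU.trans hd''.symm)) M i n i' n'
    (by rw [hc₂]; exact hi) (by rw [hc₂]; exact hn)) b).1 hres0
  exact ⟨bigOpen Vz.1, hX'', hle, hd'', b'', hb''⟩

/-- a class on an open containing `F_{j+1+m}X` vanishing on an open containing `F_jX` whose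
complement has codimension exactly `j + 1` vanishes on a smaller open containing `F_{j+1+m}X` -/
lemma inj_step (i₀ : ℤ) (hi' : i₀ + 1 = i' + 2 * ((j : ℤ) + 1)) (hn' : n = n' + ((j : ℤ) + 1))
    (U : X.scheme.Opens) (hdU : WeilCoh.dim (U : Scheme.{u}) = WeilCoh.dim X.scheme)
    (hdim : WeilCoh.dim (Zobj X U).scheme + (j + 1) = WeilCoh.dim X.scheme)
    (hz : IsZero (T.fjGp (Zobj X U) m M i' n'))
    (U' : X.scheme.Opens) (hU' : ContainsFj X (j + 1 + m) U')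
    (hdU' : WeilCoh.dim (U' : Scheme.{u}) = WeilCoh.dim X.scheme) (hle : U ≤ U')
    (b' : T.gp (X.res U') M (i₀ + 1) n)
    (hb' : (T.pull (X.resLE hle (hdU.trans hdU'.symm)) M (i₀ + 1) n).hom b' = 0) :
    ∃ (X'' : X.scheme.Opens) (_ : ContainsFj X (j + 1 + m) X'') (hle'' : X'' ≤ U')
      (hd'' : WeilCoh.dim (X'' : Scheme.{u}) = WeilCoh.dim X.scheme),
      (T.pull (X.resLE hle'' (hd''.trans hdU'.symm)) M (i₀ + 1) n).hom b' = 0 := by
  have hF₁ : ContainsFj (Zobj X U) m ((ιZ X U) ⁻¹ᵁ U') :=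
    containsFj_preimage (ιZ X U) hdim _ hU'
  have hdZ₁ := dim_eq_of_containsFj (Zobj X U) m _ hF₁
  have hc₁ : relCodim ((Zobj X U).res ((ιZ X U) ⁻¹ᵁ U')).scheme (X.res U').scheme = (j : ℤ) + 1 :=
    relCodim_preimage U hdim U' hdU' hdZ₁
  have hc₁' : relCodim (dec (X := X) (U := U) U' hle (hdU.trans hdU'.symm)).Z.scheme
      (X.res U').scheme = (j : ℤ) + 1 := hc₁
  obtain ⟨r, hr⟩ := ((T.exact_push_pull (dec (X := X) (U := U) U' hle (hdU.trans hdU'.symm))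
    M i₀ n i' n' (by rw [hc₁']; exact hi') (by rw [hc₁']; exact hn')) b').1 hb'
  have hr0 : ((T.ocolimι (Zobj X U) (ContainsFj (Zobj X U) m) i' n'
      ⟨(ιZ X U) ⁻¹ᵁ U', hF₁, hdZ₁⟩).app M).hom r = 0 :=
    (ModuleCat.subsingleton_of_isZero hz).elim _ _
  obtain ⟨Vz, hVle, hVr⟩ := (ι_eq_zero_iff T (Zobj X U) (ContainsFj (Zobj X U) m) i' n' M
    (U := ⟨(ιZ X U) ⁻¹ᵁ U', hF₁, hdZ₁⟩) r).1 hr0
  have hX'' : ContainsFj X (j + 1 + m) (U' ⊓ bigOpen Vz.1) :=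
    fun x hx => ⟨hU' x hx, containsFj_bigOpen hdim Vz.1 Vz.2.1 x hx⟩
  have hle'' : U' ⊓ bigOpen Vz.1 ≤ U' := inf_le_left
  have hd'' := dim_eq_of_containsFj X _ (U' ⊓ bigOpen Vz.1) hX''
  have hF₂ : ContainsFj (Zobj X U) m ((ιZ X U) ⁻¹ᵁ (U' ⊓ bigOpen Vz.1)) :=
    containsFj_preimage (ιZ X U) hdim _ hX''
  have hdZ₂ := dim_eq_of_containsFj (Zobj X U) m _ hF₂
  have hc₂ : relCodim ((Zobj X U).res ((ιZ X U) ⁻¹ᵁ (U' ⊓ bigOpen Vz.1))).scheme
      (X.res (U' ⊓ bigOpen Vz.1)).scheme = (j : ℤ) + 1 :=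
    relCodim_preimage U hdim _ hd'' hdZ₂
  have hleZ : (ιZ X U) ⁻¹ᵁ (U' ⊓ bigOpen Vz.1) ≤ (ιZ X U) ⁻¹ᵁ U' :=
    (ιZ X U).preimage_mono hle''
  have hleV : (ιZ X U) ⁻¹ᵁ (U' ⊓ bigOpen Vz.1) ≤ Vz.1 :=
    ((ιZ X U).preimage_mono inf_le_right).trans (preimage_bigOpen_le Vz.1)
  refine ⟨U' ⊓ bigOpen Vz.1, hX'', hle'', hd'', ?_⟩
  have hbc := T.push_pull (X := (Zobj X U).res ((ιZ X U) ⁻¹ᵁ U')) (Y := X.res U')
    (X' := (Zobj X U).res ((ιZ X U) ⁻¹ᵁ (U' ⊓ bigOpen Vz.1))) (Y' := X.res (U' ⊓ bigOpen Vz.1))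
    (ιZ X U ∣_ U') (ιZ X U ∣_ (U' ⊓ bigOpen Vz.1)) (X.resLE hle'' (hd''.trans hdU'.symm))
    ((Zobj X U).resLE hleZ (hdZ₂.trans hdZ₁.symm)) (restrict_isPullback (ιZ X U) hle'')
    M i' n' (i₀ + 1) n (by rw [hc₁]; exact hi') (by rw [hc₁]; exact hn')
    (by rw [hc₂]; exact hi') (by rw [hc₂]; exact hn')
  have hbc' := congrArg (fun t => t.hom r) hbc
  have hVr' : (T.pull ((Zobj X U).resLE hVle (Vz.2.2.trans hdZ₁.symm)) M i' n').hom r = 0 := hVr
  have e2 := pull_resLE_apply T (Zobj X U) hleV hVle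
    (hdZ₂.trans Vz.2.2.symm) (Vz.2.2.trans hdZ₁.symm) M i' n' r
  rw [hVr', map_zero] at e2
  rw [← hr]
  refine hbc'.trans ?_
  change (T.push (X := (Zobj X U).res ((ιZ X U) ⁻¹ᵁ (U' ⊓ bigOpen Vz.1)))
    (Y := X.res (U' ⊓ bigOpen Vz.1)) (ιZ X U ∣_ (U' ⊓ bigOpen Vz.1)) M i' n' (i₀ + 1) n _ _).hom
    ((T.pull ((Zobj X U).resLE hleZ (hdZ₂.trans hdZ₁.symm)) M i' n').hom r) = 0
  rw [← e2, map_zero]

end steps

section main

theorem surjective_fjRes (i n i' n' : ℤ) (hi : i' = i + 1 - 2 * ((j : ℤ) + 1))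
    (hn : n' = n - ((j : ℤ) + 1))
    (hz : ∀ (Z : Obj V) (ι : Z.scheme ⟶ X.scheme) [IsClosedImmersion ι] [IsReduced Z.scheme],
      WeilCoh.dim Z.scheme + (j + 1) = WeilCoh.dim X.scheme → IsZero (T.fjGp Z m M i' n')) :
    Function.Surjective
      ((T.fjRes X ((Nat.le_succ j).trans (Nat.le_add_right (j + 1) m)) i n).app M).hom := by
  intro a
  obtain ⟨U₀, b₀, rfl⟩ := exists_rep T X (ContainsFj X j) i n M a
  by_cases hall : ∀ x : X.scheme, x ∈ U₀.1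
  · have hU' : ContainsFj X (j + 1 + m) U₀.1 := fun x _ => hall x
    refine ⟨((T.ocolimι X (ContainsFj X (j + 1 + m)) i n ⟨U₀.1, hU', U₀.2.2⟩).app M).hom b₀, ?_⟩
    exact ocolimMap_ι_apply T X i n M
      (containsFj_mono X ((Nat.le_succ j).trans (Nat.le_add_right (j + 1) m)))
      ⟨U₀.1, hU', U₀.2.2⟩ b₀
  · obtain ⟨x₀, hx₀⟩ := not_forall.1 hall
    obtain ⟨U₁, hle₁, hU₁, hdim⟩ := exists_good U₀.1 U₀.2.1 hx₀
    have hdU₁ := dim_eq_of_containsFj X j U₁ hU₁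
    obtain ⟨X'', hX'', hle, hd'', b'', hb''⟩ := surj_step T M m i n i' n' hi hn U₁ hdU₁ hdim
      (hz (Zobj X U₁) (ιZ X U₁) hdim)
      ((T.pull (X.resLE hle₁ (hdU₁.trans U₀.2.2.symm)) M i n).hom b₀)
    refine ⟨((T.ocolimι X (ContainsFj X (j + 1 + m)) i n ⟨X'', hX'', hd''⟩).app M).hom b'', ?_⟩
    refine (ocolimMap_ι_apply T X i n M
      (containsFj_mono X ((Nat.le_succ j).trans (Nat.le_add_right (j + 1) m)))
      ⟨X'', hX'', hd''⟩ b'').trans ?_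
    have hX''j : ContainsFj X j X'' :=
      containsFj_mono X ((Nat.le_succ j).trans (Nat.le_add_right (j + 1) m)) X'' hX''
    have e1 := ιO_pull T X i n M (ContainsFj X j) hX''j hU₁ hd'' hdU₁ hle b''
    have e2 := ιO_pull T X i n M (ContainsFj X j) U₀.2.1 hU₁ U₀.2.2 hdU₁ hle₁ b₀
    rw [hb''] at e1
    exact e1.symm.trans e2

theorem injective_fjRes (i₀ n i' n' : ℤ) (hi' : i₀ + 1 = i' + 2 * ((j : ℤ) + 1))
    (hn' : n = n' + ((j : ℤ) + 1))
    (hz : ∀ (Z : Obj V) (ι : Z.scheme ⟶ X.scheme) [IsClosedImmersion ι] [IsReduced Z.scheme],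
      WeilCoh.dim Z.scheme + (j + 1) = WeilCoh.dim X.scheme → IsZero (T.fjGp Z m M i' n')) :
    Function.Injective
      ((T.fjRes X ((Nat.le_succ j).trans (Nat.le_add_right (j + 1) m)) (i₀ + 1) n).app M).hom := by
  rw [injective_iff_map_eq_zero]
  intro a' ha'
  obtain ⟨U', b', rfl⟩ := exists_rep T X (ContainsFj X (j + 1 + m)) (i₀ + 1) n M a'
  have h1 := ocolimMap_ι_apply T X (i₀ + 1) n M
    (containsFj_mono X ((Nat.le_succ j).trans (Nat.le_add_right (j + 1) m))) U' b'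
  obtain ⟨U, hUle, hUb⟩ := (ι_eq_zero_iff T X (ContainsFj X j) (i₀ + 1) n M
    (U := ⟨U'.1, containsFj_mono X ((Nat.le_succ j).trans (Nat.le_add_right (j + 1) m)) _ U'.2.1,
      U'.2.2⟩) b').1 (h1.symm.trans ha')
  have hUle' : U.1 ≤ U'.1 := hUle
  have hUb' : (T.pull (X.resLE hUle' (U.2.2.trans U'.2.2.symm)) M (i₀ + 1) n).hom b' = 0 := hUb
  by_cases hall : ∀ x : X.scheme, x ∈ U.1
  · have hUk : ContainsFj X (j + 1 + m) U.1 := fun x _ => hall x
    have e := ιO_pull T X (i₀ + 1) n M (ContainsFj X (j + 1 + m)) U'.2.1 hUk U'.2.2 U.2.2 hUle' b'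
    refine e.symm.trans ?_
    rw [hUb', map_zero]
  · obtain ⟨x₀, hx₀⟩ := not_forall.1 hall
    obtain ⟨U₁, hle₁, hU₁, hdim⟩ := exists_good U.1 U.2.1 hx₀
    have hdU₁ := dim_eq_of_containsFj X j U₁ hU₁
    have hb₁ : (T.pull (X.resLE (hle₁.trans hUle') (hdU₁.trans U'.2.2.symm)) M (i₀ + 1) n).hom b' =
        0 := by
      have e := pull_resLE_apply T X hle₁ hUle' (hdU₁.trans U.2.2.symm) (U.2.2.trans U'.2.2.symm)
        M (i₀ + 1) n b'
      rw [hUb', map_zero] at e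
      exact e.symm
    obtain ⟨X'', hX'', hle'', hd'', h0⟩ := inj_step T M m n i' n' i₀ hi' hn' U₁ hdU₁ hdim
      (hz (Zobj X U₁) (ιZ X U₁) hdim) U'.1 U'.2.1 U'.2.2 (hle₁.trans hUle') b' hb₁
    have e := ιO_pull T X (i₀ + 1) n M (ContainsFj X (j + 1 + m)) U'.2.1 hX'' U'.2.2 hd'' hle'' b'
    refine e.symm.trans ?_
    rw [h0, map_zero]

end main

end Groth.Agent.Lib.Helper6.BMClosedZCoh
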