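import Mathlib
import Groth.Prelude.Def_BMCoh4
import Groth.Agent.Lib.Helper6.BMLoc
import Groth.Agent.Lib.Helper6.BMMultiCoh

/-!
# Residues and push-forward along a generically finite proper morphism, locally over a point of
codimension one of the image (helper6)
-/

universe u

set_option linter.unusedSectionVars false

open AlgebraicGeometry CategoryTheory CategoryTheory.Limits Opposite TopologicalSpace Topology Set

namespace Groth.Agent.Lib.Helper6.BMLocCoh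

open BMCoh BMDim BMGeom BMComp BMDecomp BMColim BMZ BMClosedDim BMStep BMPtPush BMFibre BMExact
  BMResExact BMOPiece BMMulti BMAdd BMLoc BMMultiCoh

variable {V : ObjectProperty Scheme.{u}} [IsConstructible V] {R : Type u} [CommRing R]
  {A : Coefs R} (T : PreTheory V R A) (M : A.Cat)

/-- the compatibility of the residue maps with passing to a closed subscheme of the closed part
with the same support -/
def Hred : Prop :=
  ∀ (S : Obj V) (D D'' : Decomp S) (gU : D''.U ⟶ D.U)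
    (k : D''.Z.scheme ⟶ D.Z.scheme) [IsClosedImmersion k] [Surjective k],
    gU ≫ D.j = D''.j → k ≫ D.i = D''.i →
    ∀ (M : A.Cat) (i n i' n' : ℤ) (hi : i' = i + 1 - 2 * D.codim) (hn : n' = n - D.codim)
      (hi'' : i' = i + 1 - 2 * D''.codim) (hn'' : n' = n - D''.codim)
      (hk : i' = i' + 2 * relCodim D''.Z.scheme D.Z.scheme)
      (hk' : n' = n' + relCodim D''.Z.scheme D.Z.scheme),
    T.pull gU M i n ≫ T.res D'' M i n i' n' hi'' hn'' ≫ T.push k M i' n' i' n' hk hk' =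
      T.res D M i n i' n' hi hn

variable {Y X : Obj V} {φ : Y.scheme ⟶ X.scheme} [IsProper φ] [IsIntegral Y.scheme] {q : ℕ}
  {w : X.cdPt q} {x : X.cdPt (q + 1)} (K : Loc φ w x)

/-- the proper morphism from a piece of the fibre to the closed part of the piece of `X` -/
noncomputable def gy (y : K.κ) :
    ((Y.ptSub y.1).res (K.Wy y).1).scheme ⟶ ((X.ptSub x.1).res K.p.W.1).scheme :=
  (K.ℓ y).hom ≫ K.k ≫ pullback.snd K.φN K.p.f

instance (y : K.κ) : IsProper (gy K y) := by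
  unfold gy
  infer_instance

lemma gy_fac (y : K.κ) :
    gy K y ≫ K.p.W.1.ι ≫ X.ptSubι x.1 = (K.Wy y).1.ι ≫ Y.ptSubι y.1 ≫ φ := by
  have h1 : pullback.fst K.φN K.p.f ≫ K.φN = pullback.snd K.φN K.p.f ≫ K.p.f :=
    pullback.condition
  have h2 : K.φN ≫ K.p.U.ι = K.YN.ι ≫ φ := morphismRestrict_ι φ K.p.U
  have h3 : (K.ℓ y).hom ≫ K.ιZ'' = K.fy y := K.ℓhom_ιZ'' y
  unfold gy
  rw [← K.p.f_ι]
  simp only [Category.assoc]
  rw [← reassoc_of% h1, h2, K.k_fst_assoc, reassoc_of% h3, reassoc_of% (K.fy_ι y)]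

lemma relCodim_gy (y : K.κ) :
    relCodim ((Y.ptSub y.1).res (K.Wy y).1).scheme ((X.ptSub x.1).res K.p.W.1).scheme = 0 := by
  unfold relCodim
  rw [K.dim_Wy y, K.dim_Wx, K.pdim_κ y]
  ring

lemma hi_of {r : ℤ} (h : r = 0) (i : ℤ) : i = i + 2 * r := by rw [h]; ring

lemma hn_of {r : ℤ} (h : r = 0) (n : ℤ) : n = n + r := by rw [h]; ring

section core

variable (i n i₁ n₁ i₂ n₂ : ℤ) (h1 : i₁ = i + 2 * (q : ℤ)) (h1' : n₁ = n + (q : ℤ))
  (h2 : i₂ = i₁ + 1 - 2 * ((q : ℤ) + 1)) (h2' : n₂ = n₁ - ((q : ℤ) + 1))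

lemma idx2 {r c a b : ℤ} (h : r = c) (e : a = b + 2 * c) : a = b + 2 * r := by rw [h]; exact e

lemma idx1 {r c a b : ℤ} (h : r = c) (e : a = b + c) : a = b + r := by rw [h]; exact e

include h1 h1' h2 h2' in
/-- residue after push-forward, in terms of the residues at the points of the fibre -/
lemma res_push_eq_sum (hred : Hred T) (b'' : T.gp (Y.res K.YN₀) M i n) :
    (T.res K.p.decomp M i₁ n₁ i₂ n₂ (by rw [codim_piece K.p x.2]; exact h2)
        (by rw [codim_piece K.p x.2]; exact h2')).hom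
      ((T.push K.fU M i n i₁ n₁ (idx2 K.relCodim_fU h1) (idx1 K.relCodim_fU h1')).hom b'') =
    ∑ y : K.κ, (T.push (gy K y) M i₂ n₂ i₂ n₂ (hi_of (relCodim_gy K y) i₂)
        (hn_of (relCodim_gy K y) n₂)).hom
      ((T.pull (K.ℓ y) M i₂ n₂).hom
        ((T.res K.D'' M i n i₂ n₂ (by rw [K.codim_D'']; omega)
          (by rw [K.codim_D'']; omega)).hom b'')) := by
  have e1 := T.res_push K.p.decomp K.D' K.φN K.fZ K.fU K.isPullback_Z'
    K.isPullback_U' M i n i₂ n₂ i₁ n₁ i₂ n₂ (by rw [K.codim_D']; omega) (by rw [K.codim_D']; omega)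
    (idx2 K.relCodim_fU h1) (idx1 K.relCodim_fU h1')
    (hi_of K.relCodim_fZ i₂) (hn_of K.relCodim_fZ n₂)
    (by rw [codim_piece K.p x.2]; exact h2) (by rw [codim_piece K.p x.2]; exact h2')
  have e2 := hred (Y.res K.YN) K.D' K.D'' (𝟙 (Y.res K.YN₀)) K.kk (Category.id_comp _) K.kk_i
    M i n i₂ n₂ (by rw [K.codim_D']; omega) (by rw [K.codim_D']; omega)
    (by rw [K.codim_D'']; omega) (by rw [K.codim_D'']; omega)
    (hi_of K.relCodim_kk i₂) (hn_of K.relCodim_kk n₂)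
  have e1' := congrArg (fun t => t.hom b'') e1
  have e2' := congrArg (fun t => t.hom b'') e2
  obtain ⟨z, hz⟩ : ∃ z : T.gp K.Z''obj M i₂ n₂, z = (T.res K.D'' M i n i₂ n₂
      (by rw [K.codim_D'']; omega) (by rw [K.codim_D'']; omega)).hom b'' := ⟨_, rfl⟩
  have e3 : (T.pull (𝟙 (Y.res K.YN₀)) M i n).hom b'' = b'' := pull_id_apply T M i n b''
  refine e1'.symm.trans ?_
  change (T.push K.fZ M i₂ n₂ i₂ n₂ _ _).hom ((T.res K.D' M i n i₂ n₂ _ _).hom b'') = _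
  rw [← e2']
  change (T.push K.fZ M i₂ n₂ i₂ n₂ _ _).hom
    ((T.push K.kk M i₂ n₂ i₂ n₂ _ _).hom ((T.res K.D'' M i n i₂ n₂ _ _).hom
      ((T.pull (𝟙 (Y.res K.YN₀)) M i n).hom b''))) = _
  rw [e3, ← hz]
  have hsum := eq_sum_push_pull' T M K.ℓ K.disjoint_range_ℓ K.cover_range_ℓ i₂ n₂ z
  let Φ : T.gp K.Z''obj M i₂ n₂ →ₗ[R] T.gp K.p.decomp.Z M i₂ n₂ :=
    (T.push K.fZ M i₂ n₂ i₂ n₂ (hi_of K.relCodim_fZ i₂) (hn_of K.relCodim_fZ n₂)).hom ∘ₗ
      (T.push K.kk M i₂ n₂ i₂ n₂ (hi_of K.relCodim_kk i₂) (hn_of K.relCodim_kk n₂)).hom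
  change Φ z = _
  refine (congrArg Φ hsum).trans ((map_sum Φ _ _).trans ?_)
  refine Finset.sum_congr rfl fun y _ => ?_
  have c1 := T.push_comp K.kk K.fZ M i₂ n₂ i₂ n₂ i₂ n₂
    (hi_of K.relCodim_kk i₂) (hn_of K.relCodim_kk n₂) (hi_of K.relCodim_fZ i₂)
    (hn_of K.relCodim_fZ n₂) (hi_of K.relCodim_Z''_Wx i₂) (hn_of K.relCodim_Z''_Wx n₂)
  let kf : K.Z''obj.scheme ⟶ K.p.decomp.Z.scheme := K.kk ≫ K.fZ
  have : IsProper kf := inferInstanceAs (IsProper (K.kk ≫ K.fZ))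
  have c2 := T.push_comp (K.ℓ y).hom kf M i₂ n₂ i₂ n₂ i₂ n₂
    (hi_zero (K.ℓ y) _) (hn_zero (K.ℓ y) _) (hi_of K.relCodim_Z''_Wx i₂)
    (hn_of K.relCodim_Z''_Wx n₂) (hi_of (relCodim_gy K y) i₂) (hn_of (relCodim_gy K y) n₂)
  have c1' := congrArg (fun t => t.hom ((T.push (K.ℓ y).hom M i₂ n₂ i₂ n₂ (hi_zero (K.ℓ y) _)
    (hn_zero (K.ℓ y) _)).hom ((T.pull (K.ℓ y) M i₂ n₂).hom z))) c1
  have c2' := congrArg (fun t => t.hom ((T.pull (K.ℓ y) M i₂ n₂).hom z)) c2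
  exact c1'.trans c2'

end core

section sides

/-- on an integral object, an open containing the generic point contains the points of
codimension zero -/
lemma containsFj_zero (O : Y.scheme.Opens) (hO : genericPoint Y.scheme ∈ O) :
    ContainsFj Y 0 O := by
  intro z hz
  have hz0 : WeilCoh.codim Y.scheme z = 0 := Nat.le_zero.1 hz
  have h : genericPoint Y.scheme = z := by
    by_contra hne
    have := codim_lt (finDim Y) (mem_closure_genericPoint z) (Ne.symm hne)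
    omega
  rw [← h]
  exact hO

section

variable (i₁ n₁ i₂ n₂ : ℤ)
  (h2 : i₂ = i₁ + 1 - 2 * ((q : ℤ) + 1)) (h2' : n₂ = n₁ - ((q : ℤ) + 1))

/-- the residue at `x` of a class represented on an open containing the open part of the piece -/
lemma cpt_X (Q : T.ResData X q) (Ug : X.scheme.Opens) (hUg : ContainsFj X q Ug)
    (hdg : WeilCoh.dim (Ug : Scheme.{u}) = WeilCoh.dim X.scheme) (hle : K.p.U₀ ≤ Ug)
    (β : T.gp (X.res Ug) M i₁ n₁) :
    (Q.cpt x M i₁ n₁ i₂ n₂ h2 h2').hom ((ιO T X i₁ n₁ M (ContainsFj X q) Ug hUg hdg).hom β) =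
      ((T.ptι X x.1 i₂ n₂ K.p.W).app M).hom
        ((T.res K.p.decomp M i₁ n₁ i₂ n₂ (by rw [codim_piece K.p x.2]; exact h2)
          (by rw [codim_piece K.p x.2]; exact h2')).hom
          ((T.pull (X.resLE hle (K.p.dimU₀.trans hdg.symm)) M i₁ n₁).hom β)) := by
  have h := ιO_pull T X i₁ n₁ M (ContainsFj X q) hUg K.containsFj_pU₀ hdg K.p.dimU₀ hle β
  rw [← h]
  exact cpt_fjι T Q x K.p K.containsFj_pU₀ M i₁ n₁ i₂ n₂ h2 h2' _

end

variable (i n i₂ n₂ : ℤ)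
  (h4 : i₂ = i + 1 - 2 * (((0 : ℕ) : ℤ) + 1)) (h4' : n₂ = n - (((0 : ℕ) : ℤ) + 1))

/-- the residue at a point of the fibre of a class represented on an open containing the inverse
image of the open part of the piece -/
lemma cpt_Y (Q' : T.ResData Y 0) (y : K.κ) (O' : Y.scheme.Opens)
    (hO' : genericPoint Y.scheme ∈ O') (hle' : K.YN₀ ≤ O') (b : T.gp (Y.res O') M i n) :
    (Q'.cpt ⟨y.1, K.codim_κ y⟩ M i n i₂ n₂ h4 h4').hom
        ((ιO T Y i n M (ContainsFj Y 0) O' (containsFj_zero O' hO')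
          (Loc.dim_opens_of_mem O' hO')).hom b) =
      ((T.ptι Y y.1 i₂ n₂ (K.Wy y)).app M).hom
        ((T.pull (K.ℓ y) M i₂ n₂).hom
          ((T.res K.D'' M i n i₂ n₂ (by rw [K.codim_D'']; omega) (by rw [K.codim_D'']; omega)).hom
            ((T.pull (Y.resLE hle' (K.dimYN₀.trans (Loc.dim_opens_of_mem O' hO').symm))
              M i n).hom b))) := by
  have h := ιO_pull T Y i n M (ContainsFj Y 0) (containsFj_zero O' hO')
    (containsFj_zero K.YN₀ K.η_mem_YN₀) (Loc.dim_opens_of_mem O' hO') K.dimYN₀ hle' b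
  rw [← h]
  have hg : (K.ℓ y).hom ≫ K.D''.i ≫ (Y.resι K.YN K.dimYN).hom =
      (K.Wy y).1.ι ≫ Y.ptSubι y.1 := by
    change K.ℓhom y ≫ K.ιZ'' ≫ K.YN.ι = _
    rw [reassoc_of% (K.ℓhom_ιZ'' y)]
    exact K.fy_ι y
  have hh : (𝟙 (Y.res K.YN₀) : Y.res K.YN₀ ⟶ K.D''.U).hom ≫ K.D''.j.hom ≫
      (Y.resι K.YN K.dimYN).hom = K.YN₀.ι := by
    change 𝟙 _ ≫ Y.scheme.homOfLE K.YN₀_le ≫ K.YN.ι = _
    rw [Category.id_comp]
    exact Y.scheme.homOfLE_ι K.YN₀_le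
  have hs := Q'.cpt_spec ⟨y.1, K.codim_κ y⟩ M i n i₂ n₂ h4 h4' (Y.resι K.YN K.dimYN) K.D''
    (K.Wy y) (K.ℓ y) hg ⟨K.YN₀, containsFj_zero K.YN₀ K.η_mem_YN₀, K.dimYN₀⟩ (𝟙 _) hh
    (by rw [K.codim_D'']; omega) (by rw [K.codim_D'']; omega)
  have hs' := congrArg (fun t => t.hom ((T.pull (Y.resLE hle'
    (K.dimYN₀.trans (Loc.dim_opens_of_mem O' hO').symm)) M i n).hom b)) hs
  have e1 := pull_id_apply T (X := Y.res K.YN₀) M i n ((T.pull (Y.resLE hle'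
    (K.dimYN₀.trans (Loc.dim_opens_of_mem O' hO').symm)) M i n).hom b)
  exact (congrArg (fun t => (Q'.cpt ⟨y.1, K.codim_κ y⟩ M i n i₂ n₂ h4 h4').hom
    ((ιO T Y i n M (ContainsFj Y 0) K.YN₀ (containsFj_zero K.YN₀ K.η_mem_YN₀)
      K.dimYN₀).hom t)) e1).symm.trans hs'

end sides

section formula

instance isProper_restrict (U : X.scheme.Opens) : IsProper (φ ∣_ U) :=
  IsZariskiLocalAtTarget.restrict (P := @IsProper) inferInstance U

variable (i n i₁ n₁ i₂ n₂ : ℤ) (h1 : i₁ = i + 2 * (q : ℤ)) (h1' : n₁ = n + (q : ℤ))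
  (h2 : i₂ = i₁ + 1 - 2 * ((q : ℤ) + 1)) (h2' : n₂ = n₁ - ((q : ℤ) + 1))
  (h4 : i₂ = i + 1 - 2 * (((0 : ℕ) : ℤ) + 1)) (h4' : n₂ = n - (((0 : ℕ) : ℤ) + 1))

/-- the push-forward data at a point of the fibre on a class represented on the trace of its
closure -/
lemma ptPush_ptι (y : K.κ) (Fy : T.PtPush φ y.1 x.1)
    (d : T.gp ((Y.ptSub y.1).res (K.Wy y).1) M i₂ n₂) :
    (Fy.cpt M i₂ n₂).hom (((T.ptι Y y.1 i₂ n₂ (K.Wy y)).app M).hom d) =
      ((T.ptι X x.1 i₂ n₂ K.p.W).app M).hom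
        ((T.push (gy K y) M i₂ n₂ i₂ n₂ (hi_of (relCodim_gy K y) i₂)
          (hn_of (relCodim_gy K y) n₂)).hom d) :=
  congrArg (fun t => t.hom d) (Fy.cpt_spec M i₂ n₂ (K.Wy y) K.p.W (gy K y) (gy_fac K y)
    (hi_of (relCodim_gy K y) i₂) (hn_of (relCodim_gy K y) n₂))

include h1 h1' in
/-- the residue at `x` of a push-forward, as the sum over the fibre of the push-forwards of the
residues -/
lemma cpt_push_eq_sum (hred : Hred T) (Q : T.ResData X q) (Q' : T.ResData Y 0)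
    (Fy : ∀ y : K.κ, T.PtPush φ y.1 x.1) (Ug : X.scheme.Opens) (hUg : ContainsFj X q Ug)
    (hdg : WeilCoh.dim (Ug : Scheme.{u}) = WeilCoh.dim X.scheme) (hle : K.p.U₀ ≤ Ug)
    (hη : genericPoint Y.scheme ∈ φ ⁻¹ᵁ Ug)
    (hi : i₁ = i + 2 * relCodim (Y.res (φ ⁻¹ᵁ Ug)).scheme (X.res Ug).scheme)
    (hn : n₁ = n + relCodim (Y.res (φ ⁻¹ᵁ Ug)).scheme (X.res Ug).scheme)
    (b : T.gp (Y.res (φ ⁻¹ᵁ Ug)) M i n) :
    (Q.cpt x M i₁ n₁ i₂ n₂ h2 h2').hom ((ιO T X i₁ n₁ M (ContainsFj X q) Ug hUg hdg).hom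
        ((T.push (φ ∣_ Ug) M i n i₁ n₁ hi hn).hom b)) =
      ∑ y : K.κ, ((Fy y).cpt M i₂ n₂).hom
        ((Q'.cpt ⟨y.1, K.codim_κ y⟩ M i n i₂ n₂ h4 h4').hom
          ((ιO T Y i n M (ContainsFj Y 0) (φ ⁻¹ᵁ Ug) (containsFj_zero _ hη)
            (Loc.dim_opens_of_mem _ hη)).hom b)) := by
  have hle' : K.YN₀ ≤ φ ⁻¹ᵁ Ug := φ.preimage_mono hle
  rw [cpt_X T M K i₁ n₁ i₂ n₂ h2 h2' Q Ug hUg hdg hle]
  have hbc := T.push_pull (X := Y.res (φ ⁻¹ᵁ Ug)) (Y := X.res Ug) (X' := Y.res K.YN₀)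
    (Y' := X.res K.p.U₀) (φ ∣_ Ug) K.φN₀ (X.resLE hle (K.p.dimU₀.trans hdg.symm))
    (Y.resLE hle' (K.dimYN₀.trans (Loc.dim_opens_of_mem _ hη).symm))
    (restrict_isPullback φ hle) M i n i₁ n₁ hi hn (idx2 K.relCodim_fU h1) (idx1 K.relCodim_fU h1')
  have hbc' := congrArg (fun t => t.hom b) hbc
  have hcore := res_push_eq_sum T M K i n i₁ n₁ i₂ n₂ h1 h1' h2 h2' hred
    ((T.pull (Y.resLE hle' (K.dimYN₀.trans (Loc.dim_opens_of_mem _ hη).symm)) M i n).hom b)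
  refine (congrArg (fun t => ((T.ptι X x.1 i₂ n₂ K.p.W).app M).hom
    ((T.res K.p.decomp M i₁ n₁ i₂ n₂ (by rw [codim_piece K.p x.2]; exact h2)
      (by rw [codim_piece K.p x.2]; exact h2')).hom t)) hbc').trans ?_
  refine (congrArg (fun t => ((T.ptι X x.1 i₂ n₂ K.p.W).app M).hom t) hcore).trans ?_
  rw [map_sum]
  refine Finset.sum_congr rfl fun y _ => ?_
  rw [cpt_Y T M K i n i₂ n₂ h4 h4' Q' y (φ ⁻¹ᵁ Ug) hη hle' b]
  exact (ptPush_ptι T M K i₂ n₂ y (Fy y) _).symm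

end formula

end Groth.Agent.Lib.Helper6.BMLocCoh
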