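import Mathlib
import Groth.Prelude.Def_BMCoh4
import Groth.Agent.Lib.Helper6.BMLocCoh

/-!
# The residues of the push-forward of a class along the normalisation of the closure of a point
(the first differential of the coniveau spectral sequence; helper6)
-/

universe u

set_option linter.unusedSectionVars false

open AlgebraicGeometry CategoryTheory CategoryTheory.Limits Opposite TopologicalSpace Topology Set
  DirectSum

namespace Groth.Agent.Lib.Helper6.BMFirstDiff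

open BMCoh BMDim BMGeom BMComp BMDecomp BMColim BMZ BMClosedDim BMStep BMPtPush BMFibre BMExact
  BMResExact BMOPiece BMMulti BMAdd BMLoc BMMultiCoh BMLocCoh BMPtPushBij

variable {V : ObjectProperty Scheme.{u}} [IsConstructible V] {R : Type u} [CommRing R]
  {A : Coefs R} (T : PreTheory V R A) (M : A.Cat)

section bad

variable {Y X : Obj V} (φ : Y.scheme ⟶ X.scheme) (x : X.scheme)

lemma bad_subset_closure : bad φ x ⊆ closure ({x} : Set X.scheme) := by
  rintro _ (⟨z, hz, rfl⟩ | ⟨z, hz, rfl⟩)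
  · simp only [Set.mem_iUnion, exists_prop] at hz
    obtain ⟨e, ⟨heE, _⟩, hze⟩ := hz
    have h1 : φ e ∈ closure ({x} : Set X.scheme) := heE.1
    have h2 : e ⤳ z := specializes_iff_mem_closure.2 hze
    have h3 := h2.map φ.continuous
    have h4 : x ⤳ φ e := specializes_iff_mem_closure.2 h1
    exact specializes_iff_mem_closure.1 (h4.trans h3)
  · simp only [Set.mem_iUnion, exists_prop] at hz
    obtain ⟨p, ⟨hp1, _, _⟩, hz1, _⟩ := hz
    have h2 : p.1 ⤳ z := specializes_iff_mem_closure.2 hz1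
    have h3 := h2.map φ.continuous
    rw [hp1] at h3
    exact specializes_iff_mem_closure.1 h3

end bad

section famTot

variable {Y X : Obj V} {φ : Y.scheme ⟶ X.scheme} {j k : ℕ}

open Classical in
/-- the components of the sum of a family of push-forward data -/
lemma famTot_apply (t : Y.cdPt j → X.cdPt k) (F : ∀ y : Y.cdPt j, T.PtPush φ y.1 (t y).1)
    (i n : ℤ) (v : ⨁ y : Y.cdPt j, T.ptGp Y y.1 M i n) (x : X.cdPt k) :
    (PreTheory.PtPush.famTot t F M i n).hom v x =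
      ∑ y ∈ DFinsupp.support v,
        (DirectSum.lof R (X.cdPt k) (fun z : X.cdPt k => T.ptGp X z.1 M i n) (t y)
          (((F y).cpt M i n).hom (v y))) x := by
  conv_lhs => rw [← DirectSum.sum_support_of v]
  rw [map_sum, DFinsupp.finsetSum_apply]
  refine Finset.sum_congr rfl fun y _ => ?_
  rw [← DirectSum.lof_eq_of R, PreTheory.PtPush.famTot_lof]

/-- transport of a push-forward datum along an equality of target points -/
def transp {x' x : X.cdPt k} (hx' : x' = x) {y : Y.scheme} (Fy : T.PtPush φ y x'.1) :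
    T.PtPush φ y x.1 := hx' ▸ Fy

open Classical in
/-- the component at `x` of a class placed in the summand of `x' = x` -/
lemma lof_cpt_eq {x' : X.cdPt k} (x : X.cdPt k) (hx' : x' = x) (y : Y.scheme)
    (Fy : T.PtPush φ y x'.1) (i n : ℤ) (a : T.ptGp Y y M i n) :
    (DirectSum.lof R (X.cdPt k) (fun z : X.cdPt k => T.ptGp X z.1 M i n) x'
      ((Fy.cpt M i n).hom a)) x = ((transp T hx' Fy).cpt M i n).hom a := by
  subst hx'
  exact DirectSum.lof_apply R _ _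

end famTot

section star

variable {Y X : Obj V} (φ : Y.scheme ⟶ X.scheme) [IsProper φ] [IsIntegral Y.scheme] {q : ℕ}
  (w : X.cdPt q) (hηw : φ (genericPoint Y.scheme) = w.1)
  (hd : WeilCoh.dim Y.scheme = WeilCoh.pdim X.scheme w.1)

include hηw hd in
/-- the local situation at a point of codimension `q + 1` outside an open containing `F_qX` and
the complement of the closure of `w` -/
lemma exists_loc (x : X.cdPt (q + 1)) (Ug : X.scheme.Opens) (hUg : ContainsFj X q Ug)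
    (hcl : ∀ v : X.scheme, v ∉ closure ({w.1} : Set X.scheme) → v ∈ Ug) (hxU : x.1 ∉ Ug) :
    ∃ K : Loc φ w x, K.p.U₀ ≤ Ug := by
  have hxw : x.1 ∈ closure ({w.1} : Set X.scheme) := by
    by_contra h
    exact hxU (hcl _ h)
  have hx : WeilCoh.pdim X.scheme x.1 + 1 = WeilCoh.pdim X.scheme w.1 := by
    have h1 := w.2
    have h2 := x.2
    have h3 := pdim_le_dim (finDim X) w.1
    have h4 := pdim_le_dim (finDim X) x.1
    unfold WeilCoh.codim at h1 h2
    omega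
  have hmax := isMaxPt_of_mem_S hUg (⟨hxU, x.2⟩ : x.1 ∈ S X q Ug)
  obtain ⟨Z', hZ'c, hZ'sub, hxZ', hZ'u⟩ :=
    exists_compl_closed (Z := (Ug : Set X.scheme)ᶜ) Ug.2.isClosed_compl hmax
  have hbc := isClosed_bad φ w.1 hηw hd x.1 hx
  let N : X.scheme.Opens := ⟨(Z' ∪ bad φ x.1)ᶜ, (hZ'c.union hbc).isOpen_compl⟩
  have hN : ContainsFj X q N := by
    intro v hv
    rintro (hvZ | hvb)
    · exact hZ'sub hvZ (hUg v hv)
    · have h1 := codim_mono (finDim X) (bad_subset_closure φ x.1 hvb)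
      have h2 := x.2
      omega
  have hxN : x.1 ∈ N := by
    rintro (h | h)
    · exact hxZ' h
    · exact not_mem_bad φ w.1 hηw hd x.1 hx h
  refine ⟨⟨N, hN, hxN, fun v hv hvb => hv (Or.inr hvb), hηw, hd, hxw⟩, ?_⟩
  intro v hv
  obtain ⟨hvN, hvc⟩ := hv
  by_contra hvU
  have h : v ∈ (Ug : Set X.scheme)ᶜ := hvU
  rw [hZ'u] at h
  rcases h with h | h
  · exact hvc h
  · exact hvN (Or.inl h)

variable (i n i₁ n₁ i₂ n₂ : ℤ) (h1 : i₁ = i + 2 * (q : ℤ)) (h1' : n₁ = n + (q : ℤ))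
  (h2 : i₂ = i₁ + 1 - 2 * ((q : ℤ) + 1)) (h2' : n₂ = n₁ - ((q : ℤ) + 1))
  (h4 : i₂ = i + 1 - 2 * (((0 : ℕ) : ℤ) + 1)) (h4' : n₂ = n - (((0 : ℕ) : ℤ) + 1))

include hηw hd h1 h1' in
/-- the residues of the push-forward of a class represented on the inverse image of an open
containing `F_qX` and the complement of the closure of `w` -/
theorem tot_push_eq_famTot (hred : Hred T) (Q : T.ResData X q) (Q' : T.ResData Y 0)
    (t : Y.cdPt 1 → X.cdPt (q + 1)) (F : ∀ y : Y.cdPt 1, T.PtPush φ y.1 (t y).1)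
    (Ug : X.scheme.Opens) (hUg : ContainsFj X q Ug)
    (hdg : WeilCoh.dim (Ug : Scheme.{u}) = WeilCoh.dim X.scheme)
    (hcl : ∀ v : X.scheme, v ∉ closure ({w.1} : Set X.scheme) → v ∈ Ug)
    (hη : genericPoint Y.scheme ∈ φ ⁻¹ᵁ Ug)
    (hi : i₁ = i + 2 * relCodim (Y.res (φ ⁻¹ᵁ Ug)).scheme (X.res Ug).scheme)
    (hn : n₁ = n + relCodim (Y.res (φ ⁻¹ᵁ Ug)).scheme (X.res Ug).scheme)
    (b : T.gp (Y.res (φ ⁻¹ᵁ Ug)) M i n) :
    (Q.tot M i₁ n₁ i₂ n₂ h2 h2').hom ((ιO T X i₁ n₁ M (ContainsFj X q) Ug hUg hdg).hom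
        ((T.push (φ ∣_ Ug) M i n i₁ n₁ hi hn).hom b)) =
      (PreTheory.PtPush.famTot t F M i₂ n₂).hom
        ((Q'.tot M i n i₂ n₂ h4 h4').hom
          ((ιO T Y i n M (ContainsFj Y 0) (φ ⁻¹ᵁ Ug) (containsFj_zero _ hη)
            (Loc.dim_opens_of_mem _ hη)).hom b)) := by
  classical
  refine DFinsupp.ext fun x => ?_
  obtain ⟨v, hv⟩ : ∃ v : ⨁ y : Y.cdPt 1, T.ptGp Y y.1 M i₂ n₂,
      v = (Q'.tot M i n i₂ n₂ h4 h4').hom
        ((ιO T Y i n M (ContainsFj Y 0) (φ ⁻¹ᵁ Ug) (containsFj_zero _ hη)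
          (Loc.dim_opens_of_mem _ hη)).hom b) := ⟨_, rfl⟩
  have hvy : ∀ y : Y.cdPt 1, v y = (Q'.cpt y M i n i₂ n₂ h4 h4').hom
      ((ιO T Y i n M (ContainsFj Y 0) (φ ⁻¹ᵁ Ug) (containsFj_zero _ hη)
        (Loc.dim_opens_of_mem _ hη)).hom b) := fun y => by rw [hv]; rfl
  rw [← hv, famTot_apply T M t F i₂ n₂ v x]
  change (Q.cpt x M i₁ n₁ i₂ n₂ h2 h2').hom _ = _
  by_cases hxU : x.1 ∈ Ug
  · rw [cpt_eq_zero_of_mem T Q M i₁ n₁ i₂ n₂ h2 h2' x Ug hUg hdg hxU]
    symm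
    refine Finset.sum_eq_zero fun y _ => ?_
    by_cases hty : t y = x
    · have hyU : y.1 ∈ φ ⁻¹ᵁ Ug := by
        change φ y.1 ∈ Ug
        rw [(F y).maps_pt, hty]
        exact hxU
      have h0 : v y = 0 := (hvy y).trans
        (cpt_eq_zero_of_mem T Q' M i n i₂ n₂ h4 h4' y (φ ⁻¹ᵁ Ug) _ _ hyU b)
      rw [h0, map_zero, map_zero]
      rfl
    · rw [DirectSum.lof_eq_of]
      exact DirectSum.of_eq_of_ne _ _ _ (Ne.symm hty)
  · obtain ⟨K, hle⟩ := exists_loc φ w hηw hd x Ug hUg hcl hxU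
    have ht : ∀ y' : K.κ, t ⟨y'.1, K.codim_κ y'⟩ = x := fun y' =>
      Subtype.ext (((F ⟨y'.1, K.codim_κ y'⟩).maps_pt).symm.trans y'.2)
    rw [cpt_push_eq_sum T M K i n i₁ n₁ i₂ n₂ h1 h1' h2 h2' h4 h4' hred Q Q'
      (fun y' => transp T (ht y') (F ⟨y'.1, K.codim_κ y'⟩)) Ug hUg hdg hle hη hi hn b]
    let emb : K.κ ↪ Y.cdPt 1 := ⟨fun y' => ⟨y'.1, K.codim_κ y'⟩,
      fun a b h => Subtype.ext (show a.1 = b.1 from congrArg (fun z : Y.cdPt 1 => z.1) h)⟩
    let τ : Y.cdPt 1 → T.ptGp X x.1 M i₂ n₂ := fun y =>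
      (DirectSum.lof R (X.cdPt (q + 1)) (fun z : X.cdPt (q + 1) => T.ptGp X z.1 M i₂ n₂) (t y)
        (((F y).cpt M i₂ n₂).hom (v y))) x
    have hterm : ∀ y' : K.κ, ((transp T (ht y') (F ⟨y'.1, K.codim_κ y'⟩)).cpt M i₂ n₂).hom
        ((Q'.cpt ⟨y'.1, K.codim_κ y'⟩ M i n i₂ n₂ h4 h4').hom
          ((ιO T Y i n M (ContainsFj Y 0) (φ ⁻¹ᵁ Ug) (containsFj_zero _ hη)
            (Loc.dim_opens_of_mem _ hη)).hom b)) = τ (emb y') := fun y' => by
      rw [← hvy]
      exact (lof_cpt_eq T M x (ht y') y'.1 (F (emb y')) i₂ n₂ (v (emb y'))).symm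
    rw [Finset.sum_congr rfl (fun y' _ => hterm y')]
    change ∑ y' : K.κ, τ (emb y') = ∑ y ∈ DFinsupp.support v, τ y
    rw [← Finset.sum_map Finset.univ emb τ]
    have hS1 : ∀ y, y ∉ DFinsupp.support v → τ y = 0 := by
      intro y hy
      have h0 : v y = 0 := DFinsupp.notMem_support_iff.1 hy
      change (DirectSum.lof R (X.cdPt (q + 1)) (fun z : X.cdPt (q + 1) => T.ptGp X z.1 M i₂ n₂)
        (t y) (((F y).cpt M i₂ n₂).hom (v y))) x = 0
      rw [h0, map_zero, map_zero]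
      rfl
    have hS2 : ∀ y, y ∉ Finset.univ.map emb → τ y = 0 := by
      intro y hy
      by_cases hty : t y = x
      · exfalso
        apply hy
        rw [Finset.mem_map]
        exact ⟨⟨y.1, ((F y).maps_pt).trans (congrArg Subtype.val hty)⟩, Finset.mem_univ _, rfl⟩
      · change (DirectSum.lof R (X.cdPt (q + 1)) (fun z : X.cdPt (q + 1) => T.ptGp X z.1 M i₂ n₂)
          (t y) (((F y).cpt M i₂ n₂).hom (v y))) x = 0
        rw [DirectSum.lof_eq_of]
        exact DirectSum.of_eq_of_ne _ _ _ (Ne.symm hty)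
    rw [Finset.sum_subset (Finset.subset_union_left (s₁ := Finset.univ.map emb)
        (s₂ := DFinsupp.support v)) (fun y _ hy => hS2 y hy),
      Finset.sum_subset (Finset.subset_union_right (s₁ := Finset.univ.map emb)
        (s₂ := DFinsupp.support v)) (fun y _ hy => hS1 y hy)]

end star

section final

/-- push-forward along equal morphisms -/
lemma push_congr {X Y : Obj V} {f g : X.scheme ⟶ Y.scheme} [IsProper f] [IsProper g] (h : f = g)
    (i n i' n' : ℤ) (hi : i' = i + 2 * relCodim X.scheme Y.scheme)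
    (hn : n' = n + relCodim X.scheme Y.scheme) :
    T.push f M i n i' n' hi hn = T.push g M i n i' n' hi hn := by
  subst h
  rfl

/-- a closed immersion into an open of a member of the index family equal to the trace of the
closure of the point -/
lemma exists_closedImm (Y : Obj V) (y : Y.scheme) (O : Y.scheme.Opens) (hyO : y ∈ O)
    (W : ptIdx Y y) (hW : W = oW Y y O hyO) :
    ∃ f : ((Y.ptSub y).res W.1).scheme ⟶ (Y.res O).scheme,
      IsClosedImmersion f ∧ f ≫ O.ι = W.1.ι ≫ Y.ptSubι y := by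
  subst hW
  exact ⟨oF Y y O hyO, inferInstance, oF_ι Y y O hyO⟩

variable {X : Obj V} {q : ℕ} (w : X.cdPt q) {Y : Obj V} [IsIntegral Y.scheme]
  (φ : Y.scheme ⟶ X.scheme) [IsProper φ]

/-- the first differential of the coniveau spectral sequence through the normalisation of the
closure of a point: residues after push-forward are the sums of the push-forwards of the residues
on the normalisation -/
theorem resTot_pushCpt_ptPush (hred : Hred T)
    (hη : WeilCoh.codim Y.scheme (genericPoint Y.scheme) = 0)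
    (P : T.PushData X q) (Q : T.ResData X q) (L : T.PtPush φ (genericPoint Y.scheme) w.1)
    (P' : T.PushData Y 0) (Q' : T.ResData Y 0) (t : Y.cdPt 1 → X.cdPt (q + 1))
    (F : ∀ y : Y.cdPt 1, T.PtPush φ y.1 (t y).1)
    (i n i₁ n₁ i₂ n₂ i₃ n₃ : ℤ)
    (h1 : i₁ = i + 2 * (q : ℤ)) (h1' : n₁ = n + (q : ℤ))
    (h2 : i₂ = i₁ + 1 - 2 * ((q : ℤ) + 1)) (h2' : n₂ = n₁ - ((q : ℤ) + 1))
    (h3 : i₃ = i + 2 * ((0 : ℕ) : ℤ)) (h3' : n₃ = n + ((0 : ℕ) : ℤ))
    (h4 : i₂ = i₃ + 1 - 2 * (((0 : ℕ) : ℤ) + 1)) (h4' : n₂ = n₃ - (((0 : ℕ) : ℤ) + 1))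
    (a : T.ptGp Y (genericPoint Y.scheme) M i n) :
    (Q.tot M i₁ n₁ i₂ n₂ h2 h2').hom ((P.cpt w M i n i₁ n₁ h1 h1').hom ((L.cpt M i n).hom a)) =
      (PreTheory.PtPush.famTot t F M i₂ n₂).hom
        ((Q'.tot M i₃ n₃ i₂ n₂ h4 h4').hom
          ((P'.cpt ⟨genericPoint Y.scheme, hη⟩ M i n i₃ n₃ h3 h3').hom a)) := by
  obtain rfl : i = i₃ := by rw [h3]; simp
  obtain rfl : n = n₃ := by rw [h3']; simp
  have hyx : φ (genericPoint Y.scheme) = w.1 := L.maps_pt
  have hpd : WeilCoh.pdim Y.scheme (genericPoint Y.scheme) = WeilCoh.pdim X.scheme w.1 := by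
    have h := L.codim_eq
    unfold relCodim at h
    rw [dim_ptSub, dim_ptSub] at h
    omega
  have hd : WeilCoh.dim Y.scheme = WeilCoh.pdim X.scheme w.1 := by
    rw [← hpd]
    exact (pdim_genericPoint (Y := Y)).symm
  -- a representative of the class
  obtain ⟨W₁, c₁, rfl⟩ := exists_rep T (Y.ptSub (genericPoint Y.scheme))
    (fun U => (U : Set (Y.ptSub (genericPoint Y.scheme)).scheme).Nonempty) i n M a
  obtain ⟨W'₀, hW'₀⟩ := exists_pre_le φ (genericPoint Y.scheme) w.1 hyx hpd W₁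
  -- the open of `X`
  have hUg : ContainsFj X q (cutOpen X w.1 W'₀.1) := containsFj_cutOpen w.2 W'₀.2.1
  have hdg := dim_eq_of_containsFj X q (cutOpen X w.1 W'₀.1) hUg
  have hwU : w.1 ∈ cutOpen X w.1 W'₀.1 := self_mem_cutOpen W'₀.2.1
  have hcl : ∀ v : X.scheme, v ∉ closure ({w.1} : Set X.scheme) → v ∈ cutOpen X w.1 W'₀.1 :=
    fun v hv => mem_cutOpen_of_not_mem_closure hv
  obtain ⟨Ug, hUgdef⟩ : ∃ Ug : X.scheme.Opens, Ug = cutOpen X w.1 W'₀.1 := ⟨_, rfl⟩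
  rw [← hUgdef] at hUg hdg hwU hcl
  have hW'le : oW X w.1 Ug hwU ≤ W'₀ := by
    intro z hz
    have hz' : X.ptSubι w.1 z ∈ Ug := hz
    rw [hUgdef] at hz'
    exact mem_cutOpen.1 hz' z rfl
  obtain ⟨W', hW'def⟩ : ∃ W' : ptIdx X w.1, W' = oW X w.1 Ug hwU := ⟨_, rfl⟩
  rw [← hW'def] at hW'le
  have hWηle : pre φ (genericPoint Y.scheme) w.1 L.maps_pt W' ≤ W₁ :=
    (pre_mono φ (genericPoint Y.scheme) w.1 hyx hW'le).trans hW'₀
  have hηO : genericPoint Y.scheme ∈ φ ⁻¹ᵁ Ug := by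
    change φ (genericPoint Y.scheme) ∈ Ug
    rw [hyx]
    exact hwU
  have hWη : pre φ (genericPoint Y.scheme) w.1 L.maps_pt W' =
      oW Y (genericPoint Y.scheme) (φ ⁻¹ᵁ Ug) hηO := by
    apply Subtype.ext
    ext z
    rw [hW'def]
    change X.ptSubι w.1 (ψ φ (genericPoint Y.scheme) w.1 hyx z) ∈ Ug ↔
      φ (Y.ptSubι (genericPoint Y.scheme) z) ∈ Ug
    rw [ψ_apply]
  obtain ⟨cF, hcFc, hcFι⟩ := exists_closedImm Y (genericPoint Y.scheme) (φ ⁻¹ᵁ Ug) hηO
    (pre φ (genericPoint Y.scheme) w.1 L.maps_pt W') hWη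
  -- the class on the smaller open
  rw [← resMap_ι_apply T (Y.ptSub (genericPoint Y.scheme))
    (fun U => (U : Set (Y.ptSub (genericPoint Y.scheme)).scheme).Nonempty)
    i n M (U := W₁) (U' := pre φ (genericPoint Y.scheme) w.1 L.maps_pt W') hWηle c₁]
  obtain ⟨c, hc⟩ : ∃ c : T.gp ((Y.ptSub (genericPoint Y.scheme)).res
      (pre φ (genericPoint Y.scheme) w.1 L.maps_pt W').1) M i n,
      c = (resMap T (Y.ptSub (genericPoint Y.scheme))
        (fun U => (U : Set (Y.ptSub (genericPoint Y.scheme)).scheme).Nonempty) i n M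
        (U := W₁) (U' := pre φ (genericPoint Y.scheme) w.1 L.maps_pt W') hWηle).hom c₁ :=
    ⟨_, rfl⟩
  rw [← hc]
  -- dimensions
  have hdUg : WeilCoh.dim (X.res Ug).scheme = WeilCoh.dim X.scheme := hdg
  have hdO : WeilCoh.dim (Y.res (φ ⁻¹ᵁ Ug)).scheme = WeilCoh.dim Y.scheme :=
    Loc.dim_opens_of_mem _ hηO
  have hdW' : WeilCoh.dim ((X.ptSub w.1).res W'.1).scheme = WeilCoh.pdim X.scheme w.1 :=
    W'.2.2.trans (dim_ptSub X w.1)
  have hdWη : WeilCoh.dim ((Y.ptSub (genericPoint Y.scheme)).res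
      (pre φ (genericPoint Y.scheme) w.1 L.maps_pt W').1).scheme = WeilCoh.dim Y.scheme :=
    ((pre φ (genericPoint Y.scheme) w.1 L.maps_pt W').2.2.trans
      (dim_ptSub Y (genericPoint Y.scheme))).trans (pdim_genericPoint (Y := Y))
  have hq : (q : ℤ) = (WeilCoh.dim X.scheme : ℤ) - (WeilCoh.pdim X.scheme w.1 : ℤ) := by
    rw [← codim_cast X w.1, w.2]
  have hr1 : relCodim ((X.ptSub w.1).res W'.1).scheme (X.res Ug).scheme = (q : ℤ) := by
    unfold relCodim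
    rw [hdUg, hdW', hq]
  have hr2 : relCodim ((Y.ptSub (genericPoint Y.scheme)).res
      (pre φ (genericPoint Y.scheme) w.1 L.maps_pt W').1).scheme
      ((X.ptSub w.1).res W'.1).scheme = 0 :=
    relCodim_rf φ (genericPoint Y.scheme) w.1 L.maps_pt L.codim_eq W'
  have hr3 : relCodim ((Y.ptSub (genericPoint Y.scheme)).res
      (pre φ (genericPoint Y.scheme) w.1 L.maps_pt W').1).scheme
      (Y.res (φ ⁻¹ᵁ Ug)).scheme = 0 := by
    unfold relCodim
    rw [hdO, hdWη]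
    ring
  have hr4 : relCodim (Y.res (φ ⁻¹ᵁ Ug)).scheme (X.res Ug).scheme = (q : ℤ) := by
    unfold relCodim
    rw [hdUg, hdO, hq, hd]
  have hr5 : relCodim ((Y.ptSub (genericPoint Y.scheme)).res
      (pre φ (genericPoint Y.scheme) w.1 L.maps_pt W').1).scheme (X.res Ug).scheme = (q : ℤ) := by
    unfold relCodim
    rw [hdUg, hdWη, hq, hd]
  -- the left-hand side
  have hcF : IsProper cF := inferInstance
  have e1 := cpt_ptι_pre T M φ (genericPoint Y.scheme) w.1 L i n W' c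
  obtain ⟨oF', hoFc, hoFι⟩ := exists_closedImm X w.1 Ug hwU W' hW'def
  have e2 := P.cpt_spec w M i n i₁ n₁ h1 h1' ⟨Ug, hUg, hdg⟩ W' oF' hoFι
    (idx2 hr1 h1) (idx1 hr1 h1')
  have e3 := P'.cpt_spec ⟨genericPoint Y.scheme, hη⟩ M i n i n h3 h3'
    ⟨φ ⁻¹ᵁ Ug, containsFj_zero _ hηO, Loc.dim_opens_of_mem _ hηO⟩
    (pre φ (genericPoint Y.scheme) w.1 L.maps_pt W') cF hcFι
    (BMLocCoh.hi_of hr3 i) (BMLocCoh.hn_of hr3 n)
  have hcomm : rf φ (genericPoint Y.scheme) w.1 L.maps_pt W' ≫ oF' = cF ≫ (φ ∣_ Ug) := by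
    rw [← cancel_mono Ug.ι, Category.assoc, Category.assoc, hoFι, morphismRestrict_ι,
      reassoc_of% hcFι]
    exact rf_fac φ (genericPoint Y.scheme) w.1 L.maps_pt W'
  have c1 := T.push_comp (rf φ (genericPoint Y.scheme) w.1 L.maps_pt W') oF' M i n i n i₁ n₁
    (BMLocCoh.hi_of hr2 i) (BMLocCoh.hn_of hr2 n) (idx2 hr1 h1) (idx1 hr1 h1')
    (idx2 hr5 h1) (idx1 hr5 h1')
  have c2 := T.push_comp cF (φ ∣_ Ug) M i n i n i₁ n₁
    (BMLocCoh.hi_of hr3 i) (BMLocCoh.hn_of hr3 n) (idx2 hr4 h1) (idx1 hr4 h1')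
    (idx2 hr5 h1) (idx1 hr5 h1')
  have c3 := push_congr T M hcomm i n i₁ n₁ (idx2 hr5 h1) (idx1 hr5 h1')
  have hstar := tot_push_eq_famTot T M φ w hyx hd i n i₁ n₁ i₂ n₂ h1 h1' h2 h2' h4 h4' hred Q Q'
    t F Ug hUg hdg hcl hηO (idx2 hr4 h1) (idx1 hr4 h1')
    ((T.push cF M i n i n (BMLocCoh.hi_of hr3 i) (BMLocCoh.hn_of hr3 n)).hom c)
  rw [e1]
  have e2' := congrArg (fun t => t.hom ((T.push (rf φ (genericPoint Y.scheme) w.1 L.maps_pt W')
    M i n i n (BMLocCoh.hi_of hr2 i) (BMLocCoh.hn_of hr2 n)).hom c)) e2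
  have e3' := congrArg (fun t => t.hom c) e3
  refine (congrArg (fun z => (Q.tot M i₁ n₁ i₂ n₂ h2 h2').hom z) (e2'.trans ?_)).trans
    (hstar.trans (congrArg (fun z => (PreTheory.PtPush.famTot t F M i₂ n₂).hom
      ((Q'.tot M i n i₂ n₂ h4 h4').hom z)) e3'.symm))
  refine congrArg (fun z => (ιO T X i₁ n₁ M (ContainsFj X q) Ug hUg hdg).hom z) ?_
  exact ((congrArg (fun t => t.hom c) c1).trans (congrArg (fun t => t.hom c) c3)).trans
    (congrArg (fun t => t.hom c) c2).symm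

end final

end Groth.Agent.Lib.Helper6.BMFirstDiff
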