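import Mathlib
import Groth.Prelude.Def_Curv2

/-!
# The normalisation of an integral scheme is an isomorphism over a nonempty open, when it is
locally of finite type (helper6)
-/

universe u

open AlgebraicGeometry CategoryTheory CategoryTheory.Limits Opposite TopologicalSpace Topology Set

namespace Groth.Agent.Lib.Helper6.BMNormIso

section general

variable (Z : Scheme.{u}) [IsIntegral Z]
  [QuasiCompact (Z.fromSpecStalk (genericPoint Z))]
  [QuasiSeparated (Z.fromSpecStalk (genericPoint Z))]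

/-- a section of the normalisation over an open containing the generic point is inverse to the
restriction of the normalisation -/
lemma isIso_restrict_of_section (U : Z.Opens) (hξU : genericPoint Z ∈ U)
    (s : U.toScheme ⟶ (Z.fromSpecStalk (genericPoint Z)).normalization)
    (hs1 : (Z.fromSpecStalk (genericPoint Z)).toNormalization =
      U.fromSpecStalkOfMem (genericPoint Z) hξU ≫ s)
    (hs2 : s ≫ (Z.fromSpecStalk (genericPoint Z)).fromNormalization = U.ι) :
    IsIso ((Z.fromSpecStalk (genericPoint Z)).fromNormalization ∣_ U) := by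
  set ν := (Z.fromSpecStalk (genericPoint Z)).fromNormalization with hν
  set τ := (Z.fromSpecStalk (genericPoint Z)).toNormalization with hτ
  have hτν : τ ≫ ν = Z.fromSpecStalk (genericPoint Z) :=
    (Z.fromSpecStalk (genericPoint Z)).toNormalization_fromNormalization
  -- the section lands in the inverse image
  have hrs : Set.range s ⊆ Set.range (ν ⁻¹ᵁ U).ι := by
    rintro _ ⟨z, rfl⟩
    rw [Scheme.Opens.range_ι]
    change ν (s z) ∈ U
    have : ν (s z) = U.ι z := congrArg (fun g => g z) hs2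
    rw [this]
    exact z.2
  let s' : U.toScheme ⟶ (ν ⁻¹ᵁ U).toScheme := IsOpenImmersion.lift (ν ⁻¹ᵁ U).ι s hrs
  have hs' : s' ≫ (ν ⁻¹ᵁ U).ι = s := IsOpenImmersion.lift_fac _ _ _
  have h1 : s' ≫ (ν ∣_ U) = 𝟙 _ := by
    rw [← cancel_mono U.ι, Category.assoc, morphismRestrict_ι, ← Category.assoc, hs', hs2,
      Category.id_comp]
  -- the generic point of the inverse image
  have hrτ : Set.range τ ⊆ Set.range (ν ⁻¹ᵁ U).ι := by
    rintro _ ⟨p, rfl⟩
    rw [Scheme.Opens.range_ι]
    change ν (τ p) ∈ U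
    have h2 : ν (τ p) = Z.fromSpecStalk (genericPoint Z) p := congrArg (fun g => g p) hτν
    rw [h2]
    have h3 : Z.fromSpecStalk (genericPoint Z) p ∈ Set.range (Z.fromSpecStalk (genericPoint Z)) :=
      ⟨p, rfl⟩
    rw [Scheme.range_fromSpecStalk] at h3
    exact h3.mem_open U.2 hξU
  let τ' : Spec (Z.presheaf.stalk (genericPoint Z)) ⟶ (ν ⁻¹ᵁ U).toScheme :=
    IsOpenImmersion.lift (ν ⁻¹ᵁ U).ι τ hrτ
  have hτ' : τ' ≫ (ν ⁻¹ᵁ U).ι = τ := IsOpenImmersion.lift_fac _ _ _
  have hdom : IsDominant τ' := by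
    have : IsDominant (τ' ≫ (ν ⁻¹ᵁ U).ι) := by
      rw [hτ']
      infer_instance
    exact IsDominant.of_comp_of_isOpenImmersion τ' (ν ⁻¹ᵁ U).ι
  have h4 : τ' ≫ (ν ∣_ U) = U.fromSpecStalkOfMem (genericPoint Z) hξU := by
    rw [← cancel_mono U.ι, Category.assoc, morphismRestrict_ι, ← Category.assoc, hτ', hτν,
      Scheme.Opens.fromSpecStalkOfMem_ι]
  have h5 : (ν ∣_ U) ≫ s = (ν ⁻¹ᵁ U).ι := by
    have : IsReduced (ν ⁻¹ᵁ U).toScheme := isReduced_of_isOpenImmersion (ν ⁻¹ᵁ U).ι
    refine ext_of_isDominant_of_isSeparated ν ?_ τ' ?_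
    · rw [Category.assoc, hs2, morphismRestrict_ι]
    · rw [← Category.assoc, h4, ← hs1, hτ']
  have h6 : (ν ∣_ U) ≫ s' = 𝟙 _ := by
    rw [← cancel_mono (ν ⁻¹ᵁ U).ι, Category.assoc, hs', h5, Category.id_comp]
  exact ⟨s', h6, h1⟩

/-- the normalisation of an integral scheme, when locally of finite type, is an isomorphism over
every open contained in a suitable open containing the generic point -/
lemma exists_isIso_restrict
    [LocallyOfFiniteType (Z.fromSpecStalk (genericPoint Z)).fromNormalization] :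
    ∃ U : Z.Opens, genericPoint Z ∈ U ∧ ∀ W' : Z.Opens, W' ≤ U → genericPoint Z ∈ W' →
      IsIso ((Z.fromSpecStalk (genericPoint Z)).fromNormalization ∣_ W') := by
  obtain ⟨U, hξU, s, hs1, hs2⟩ := spread_out_of_isGermInjective' (𝟙 Z)
    (Z.fromSpecStalk (genericPoint Z)).fromNormalization (x := genericPoint Z)
    (Z.fromSpecStalk (genericPoint Z)).toNormalization
    (by rw [Scheme.Hom.toNormalization_fromNormalization, Category.comp_id])
  refine ⟨U, hξU, fun W' hle hξW' => ?_⟩
  refine isIso_restrict_of_section Z W' hξW' (Z.homOfLE hle ≫ s) ?_ ?_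
  · rw [hs1, ← Category.assoc]
    congr 1
    rw [← cancel_mono U.ι, Category.assoc, Scheme.homOfLE_ι, Scheme.Opens.fromSpecStalkOfMem_ι,
      Scheme.Opens.fromSpecStalkOfMem_ι]
  · rw [Category.assoc, hs2, Category.comp_id, Scheme.homOfLE_ι]

end general

end Groth.Agent.Lib.Helper6.BMNormIso
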