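import Mathlib
import Groth.Prelude.Def_BMCoh4
import Groth.Agent.Lib.Helper6.BMPtPushBij
import Groth.Agent.Lib.Helper6.BMNormIso

/-!
# The groups of a point and of the generic point of the normalisation of its closure (helper6)
-/

universe u

set_option linter.unusedSectionVars false

open AlgebraicGeometry CategoryTheory CategoryTheory.Limits Opposite TopologicalSpace Topology Set

namespace Groth.Agent.Lib.Helper6.BMNormBij

open BMCoh BMDim BMGeom BMColim BMZ BMClosedDim BMStep BMPtPush BMExact BMOPiece BMPtPushBij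
  BMNormIso

variable {V : ObjectProperty Scheme.{u}} [IsConstructible V]

/-- the reduced closure of the generic point of an integral object is the object -/
instance isIso_ptSubι_genericPoint (Y : Obj V) [IsIntegral Y.scheme] :
    IsIso (Y.ptSubι (genericPoint Y.scheme)) := by
  have : Surjective (Y.ptSubι (genericPoint Y.scheme)) := by
    refine ⟨fun z => ?_⟩
    have hz : z ∈ closure ({genericPoint Y.scheme} : Set Y.scheme) := by
      rw [(genericPoint_spec Y.scheme).def]
      exact Set.mem_univ z
    exact exists_ptSubι_eq Y _ hz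
  exact isIso_of_isClosedImmersion_of_surjective _

variable {R : Type u} [CommRing R] {A : Coefs R} (T : PreTheory V R A)

theorem bijective_cpt_normalization (X : Obj V) (w : X.scheme)
    [IsIntegral (X.ptSub w).scheme]
    [QuasiCompact ((X.ptSub w).scheme.fromSpecStalk (genericPoint (X.ptSub w).scheme))]
    [QuasiSeparated ((X.ptSub w).scheme.fromSpecStalk (genericPoint (X.ptSub w).scheme))]
    (Y : Obj V) [IsIntegral Y.scheme] (e : Y.scheme ≅ Curv2.normalization (X.ptSub w).scheme)
    (φ : Y.scheme ⟶ X.scheme) [IsProper φ]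
    (hφ : φ = e.hom ≫ Curv2.normalizationι (X.ptSub w).scheme ≫ X.ptSubι w)
    (L : T.PtPush φ (genericPoint Y.scheme) w) (M : A.Cat) (i n : ℤ) :
    Function.Bijective (L.cpt M i n).hom := by
  have h1 : IsProper ((e.hom ≫ Curv2.normalizationι (X.ptSub w).scheme) ≫ X.ptSubι w) := by
    rw [Category.assoc, ← hφ]
    infer_instance
  have h2 : IsProper (e.hom ≫ Curv2.normalizationι (X.ptSub w).scheme) :=
    IsProper.of_comp _ (X.ptSubι w)
  have h3 : IsProper (Curv2.normalizationι (X.ptSub w).scheme) := by
    have : Curv2.normalizationι (X.ptSub w).scheme =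
        e.inv ≫ (e.hom ≫ Curv2.normalizationι (X.ptSub w).scheme) := by simp
    rw [this]
    infer_instance
  have h4 : LocallyOfFiniteType ((X.ptSub w).scheme.fromSpecStalk
      (genericPoint (X.ptSub w).scheme)).fromNormalization :=
    (inferInstance : LocallyOfFiniteType (Curv2.normalizationι (X.ptSub w).scheme))
  obtain ⟨U, hξU, hU⟩ := exists_isIso_restrict (X.ptSub w).scheme
  refine bijective_cpt T M φ (genericPoint Y.scheme) w L i n U ⟨_, hξU⟩ ?_
  intro W' hW'
  have hξW' : genericPoint (X.ptSub w).scheme ∈ W'.1 := by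
    refine ((genericPoint_spec (X.ptSub w).scheme).mem_open_set_iff W'.1.2).2 ?_
    rw [Set.univ_inter]
    exact W'.2.1
  have hiso : IsIso (Curv2.normalizationι (X.ptSub w).scheme ∣_ W'.1) := hU W'.1 hW' hξW'
  have hψ : ψ φ (genericPoint Y.scheme) w L.maps_pt =
      Y.ptSubι (genericPoint Y.scheme) ≫ e.hom ≫ Curv2.normalizationι (X.ptSub w).scheme := by
    rw [← cancel_mono (X.ptSubι w), ψ_fac, hφ]
    simp only [Category.assoc]
  change IsIso ((ψ φ (genericPoint Y.scheme) w L.maps_pt) ∣_ W'.1)
  rw [hψ, morphismRestrict_comp, morphismRestrict_comp]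
  have i1 : IsIso (Y.ptSubι (genericPoint Y.scheme) ∣_
      (e.hom ≫ Curv2.normalizationι (X.ptSub w).scheme) ⁻¹ᵁ W'.1) := inferInstance
  have i2 : IsIso (e.hom ∣_ Curv2.normalizationι (X.ptSub w).scheme ⁻¹ᵁ W'.1) := inferInstance
  have i3 : IsIso (e.hom ∣_ Curv2.normalizationι (X.ptSub w).scheme ⁻¹ᵁ W'.1 ≫
      Curv2.normalizationι (X.ptSub w).scheme ∣_ W'.1) := inferInstance
  exact IsIso.comp_isIso' i1 i3

end Groth.Agent.Lib.Helper6.BMNormBij
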