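import Mathlib
import Groth.Prelude.Def_BMCoh3
import Groth.Agent.Lib.Helper6.BMExact

/-!
# The push-forward data of the coniveau sequences are determined by their condition (helper6)
-/

universe u

set_option linter.unusedSectionVars false

open AlgebraicGeometry CategoryTheory CategoryTheory.Limits Opposite TopologicalSpace Topology Set

namespace Groth.Agent.Lib.Helper6.BMPushUniq

open BMCoh BMGeom BMComp BMDecomp BMStep BMColim BMExact

variable {V : ObjectProperty Scheme.{u}} [IsConstructible V] {R : Type u} [CommRing R]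
  {A : Coefs R} (T : PreTheory V R A) {X : Obj V}

/-- a nonempty open of the closure of a point is a closed subscheme of the complement of the rest
of the closure -/
lemma exists_closedImm (x : X.scheme) (W : ptIdx X x) :
    ∃ f : ((X.ptSub x).res W.1).scheme ⟶ (X.res (cutOpen X x W.1)).scheme,
      IsClosedImmersion f ∧ f ≫ (cutOpen X x W.1).ι = W.1.ι ≫ X.ptSubι x := by
  have hsub : Set.range (W.1.ι ≫ X.ptSubι x) ⊆ Set.range (cutOpen X x W.1).ι := by
    rintro _ ⟨w, rfl⟩
    rw [Scheme.Opens.range_ι]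
    exact ptSubι_mem_cutOpen (w : ↥W.1).2
  refine ⟨IsOpenImmersion.lift (cutOpen X x W.1).ι (W.1.ι ≫ X.ptSubι x) hsub, ?_,
    IsOpenImmersion.lift_fac _ _ _⟩
  have hfac : IsOpenImmersion.lift (cutOpen X x W.1).ι (W.1.ι ≫ X.ptSubι x) hsub ≫
      (cutOpen X x W.1).ι = W.1.ι ≫ X.ptSubι x := IsOpenImmersion.lift_fac _ _ _
  have happ : ∀ w : ((X.ptSub x).res W.1).scheme,
      (cutOpen X x W.1).ι (IsOpenImmersion.lift (cutOpen X x W.1).ι (W.1.ι ≫ X.ptSubι x) hsub w) =
        X.ptSubι x (W.1.ι w) := fun w => congrArg (fun g => g w) hfac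
  have h1 : IsPreimmersion (IsOpenImmersion.lift (cutOpen X x W.1).ι (W.1.ι ≫ X.ptSubι x) hsub ≫
      (cutOpen X x W.1).ι) := by
    rw [hfac]
    infer_instance
  have h2 : IsPreimmersion (IsOpenImmersion.lift (cutOpen X x W.1).ι (W.1.ι ≫ X.ptSubι x) hsub) :=
    IsPreimmersion.of_comp _ (cutOpen X x W.1).ι
  refine IsClosedImmersion.of_isPreimmersion _ ?_
  have hr : Set.range (IsOpenImmersion.lift (cutOpen X x W.1).ι (W.1.ι ≫ X.ptSubι x) hsub) =
      (cutOpen X x W.1).ι ⁻¹' closure ({x} : Set X.scheme) := by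
    ext u
    constructor
    · rintro ⟨w, rfl⟩
      change (cutOpen X x W.1).ι _ ∈ closure ({x} : Set X.scheme)
      rw [happ]
      exact ptSubι_mem_closure X x _
    · intro hu
      have hu1 : (cutOpen X x W.1).ι u ∈ cutOpen X x W.1 := by
        have : (cutOpen X x W.1).ι u ∈ Set.range (cutOpen X x W.1).ι := ⟨u, rfl⟩
        rwa [Scheme.Opens.range_ι] at this
      obtain ⟨w, hw⟩ := exists_ptSubι_eq X x hu
      have hwW : w ∈ W.1 := mem_cutOpen.1 hu1 w hw
      refine ⟨(⟨w, hwW⟩ : ↥W.1), ?_⟩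
      apply (cutOpen X x W.1).ι.isOpenEmbedding.injective
      rw [happ]
      exact hw
  rw [hr]
  exact isClosed_closure.preimage (cutOpen X x W.1).ι.continuous

/-- the components of push-forward data are determined -/
lemma cpt_eq {j : ℕ} (P P' : T.PushData X j) : P.cpt = P'.cpt := by
  funext xc M i n i' n' hi hn
  refine ModuleCat.hom_ext (LinearMap.ext fun a => ?_)
  obtain ⟨W, c, rfl⟩ := exists_rep T (X.ptSub xc.1) _ i n M a
  obtain ⟨f, hf, hfac⟩ := exists_closedImm xc.1 W
  have hU : ContainsFj X j (cutOpen X xc.1 W.1) := containsFj_cutOpen xc.2 W.2.1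
  have hrel : relCodim ((X.ptSub xc.1).res W.1).scheme (X.res (cutOpen X xc.1 W.1)).scheme =
      (j : ℤ) := by
    unfold relCodim
    have h1 : WeilCoh.dim ((X.ptSub xc.1).res W.1).scheme = WeilCoh.pdim X.scheme xc.1 :=
      W.2.2.trans (dim_ptSub X xc.1)
    have h2 : WeilCoh.dim (X.res (cutOpen X xc.1 W.1)).scheme = WeilCoh.dim X.scheme :=
      dim_eq_of_containsFj X j _ hU
    rw [h1, h2, ← codim_cast, xc.2]
  have h := P.cpt_spec xc M i n i' n' hi hn ⟨cutOpen X xc.1 W.1, hU, dim_eq_of_containsFj X j _ hU⟩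
    W f hfac (by rw [hrel]; exact hi) (by rw [hrel]; exact hn)
  have h' := P'.cpt_spec xc M i n i' n' hi hn ⟨cutOpen X xc.1 W.1, hU, dim_eq_of_containsFj X j _ hU⟩
    W f hfac (by rw [hrel]; exact hi) (by rw [hrel]; exact hn)
  exact (congrArg (fun t => t.hom c) h).trans (congrArg (fun t => t.hom c) h').symm

end Groth.Agent.Lib.Helper6.BMPushUniq
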