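import Mathlib
import Groth.Prelude.Def_BMCoh3
import Groth.Agent.Lib.Helper6.BMMultiCoh

/-!
# Exactness of the coniveau sequence at the sum of the groups of the points (helper6)
-/

universe u

set_option linter.unusedSectionVars false

open AlgebraicGeometry CategoryTheory CategoryTheory.Limits Opposite TopologicalSpace Topology Set

namespace Groth.Agent.Lib.Helper6.BMResPush

open BMCoh BMDim BMGeom BMComp BMDecomp BMStep BMColim BMExact BMPushExact BMResExact BMToFj
  BMBigOpen BMAdd BMZ BMMulti BMMultiCoh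

variable {V : ObjectProperty Scheme.{u}} [IsConstructible V] {R : Type u} [CommRing R]
  {A : Coefs R} (T : PreTheory V R A) (M : A.Cat)

section sums

variable {X : Obj V} {j : ℕ} (K : Config X j) (i' n' : ℤ)

/-- an element of the sum over the points of codimension `j + 1` supported on a configuration -/
lemma eq_sum_lof [DecidableEq (X.cdPt (j + 1))] (s : T.ptSum X (j + 1) M i' n')
    (t : ∀ x : K.κ, T.ptGp X x.1 M i' n')
    (h1 : ∀ x : K.κ, s ⟨x.1, K.codim_eq x⟩ = t x)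
    (h2 : ∀ xc : X.cdPt (j + 1), xc.1 ∉ K.F → s xc = 0) :
    s = ∑ x : K.κ, DirectSum.lof R (X.cdPt (j + 1)) (fun y => T.ptGp X y.1 M i' n')
      ⟨x.1, K.codim_eq x⟩ (t x) := by
  refine DFinsupp.ext fun xc => ?_
  rw [DFinsupp.finsetSum_apply]
  by_cases hxc : xc.1 ∈ K.F
  · rw [Finset.sum_eq_single (⟨xc.1, hxc⟩ : K.κ)]
    · rw [DirectSum.lof_eq_of]
      have : (⟨xc.1, K.codim_eq ⟨xc.1, hxc⟩⟩ : X.cdPt (j + 1)) = xc := rfl
      erw [DirectSum.of_eq_same]
      exact h1 ⟨xc.1, hxc⟩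
    · intro x _ hne
      rw [DirectSum.lof_eq_of]
      apply DirectSum.of_eq_of_ne
      intro h
      apply hne
      apply Subtype.ext
      exact (congrArg Subtype.val h).symm
    · intro h
      exact absurd (Finset.mem_univ _) h
  · rw [h2 xc hxc]
    symm
    apply Finset.sum_eq_zero
    intro x _
    rw [DirectSum.lof_eq_of]
    apply DirectSum.of_eq_of_ne
    intro h
    apply hxc
    have : x.1 = xc.1 := (congrArg Subtype.val h).symm
    rw [← this]
    exact x.2

end sums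

section geometry

variable {X : Obj V} {j : ℕ}

/-- a configuration whose open complement lies in a given open containing the points of
codimension at most `j` but not all those of codimension `j + 1` -/
lemma exists_config_le (U₀ : X.scheme.Opens) (hU₀ : ContainsFj X j U₀)
    (hS : (S X j U₀).Nonempty) : ∃ K : Config X j, K.U₀ ≤ U₀ := by
  classical
  have hfin := finite_S hU₀
  choose Z' hZ'c hZ'sub hxZ' hZ'u using fun x : ↥(S X j U₀) =>
    exists_compl_closed (Z := (U₀ : Set X.scheme)ᶜ) U₀.2.isClosed_compl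
      (isMaxPt_of_mem_S hU₀ x.2)
  have hmemY : ∀ z : X.scheme,
      z ∈ (⨆ x : ↥(S X j U₀), (⟨(Z' x)ᶜ, (hZ'c x).isOpen_compl⟩ : X.scheme.Opens)) ↔
        ∃ x : ↥(S X j U₀), z ∉ Z' x := by
    intro z
    rw [Opens.mem_iSup]
    rfl
  -- the closure of a point of `S` lies in the `Z'` of any other point of `S`
  have hcl : ∀ (x x'' : ↥(S X j U₀)), x.1 ≠ x''.1 →
      closure ({x.1} : Set X.scheme) ⊆ Z' x'' := by
    intro x x'' hne
    apply closure_minimal _ (hZ'c x'')
    rw [Set.singleton_subset_iff]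
    have hx : x.1 ∈ (U₀ : Set X.scheme)ᶜ := x.2.1
    rw [hZ'u x''] at hx
    rcases hx with hx | hx
    · exact absurd ((isMaxPt_of_mem_S hU₀ x.2).2 x''.1 x''.2.1 hx).symm hne
    · exact hx
  refine ⟨{ Y := ⨆ x : ↥(S X j U₀), (⟨(Z' x)ᶜ, (hZ'c x).isOpen_compl⟩ : X.scheme.Opens)
            hY := ?_
            F := hfin.toFinset
            hF := ?_
            hne := ?_
            disj := ?_ }, ?_⟩
  · intro y hy
    rw [hmemY]
    by_cases hyU : y ∈ U₀
    · obtain ⟨x₀, hx₀⟩ := hS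
      exact ⟨⟨x₀, hx₀⟩, fun hyZ => hZ'sub ⟨x₀, hx₀⟩ hyZ hyU⟩
    · have hyS : y ∈ S X j U₀ := by
        refine ⟨hyU, ?_⟩
        by_contra hne
        exact hyU (hU₀ y (by omega))
      exact ⟨⟨y, hyS⟩, hxZ' ⟨y, hyS⟩⟩
  · intro x hx
    exact ((Set.Finite.mem_toFinset hfin).1 hx).2
  · obtain ⟨x₀, hx₀⟩ := hS
    exact ⟨x₀, (Set.Finite.mem_toFinset hfin).2 hx₀⟩
  · intro x hx x' hx' hne z hzY hzx hzx'
    have hxS := (Set.Finite.mem_toFinset hfin).1 hx
    have hx'S := (Set.Finite.mem_toFinset hfin).1 hx'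
    obtain ⟨x'', hzZ⟩ := (hmemY z).1 hzY
    by_cases h : x = x''.1
    · have hne' : x' ≠ x''.1 := fun h' => hne (h.trans h'.symm)
      exact hzZ (hcl ⟨x', hx'S⟩ x'' hne' hzx')
    · exact hzZ (hcl ⟨x, hxS⟩ x'' h hzx)
  · intro z hz
    obtain ⟨hzY, hzc⟩ := hz
    obtain ⟨x, hzZ⟩ := (hmemY z).1 hzY
    by_contra hzU
    have hz' : z ∈ (U₀ : Set X.scheme)ᶜ := hzU
    rw [hZ'u x] at hz'
    rcases hz' with hz' | hz'
    · apply hzc
      unfold Config.clos
      simp only [Set.mem_iUnion, exists_prop]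
      exact ⟨x.1, (Set.Finite.mem_toFinset hfin).2 x.2, hz'⟩
    · exact hzZ hz'

end geometry

section exact

variable {X : Obj V} {j : ℕ} (Q : T.ResData X j) (P : T.PushData X (j + 1)) (i n i' n' : ℤ)
  (hi : i' = i + 1 - 2 * ((j : ℤ) + 1)) (hn : n' = n - ((j : ℤ) + 1))
  (hi2 : i + 1 = i' + 2 * ((j + 1 : ℕ) : ℤ)) (hn2 : n = n' + ((j + 1 : ℕ) : ℤ))

include hi hn hi2 hn2 in
/-- the composite of the total residue and the total push-forward vanishes -/
lemma tot_tot_eq_zero (a : T.fjGp X j M i n) :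
    (P.tot M i' n' (i + 1) n hi2 hn2).hom ((Q.tot M i n i' n' hi hn).hom a) = 0 := by
  classical
  obtain ⟨U₀, b, rfl⟩ := exists_rep T X (ContainsFj X j) i n M a
  by_cases hS : (S X j U₀.1).Nonempty
  · obtain ⟨K, hK⟩ := exists_config_le U₀.1 U₀.2.1 hS
    have hpull := ιO_pull T X i n M (ContainsFj X j) U₀.2.1 K.containsFj_U₀ U₀.2.2 K.dimU₀ hK b
    have hs := eq_sum_lof T M K i' n'
      ((Q.tot M i n i' n' hi hn).hom ((ιO T X i n M (ContainsFj X j) K.U₀ K.containsFj_U₀
        K.dimU₀).hom ((T.pull (X.resLE hK (K.dimU₀.trans U₀.2.2.symm)) M i n).hom b)))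
      (fun x => ((T.ptι X x.1 i' n' (K.piece x).W).app M).hom
        ((T.pull (K.ℓ x) M i' n').hom
          ((T.res K.D M i n i' n' (by rw [K.codim_D]; exact hi)
            (by rw [K.codim_D]; exact hn)).hom
              ((T.pull (X.resLE hK (K.dimU₀.trans U₀.2.2.symm)) M i n).hom b))))
      (fun x => cpt_multi T M K Q i n i' n' hi hn x _)
      (fun xc hxc => cpt_multi_of_not_mem T M K Q i n i' n' hi hn xc hxc _)
    rw [hpull] at hs
    refine (congrArg _ hs).trans ?_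
    rw [tot_sum_lof T M K i n i' n' hi2 hn2 P, sum_push_res_eq_zero T M K i n i' n' hi hn hi2 hn2,
      map_zero]
  · have h0 : (Q.tot M i n i' n' hi hn).hom
        (((T.ocolimι X (ContainsFj X j) i n U₀).app M).hom b) = 0 := by
      refine DFinsupp.ext fun xc => ?_
      have hxU : xc.1 ∈ U₀.1 := by
        by_contra hxU
        exact hS ⟨xc.1, hxU, xc.2⟩
      exact cpt_eq_zero_of_mem T Q M i n i' n' hi hn xc U₀.1 U₀.2.1 U₀.2.2 hxU b
    rw [h0, map_zero]

end exact

section restrict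

variable {X : Obj V} {j : ℕ}

/-- restricting a configuration to a smaller open -/
abbrev restrict (K : Config X j) (Y' : X.scheme.Opens) (hY' : ContainsFj X (j + 1) Y')
    (hle : Y' ≤ K.Y) : Config X j where
  Y := Y'
  hY := hY'
  F := K.F
  hF := K.hF
  hne := K.hne
  disj := fun x hx x' hx' hne z hz => K.disj x hx x' hx' hne z (hle hz)

variable (Q : T.ResData X j) (i n i' n' : ℤ)
  (hi : i' = i + 1 - 2 * ((j : ℤ) + 1)) (hn : n' = n - ((j : ℤ) + 1))
  (hi2 : i + 1 = i' + 2 * ((j + 1 : ℕ) : ℤ)) (hn2 : n = n' + ((j + 1 : ℕ) : ℤ))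

include hi2 hn2 in
/-- classes on the pieces of a configuration whose push-forwards sum to zero in the groups of
`F_{j+1}X` are the residues of a class of the groups of `F_jX` -/
lemma exists_of_sum_push_eq_zero (K : Config X j) (c : ∀ x : K.κ, T.gp (Wobj K x) M i' n')
    (hc : (ιO T X (i + 1) n M (ContainsFj X (j + 1)) K.Y K.hY K.dimY).hom
      (∑ x : K.κ, (T.push (K.h x) M i' n' (i + 1) n (by rw [relCodim_W]; exact hi2)
        (by rw [relCodim_W]; exact hn2)).hom (c x)) = 0) :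
    ∃ a : T.fjGp X j M i n,
      (∀ x : K.κ, (Q.cpt ⟨x.1, K.codim_eq x⟩ M i n i' n' hi hn).hom a =
        ((T.ptι X x.1 i' n' (K.piece x).W).app M).hom (c x)) ∧
      (∀ xc : X.cdPt (j + 1), xc.1 ∉ K.F → (Q.cpt xc M i n i' n' hi hn).hom a = 0) := by
  obtain ⟨Y₂, hle, h0⟩ := (ι_eq_zero_iff T X (ContainsFj X (j + 1)) (i + 1) n M
    (U := ⟨K.Y, K.hY, K.dimY⟩) _).1 hc
  have hle' : Y₂.1 ≤ K.Y := hle
  have hW : ∀ x : K.κ, ((restrict K Y₂.1 Y₂.2.1 hle').piece x).W.1 ≤ (K.piece x).W.1 :=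
    fun x w hw => hle' hw
  have hbc : ∀ x : K.κ, (T.pull (X.resLE hle' (Y₂.2.2.trans K.dimY.symm)) M (i + 1) n).hom
      ((T.push (K.h x) M i' n' (i + 1) n (by rw [relCodim_W]; exact hi2)
        (by rw [relCodim_W]; exact hn2)).hom (c x)) =
      (T.push ((restrict K Y₂.1 Y₂.2.1 hle').h x) M i' n' (i + 1) n
        (by rw [relCodim_W]; exact hi2) (by rw [relCodim_W]; exact hn2)).hom
        ((T.pull ((X.ptSub x.1).resLE (hW x)
          (((restrict K Y₂.1 Y₂.2.1 hle').piece x).W.2.2.trans (K.piece x).W.2.2.symm)) M i' n').hom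
          (c x)) :=
    fun x => piece_push_pull T ((restrict K Y₂.1 Y₂.2.1 hle').piece x) (K.piece x) (hW x) hle'
      (fun w _ hw => hw) M i' n' (i + 1) n _ _ _ _ (c x)
  have hsum : ∑ x : K.κ, (T.push ((restrict K Y₂.1 Y₂.2.1 hle').h x) M i' n' (i + 1) n
        (by rw [relCodim_W]; exact hi2) (by rw [relCodim_W]; exact hn2)).hom
        ((T.pull ((X.ptSub x.1).resLE (hW x)
          (((restrict K Y₂.1 Y₂.2.1 hle').piece x).W.2.2.trans (K.piece x).W.2.2.symm)) M i' n').hom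
          (c x)) = 0 := by
    have e1 := map_sum (T.pull (X.resLE hle' (Y₂.2.2.trans K.dimY.symm)) M (i + 1) n).hom
      (fun x : K.κ => (T.push (K.h x) M i' n' (i + 1) n (by rw [relCodim_W]; exact hi2)
        (by rw [relCodim_W]; exact hn2)).hom (c x)) Finset.univ
    exact ((Finset.sum_congr rfl (fun x _ => (hbc x).symm)).trans e1.symm).trans h0
  obtain ⟨b, hb⟩ := exists_res_eq T M (restrict K Y₂.1 Y₂.2.1 hle') i n i' n' hi hn hi2 hn2 _ hsum
  refine ⟨(ιO T X i n M (ContainsFj X j) (restrict K Y₂.1 Y₂.2.1 hle').U₀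
    (restrict K Y₂.1 Y₂.2.1 hle').containsFj_U₀ (restrict K Y₂.1 Y₂.2.1 hle').dimU₀).hom b, ?_, ?_⟩
  · intro x
    refine (cpt_multi T M (restrict K Y₂.1 Y₂.2.1 hle') Q i n i' n' hi hn x b).trans ?_
    rw [hb x]
    exact resMap_ι_apply T (X.ptSub x.1) (fun U => (U : Set (X.ptSub x.1).scheme).Nonempty) i' n' M
      (U := (K.piece x).W) (U' := ((restrict K Y₂.1 Y₂.2.1 hle').piece x).W) (hW x) (c x)
  · intro xc hxc
    exact cpt_multi_of_not_mem T M (restrict K Y₂.1 Y₂.2.1 hle') Q i n i' n' hi hn xc hxc b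

end restrict

lemma mem_finset_inf_opens {Y : Type*} [TopologicalSpace Y] {α : Type*} (F : Finset α)
    (f : α → Opens Y) (z : Y) : z ∈ F.inf f ↔ ∀ a ∈ F, z ∈ f a := by
  classical
  induction F using Finset.induction_on with
  | empty => simp
  | insert a F _ ih =>
    rw [Finset.inf_insert]
    constructor
    · rintro ⟨h1, h2⟩ b hb
      rcases Finset.mem_insert.1 hb with rfl | hb
      · exact h1
      · exact ih.1 h2 b hb
    · intro h
      exact ⟨h a (Finset.mem_insert_self a F), ih.2 fun b hb => h b (Finset.mem_insert_of_mem hb)⟩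

/-- the complement of the intersection of the closures of two points -/
def pairOpen {X : Obj V} (x x' : X.scheme) : X.scheme.Opens :=
  ⟨(closure ({x} : Set X.scheme) ∩ closure ({x'} : Set X.scheme))ᶜ,
    (isClosed_closure.inter isClosed_closure).isOpen_compl⟩


section exact2

variable {X : Obj V} {j : ℕ} (Q : T.ResData X j) (P : T.PushData X (j + 1)) (i n i' n' : ℤ)
  (hi : i' = i + 1 - 2 * ((j : ℤ) + 1)) (hn : n' = n - ((j : ℤ) + 1))
  (hi2 : i + 1 = i' + 2 * ((j + 1 : ℕ) : ℤ)) (hn2 : n = n' + ((j + 1 : ℕ) : ℤ))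

include hi hn hi2 hn2 in
/-- an element of the sum of the groups of the points killed by the total push-forward is a
total residue -/
lemma exists_tot_eq (s : T.ptSum X (j + 1) M i' n')
    (hs : (P.tot M i' n' (i + 1) n hi2 hn2).hom s = 0) :
    ∃ a : T.fjGp X j M i n, (Q.tot M i n i' n' hi hn).hom a = s := by
  classical
  by_cases hs0 : s = 0
  · exact ⟨0, by rw [map_zero, hs0]⟩
  choose W c hWc using fun xc : X.cdPt (j + 1) =>
    exists_rep T (X.ptSub xc.1) (fun U => (U : Set (X.ptSub xc.1).scheme).Nonempty) i' n' M (s xc)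
  obtain ⟨F', hF'⟩ : ∃ F' : Finset (X.cdPt (j + 1)), ∀ xc, xc ∉ F' → s xc = 0 :=
    ⟨DFinsupp.support (show Π₀ xc : X.cdPt (j + 1), T.ptGp X xc.1 M i' n' from s),
      fun xc h => DFinsupp.notMem_support_iff.1 h⟩
  have hF'ne : F'.Nonempty := by
    by_contra hemp
    rw [Finset.not_nonempty_iff_eq_empty] at hemp
    apply hs0
    refine DFinsupp.ext fun xc => ?_
    exact hF' xc (by rw [hemp]; exact Finset.notMem_empty xc)
  -- the open
  obtain ⟨Y₁, hmemY⟩ : ∃ Y₁ : X.scheme.Opens, ∀ z : X.scheme, z ∈ Y₁ ↔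
      (∀ xc ∈ F', z ∈ cutOpen X xc.1 (W xc).1) ∧ (∀ xc ∈ F', ∀ xc' ∈ F', xc ≠ xc' →
        ¬ (z ∈ closure ({xc.1} : Set X.scheme) ∧ z ∈ closure ({xc'.1} : Set X.scheme))) := by
    refine ⟨F'.inf (fun xc => cutOpen X xc.1 (W xc).1) ⊓
      F'.inf (fun xc => F'.inf (fun xc' => if xc = xc' then ⊤ else pairOpen xc.1 xc'.1)), ?_⟩
    intro z
    refine and_congr (mem_finset_inf_opens _ _ z) ?_
    refine (mem_finset_inf_opens _ _ z).trans ?_
    refine forall_congr' fun xc => forall_congr' fun _ => ?_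
    refine (mem_finset_inf_opens _ _ z).trans ?_
    refine forall_congr' fun xc' => forall_congr' fun _ => ?_
    by_cases hne : xc = xc'
    · simp [hne]
    · rw [if_neg hne]
      constructor
      · intro h _
        exact h
      · intro h
        exact h hne
  have hmemF : ∀ x : X.scheme, x ∈ F'.image Subtype.val ↔ ∃ h : WeilCoh.codim X.scheme x = j + 1,
      (⟨x, h⟩ : X.cdPt (j + 1)) ∈ F' := by
    intro x
    rw [Finset.mem_image]
    constructor
    · rintro ⟨xc, hxc, rfl⟩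
      exact ⟨xc.2, hxc⟩
    · rintro ⟨h, hx⟩
      exact ⟨⟨x, h⟩, hx, rfl⟩
  -- the configuration
  obtain ⟨K, hKY, hKF⟩ : ∃ K : Config X j, K.Y = Y₁ ∧
      K.F = F'.image Subtype.val := by
    refine ⟨{ Y := Y₁
              hY := ?_
              F := F'.image Subtype.val
              hF := ?_
              hne := ?_
              disj := ?_ }, rfl, rfl⟩
    · intro y hy
      rw [hmemY]
      refine ⟨fun xc _ => containsFj_cutOpen xc.2 (W xc).2.1 y hy, ?_⟩
      rintro xc _ xc' _ hne ⟨h1, h2⟩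
      apply hne
      have e1 : y = xc.1 := by
        by_contra h
        have := codim_lt (finDim X) h1 h
        have := xc.2
        omega
      have e2 : y = xc'.1 := by
        by_contra h
        have := codim_lt (finDim X) h2 h
        have := xc'.2
        omega
      exact Subtype.ext (e1.symm.trans e2)
    · intro x hx
      obtain ⟨h, _⟩ := (hmemF x).1 hx
      exact h
    · obtain ⟨xc, hxc⟩ := hF'ne
      exact ⟨xc.1, Finset.mem_image_of_mem _ hxc⟩
    · intro x hx x' hx' hne z hz h1 h2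
      obtain ⟨h, hxF⟩ := (hmemF x).1 hx
      obtain ⟨h', hxF'⟩ := (hmemF x').1 hx'
      exact ((hmemY z).1 hz).2 ⟨x, h⟩ hxF ⟨x', h'⟩ hxF'
        (fun e => hne (congrArg Subtype.val e)) ⟨h1, h2⟩
  have hxcF : ∀ x : K.κ, (⟨x.1, K.codim_eq x⟩ : X.cdPt (j + 1)) ∈ F' := by
    intro x
    have hx : x.1 ∈ F'.image Subtype.val := hKF ▸ x.2
    obtain ⟨_, hxF⟩ := (hmemF x.1).1 hx
    exact hxF
  have hW : ∀ x : K.κ, (K.piece x).W.1 ≤ (W ⟨x.1, K.codim_eq x⟩).1 := by
    intro x w hw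
    have hw' : X.ptSubι x.1 w ∈ K.Y := hw
    rw [hKY, hmemY] at hw'
    exact mem_cutOpen.1 (hw'.1 _ (hxcF x)) w rfl
  have h1 : ∀ x : K.κ, s ⟨x.1, K.codim_eq x⟩ =
      ((T.ptι X x.1 i' n' (K.piece x).W).app M).hom
        ((T.pull ((X.ptSub x.1).resLE (hW x)
          ((K.piece x).W.2.2.trans (W ⟨x.1, K.codim_eq x⟩).2.2.symm)) M i' n').hom
          (c ⟨x.1, K.codim_eq x⟩)) := by
    intro x
    rw [← hWc ⟨x.1, K.codim_eq x⟩]
    exact (resMap_ι_apply T (X.ptSub x.1) (fun U => (U : Set (X.ptSub x.1).scheme).Nonempty)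
      i' n' M (U := W ⟨x.1, K.codim_eq x⟩) (U' := (K.piece x).W) (hW x) _).symm
  have h2 : ∀ xc : X.cdPt (j + 1), xc.1 ∉ K.F → s xc = 0 := by
    intro xc hxc
    apply hF'
    intro hxcF'
    apply hxc
    rw [hKF]
    exact Finset.mem_image_of_mem _ hxcF'
  have hsum := eq_sum_lof T M K i' n' s _ h1 h2
  rw [hsum, tot_sum_lof T M K i n i' n' hi2 hn2 P] at hs
  obtain ⟨a, ha1, ha2⟩ := exists_of_sum_push_eq_zero T M Q i n i' n' hi hn hi2 hn2 K _ hs
  refine ⟨a, ?_⟩
  refine DFinsupp.ext fun xc => ?_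
  by_cases hxc : xc.1 ∈ K.F
  · exact (ha1 ⟨xc.1, hxc⟩).trans (h1 ⟨xc.1, hxc⟩).symm
  · exact (ha2 xc hxc).trans (h2 xc hxc).symm

include hi hn hi2 hn2 in
/-- exactness of the coniveau sequence at the sum of the groups of the points of codimension
`j + 1` -/
theorem exact_tot_tot :
    Function.Exact (Q.tot M i n i' n' hi hn).hom (P.tot M i' n' (i + 1) n hi2 hn2).hom := by
  intro s
  constructor
  · intro hs
    obtain ⟨a, ha⟩ := exists_tot_eq T M Q P i n i' n' hi hn hi2 hn2 s hs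
    exact ⟨a, ha⟩
  · rintro ⟨a, rfl⟩
    exact tot_tot_eq_zero T M Q P i n i' n' hi hn hi2 hn2 a

end exact2

end Groth.Agent.Lib.Helper6.BMResPush
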