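import Mathlib
import Groth.Prelude.Def_BMCoh3
import Groth.Agent.Lib.Helper6.BMOPiece

/-!
# The points of codimension zero: opens that are disjoint unions of irreducible pieces (helper6)
-/

universe u

set_option linter.unusedSectionVars false

open AlgebraicGeometry CategoryTheory CategoryTheory.Limits Opposite TopologicalSpace Topology Set

namespace Groth.Agent.Lib.Helper6.BMZero

open BMCoh BMDim BMGeom BMComp BMDecomp BMStep BMColim BMExact BMPushExact BMResExact BMToFj
  BMBigOpen BMAdd BMZ BMMulti BMMultiCoh BMOPiece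

variable {V : ObjectProperty Scheme.{u}} [IsConstructible V]

section geometry

variable (X : Obj V)

lemma isMaxPt_of_codim_zero {x : X.scheme} (hx : WeilCoh.codim X.scheme x = 0) :
    IsMaxPt (Set.univ : Set X.scheme) x := by
  refine ⟨trivial, fun y _ hxy => ?_⟩
  by_contra hne
  have := codim_lt (finDim X) hxy (Ne.symm hne)
  omega

lemma finite_codim_zero : {x : X.scheme | WeilCoh.codim X.scheme x = 0}.Finite :=
  (finite_setOf_isMaxPt isClosed_univ).subset fun _ hx => isMaxPt_of_codim_zero X hx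

/-- every point lies in the closure of a maximal point -/
lemma exists_isMaxPt_generalization (z : X.scheme) :
    ∃ η : X.scheme, IsMaxPt (Set.univ : Set X.scheme) η ∧ z ∈ closure ({η} : Set X.scheme) := by
  induction h : WeilCoh.codim X.scheme z using Nat.strong_induction_on generalizing z with
  | _ m ih =>
    by_cases hz : IsMaxPt (Set.univ : Set X.scheme) z
    · exact ⟨z, hz, subset_closure rfl⟩
    · have hz' : ¬ ∀ y ∈ (Set.univ : Set X.scheme), z ∈ closure ({y} : Set X.scheme) → y = z :=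
        fun h => hz ⟨trivial, h⟩
      obtain ⟨y, hy⟩ := not_forall.1 hz'
      obtain ⟨_, hy⟩ := Classical.not_imp.1 hy
      obtain ⟨hzy, hne⟩ := Classical.not_imp.1 hy
      have hlt := codim_lt (finDim X) hzy (Ne.symm hne)
      obtain ⟨η, hη, hyη⟩ := ih _ (h ▸ hlt) y rfl
      exact ⟨η, hη, closure_minimal (Set.singleton_subset_iff.2 hyη) isClosed_closure hzy⟩

/-- an open that is the disjoint union of its traces on the closures of the points of codimension
zero -/
structure Nice (Y : X.scheme.Opens) : Prop where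
  hY : ContainsFj X 0 Y
  hcov : ∀ z ∈ Y, ∃ x : X.scheme, WeilCoh.codim X.scheme x = 0 ∧ z ∈ closure ({x} : Set X.scheme)
  disj : ∀ x x' : X.scheme, WeilCoh.codim X.scheme x = 0 → WeilCoh.codim X.scheme x' = 0 →
    x ≠ x' → ∀ z ∈ Y, z ∈ closure ({x} : Set X.scheme) → z ∉ closure ({x'} : Set X.scheme)

variable {X}

lemma Nice.of_le {Y Y' : X.scheme.Opens} (hN : Nice X Y) (hY' : ContainsFj X 0 Y') (hle : Y' ≤ Y) :
    Nice X Y' :=
  ⟨hY', fun z hz => hN.hcov z (hle hz), fun x x' hx hx' hne z hz => hN.disj x x' hx hx' hne z (hle hz)⟩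

variable (X)

lemma exists_nice : ∃ Y : X.scheme.Opens, Nice X Y := by
  classical
  have hM : {η : X.scheme | IsMaxPt (Set.univ : Set X.scheme) η}.Finite :=
    finite_setOf_isMaxPt isClosed_univ
  have hF := finite_codim_zero X
  -- the bad closed set
  have hB1 : IsClosed (⋃ η ∈ {η : X.scheme | IsMaxPt (Set.univ : Set X.scheme) η ∧
      WeilCoh.codim X.scheme η ≠ 0}, closure ({η} : Set X.scheme)) :=
    (hM.subset fun η hη => hη.1).isClosed_biUnion fun _ _ => isClosed_closure
  have hB2 : IsClosed (⋃ p ∈ {p : X.scheme × X.scheme | WeilCoh.codim X.scheme p.1 = 0 ∧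
      WeilCoh.codim X.scheme p.2 = 0 ∧ p.1 ≠ p.2},
      closure ({p.1} : Set X.scheme) ∩ closure ({p.2} : Set X.scheme)) := by
    refine ((hF.prod hF).subset ?_).isClosed_biUnion fun _ _ =>
      isClosed_closure.inter isClosed_closure
    rintro p ⟨h1, h2, _⟩
    exact ⟨h1, h2⟩
  refine ⟨⟨_, (hB1.union hB2).isOpen_compl⟩, ?_, ?_, ?_⟩
  · intro y hy
    have hy0 : WeilCoh.codim X.scheme y = 0 := by omega
    rintro (hyB | hyB)
    · simp only [Set.mem_iUnion, exists_prop] at hyB
      obtain ⟨η, ⟨_, hη0⟩, hyη⟩ := hyB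
      by_cases hne : y = η
      · exact hη0 (hne ▸ hy0)
      · have := codim_lt (finDim X) hyη hne
        omega
    · simp only [Set.mem_iUnion, exists_prop] at hyB
      obtain ⟨p, ⟨h1, h2, hne⟩, hy1, hy2⟩ := hyB
      have e1 : y = p.1 := by
        by_contra h
        have := codim_lt (finDim X) hy1 h
        omega
      have e2 : y = p.2 := by
        by_contra h
        have := codim_lt (finDim X) hy2 h
        omega
      exact hne (e1.symm.trans e2)
  · intro z hz
    obtain ⟨η, hη, hzη⟩ := exists_isMaxPt_generalization X z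
    refine ⟨η, ?_, hzη⟩
    by_contra hη0
    apply hz
    left
    simp only [Set.mem_iUnion, exists_prop]
    exact ⟨η, ⟨hη, hη0⟩, hzη⟩
  · intro x x' hx hx' hne z hz h1 h2
    apply hz
    right
    simp only [Set.mem_iUnion, exists_prop]
    exact ⟨(x, x'), ⟨hx, hx', hne⟩, h1, h2⟩

end geometry

section pieces

variable {X : Obj V}

lemma pdim_of_codim_zero {x : X.scheme} (hx : WeilCoh.codim X.scheme x = 0) :
    WeilCoh.pdim X.scheme x = WeilCoh.dim X.scheme := by
  have := pdim_le_dim (finDim X) x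
  unfold WeilCoh.codim at hx
  omega

/-- an open containing a point of codimension zero has the dimension of the whole object -/
lemma dim_eq_of_mem_codim_zero (U : X.scheme.Opens) {ξ : X.scheme}
    (hξ : WeilCoh.codim X.scheme ξ = 0) (hξU : ξ ∈ U) :
    WeilCoh.dim (U : Scheme.{u}) = WeilCoh.dim X.scheme := by
  have h1 : WeilCoh.dim ((oW X ξ U hξU).1 : Scheme.{u}) = WeilCoh.dim (X.ptSub ξ).scheme :=
    (oW X ξ U hξU).2.2
  have h2 : WeilCoh.dim ((oW X ξ U hξU).1 : Scheme.{u}) ≤ WeilCoh.dim (U : Scheme.{u}) :=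
    natDim_le_of_isInducing (oF X ξ U hξU).isClosedEmbedding.isInducing (finDim (X.res U))
  have h3 : WeilCoh.dim (X.ptSub ξ).scheme = WeilCoh.dim X.scheme :=
    (dim_ptSub X ξ).trans (pdim_of_codim_zero hξ)
  exact le_antisymm (dim_opens_le (finDim X) U) (by omega)

noncomputable instance fintypeCdPt0 (X : Obj V) : Fintype (X.cdPt 0) :=
  (finite_codim_zero X).fintype

variable {Y : X.scheme.Opens} (hN : Nice X Y)

/-- the trace on a nice open of the closure of a point of codimension zero, as an open -/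
def Yx (x : X.cdPt 0) : X.scheme.Opens :=
  Y ⊓ ⟨(⋃ x' ∈ {x' : X.scheme | WeilCoh.codim X.scheme x' = 0 ∧ x' ≠ x.1},
      closure ({x'} : Set X.scheme))ᶜ,
    (((finite_codim_zero X).subset fun _ h => h.1).isClosed_biUnion
      fun _ _ => isClosed_closure).isOpen_compl⟩

include hN in
lemma mem_Yx (x : X.cdPt 0) (z : X.scheme) :
    z ∈ Yx (Y := Y) x ↔ z ∈ Y ∧ z ∈ closure ({x.1} : Set X.scheme) := by
  change (z ∈ Y ∧ z ∉ _) ↔ _
  simp only [Set.mem_iUnion, exists_prop, not_exists, not_and]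
  constructor
  · rintro ⟨hzY, hz⟩
    refine ⟨hzY, ?_⟩
    obtain ⟨x'', hx'', hzx''⟩ := hN.hcov z hzY
    by_cases h : x'' = x.1
    · rw [← h]
      exact hzx''
    · exact absurd hzx'' (hz x'' ⟨hx'', h⟩)
  · rintro ⟨hzY, hz⟩
    refine ⟨hzY, fun x' hx' => ?_⟩
    exact hN.disj x.1 x' x.2 hx'.1 (Ne.symm hx'.2) z hzY hz

lemma Yx_le (x : X.cdPt 0) : Yx (Y := Y) x ≤ Y := inf_le_left

include hN in
lemma self_mem_Yx (x : X.cdPt 0) : x.1 ∈ Yx (Y := Y) x :=
  (mem_Yx hN x x.1).2 ⟨hN.hY x.1 (le_of_eq x.2), subset_closure rfl⟩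

include hN in
lemma dimYx (x : X.cdPt 0) : WeilCoh.dim (Yx (Y := Y) x : Scheme.{u}) = WeilCoh.dim X.scheme :=
  dim_eq_of_mem_codim_zero _ x.2 (self_mem_Yx hN x)

include hN in
lemma dimY : WeilCoh.dim (Y : Scheme.{u}) = WeilCoh.dim X.scheme :=
  dim_eq_of_containsFj_zero X Y hN.hY

/-- the pieces of a nice open -/
noncomputable def g (x : X.cdPt 0) : X.res (Yx (Y := Y) x) ⟶ X.res Y :=
  X.resLE (Yx_le x) ((dimYx hN x).trans (dimY hN).symm)

include hN in
lemma mem_range_g (x : X.cdPt 0) (y : (X.res Y).scheme) :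
    y ∈ Set.range (g hN x).hom ↔ y.1 ∈ closure ({x.1} : Set X.scheme) := by
  have e1 := mem_opensRange_homOfLE (Y := X.scheme) (Yx_le (Y := Y) x) y
  change y ∈ Set.range (X.scheme.homOfLE (Yx_le (Y := Y) x)) ↔ _ at e1
  change y ∈ Set.range (X.scheme.homOfLE (Yx_le (Y := Y) x)) ↔ _
  rw [e1, mem_Yx hN]
  exact ⟨fun h => h.2, fun h => ⟨y.2, h⟩⟩

include hN in
lemma disjoint_range_g (x x' : X.cdPt 0) (hne : x ≠ x') :
    Disjoint (Set.range (g hN x).hom) (Set.range (g hN x').hom) := by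
  rw [Set.disjoint_left]
  intro y hy hy'
  rw [mem_range_g] at hy hy'
  exact hN.disj x.1 x'.1 x.2 x'.2 (fun h => hne (Subtype.ext h)) y.1 y.2 hy hy'

include hN in
lemma cover_range_g (y : (X.res Y).scheme) : ∃ x : X.cdPt 0, y ∈ Set.range (g hN x).hom := by
  obtain ⟨x, hx, hyx⟩ := hN.hcov y.1 y.2
  exact ⟨⟨x, hx⟩, (mem_range_g hN ⟨x, hx⟩ y).2 hyx⟩

end pieces

end Groth.Agent.Lib.Helper6.BMZero
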