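import Mathlib
import Groth.Prelude.Def_BMCoh3
import Groth.Agent.Lib.Helper6.BMZero
import Groth.Agent.Lib.Helper6.BMResPush

/-!
# The groups of `F_0X` of a reduced object (helper6)
-/

universe u

set_option linter.unusedSectionVars false

open AlgebraicGeometry CategoryTheory CategoryTheory.Limits Opposite TopologicalSpace Topology Set

namespace Groth.Agent.Lib.Helper6.BMZeroCoh

open BMCoh BMDim BMGeom BMComp BMDecomp BMStep BMColim BMExact BMPushExact BMResExact BMToFj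
  BMBigOpen BMAdd BMZ BMMulti BMMultiCoh BMOPiece BMZero BMResPush

variable {V : ObjectProperty Scheme.{u}} [IsConstructible V] {R : Type u} [CommRing R]
  {A : Coefs R} (T : PreTheory V R A) (M : A.Cat)

/-- the groups of an empty object vanish -/
lemma gp_eq_zero_of_isEmpty (Z : Obj V) [IsEmpty Z.scheme] (i n : ℤ) (b : T.gp Z M i n) : b = 0 := by
  obtain ⟨i₀, rfl⟩ : ∃ i₀, i = i₀ + 1 := ⟨i - 1, by ring⟩
  let D : Decomp Z :=
    { Z := Z, U := Z, i := 𝟙 Z.scheme, closedImm := inferInstance, j := 𝟙 Z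
      range_eq := by
        ext z
        exact (IsEmpty.false z).elim }
  have hr : relCodim Z.scheme Z.scheme = 0 := by
    unfold relCodim
    ring
  have h := T.exact_push_pull D M i₀ n (i₀ + 1) n (by rw [hr]; ring) (by rw [hr]; ring)
  have hb : (T.push D.i M (i₀ + 1) n (i₀ + 1) n (by rw [hr]; ring) (by rw [hr]; ring)).hom b = b := by
    have := T.push_id Z M (i₀ + 1) n (by rw [hr]; ring) (by rw [hr]; ring)
    change (T.push (𝟙 Z.scheme) M (i₀ + 1) n (i₀ + 1) n _ _).hom b = _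
    rw [this]
    rfl
  have h2 := (h b).2 ⟨b, hb⟩
  change (T.pull (𝟙 Z) M (i₀ + 1) n).hom b = 0 at h2
  rw [pull_id_apply] at h2
  exact h2

section nice

variable {X : Obj V} {Y : X.scheme.Opens} (hN : Nice X Y) (x : X.cdPt 0)

/-- the trace of the closure of a point of codimension zero on its piece of a nice open -/
noncomputable def Wx : ptIdx X x.1 := oW X x.1 (Yx (Y := Y) x) (self_mem_Yx hN x)

/-- the closed immersion of the trace into the piece -/
noncomputable def fx :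
    ((X.ptSub x.1).res (Wx hN x).1).scheme ⟶ (X.res (Yx (Y := Y) x)).scheme :=
  oF X x.1 (Yx (Y := Y) x) (self_mem_Yx hN x)

instance : IsClosedImmersion (fx hN x) :=
  inferInstanceAs (IsClosedImmersion (oF X x.1 (Yx (Y := Y) x) (self_mem_Yx hN x)))

lemma surjective_fx : Function.Surjective (fx hN x) := by
  intro u
  have : u ∈ Set.range (oF X x.1 (Yx (Y := Y) x) (self_mem_Yx hN x)) := by
    rw [range_oF]
    exact ((mem_Yx hN x _).1 u.2).2
  exact this

instance [IsReduced X.scheme] : IsIso (fx hN x) := by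
  have : Surjective (fx hN x) := ⟨surjective_fx hN x⟩
  have : IsReduced (X.res (Yx (Y := Y) x)).scheme :=
    isReduced_of_isOpenImmersion (Yx (Y := Y) x).ι
  exact isIso_of_isClosedImmersion_of_surjective _

lemma isClosed_range_g : IsClosed (Set.range (g hN x).hom) := by
  have : Set.range (g hN x).hom = Y.ι ⁻¹' closure ({x.1} : Set X.scheme) := by
    ext y
    exact mem_range_g hN x y
  rw [this]
  exact isClosed_closure.preimage Y.ι.continuous

instance : IsClosedImmersion (g hN x).hom :=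
  isClosedImmersion_of_isClosed_range _ (isClosed_range_g hN x)

lemma dimWx : WeilCoh.dim ((X.ptSub x.1).res (Wx hN x).1).scheme = WeilCoh.dim X.scheme :=
  ((Wx hN x).2.2.trans (dim_ptSub X x.1)).trans (pdim_of_codim_zero x.2)

lemma relCodim_Wx_Yx :
    relCodim ((X.ptSub x.1).res (Wx hN x).1).scheme (X.res (Yx (Y := Y) x)).scheme = 0 := by
  have h1 := dimWx hN x
  have h2 : WeilCoh.dim (X.res (Yx (Y := Y) x)).scheme = WeilCoh.dim X.scheme := dimYx hN x
  unfold relCodim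
  rw [h1, h2]
  ring

lemma relCodim_Wx_Y :
    relCodim ((X.ptSub x.1).res (Wx hN x).1).scheme (X.res Y).scheme = 0 := by
  have h1 := dimWx hN x
  have h2 : WeilCoh.dim (X.res Y).scheme = WeilCoh.dim X.scheme := dimY hN
  unfold relCodim
  rw [h1, h2]
  ring

lemma fx_g_ι : (fx hN x ≫ (g hN x).hom) ≫ Y.ι = (Wx hN x).1.ι ≫ X.ptSubι x.1 := by
  have h1 : (g hN x).hom ≫ Y.ι = (Yx (Y := Y) x).ι := X.scheme.homOfLE_ι (Yx_le x)
  rw [Category.assoc, h1]
  exact oF_ι X x.1 (Yx (Y := Y) x) (self_mem_Yx hN x)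

end nice

section coh

variable {X : Obj V} [IsReduced X.scheme] {Y : X.scheme.Opens} (hN : Nice X Y)
  (P : T.PushData X 0) (i n : ℤ)

lemma hi_of {r : ℤ} (h : r = 0) (i : ℤ) : i = i + 2 * r := by rw [h]; ring

lemma hn_of {r : ℤ} (h : r = 0) (n : ℤ) : n = n + r := by rw [h]; ring

lemma hi0 (i : ℤ) : i = i + 2 * ((0 : ℕ) : ℤ) := by simp

lemma hn0 (n : ℤ) : n = n + ((0 : ℕ) : ℤ) := by simp

/-- the push-forward data on a class represented on the trace of a nice open -/
lemma cpt_nice (x : X.cdPt 0) (c : T.gp ((X.ptSub x.1).res (Wx hN x).1) M i n) :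
    (P.cpt x M i n i n (hi0 i) (hn0 n)).hom (((T.ptι X x.1 i n (Wx hN x)).app M).hom c) =
      (ιO T X i n M (ContainsFj X 0) Y hN.hY (dimY hN)).hom
        ((T.push (g hN x).hom M i n i n (hi_zero (g hN x) _) (hn_zero (g hN x) _)).hom
          ((T.push (fx hN x) M i n i n (by rw [relCodim_Wx_Yx]; ring)
            (by rw [relCodim_Wx_Yx]; ring)).hom c)) := by
  have h := P.cpt_spec x M i n i n (hi0 i) (hn0 n) ⟨Y, hN.hY, dimY hN⟩ (Wx hN x)
    (fx hN x ≫ (g hN x).hom) (fx_g_ι hN x) (by rw [relCodim_Wx_Y]; ring)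
    (by rw [relCodim_Wx_Y]; ring)
  have h2 := T.push_comp (fx hN x) (g hN x).hom M i n i n i n (by rw [relCodim_Wx_Yx]; ring)
    (by rw [relCodim_Wx_Yx]; ring) (hi_zero (g hN x) _) (hn_zero (g hN x) _)
    (by rw [relCodim_Wx_Y]; ring) (by rw [relCodim_Wx_Y]; ring)
  rw [← h2] at h
  exact congrArg (fun t => t.hom c) h

omit hN in
/-- the total push-forward at level zero is surjective -/
lemma surjective_tot [Nonempty (X.cdPt 0)] :
    Function.Surjective (P.tot M i n i n (hi0 i) (hn0 n)).hom := by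
  classical
  intro a
  obtain ⟨U, b, rfl⟩ := exists_rep T X (ContainsFj X 0) i n M a
  obtain ⟨Y₀, hN₀⟩ := exists_nice X
  have hY : ContainsFj X 0 (Y₀ ⊓ U.1) := fun y hy => ⟨hN₀.hY y hy, U.2.1 y hy⟩
  have hN : Nice X (Y₀ ⊓ U.1) := hN₀.of_le hY inf_le_left
  obtain ⟨b', hb'⟩ : ∃ b' : T.gp (X.res (Y₀ ⊓ U.1)) M i n,
      b' = (T.pull (X.resLE (inf_le_right : Y₀ ⊓ U.1 ≤ U.1) ((dimY hN).trans U.2.2.symm))
        M i n).hom b := ⟨_, rfl⟩
  have ha : ((T.ocolimι X (ContainsFj X 0) i n U).app M).hom b =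
      (ιO T X i n M (ContainsFj X 0) _ hN.hY (dimY hN)).hom b' := by
    rw [hb']
    exact (ιO_pull T X i n M (ContainsFj X 0) U.2.1 hN.hY U.2.2 (dimY hN) inf_le_right b).symm
  rw [ha]
  have hsum := eq_sum_push_pull' T M (g hN) (disjoint_range_g hN) (cover_range_g hN) i n b'
  choose c hc using fun x : X.cdPt 0 => (bijective_push_of_isIso T M (fx hN x) i n
    (by rw [relCodim_Wx_Yx]; ring) (by rw [relCodim_Wx_Yx]; ring)).2
      ((T.pull (g hN x) M i n).hom b')
  refine ⟨∑ x, DirectSum.lof R (X.cdPt 0) (fun y => T.ptGp X y.1 M i n) x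
    (((T.ptι X x.1 i n (Wx hN x)).app M).hom (c x)), ?_⟩
  rw [map_sum]
  conv_rhs => rw [hsum]
  rw [map_sum]
  refine Finset.sum_congr rfl fun x _ => ?_
  rw [PreTheory.PushData.tot_lof, cpt_nice T M hN, hc]

omit hN in
/-- the total push-forward at level zero is injective -/
lemma injective_tot [Nonempty (X.cdPt 0)] :
    Function.Injective (P.tot M i n i n (hi0 i) (hn0 n)).hom := by
  classical
  rw [injective_iff_map_eq_zero]
  intro s hs
  choose W c hWc using fun xc : X.cdPt 0 =>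
    exists_rep T (X.ptSub xc.1) (fun U => (U : Set (X.ptSub xc.1).scheme).Nonempty) i n M (s xc)
  obtain ⟨Y₀, hN₀⟩ := exists_nice X
  obtain ⟨Y₁, hY₁⟩ : ∃ Y₁ : X.scheme.Opens,
      Y₁ = Y₀ ⊓ Finset.univ.inf (fun xc : X.cdPt 0 => cutOpen X xc.1 (W xc).1) := ⟨_, rfl⟩
  have hY₁c : ContainsFj X 0 Y₁ := by
    intro y hy
    rw [hY₁]
    exact ⟨hN₀.hY y hy, (mem_finset_inf_opens _ _ y).2 fun xc _ =>
      containsFj_cutOpen xc.2 (W xc).2.1 y hy⟩
  have hN : Nice X Y₁ := hN₀.of_le hY₁c (by rw [hY₁]; exact inf_le_left)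
  have hW : ∀ x : X.cdPt 0, (Wx hN x).1 ≤ (W x).1 := by
    intro x w hw
    have hw' : X.ptSubι x.1 w ∈ Yx (Y := Y₁) x := hw
    have hw'' : X.ptSubι x.1 w ∈ Y₁ := Yx_le x hw'
    rw [hY₁] at hw''
    exact mem_cutOpen.1 ((mem_finset_inf_opens _ _ _).1 hw''.2 x (Finset.mem_univ x)) w rfl
  obtain ⟨c', hc'⟩ : ∃ c' : ∀ x : X.cdPt 0, T.gp ((X.ptSub x.1).res (Wx hN x).1) M i n,
      ∀ x, c' x = (T.pull ((X.ptSub x.1).resLE (hW x)
        ((Wx hN x).2.2.trans (W x).2.2.symm)) M i n).hom (c x) := ⟨_, fun _ => rfl⟩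
  have h1 : ∀ x, s x = ((T.ptι X x.1 i n (Wx hN x)).app M).hom (c' x) := by
    intro x
    rw [← hWc x, hc']
    exact (resMap_ι_apply T (X.ptSub x.1) (fun U => (U : Set (X.ptSub x.1).scheme).Nonempty)
      i n M (U := W x) (U' := Wx hN x) (hW x) _).symm
  have hsum : s = ∑ x, DirectSum.lof R (X.cdPt 0) (fun y => T.ptGp X y.1 M i n) x (s x) := by
    simp only [DirectSum.lof_eq_of]
    exact (DirectSum.sum_univ_of (β := fun y : X.cdPt 0 => T.ptGp X y.1 M i n) s).symm
  -- the class on the nice open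
  obtain ⟨z, hz⟩ : ∃ z : T.gp (X.res Y₁) M i n, z = ∑ x,
      (T.push (g hN x).hom M i n i n (hi_zero (g hN x) _) (hn_zero (g hN x) _)).hom
        ((T.push (fx hN x) M i n i n (by rw [relCodim_Wx_Yx]; ring)
          (by rw [relCodim_Wx_Yx]; ring)).hom (c' x)) := ⟨_, rfl⟩
  have hz0 : (ιO T X i n M (ContainsFj X 0) Y₁ hN.hY (dimY hN)).hom z = 0 := by
    rw [← hs, hz, map_sum]
    conv_rhs => rw [hsum]
    rw [map_sum]
    refine Finset.sum_congr rfl fun x _ => ?_
    rw [PreTheory.PushData.tot_lof, h1 x, cpt_nice T M hN]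
  obtain ⟨U'', hle, hU''⟩ := (ι_eq_zero_iff T X (ContainsFj X 0) i n M
    (U := ⟨Y₁, hN.hY, dimY hN⟩) z).1 hz0
  have hN₂ : Nice X U''.1 := hN.of_le U''.2.1 hle
  refine DFinsupp.ext fun m => ?_
  change s m = 0
  rw [h1 m]
  -- restrict to the piece of `m` in the smaller nice open
  have hYx : Yx (Y := U''.1) m ≤ Yx (Y := Y₁) m := inf_le_inf_right _ hle
  have hd : WeilCoh.dim (Yx (Y := U''.1) m : Scheme.{u}) = WeilCoh.dim (Yx (Y := Y₁) m : Scheme.{u}) :=
    (dimYx hN₂ m).trans (dimYx hN m).symm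
  have e1 : (T.pull (X.resLE hYx hd) M i n).hom ((T.pull (g hN m) M i n).hom z) = 0 := by
    have e2 : X.resLE hYx hd ≫ g hN m = g hN₂ m ≫ X.resLE hle (U''.2.2.trans (dimY hN).symm) := by
      unfold g
      rw [resLE_comp, resLE_comp]
    rw [pull_comp_apply, e2, ← pull_comp_apply]
    refine (congrArg _ hU'').trans ?_
    exact map_zero _
  rw [hz, pull_sum_push T M (g hN) (disjoint_range_g hN) (cover_range_g hN) i n _ m] at e1
  have e3 := oF_push_pull T M (self_mem_Yx hN m) (self_mem_Yx hN₂ m) hYx hd i n i n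
    (hi_of (relCodim_Wx_Yx hN m) i) (hn_of (relCodim_Wx_Yx hN m) n)
    (hi_of (relCodim_Wx_Yx hN₂ m) i) (hn_of (relCodim_Wx_Yx hN₂ m) n) (c' m)
  have e4 : (T.pull ((X.ptSub m.1).resLE (oW_mono (self_mem_Yx hN m) (self_mem_Yx hN₂ m) hYx)
      ((Wx hN₂ m).2.2.trans (Wx hN m).2.2.symm)) M i n).hom (c' m) = 0 := by
    apply (bijective_push_of_isIso T M (fx hN₂ m) i n
      (by rw [relCodim_Wx_Yx]; ring) (by rw [relCodim_Wx_Yx]; ring)).1
    refine Eq.trans ?_ (map_zero _).symm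
    exact e3.symm.trans e1
  have e5 := resMap_ι_apply T (X.ptSub m.1) (fun U => (U : Set (X.ptSub m.1).scheme).Nonempty)
    i n M (U := Wx hN m) (U' := Wx hN₂ m) (oW_mono (self_mem_Yx hN m) (self_mem_Yx hN₂ m) hYx)
    (c' m)
  rw [← e5]
  refine (congrArg _ e4).trans ?_
  exact map_zero _

omit hN in
/-- the total push-forward at level zero of a reduced object is bijective -/
theorem bijective_tot (i' n' : ℤ) (hi : i' = i + 2 * ((0 : ℕ) : ℤ)) (hn : n' = n + ((0 : ℕ) : ℤ)) :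
    Function.Bijective (P.tot M i n i' n' hi hn).hom := by
  obtain rfl : i' = i := by simpa using hi
  obtain rfl : n' = n := by simpa using hn
  by_cases hne : Nonempty (X.cdPt 0)
  · exact ⟨injective_tot T M P i' n', surjective_tot T M P i' n'⟩
  · have hX : IsEmpty X.scheme := by
      by_contra hX
      rw [not_isEmpty_iff] at hX
      obtain ⟨ξ, hξ⟩ := exists_codim_eq_zero (finDim X)
      exact hne ⟨⟨ξ, by unfold WeilCoh.codim; omega⟩⟩
    have h0 : ∀ a : T.fjGp X 0 M i' n', a = 0 := by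
      intro a
      obtain ⟨U, b, rfl⟩ := exists_rep T X (ContainsFj X 0) i' n' M a
      have : IsEmpty (X.res U.1).scheme := ⟨fun z => IsEmpty.false (U.1.ι z)⟩
      rw [gp_eq_zero_of_isEmpty T M (X.res U.1) i' n' b, map_zero]
    have : IsEmpty (X.cdPt 0) := not_nonempty_iff.1 hne
    refine ⟨fun s s' _ => ?_, fun a => ⟨0, by rw [map_zero, h0 a]⟩⟩
    refine DFinsupp.ext fun m => ?_
    exact (IsEmpty.false m).elim

end coh

end Groth.Agent.Lib.Helper6.BMZeroCoh
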