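import Mathlib
import Groth.Prelude.Def_BMCoh3
import Groth.Agent.Lib.Helper6.BMZeroCoh

/-!
# Vanishing of the groups of `F_jX` in high degrees (helper6)
-/

universe u

set_option linter.unusedSectionVars false

open AlgebraicGeometry CategoryTheory CategoryTheory.Limits Opposite TopologicalSpace Topology Set

namespace Groth.Agent.Lib.Helper6.BMVanish

open BMCoh BMDim BMGeom BMComp BMDecomp BMStep BMColim BMExact BMPushExact BMResExact BMToFj
  BMBigOpen BMAdd BMZ BMMulti BMMultiCoh BMOPiece BMZero BMResPush BMZeroCoh BMBij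

variable {V : ObjectProperty Scheme.{u}} [IsConstructible V] {R : Type u} [CommRing R]
  {A : Coefs R} (T : PreTheory V R A) (M : A.Cat)

/-- the groups of `F_jX` of an empty object vanish -/
lemma fjGp_eq_zero_of_isEmpty (X : Obj V) [IsEmpty X.scheme] (j : ℕ) (i n : ℤ)
    (a : T.fjGp X j M i n) : a = 0 := by
  obtain ⟨U, b, rfl⟩ := exists_rep T X (ContainsFj X j) i n M a
  have : IsEmpty (X.res U.1).scheme := ⟨fun z => IsEmpty.false (U.1.ι z)⟩
  rw [gp_eq_zero_of_isEmpty T M (X.res U.1) i n b, map_zero]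

variable {X : Obj V} [IsReduced X.scheme]

/-- the groups of `F_0X` vanish when those of the points of codimension zero do -/
lemma fjGp_zero_eq_zero (i n : ℤ) (hz : ∀ x : X.cdPt 0, IsZero (T.ptGp X x.1 M i n))
    (a : T.fjGp X 0 M i n) : a = 0 := by
  classical
  by_cases hne : Nonempty (X.cdPt 0)
  · obtain ⟨U, b, rfl⟩ := exists_rep T X (ContainsFj X 0) i n M a
    obtain ⟨Y₀, hN₀⟩ := exists_nice X
    have hY : ContainsFj X 0 (Y₀ ⊓ U.1) := fun y hy => ⟨hN₀.hY y hy, U.2.1 y hy⟩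
    have hN : Nice X (Y₀ ⊓ U.1) := hN₀.of_le hY inf_le_left
    obtain ⟨b', hb'⟩ : ∃ b' : T.gp (X.res (Y₀ ⊓ U.1)) M i n,
        b' = (T.pull (X.resLE (inf_le_right : Y₀ ⊓ U.1 ≤ U.1) ((dimY hN).trans U.2.2.symm))
          M i n).hom b := ⟨_, rfl⟩
    have ha : ((T.ocolimι X (ContainsFj X 0) i n U).app M).hom b =
        (ιO T X i n M (ContainsFj X 0) _ hN.hY (dimY hN)).hom b' := by
      rw [hb']
      exact (ιO_pull T X i n M (ContainsFj X 0) U.2.1 hN.hY U.2.2 (dimY hN) inf_le_right b).symm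
    rw [ha]
    choose c hc using fun x : X.cdPt 0 => (bijective_push_of_isIso T M (fx hN x) i n
      (hi_of (relCodim_Wx_Yx hN x) i) (hn_of (relCodim_Wx_Yx hN x) n)).2
        ((T.pull (g hN x) M i n).hom b')
    have hc0 : ∀ x : X.cdPt 0, ((T.ptι X x.1 i n (Wx hN x)).app M).hom (c x) = 0 := fun x =>
      (ModuleCat.subsingleton_of_isZero (hz x)).elim _ _
    choose W' hW'le hW'0 using fun x : X.cdPt 0 =>
      (ι_eq_zero_iff T (X.ptSub x.1) (fun U => (U : Set (X.ptSub x.1).scheme).Nonempty) i n M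
        (U := Wx hN x) (c x)).1 (hc0 x)
    obtain ⟨Y₁, hY₁⟩ : ∃ Y₁ : X.scheme.Opens,
        Y₁ = (Y₀ ⊓ U.1) ⊓ Finset.univ.inf (fun xc : X.cdPt 0 => cutOpen X xc.1 (W' xc).1) :=
      ⟨_, rfl⟩
    have hY₁c : ContainsFj X 0 Y₁ := by
      intro y hy
      rw [hY₁]
      exact ⟨hY y hy, (mem_finset_inf_opens _ _ y).2 fun xc _ =>
        containsFj_cutOpen xc.2 (W' xc).2.1 y hy⟩
    have hle : Y₁ ≤ Y₀ ⊓ U.1 := by rw [hY₁]; exact inf_le_left
    have hN₁ : Nice X Y₁ := hN.of_le hY₁c hle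
    rw [← ιO_pull T X i n M (ContainsFj X 0) hN.hY hN₁.hY (dimY hN) (dimY hN₁) hle b']
    have hb0 : (T.pull (X.resLE hle ((dimY hN₁).trans (dimY hN).symm)) M i n).hom b' = 0 := by
      apply eq_zero_of_forall_pull_g_eq_zero T M (g hN₁) (disjoint_range_g hN₁) (cover_range_g hN₁)
      intro m
      have hYx : Yx (Y := Y₁) m ≤ Yx (Y := Y₀ ⊓ U.1) m := inf_le_inf_right _ hle
      have hd : WeilCoh.dim (Yx (Y := Y₁) m : Scheme.{u}) =
          WeilCoh.dim (Yx (Y := Y₀ ⊓ U.1) m : Scheme.{u}) :=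
        (dimYx hN₁ m).trans (dimYx hN m).symm
      have e2 : g hN₁ m ≫ X.resLE hle ((dimY hN₁).trans (dimY hN).symm) =
          X.resLE hYx hd ≫ g hN m := by
        unfold g
        rw [resLE_comp, resLE_comp]
      rw [pull_comp_apply, e2, ← pull_comp_apply, ← hc m]
      have e3 := oF_push_pull T M (self_mem_Yx hN m) (self_mem_Yx hN₁ m) hYx hd i n i n
        (hi_of (relCodim_Wx_Yx hN m) i) (hn_of (relCodim_Wx_Yx hN m) n)
        (hi_of (relCodim_Wx_Yx hN₁ m) i) (hn_of (relCodim_Wx_Yx hN₁ m) n) (c m)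
      refine e3.trans ?_
      have hW1 : (Wx hN₁ m).1 ≤ (W' m).1 := by
        intro w hw
        have hw' : X.ptSubι m.1 w ∈ Yx (Y := Y₁) m := hw
        have hw'' : X.ptSubι m.1 w ∈ Y₁ := Yx_le m hw'
        rw [hY₁] at hw''
        exact mem_cutOpen.1 ((mem_finset_inf_opens _ _ _).1 hw''.2 m (Finset.mem_univ m)) w rfl
      have e4 : (T.pull ((X.ptSub m.1).resLE
          (oW_mono (self_mem_Yx hN m) (self_mem_Yx hN₁ m) hYx)
          ((Wx hN₁ m).2.2.trans (Wx hN m).2.2.symm)) M i n).hom (c m) = 0 := by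
        have e5 := pull_resLE_apply T (X.ptSub m.1) hW1 (hW'le m)
          ((Wx hN₁ m).2.2.trans (W' m).2.2.symm) ((W' m).2.2.trans (Wx hN m).2.2.symm) M i n (c m)
        refine e5.symm.trans ?_
        refine (congrArg _ (hW'0 m)).trans ?_
        exact map_zero _
      refine (congrArg _ e4).trans ?_
      exact map_zero _
    rw [hb0, map_zero]
  · have hX : IsEmpty X.scheme := by
      by_contra hX
      rw [not_isEmpty_iff] at hX
      obtain ⟨ξ, hξ⟩ := exists_codim_eq_zero (finDim X)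
      exact hne ⟨⟨ξ, by unfold WeilCoh.codim; omega⟩⟩
    exact fjGp_eq_zero_of_isEmpty T M X 0 i n a

/-- vanishing of the groups of `F_jX` above the dimension -/
theorem isZero_fjGp (c : ℕ) (hc : ∀ (y : X.scheme) (i n : ℤ),
      (WeilCoh.pdim X.scheme y : ℤ) + c < i → IsZero (T.ptGp X y M i n)) (j : ℕ) :
    ∀ (i n : ℤ), (WeilCoh.dim X.scheme : ℤ) + j + c < i → IsZero (T.fjGp X j M i n) := by
  induction j with
  | zero =>
    intro i n hi
    have : Subsingleton (T.fjGp X 0 M i n) := ⟨fun a b =>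
      (fjGp_zero_eq_zero T M i n (fun x => hc x.1 i n (by
        have := pdim_of_codim_zero x.2
        push_cast at hi
        omega)) a).trans
      (fjGp_zero_eq_zero T M i n (fun x => hc x.1 i n (by
        have := pdim_of_codim_zero x.2
        push_cast at hi
        omega)) b).symm⟩
    exact ModuleCat.isZero_of_subsingleton _
  | succ j ih =>
    intro i n hi
    obtain ⟨i₀, rfl⟩ : ∃ i₀, i = i₀ + 1 := ⟨i - 1, by ring⟩
    have h1 := ih (i₀ + 1) n (by push_cast at hi ⊢; omega)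
    have hinj := injective_fjRes T M (X := X) (j := j) (i₀ + 1 - 2 * ((j + 1 : ℕ) : ℤ))
      (n - ((j + 1 : ℕ) : ℤ)) i₀ n (by ring) (by ring) (fun x hx => hc x _ _ (by
        have := codim_cast X x
        rw [hx] at this
        push_cast at hi this ⊢
        omega))
    have hs := ModuleCat.subsingleton_of_isZero h1
    have : Subsingleton (T.fjGp X (j + 1) M (i₀ + 1) n) := ⟨fun a b => hinj (hs.elim _ _)⟩
    exact ModuleCat.isZero_of_subsingleton _

end Groth.Agent.Lib.Helper6.BMVanish
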