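import Groth.Agent.Lib.Helper6.CechFamSurj
import Groth.Agent.Lib.Helper6.CechFamLES

/-!
# `H⁰` of the Čech complex of a covering family: maps out of the sieve presheaf are sections (helper6)
-/

universe u

set_option linter.unusedSectionVars false

open CategoryTheory Limits Opposite Simplicial AlgebraicTopology Abelian

namespace Groth.Agent.Lib.Helper6.CechFamH0

open CechFamRep CechFamRes CechFamSurj

variable {C : Type u} [SmallCategory C] [HasPullbacks C] (J : GrothendieckTopology C) {U : C}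
  {ι : Type u} (Y : ι → Over U)

lemma hom_ext_ZRt {P : (Over U)ᵒᵖ ⥤ AddCommGrpCat.{u}} (α β : ZRt Y ⟶ P)
    (h : ∀ (W : Over U) (r : (Subfunctor.range (fh (fam Y))).toFunctor.obj (op W)),
      α.app (op W) (FreeAbelianGroup.of r) = β.app (op W) (FreeAbelianGroup.of r)) : α = β := by
  ext W : 2
  apply AddCommGrpCat.hom_ext
  apply FreeAbelianGroup.lift_ext
  intro r
  exact h W.unop r

lemma mem_sieve_of_Rt (W : Over U) (r : (Subfunctor.range (fh (fam Y))).toFunctor.obj (op W)) :
    (Sieve.ofArrows (fun i => (Y i).left) (fun i => (Y i).hom)) W.hom := by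
  obtain ⟨p, -⟩ := r.2
  rw [Sieve.mem_ofArrows_iff]
  exact ⟨p.f PUnit.unit, (p.φ PUnit.unit).left, (Over.w (p.φ PUnit.unit)).symm⟩

lemma σ_add (H : Sheaf J AddCommGrpCat.{u}) (s s' : H.obj.obj (op U)) :
    σ J Y H (s + s') = σ J Y H s + σ J Y H s' := by
  apply hom_ext_ZRt
  intro W r
  rw [σ_app_of]
  refine Eq.trans ?_ (congrArg₂ (· + ·) (σ_app_of J Y H s r).symm (σ_app_of J Y H s' r).symm)
  exact map_add _ _ _

lemma σ_naturality {G G' : Sheaf J AddCommGrpCat.{u}} (g : G ⟶ G') (s : G.obj.obj (op U)) :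
    σ J Y G s ≫ (Φ J (U := U)).map g = σ J Y G' (g.hom.app _ s) := by
  apply hom_ext_ZRt
  intro W r
  rw [σ_app_of]
  change g.hom.app _ ((σ J Y G s).app (op W) (FreeAbelianGroup.of r)) = _
  rw [σ_app_of]
  exact NatTrans.naturality_apply g.hom W.hom.op s

variable (hY : Sieve.ofArrows (fun i => (Y i).left) (fun i => (Y i).hom) ∈ J U)

include hY in
lemma σ_injective (H : Sheaf J AddCommGrpCat.{u}) : Function.Injective (σ J Y H) := by
  intro s s' h
  apply (SieveExt.isSheafFor J H _ hY).isSeparatedFor.ext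
  intro W f hf
  obtain ⟨r⟩ := nonempty_Rt Y f hf
  have h1 := σ_app_of J Y H s r
  have h2 := σ_app_of J Y H s' r
  rw [h] at h1
  exact h1.symm.trans h2

include hY in
lemma σ_surjective (G : Sheaf J AddCommGrpCat.{u}) (τ : ZRt Y ⟶ PP J G) :
    ∃ t : G.obj.obj (op U), σ J Y G t = τ := by
  let R : Sieve U := Sieve.ofArrows (fun i => (Y i).left) (fun i => (Y i).hom)
  let x : Presieve.FamilyOfElements (G.obj ⋙ forget AddCommGrpCat.{u}) R.arrows :=
    fun W f hf => τ.app (op (Over.mk f)) (FreeAbelianGroup.of (nonempty_Rt Y f hf).some)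
  have hx : x.Compatible := by
    rw [Presieve.compatible_iff_sieveCompatible]
    intro W W' f g hf
    have nat := NatTrans.naturality_apply τ (Over.homMk g rfl : Over.mk (g ≫ f) ⟶ Over.mk f).op
      (FreeAbelianGroup.of (nonempty_Rt Y f hf).some)
    refine Eq.trans ?_ nat
    change τ.app (op (Over.mk (g ≫ f))) (FreeAbelianGroup.of _) =
      τ.app (op (Over.mk (g ≫ f))) (FreeAbelianGroup.of _)
    congr 2
    exact @Subsingleton.elim _ (subsingleton_Rt Y (Over.mk (g ≫ f))) _ _
  have hsh := SieveExt.isSheafFor J G R hY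
  refine ⟨hsh.amalgamate x hx, ?_⟩
  apply hom_ext_ZRt
  intro W r
  rw [σ_app_of]
  have h2 := hsh.valid_glue hx W.hom (mem_sieve_of_Rt Y W r)
  refine h2.trans ?_
  change τ.app (op W) (FreeAbelianGroup.of _) = τ.app (op W) (FreeAbelianGroup.of r)
  congr 2
  exact @Subsingleton.elim _ (subsingleton_Rt Y W) _ _

end Groth.Agent.Lib.Helper6.CechFamH0
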