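import Mathlib.CategoryTheory.Limits.FormalCoproducts.Cech
import Mathlib.CategoryTheory.Sites.SheafCohomology.Cech
import Mathlib.CategoryTheory.Limits.Shapes.ConcreteCategory
import Mathlib.Algebra.Category.Grp.Adjunctions
import Mathlib.Algebra.Category.Grp.Limits
import Mathlib.CategoryTheory.Preadditive.Yoneda.Basic
import Mathlib.CategoryTheory.Adjunction.Whiskering

/-!
# Representing the evaluation of a presheaf on formal coproducts by `Hom` (helper6)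

For a small category `D`, a formal coproduct `𝒱` in `D` and a presheaf of abelian groups `P` on `D`,
`∏ i, P(𝒱 i) ≅ Hom(ℤ[h_𝒱], P)` naturally in `𝒱` and `P`, where `h_𝒱 = ∐ i, yoneda (𝒱 i)` is the
presheaf of points `W ↦ Hom(incl W, 𝒱)`.
-/

universe u

open CategoryTheory Limits Opposite

namespace Groth.Agent.Lib.Helper6.CechFamRep

variable {D : Type u} [SmallCategory D]

abbrev pt (𝒱 : FormalCoproduct.{u} D) (i : 𝒱.I) : (FormalCoproduct.incl D).obj (𝒱.obj i) ⟶ 𝒱 :=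
  FormalCoproduct.Hom.fromIncl i (𝟙 _)

lemma pt_comp {𝒱 𝒱' : FormalCoproduct.{u} D} (g : 𝒱 ⟶ 𝒱') (i : 𝒱.I) :
    pt 𝒱 i ≫ g = (FormalCoproduct.incl D).map (g.φ i) ≫ pt 𝒱' (g.f i) := by
  refine FormalCoproduct.hom_ext rfl (fun x => ?_)
  change (𝟙 _ ≫ g.φ i) ≫ 𝟙 _ = g.φ i ≫ 𝟙 _
  simp

lemma eq_map_pt {𝒱 : FormalCoproduct.{u} D} {W : D} (ψ : (FormalCoproduct.incl D).obj W ⟶ 𝒱) :
    ψ = (FormalCoproduct.incl D).map (ψ.φ PUnit.unit) ≫ pt 𝒱 (ψ.f PUnit.unit) := by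
  refine FormalCoproduct.hom_ext rfl (fun x => ?_)
  change ψ.φ PUnit.unit ≫ 𝟙 _ = ψ.φ PUnit.unit ≫ 𝟙 _
  rfl

abbrev hh : FormalCoproduct.{u} D ⥤ (Dᵒᵖ ⥤ Type u) :=
  yoneda ⋙ (Functor.whiskeringLeft _ _ _).obj (FormalCoproduct.incl D).op

/-- Yoneda for formal coproducts -/
def yonedaEquivFC (𝒱 : FormalCoproduct.{u} D) (G : Dᵒᵖ ⥤ Type u) :
    (hh.obj 𝒱 ⟶ G) ≃ (∀ i : 𝒱.I, G.obj (op (𝒱.obj i))) where
  toFun γ i := γ.app (op (𝒱.obj i)) (pt 𝒱 i)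
  invFun t :=
    { app := fun W => ↾(fun (ψ : (FormalCoproduct.incl D).obj W.unop ⟶ 𝒱) =>
        G.map (ψ.φ PUnit.unit).op (t (ψ.f PUnit.unit)))
      naturality := fun W W' g => by
        ext ψ
        exact (Functor.map_comp_apply G (ψ.φ PUnit.unit).op g (t (ψ.f PUnit.unit))) }
  left_inv γ := by
    ext W ψ
    change G.map (ψ.φ PUnit.unit).op (γ.app _ (pt 𝒱 (ψ.f PUnit.unit))) = γ.app W ψ
    rw [← NatTrans.naturality_apply]
    congr 1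
    exact (eq_map_pt ψ).symm
  right_inv t := by
    funext i
    change G.map (𝟙 _).op (t i) = t i
    simp

noncomputable abbrev Q : FormalCoproduct.{u} D ⥤ (Dᵒᵖ ⥤ AddCommGrpCat.{u}) :=
  hh ⋙ (Functor.whiskeringRight _ _ _).obj AddCommGrpCat.free.{u}

/-- evaluation at the tautological points, additive -/
noncomputable def toPi (P : Dᵒᵖ ⥤ AddCommGrpCat.{u}) (𝒱 : FormalCoproduct.{u} D) :
    (Q.obj 𝒱 ⟶ P) →+ (∀ i : 𝒱.I, P.obj (op (𝒱.obj i))) where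
  toFun α i := α.app (op (𝒱.obj i)) (FreeAbelianGroup.of (pt 𝒱 i))
  map_zero' := rfl
  map_add' _ _ := rfl

lemma toPi_eq (P : Dᵒᵖ ⥤ AddCommGrpCat.{u}) (𝒱 : FormalCoproduct.{u} D) (α : Q.obj 𝒱 ⟶ P) :
    toPi P 𝒱 α = yonedaEquivFC 𝒱 (P ⋙ forget _)
      ((AddCommGrpCat.adj.whiskerRight Dᵒᵖ).homEquiv (hh.obj 𝒱) P α) := by
  rfl

lemma toPi_bijective (P : Dᵒᵖ ⥤ AddCommGrpCat.{u}) (𝒱 : FormalCoproduct.{u} D) :
    Function.Bijective (toPi P 𝒱) := by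
  have : (toPi P 𝒱 : (Q.obj 𝒱 ⟶ P) → _) =
      (yonedaEquivFC 𝒱 (P ⋙ forget _)) ∘ ((AddCommGrpCat.adj.whiskerRight Dᵒᵖ).homEquiv (hh.obj 𝒱) P) := by
    funext α
    exact toPi_eq P 𝒱 α
  rw [this]
  exact (Equiv.bijective _).comp (Equiv.bijective _)

/-- the comparison map `Hom(ℤ[h_𝒱], P) ⟶ ∏ i, P(𝒱 i)` -/
noncomputable def κhom (P : Dᵒᵖ ⥤ AddCommGrpCat.{u}) (𝒱 : FormalCoproduct.{u} D) :
    (preadditiveYoneda.obj P).obj (op (Q.obj 𝒱)) ⟶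
      ((FormalCoproduct.evalOp.{u} D AddCommGrpCat.{u}).obj P).obj (op 𝒱) :=
  Pi.lift (fun i => AddCommGrpCat.ofHom ((Pi.evalAddMonoidHom _ i).comp (toPi P 𝒱)))

lemma κhom_π_apply (P : Dᵒᵖ ⥤ AddCommGrpCat.{u}) (𝒱 : FormalCoproduct.{u} D) (i : 𝒱.I)
    (α : Q.obj 𝒱 ⟶ P) :
    (Pi.π (fun i : 𝒱.I => P.obj (op (𝒱.obj i))) i) (κhom P 𝒱 α) =
      α.app (op (𝒱.obj i)) (FreeAbelianGroup.of (pt 𝒱 i)) := by
  have := ConcreteCategory.congr_hom (Pi.lift_π (fun i => AddCommGrpCat.ofHom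
    ((Pi.evalAddMonoidHom _ i).comp (toPi P 𝒱))) i) α
  exact this

instance (P : Dᵒᵖ ⥤ AddCommGrpCat.{u}) (𝒱 : FormalCoproduct.{u} D) : IsIso (κhom P 𝒱) := by
  rw [ConcreteCategory.isIso_iff_bijective]
  have : ∀ α, (Concrete.productEquiv (fun i : 𝒱.I => P.obj (op (𝒱.obj i)))) (κhom P 𝒱 α) = toPi P 𝒱 α := by
    intro α
    funext i
    exact (Concrete.productEquiv_apply_apply _ _ _).trans (κhom_π_apply P 𝒱 i α)
  have h2 : Function.Bijective ((Concrete.productEquiv (fun i : 𝒱.I => P.obj (op (𝒱.obj i)))) ∘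
      (κhom P 𝒱 : _ → _)) := by
    have : ((Concrete.productEquiv (fun i : 𝒱.I => P.obj (op (𝒱.obj i)))) ∘
      (κhom P 𝒱 : _ → _)) = toPi P 𝒱 := funext this
    rw [this]
    exact toPi_bijective P 𝒱
  exact (Function.Bijective.of_comp_iff' (Equiv.bijective _) _).1 h2

lemma κhom_naturality (P : Dᵒᵖ ⥤ AddCommGrpCat.{u}) {X Y : (FormalCoproduct.{u} D)ᵒᵖ} (f : X ⟶ Y) :
    (Q.op ⋙ preadditiveYoneda.obj P).map f ≫ κhom P Y.unop =
      κhom P X.unop ≫ ((FormalCoproduct.evalOp.{u} D AddCommGrpCat.{u}).obj P).map f := by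
  apply Pi.hom_ext
  intro i
  ext α
  have h1 : (Pi.π (fun i : Y.unop.I => P.obj (op (Y.unop.obj i))) i)
      (κhom P Y.unop ((Q.op ⋙ preadditiveYoneda.obj P).map f α)) =
      α.app _ (FreeAbelianGroup.of (pt Y.unop i ≫ f.unop)) :=
    κhom_π_apply P Y.unop i _
  have h2 : ((FormalCoproduct.evalOp.{u} D AddCommGrpCat.{u}).obj P).map f ≫
      Pi.π (fun i : Y.unop.I => P.obj (op (Y.unop.obj i))) i =
      Pi.π _ (f.unop.f i) ≫ P.map (f.unop.φ i).op :=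
    Pi.lift_π _ _
  have h3 : (Pi.π (fun i : Y.unop.I => P.obj (op (Y.unop.obj i))) i)
      (((FormalCoproduct.evalOp.{u} D AddCommGrpCat.{u}).obj P).map f (κhom P X.unop α)) =
      P.map (f.unop.φ i).op (α.app _ (FreeAbelianGroup.of (pt X.unop (f.unop.f i)))) := by
    have := ConcreteCategory.congr_hom h2 (κhom P X.unop α)
    refine this.trans ?_
    exact congrArg (P.map (f.unop.φ i).op) (κhom_π_apply P X.unop (f.unop.f i) α)
  refine h1.trans (Eq.trans ?_ h3.symm)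
  rw [pt_comp]
  exact (NatTrans.naturality_apply α (f.unop.φ i).op (FreeAbelianGroup.of (pt X.unop (f.unop.f i))))

/-- `∏ i, P(𝒱 i) ≅ Hom(ℤ[h_𝒱], P)`, naturally in `𝒱` -/
noncomputable def κ (P : Dᵒᵖ ⥤ AddCommGrpCat.{u}) :
    Q.op ⋙ preadditiveYoneda.obj P ≅ (FormalCoproduct.evalOp.{u} D AddCommGrpCat.{u}).obj P :=
  NatIso.ofComponents (fun 𝒱 => asIso (κhom P 𝒱.unop)) (fun f => κhom_naturality P f)

lemma κhom_naturality_right {P P' : Dᵒᵖ ⥤ AddCommGrpCat.{u}} (φ : P ⟶ P') (𝒱 : FormalCoproduct.{u} D) :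
    (preadditiveYoneda.map φ).app (op (Q.obj 𝒱)) ≫ κhom P' 𝒱 =
      κhom P 𝒱 ≫ ((FormalCoproduct.evalOp.{u} D AddCommGrpCat.{u}).map φ).app (op 𝒱) := by
  apply Pi.hom_ext
  intro i
  ext α
  have h1 : (Pi.π (fun i : 𝒱.I => P'.obj (op (𝒱.obj i))) i)
      (κhom P' 𝒱 ((preadditiveYoneda.map φ).app (op (Q.obj 𝒱)) α)) =
      (α ≫ φ).app _ (FreeAbelianGroup.of (pt 𝒱 i)) :=
    κhom_π_apply P' 𝒱 i _
  have h2 : ((FormalCoproduct.evalOp.{u} D AddCommGrpCat.{u}).map φ).app (op 𝒱) ≫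
      Pi.π (fun i : 𝒱.I => P'.obj (op (𝒱.obj i))) i =
      Pi.π _ i ≫ φ.app (op (𝒱.obj i)) :=
    Pi.map_π (fun i : 𝒱.I => φ.app (op (𝒱.obj i))) i
  have h3 : (Pi.π (fun i : 𝒱.I => P'.obj (op (𝒱.obj i))) i)
      (((FormalCoproduct.evalOp.{u} D AddCommGrpCat.{u}).map φ).app (op 𝒱) (κhom P 𝒱 α)) =
      φ.app (op (𝒱.obj i)) (α.app _ (FreeAbelianGroup.of (pt 𝒱 i))) := by
    have := ConcreteCategory.congr_hom h2 (κhom P 𝒱 α)
    refine this.trans ?_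
    exact congrArg (φ.app (op (𝒱.obj i))) (κhom_π_apply P 𝒱 i α)
  exact h1.trans h3.symm

end Groth.Agent.Lib.Helper6.CechFamRep
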