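import Mathlib.AlgebraicTopology.AlternatingFaceMapComplex
import Mathlib.CategoryTheory.Preadditive.Yoneda.Basic
import Mathlib.Algebra.Homology.ShortComplex.Ab
import Mathlib.Algebra.Homology.ShortComplex.HomologicalComplex

/-!
# The cochain complex `Hom(X_•, F)` of a simplicial object (helper6)
-/

universe v u

open CategoryTheory Limits Opposite Simplicial AlgebraicTopology

namespace Groth.Agent.Lib.Helper6.HomCx

variable {𝒜 : Type u} [Category.{v} 𝒜] [Preadditive 𝒜] (X : SimplicialObject 𝒜) (F : 𝒜)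

lemma sum_apply {M N : AddCommGrpCat.{v}} {ι : Type*} (s : Finset ι) (φ : ι → (M ⟶ N)) (x : M) :
    (ConcreteCategory.hom (∑ i ∈ s, φ i)) x = ∑ i ∈ s, (ConcreteCategory.hom (φ i)) x :=
  map_sum (⟨⟨fun ψ : M ⟶ N => (ConcreteCategory.hom ψ) x, rfl⟩, fun _ _ => rfl⟩ : (M ⟶ N) →+ N) φ s

/-- the cosimplicial abelian group `Hom(X_•, F)` -/
abbrev cosimp : CosimplicialObject AddCommGrpCat.{v} := X.rightOp ⋙ preadditiveYoneda.obj F

/-- the cochain complex `Hom(X_•, F)` -/
noncomputable abbrev cx : CochainComplex AddCommGrpCat.{v} ℕ :=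
  (alternatingCofaceMapComplex AddCommGrpCat.{v}).obj (cosimp X F)

/-- the alternating face map complex -/
noncomputable abbrev K : ChainComplex 𝒜 ℕ := (alternatingFaceMapComplex 𝒜).obj X

lemma d_apply (n : ℕ) (x : (K X).X n ⟶ F) :
    (ConcreteCategory.hom ((cx X F).d n (n + 1))) x = (K X).d (n + 1) n ≫ x := by
  have h1 : (cx X F).d n (n + 1) = AlternatingCofaceMapComplex.objD (cosimp X F) n := by
    apply CochainComplex.of_d
  have h2 : (K X).d (n + 1) n = AlternatingFaceMapComplex.objD X n := by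
    simp [K]
  rw [h1, h2]
  simp only [AlternatingCofaceMapComplex.objD, AlternatingFaceMapComplex.objD]
  rw [Preadditive.sum_comp]
  refine (sum_apply _ _ _).trans ?_
  refine Finset.sum_congr rfl (fun i _ => ?_)
  rw [Preadditive.zsmul_comp]
  rfl

lemma exists_factor_of_isZero (q : ℕ) (h : IsZero ((cx X F).homology (q + 1)))
    (x : (K X).X (q + 1) ⟶ F) (hx : (K X).d (q + 2) (q + 1) ≫ x = 0) :
    ∃ y : (K X).X q ⟶ F, (K X).d (q + 1) q ≫ y = x := by
  rw [← HomologicalComplex.exactAt_iff_isZero_homology,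
    HomologicalComplex.exactAt_iff' _ q (q + 1) (q + 2) (by simp) (by simp),
    ShortComplex.ab_exact_iff] at h
  obtain ⟨y, hy⟩ := h x ((d_apply X F (q + 1) x).trans hx)
  exact ⟨y, (d_apply X F q y).symm.trans hy⟩

lemma isZero_of_exists_factor (q : ℕ)
    (h : ∀ (x : (K X).X (q + 1) ⟶ F), (K X).d (q + 2) (q + 1) ≫ x = 0 →
      ∃ y : (K X).X q ⟶ F, (K X).d (q + 1) q ≫ y = x) :
    IsZero ((cx X F).homology (q + 1)) := by
  rw [← HomologicalComplex.exactAt_iff_isZero_homology,
    HomologicalComplex.exactAt_iff' _ q (q + 1) (q + 2) (by simp) (by simp),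
    ShortComplex.ab_exact_iff]
  intro x hx
  obtain ⟨y, hy⟩ := h x ((d_apply X F (q + 1) x).symm.trans hx)
  exact ⟨y, (d_apply X F q y).trans hy⟩

end Groth.Agent.Lib.Helper6.HomCx
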