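import Groth.Prelude.Def_CohCx
import Groth.Agent.Lib.Helper6.CechFamRep
import Groth.Agent.Lib.Helper6.CechED
import Groth.Agent.Lib.Helper6.AugQI
import Groth.Agent.Lib.Helper6.HomCx
import Groth.Agent.Lib.Helper6.LeftAcyc
import Mathlib.CategoryTheory.Abelian.GrothendieckAxioms.Sheaf
import Mathlib.CategoryTheory.Abelian.GrothendieckCategory.HasExt
import Mathlib.CategoryTheory.Abelian.GrothendieckCategory.EnoughInjectives
import Mathlib.CategoryTheory.Limits.FormalCoproducts.ExtraDegeneracy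
import Mathlib.CategoryTheory.Subfunctor.Image
import Mathlib.CategoryTheory.Limits.Preserves.FunctorCategory
import Mathlib.CategoryTheory.Limits.Yoneda

/-!
# Čech cohomology of an injective presheaf w.r.t. a family vanishes (helper6)

For a small category `D` with finite products and a formal coproduct `𝒰` (a family of objects), the
augmented simplicial abelian presheaf `ℤ[Čech nerve of h_𝒰] → ℤ[sieve presheaf]` is a resolution; hence
the Čech complex of an injective presheaf is exact in positive degrees.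
-/

universe u

open CategoryTheory Limits Opposite Simplicial AlgebraicTopology

namespace Groth.Agent.Lib.Helper6.CechFamRes

open CechFamRep

variable {D : Type u} [SmallCategory D] [HasFiniteProducts D] (𝒰 : FormalCoproduct.{u} D)

/-- the arrow from a formal coproduct to the terminal object -/
noncomputable abbrev arr : Arrow (FormalCoproduct.{u} D) :=
  Arrow.mk ((FormalCoproduct.isTerminalIncl (⊤_ D) terminalIsTerminal).from 𝒰)

instance : PreservesLimitsOfSize.{0, 0} (hh (D := D)) := by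
  have h1 : PreservesLimitsOfSize.{0, 0} (yoneda (C := FormalCoproduct.{u} D)) := inferInstance
  have h2 : PreservesLimitsOfSize.{0, 0} ((Functor.whiskeringLeft Dᵒᵖ (FormalCoproduct.{u} D)ᵒᵖ
    (Type u)).obj (FormalCoproduct.incl D).op) := inferInstance
  infer_instance

instance (n : ℕ) : PreservesLimit (WidePullbackShape.wideCospan (arr 𝒰).right
    (fun _ : Fin (n + 1) => (arr 𝒰).left) fun _ => (arr 𝒰).hom) (hh (D := D)) := by
  infer_instance

/-- sections over `W` -/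
abbrev Γ (W : Dᵒᵖ) : FormalCoproduct.{u} D ⥤ Type u :=
  hh ⋙ (evaluation Dᵒᵖ (Type u)).obj W

instance (n : ℕ) (W : Dᵒᵖ) : PreservesLimit (WidePullbackShape.wideCospan (arr 𝒰).right
    (fun _ : Fin (n + 1) => (arr 𝒰).left) fun _ => (arr 𝒰).hom) (Γ (D := D) W) := by
  infer_instance

/-- the structure map of points presheaves -/
noncomputable abbrev fh : hh.obj 𝒰 ⟶ hh.obj ((FormalCoproduct.incl D).obj (⊤_ D)) := hh.map (arr 𝒰).hom

/-- the presheaf-level augmented simplicial object, augmented to the image (the sieve presheaf) -/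
noncomputable abbrev Y0 : SimplicialObject.Augmented (Dᵒᵖ ⥤ Type u) :=
  CechED.aug (F := arr 𝒰) (G := hh)
    (Subfunctor.toRange (fh 𝒰)) (Subfunctor.range (fh 𝒰)).ι (Subfunctor.toRange_ι (fh 𝒰))

/-- the objectwise augmented simplicial set -/
noncomputable abbrev YU (W : Dᵒᵖ) : SimplicialObject.Augmented (Type u) :=
  CechED.aug (F := arr 𝒰) (G := Γ W)
    ((Subfunctor.toRange (fh 𝒰)).app W) ((Subfunctor.range (fh 𝒰)).ι.app W)
    (congr_app (Subfunctor.toRange_ι (fh 𝒰)) W)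

/-- a set-theoretic section of the corestriction -/
noncomputable def σU (W : Dᵒᵖ) :
    (Subfunctor.range (fh 𝒰)).toFunctor.obj W ⟶ (hh.obj 𝒰).obj W :=
  ↾(fun y => y.2.choose)

lemma σU_comp (W : Dᵒᵖ) : σU 𝒰 W ≫ (Subfunctor.toRange (fh 𝒰)).app W = 𝟙 _ := by
  ext y
  apply Subtype.ext
  exact y.2.choose_spec

/-- the objectwise extra degeneracy -/
noncomputable def edU (W : Dᵒᵖ) : SimplicialObject.Augmented.ExtraDegeneracy (YU 𝒰 W) :=
  CechED.extraDegeneracy _ _ _ (σU 𝒰 W) (σU_comp 𝒰 W)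

/-- the augmented simplicial presheaf of abelian groups `ℤ[Čech nerve] → ℤ[image]` -/
noncomputable abbrev Y'' : SimplicialObject.Augmented (Dᵒᵖ ⥤ AddCommGrpCat.{u}) :=
  ((SimplicialObject.Augmented.whiskering _ _).obj
    ((Functor.whiskeringRight Dᵒᵖ (Type u) AddCommGrpCat.{u}).obj AddCommGrpCat.free.{u})).obj (Y0 𝒰)

/-- objectwise extra degeneracy of `Y''` -/
noncomputable def edY'' (W : Dᵒᵖ) : SimplicialObject.Augmented.ExtraDegeneracy
    (((SimplicialObject.Augmented.whiskering _ _).obj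
      ((evaluation Dᵒᵖ AddCommGrpCat.{u}).obj W)).obj (Y'' 𝒰)) :=
  (edU 𝒰 W).map AddCommGrpCat.free.{u}

instance quasiIso_ε_Y'' : QuasiIso (AlternatingFaceMapComplex.ε.app (Y'' 𝒰)) :=
  AugQI.quasiIso_ε_of_evaluation _
    (fun W => AugQI.quasiIso_ε_of_extraDegeneracy (edY'' 𝒰 W))

/-- abelian presheaves on a small category form a Grothendieck abelian category -/
instance instGA (D : Type u) [SmallCategory D] : IsGrothendieckAbelian.{u} (Dᵒᵖ ⥤ AddCommGrpCat.{u}) :=
  IsGrothendieckAbelian.of_equivalence (sheafBotEquivalence (C := D) AddCommGrpCat.{u})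

/-- the simplicial abelian presheaf `ℤ[Čech nerve]` -/
noncomputable abbrev X : SimplicialObject (Dᵒᵖ ⥤ AddCommGrpCat.{u}) := (arr 𝒰).cechNerve ⋙ Q

theorem exists_factor (P : Dᵒᵖ ⥤ AddCommGrpCat.{u}) [Injective P] (q : ℕ)
    (x : (HomCx.K (X 𝒰)).X (q + 1) ⟶ P) (hx : (HomCx.K (X 𝒰)).d (q + 2) (q + 1) ≫ x = 0) :
    ∃ y : (HomCx.K (X 𝒰)).X q ⟶ P, (HomCx.K (X 𝒰)).d (q + 1) q ≫ y = x :=
  @LeftAcyc.exists_factor _ _ _ (HomCx.K (X 𝒰)) _ (AlternatingFaceMapComplex.ε.app (Y'' 𝒰)) (quasiIso_ε_Y'' 𝒰) _ P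
    (fun n j x => Abelian.Ext.eq_zero_of_injective x) (fun j x => Abelian.Ext.eq_zero_of_injective x) q x hx

theorem isZero_homology_cx (P : Dᵒᵖ ⥤ AddCommGrpCat.{u}) [Injective P] (q : ℕ) :
    IsZero ((HomCx.cx (X 𝒰) P).homology (q + 1)) :=
  HomCx.isZero_of_exists_factor _ _ q (fun x hx => exists_factor 𝒰 P q x hx)

/-- `rightOp` of an isomorphism -/
def rightOpIso {C₁ C₂ : Type*} [Category C₁] [Category C₂] {F G : C₁ᵒᵖ ⥤ C₂} (e : F ≅ G) :
    F.rightOp ≅ G.rightOp where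
  hom := NatTrans.rightOp e.inv
  inv := NatTrans.rightOp e.hom
  hom_inv_id := by rw [← NatTrans.rightOp_comp, e.hom_inv_id, NatTrans.rightOp_id]
  inv_hom_id := by rw [← NatTrans.rightOp_comp, e.inv_hom_id, NatTrans.rightOp_id]

/-- the Čech cosimplicial abelian group as a `Hom` cosimplicial group -/
noncomputable def cosimpIso (P : Dᵒᵖ ⥤ AddCommGrpCat.{u}) :
    (FormalCoproduct.cosimplicialObjectFunctor 𝒰.cech).obj P ≅ HomCx.cosimp (X 𝒰) P :=
  Functor.isoWhiskerLeft 𝒰.cech.rightOp (κ P).symm ≪≫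
    Functor.isoWhiskerRight (rightOpIso (𝒰.cechIsoCechNerve terminalIsTerminal))
      (Q.op ⋙ preadditiveYoneda.obj P)

/-- the Čech complex as a `Hom` complex -/
noncomputable def cxIso (P : Dᵒᵖ ⥤ AddCommGrpCat.{u}) :
    (FormalCoproduct.cochainComplexFunctor 𝒰.cech).obj P ≅ HomCx.cx (X 𝒰) P :=
  (alternatingCofaceMapComplex AddCommGrpCat.{u}).mapIso (cosimpIso 𝒰 P)

/-- **Čech cohomology of an injective presheaf vanishes in positive degrees** -/
theorem isZero_homology (P : Dᵒᵖ ⥤ AddCommGrpCat.{u}) [Injective P] (q : ℕ) :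
    IsZero (((FormalCoproduct.cochainComplexFunctor 𝒰.cech).obj P).homology (q + 1)) :=
  (isZero_homology_cx 𝒰 P q).of_iso
    ((HomologicalComplex.homologyFunctor _ _ (q + 1)).mapIso (cxIso 𝒰 P))

theorem exists_factor_of_isZero_homology (P : Dᵒᵖ ⥤ AddCommGrpCat.{u}) (q : ℕ)
    (h : IsZero (((FormalCoproduct.cochainComplexFunctor 𝒰.cech).obj P).homology (q + 1)))
    (x : (HomCx.K (X 𝒰)).X (q + 1) ⟶ P) (hx : (HomCx.K (X 𝒰)).d (q + 2) (q + 1) ≫ x = 0) :
    ∃ y : (HomCx.K (X 𝒰)).X q ⟶ P, (HomCx.K (X 𝒰)).d (q + 1) q ≫ y = x :=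
  HomCx.exists_factor_of_isZero _ _ q
    (h.of_iso ((HomologicalComplex.homologyFunctor _ _ (q + 1)).mapIso (cxIso 𝒰 P).symm)) x hx

theorem isZero_homology_of_exists_factor (P : Dᵒᵖ ⥤ AddCommGrpCat.{u}) (q : ℕ)
    (h : ∀ (x : (HomCx.K (X 𝒰)).X (q + 1) ⟶ P), (HomCx.K (X 𝒰)).d (q + 2) (q + 1) ≫ x = 0 →
      ∃ y : (HomCx.K (X 𝒰)).X q ⟶ P, (HomCx.K (X 𝒰)).d (q + 1) q ≫ y = x) :
    IsZero (((FormalCoproduct.cochainComplexFunctor 𝒰.cech).obj P).homology (q + 1)) :=
  (HomCx.isZero_of_exists_factor _ _ q h).of_iso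
    ((HomologicalComplex.homologyFunctor _ _ (q + 1)).mapIso (cxIso 𝒰 P))

theorem isZero_homology_family {ι : Type u} (Y : ι → D) (P : Dᵒᵖ ⥤ AddCommGrpCat.{u}) [Injective P]
    (q : ℕ) : IsZero (((cechComplexFunctor Y).obj P).homology (q + 1)) :=
  isZero_homology (FormalCoproduct.mk _ Y) P q

end Groth.Agent.Lib.Helper6.CechFamRes
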