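import Groth.Agent.Lib.Helper6.LeftAcyc

/-!
# Lifting maps out of `A₀` along a left exact sequence, given `H¹(Hom(P, F)) = 0` (helper6)
-/

universe w v u

open CategoryTheory Limits Abelian

namespace Groth.Agent.Lib.Helper6.LeftAcyc

variable {A : Type u} [Category.{v} A] [Abelian A]
  (P : ChainComplex A ℕ) {A₀ : A} (ε : P ⟶ (ChainComplex.single₀ A).obj A₀) [QuasiIso ε]

include ε in
/-- Let `0 → F → G → H` be left exact and suppose every `1`-cocycle of `Hom(P, F)` is a coboundary.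
If `σ : A₀ ⟶ H` lifts to `G` after restriction to `P_0`, then `σ` lifts to `G`. -/
theorem exists_lift_of_H1 {S : ShortComplex A} (hS : S.Exact) [Mono S.f]
    (h1 : ∀ x : P.X 1 ⟶ S.X₁, P.d 2 1 ≫ x = 0 → ∃ y : P.X 0 ⟶ S.X₁, P.d 1 0 ≫ y = x)
    (σ : A₀ ⟶ S.X₃) (τ₀ : P.X 0 ⟶ S.X₂) (hτ₀ : τ₀ ≫ S.g = aug₀ P ε ≫ σ) :
    ∃ τ : A₀ ⟶ S.X₂, τ ≫ S.g = σ := by
  have h0 : (P.d 1 0 ≫ τ₀) ≫ S.g = 0 := by
    rw [Category.assoc, hτ₀, ← Category.assoc, d_comp_aug₀, zero_comp]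
  let x : P.X 1 ⟶ S.X₁ := hS.lift (P.d 1 0 ≫ τ₀) h0
  have hx : x ≫ S.f = P.d 1 0 ≫ τ₀ := hS.lift_f _ _
  have hx2 : P.d 2 1 ≫ x = 0 := by
    rw [← cancel_mono S.f, Category.assoc, hx, zero_comp, ← Category.assoc,
      HomologicalComplex.d_comp_d, zero_comp]
  obtain ⟨y, hy⟩ := h1 x hx2
  have h3 : P.d 1 0 ≫ (τ₀ - y ≫ S.f) = 0 := by
    rw [Preadditive.comp_sub, ← Category.assoc, hy, hx, sub_self]
  obtain ⟨τ, hτ⟩ := exists_desc₀ P ε (τ₀ - y ≫ S.f) h3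
  refine ⟨τ, ?_⟩
  rw [← cancel_epi (aug₀ P ε), ← Category.assoc, hτ, Preadditive.sub_comp, Category.assoc,
    S.zero, comp_zero, sub_zero, hτ₀]

end Groth.Agent.Lib.Helper6.LeftAcyc
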