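import Groth.Agent.Lib.Helper6.CechFamRes
import Groth.Agent.Lib.Helper6.LeftAcycLift
import Groth.Agent.Lib.Helper6.SieveExt

/-!
# Surjectivity of sections from vanishing of the first Čech cohomology of the kernel (helper6)
-/

universe u

set_option linter.unusedSectionVars false

open CategoryTheory Limits Opposite Simplicial AlgebraicTopology

namespace Groth.Agent.Lib.Helper6.CechFamSurj

open CechFamRep CechFamRes

section General

variable {D : Type u} [SmallCategory D]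

/-- inverse of `toPi` -/
noncomputable def ofPi (P : Dᵒᵖ ⥤ AddCommGrpCat.{u}) (𝒱 : FormalCoproduct.{u} D)
    (t : ∀ i : 𝒱.I, P.obj (op (𝒱.obj i))) : Q.obj 𝒱 ⟶ P :=
  (Equiv.ofBijective _ (toPi_bijective P 𝒱)).symm t

lemma toPi_ofPi (P : Dᵒᵖ ⥤ AddCommGrpCat.{u}) (𝒱 : FormalCoproduct.{u} D)
    (t : ∀ i : 𝒱.I, P.obj (op (𝒱.obj i))) : toPi P 𝒱 (ofPi P 𝒱 t) = t :=
  (Equiv.ofBijective _ (toPi_bijective P 𝒱)).apply_symm_apply t

lemma app_of_point (P : Dᵒᵖ ⥤ AddCommGrpCat.{u}) (𝒱 : FormalCoproduct.{u} D) (α : Q.obj 𝒱 ⟶ P)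
    {W : D} (ψ : (FormalCoproduct.incl D).obj W ⟶ 𝒱) :
    α.app (op W) (FreeAbelianGroup.of ψ) =
      P.map (ψ.φ PUnit.unit).op (toPi P 𝒱 α (ψ.f PUnit.unit)) := by
  have h := NatTrans.naturality_apply α (ψ.φ PUnit.unit).op
    (FreeAbelianGroup.of (pt 𝒱 (ψ.f PUnit.unit)))
  have e : FreeAbelianGroup.of ψ = (ConcreteCategory.hom ((Q.obj 𝒱).map (ψ.φ PUnit.unit).op))
      (FreeAbelianGroup.of (pt 𝒱 (ψ.f PUnit.unit))) := by
    exact congrArg FreeAbelianGroup.of (eq_map_pt ψ)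
  exact (congrArg (fun z => (ConcreteCategory.hom (α.app (op W))) z) e).trans h

lemma toPi_comp {P P' : Dᵒᵖ ⥤ AddCommGrpCat.{u}} (𝒱 : FormalCoproduct.{u} D) (α : Q.obj 𝒱 ⟶ P)
    (g : P ⟶ P') (i : 𝒱.I) : toPi P' 𝒱 (α ≫ g) i = g.app _ (toPi P 𝒱 α i) := rfl

lemma toPi_map_comp (P : Dᵒᵖ ⥤ AddCommGrpCat.{u}) {𝒱 𝒱' : FormalCoproduct.{u} D} (b : 𝒱 ⟶ 𝒱')
    (α : Q.obj 𝒱' ⟶ P) (i : 𝒱.I) :
    toPi P 𝒱 (Q.map b ≫ α) i = α.app _ (FreeAbelianGroup.of (pt 𝒱 i ≫ b)) := rfl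

end General

section Site

variable {C : Type u} [SmallCategory C] [HasPullbacks C] (J : GrothendieckTopology C) {U : C}
  {ι : Type u} (Y : ι → Over U)

/-- the formal coproduct of the family -/
abbrev fam : FormalCoproduct.{u} (Over U) := FormalCoproduct.mk ι Y

/-- restriction of a sheaf to a presheaf on `Over U` -/
abbrev PP (G : Sheaf J AddCommGrpCat.{u}) : (Over U)ᵒᵖ ⥤ AddCommGrpCat.{u} :=
  (Over.forget U).op ⋙ G.obj

/-- the section `s` restricted to the terminal object of `Over U` -/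
noncomputable def s0 (H : Sheaf J AddCommGrpCat.{u}) (s : H.obj.obj (op U)) :
    (PP J H).obj (op (⊤_ (Over U))) := H.obj.map (⊤_ (Over U)).hom.op s

/-- the section `s` as a morphism out of the free presheaf on the terminal presheaf -/
noncomputable def stilde (H : Sheaf J AddCommGrpCat.{u}) (s : H.obj.obj (op U)) :
    Q.obj ((FormalCoproduct.incl (Over U)).obj (⊤_ (Over U))) ⟶ PP J H :=
  ofPi _ _ (fun _ => s0 J H s)

lemma stilde_app_of (H : Sheaf J AddCommGrpCat.{u}) (s : H.obj.obj (op U)) {W : Over U}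
    (ψ : (FormalCoproduct.incl (Over U)).obj W ⟶ (FormalCoproduct.incl (Over U)).obj (⊤_ (Over U))) :
    (stilde J H s).app (op W) (FreeAbelianGroup.of ψ) = H.obj.map W.hom.op s := by
  rw [app_of_point]
  have h1 : toPi (PP J H) _ (stilde J H s) (ψ.f PUnit.unit) = s0 J H s :=
    congrFun (toPi_ofPi _ _ _) _
  refine (congrArg (fun z => (ConcreteCategory.hom ((PP J H).map (ψ.φ PUnit.unit).op)) z) h1).trans ?_
  have key : ∀ (m : W ⟶ ⊤_ (Over U)),
      H.obj.map m.left.op (H.obj.map (⊤_ (Over U)).hom.op s) = H.obj.map W.hom.op s := by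
    intro m
    rw [← Functor.map_comp_apply, ← op_comp, Over.w]
  exact key (ψ.φ PUnit.unit)

/-- the free abelian presheaf on the sieve presheaf of the family -/
noncomputable abbrev ZRt : (Over U)ᵒᵖ ⥤ AddCommGrpCat.{u} := (Y'' (fam Y)).right

/-- the section `s` restricted to the sieve presheaf -/
noncomputable def σ (H : Sheaf J AddCommGrpCat.{u}) (s : H.obj.obj (op U)) : ZRt Y ⟶ PP J H :=
  Functor.whiskerRight (Subfunctor.range (fh (fam Y))).ι AddCommGrpCat.free.{u} ≫ stilde J H s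

lemma σ_app_of (H : Sheaf J AddCommGrpCat.{u}) (s : H.obj.obj (op U)) {W : Over U}
    (r : (Subfunctor.range (fh (fam Y))).toFunctor.obj (op W)) :
    (σ J Y H s).app (op W) (FreeAbelianGroup.of r) = H.obj.map W.hom.op s :=
  stilde_app_of J H s r.1

/-- the resolution complex -/
noncomputable abbrev KK : ChainComplex ((Over U)ᵒᵖ ⥤ AddCommGrpCat.{u}) ℕ := HomCx.K (X (fam Y))

/-- the augmentation -/
noncomputable abbrev εε : KK Y ⟶ (ChainComplex.single₀ _).obj (ZRt Y) :=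
  AlternatingFaceMapComplex.ε.app (Y'' (fam Y))

/-- the degree zero part of the Čech nerve -/
noncomputable abbrev N0 : FormalCoproduct.{u} (Over U) := (arr (fam Y)).cechNerve.obj (op ⦋0⦌)

lemma aug₀_σ_app (H : Sheaf J AddCommGrpCat.{u}) (s : H.obj.obj (op U)) (c : (N0 Y).I) :
    toPi (PP J H) (N0 Y) (LeftAcyc.aug₀ (KK Y) (εε Y) ≫ σ J Y H s) c =
      H.obj.map ((N0 Y).obj c).hom.op s := by
  have h : LeftAcyc.aug₀ (KK Y) (εε Y) = (Y'' (fam Y)).hom.app (op ⦋0⦌) :=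
    AlternatingFaceMapComplex.ε_app_f_zero _
  rw [h]
  exact σ_app_of J Y H s _

/-- the point of the family under a component of `N0` -/
noncomputable def comp0 (c : (N0 Y).I) : Σ i : ι, ((N0 Y).obj c ⟶ Y i) :=
  FormalCoproduct.Hom.asSigma
    (pt (N0 Y) c ≫ WidePullback.π (fun _ : Fin 1 => (arr (fam Y)).hom) 0)

/-- the functor from sheaves to presheaves on `Over U` -/
abbrev Φ : Sheaf J AddCommGrpCat.{u} ⥤ ((Over U)ᵒᵖ ⥤ AddCommGrpCat.{u}) :=
  sheafToPresheaf J AddCommGrpCat.{u} ⋙ (Functor.whiskeringLeft _ _ _).obj (Over.forget U).op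

instance : (Φ J (U := U)).Additive where

instance : PreservesFiniteLimits (Φ J (U := U)) := by
  have : PreservesLimitsOfSize.{0, 0} (sheafToPresheaf J AddCommGrpCat.{u}) :=
    (sheafificationAdjunction J AddCommGrpCat.{u}).rightAdjoint_preservesLimits
  have : PreservesLimitsOfSize.{0, 0} ((Functor.whiskeringLeft (Over U)ᵒᵖ Cᵒᵖ AddCommGrpCat.{u}).obj
    (Over.forget U).op) := inferInstance
  exact PreservesLimitsOfSize.preservesFiniteLimits _

/-- local lifts give a lift over `K_0` -/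
lemma exists_τ₀ {S : ShortComplex (Sheaf J AddCommGrpCat.{u})} (s : S.X₃.obj.obj (op U))
    (t : ∀ i, S.X₂.obj.obj (op (Y i).left))
    (ht : ∀ i, S.g.hom.app _ (t i) = S.X₃.obj.map (Y i).hom.op s) :
    ∃ τ₀ : (KK Y).X 0 ⟶ (S.map (Φ J)).X₂,
      τ₀ ≫ (S.map (Φ J)).g = LeftAcyc.aug₀ (KK Y) (εε Y) ≫ σ J Y S.X₃ s := by
  refine ⟨ofPi (PP J S.X₂) (N0 Y) (fun c => S.X₂.obj.map (comp0 Y c).2.left.op (t (comp0 Y c).1)), ?_⟩
  apply (toPi_bijective (PP J S.X₃) (N0 Y)).1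
  funext c
  rw [aug₀_σ_app]
  refine (toPi_comp (N0 Y) _ _ c).trans ?_
  have h1 := congrFun (toPi_ofPi (PP J S.X₂) (N0 Y)
    (fun c => S.X₂.obj.map (comp0 Y c).2.left.op (t (comp0 Y c).1))) c
  refine (congrArg (fun z => ((S.map (Φ J)).g.app (op ((N0 Y).obj c))) z) h1).trans ?_
  change S.g.hom.app _ (S.X₂.obj.map (comp0 Y c).2.left.op (t (comp0 Y c).1)) = _
  rw [NatTrans.naturality_apply, ht, ← Functor.map_comp_apply, ← op_comp, Over.w]

instance subsingleton_Rt (W : Over U) :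
    Subsingleton ((Subfunctor.range (fh (fam Y))).toFunctor.obj (op W)) :=
  ⟨fun a b => Subtype.ext
    ((FormalCoproduct.isTerminalIncl (⊤_ (Over U)) terminalIsTerminal).hom_ext _ _)⟩

lemma nonempty_Rt {W : C} (f : W ⟶ U)
    (hf : (Sieve.ofArrows (fun i => (Y i).left) (fun i => (Y i).hom)) f) :
    Nonempty ((Subfunctor.range (fh (fam Y))).toFunctor.obj (op (Over.mk f))) := by
  obtain ⟨i, a, ha⟩ := (Sieve.mem_ofArrows_iff _ _ f).1 hf
  let p : (FormalCoproduct.incl (Over U)).obj (Over.mk f) ⟶ fam Y :=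
    FormalCoproduct.Hom.fromIncl (Y := fam Y) i (Over.homMk a ha.symm)
  exact ⟨(Subfunctor.toRange (fh (fam Y))).app _ p⟩

/-- **Surjectivity on sections from vanishing of the first Čech cohomology of the kernel**, given
local lifts on the family. -/
theorem exists_lift_of_cechH1 {S : ShortComplex (Sheaf J AddCommGrpCat.{u})} (hS : S.ShortExact)
    (hY : Sieve.ofArrows (fun i => (Y i).left) (fun i => (Y i).hom) ∈ J U)
    (hH1 : IsZero (CohCx.cechH S.X₁.obj Y 1))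
    (s : S.X₃.obj.obj (op U)) (t : ∀ i, S.X₂.obj.obj (op (Y i).left))
    (ht : ∀ i, S.g.hom.app _ (t i) = S.X₃.obj.map (Y i).hom.op s) :
    ∃ t₀ : S.X₂.obj.obj (op U), S.g.hom.app _ t₀ = s := by
  have h30 := (Φ J (U := U)).preservesFiniteLimits_tfae.out 3 0
  have hΦ : (S.map (Φ J (U := U))).Exact ∧ Mono (S.map (Φ J (U := U))).f := h30.1 inferInstance S hS
  haveI := hΦ.2
  obtain ⟨τ₀, hτ₀⟩ := exists_τ₀ J Y s t ht
  have h1 : ∀ x : (KK Y).X 1 ⟶ (S.map (Φ J (U := U))).X₁, (KK Y).d 2 1 ≫ x = 0 →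
      ∃ y : (KK Y).X 0 ⟶ (S.map (Φ J (U := U))).X₁, (KK Y).d 1 0 ≫ y = x :=
    fun x hx => exists_factor_of_isZero_homology (fam Y) (PP J S.X₁) 0 hH1 x hx
  haveI : QuasiIso (εε Y) := quasiIso_ε_Y'' (fam Y)
  obtain ⟨τ, hτ⟩ := LeftAcyc.exists_lift_of_H1 (KK Y) (εε Y) hΦ.1 h1 (σ J Y S.X₃ s) τ₀ hτ₀
  let R : Sieve U := Sieve.ofArrows (fun i => (Y i).left) (fun i => (Y i).hom)
  let x : Presieve.FamilyOfElements (S.X₂.obj ⋙ forget AddCommGrpCat.{u}) R.arrows :=
    fun W f hf => τ.app (op (Over.mk f)) (FreeAbelianGroup.of (nonempty_Rt Y f hf).some)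
  have hx : x.Compatible := by
    rw [Presieve.compatible_iff_sieveCompatible]
    intro W W' f g hf
    have nat := NatTrans.naturality_apply τ (Over.homMk g rfl : Over.mk (g ≫ f) ⟶ Over.mk f).op
      (FreeAbelianGroup.of (nonempty_Rt Y f hf).some)
    refine Eq.trans ?_ nat
    change τ.app (op (Over.mk (g ≫ f))) (FreeAbelianGroup.of _) =
      τ.app (op (Over.mk (g ≫ f))) (FreeAbelianGroup.of _)
    congr 2
    exact @Subsingleton.elim _ (subsingleton_Rt Y (Over.mk (g ≫ f))) _ _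
  have hsh := SieveExt.isSheafFor J S.X₂ R hY
  refine ⟨hsh.amalgamate x hx, ?_⟩
  apply (SieveExt.isSheafFor J S.X₃ R hY).isSeparatedFor.ext
  intro W f hf
  have h2 := hsh.valid_glue hx f hf
  have h3 : S.X₃.obj.map f.op (S.g.hom.app _ (hsh.amalgamate x hx)) =
      S.g.hom.app _ (S.X₂.obj.map f.op (hsh.amalgamate x hx)) :=
    (NatTrans.naturality_apply S.g.hom f.op _).symm
  refine h3.trans ?_
  have h4 : S.X₂.obj.map f.op (hsh.amalgamate x hx) = x f hf := h2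
  rw [h4]
  have h5 := congrArg (fun z => z.app (op (Over.mk f)) (FreeAbelianGroup.of (nonempty_Rt Y f hf).some)) hτ
  refine Eq.trans ?_ (h5.trans ?_)
  · rfl
  · exact σ_app_of J Y S.X₃ s _

end Site

end Groth.Agent.Lib.Helper6.CechFamSurj
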