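import Groth.Prelude.Def_CohCx
import Groth.Agent.Lib.Helper6.CechED
import Groth.Agent.Lib.Helper6.AugQI
import Mathlib.CategoryTheory.Sites.Adjunction
import Mathlib.CategoryTheory.Sites.LocallyBijective
import Mathlib.CategoryTheory.Subfunctor.Image

/-!
# The free Čech nerve resolution of an epimorphism of sheaves of sets (helper6)
-/

universe u

open CategoryTheory Limits Opposite Simplicial AlgebraicTopology

namespace Groth.Agent.Lib.Helper6.CechRes

variable {C : Type u} [SmallCategory C] (J : GrothendieckTopology C)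
  {K' K : Sheaf J (Type u)} (f : K' ⟶ K)

/-- the presheaf-level augmented simplicial object, augmented to the presheaf image -/
noncomputable abbrev Y0 : SimplicialObject.Augmented (Cᵒᵖ ⥤ Type u) :=
  CechED.aug (F := Arrow.mk f) (G := sheafToPresheaf J (Type u))
    (Subfunctor.toRange f.hom) (Subfunctor.range f.hom).ι (Subfunctor.toRange_ι f.hom)

/-- sections over `U` -/
noncomputable abbrev Γ (U : Cᵒᵖ) : Sheaf J (Type u) ⥤ Type u :=
  sheafToPresheaf J (Type u) ⋙ (evaluation Cᵒᵖ (Type u)).obj U

/-- the objectwise augmented simplicial set -/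
noncomputable abbrev YU (U : Cᵒᵖ) : SimplicialObject.Augmented (Type u) :=
  CechED.aug (F := Arrow.mk f) (G := Γ J U)
    ((Subfunctor.toRange f.hom).app U) ((Subfunctor.range f.hom).ι.app U)
    (congr_app (Subfunctor.toRange_ι f.hom) U)

/-- a set-theoretic section of the corestriction -/
noncomputable def σU (U : Cᵒᵖ) :
    (Subfunctor.range f.hom).toFunctor.obj U ⟶ K'.obj.obj U :=
  ↾(fun y => y.2.choose)

lemma σU_comp (U : Cᵒᵖ) : σU J f U ≫ (Subfunctor.toRange f.hom).app U = 𝟙 _ := by
  ext y
  apply Subtype.ext
  have := y.2.choose_spec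
  simpa [σU, Subfunctor.toRange_app_val] using this

/-- the objectwise extra degeneracy -/
noncomputable def edU (U : Cᵒᵖ) : SimplicialObject.Augmented.ExtraDegeneracy (YU J f U) :=
  CechED.extraDegeneracy _ _ _ (σU J f U) (σU_comp J f U)

/-- the augmented simplicial presheaf of abelian groups `ℤ[Čech nerve] → ℤ[image]` -/
noncomputable abbrev Y'' : SimplicialObject.Augmented (Cᵒᵖ ⥤ AddCommGrpCat.{u}) :=
  ((SimplicialObject.Augmented.whiskering _ _).obj
    ((Functor.whiskeringRight Cᵒᵖ (Type u) AddCommGrpCat.{u}).obj AddCommGrpCat.free.{u})).obj (Y0 J f)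

/-- objectwise extra degeneracy of `Y''` -/
noncomputable def edY'' (U : Cᵒᵖ) : SimplicialObject.Augmented.ExtraDegeneracy
    (((SimplicialObject.Augmented.whiskering _ _).obj
      ((evaluation Cᵒᵖ AddCommGrpCat.{u}).obj U)).obj (Y'' J f)) :=
  (edU J f U).map AddCommGrpCat.free.{u}

instance quasiIso_ε_Y'' : QuasiIso (AlternatingFaceMapComplex.ε.app (Y'' J f)) :=
  AugQI.quasiIso_ε_of_evaluation _
    (fun U => AugQI.quasiIso_ε_of_extraDegeneracy (edY'' J f U))

/-- the sheafified augmented simplicial object -/
noncomputable abbrev aY'' : SimplicialObject.Augmented (Sheaf J AddCommGrpCat.{u}) :=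
  ((SimplicialObject.Augmented.whiskering _ _).obj (presheafToSheaf J AddCommGrpCat.{u})).obj (Y'' J f)

instance quasiIso_ε_aY'' : QuasiIso (AlternatingFaceMapComplex.ε.app (aY'' J f)) :=
  AugQI.quasiIso_ε_whiskering (presheafToSheaf J AddCommGrpCat.{u}) (Y'' J f)

lemma W_range_ι [Epi f] : J.W (Subfunctor.range f.hom).ι := by
  have h1 : Presheaf.IsLocallySurjective J f.hom := (Sheaf.isLocallySurjective_iff_epi f).2 inferInstance
  have h2 : Presheaf.IsLocallySurjective J (Subfunctor.range f.hom).ι :=
    Presheaf.isLocallySurjective_of_isLocallySurjective_fac J (Subfunctor.toRange_ι f.hom)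
  have h3 : Presheaf.IsLocallyInjective J (Subfunctor.range f.hom).ι := inferInstance
  exact J.W_of_isLocallyBijective _

instance isIso_sheafify_free_ι [Epi f] :
    IsIso ((presheafToSheaf J AddCommGrpCat.{u}).map
      (Functor.whiskerRight (Subfunctor.range f.hom).ι AddCommGrpCat.free.{u})) := by
  rw [← J.W_iff]
  exact J.W_of_preservesSheafification _ _ (W_range_ι J f)

/-- the target augmented simplicial object -/
noncomputable abbrev Tg : SimplicialObject.Augmented (Sheaf J AddCommGrpCat.{u}) :=
  ((SimplicialObject.Augmented.whiskering _ _).obj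
    (Sheaf.composeAndSheafify J AddCommGrpCat.free.{u})).obj (Arrow.mk f).augmentedCechNerve

/-- the comparison morphism of augmented simplicial objects -/
noncomputable def g : aY'' J f ⟶ Tg J f where
  left := 𝟙 _
  right := (presheafToSheaf J AddCommGrpCat.{u}).map
      (Functor.whiskerRight (Subfunctor.range f.hom).ι AddCommGrpCat.free.{u})
  w := by
    refine NatTrans.ext (funext fun n => ?_)
    change 𝟙 _ ≫ ((Sheaf.composeAndSheafify J AddCommGrpCat.free.{u}).map
        (WidePullback.base (fun _ : Fin (n.unop.len + 1) => f)) ≫ 𝟙 _) =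
      ((presheafToSheaf J AddCommGrpCat.{u}).map (Functor.whiskerRight
        ((sheafToPresheaf J (Type u)).map (WidePullback.π (fun _ : Fin (n.unop.len + 1) => f) 0) ≫
          Subfunctor.toRange f.hom) AddCommGrpCat.free.{u}) ≫ 𝟙 _) ≫
        (presheafToSheaf J AddCommGrpCat.{u}).map
          (Functor.whiskerRight (Subfunctor.range f.hom).ι AddCommGrpCat.free.{u})
    rw [Category.id_comp, Category.comp_id, Category.comp_id, ← Functor.map_comp,
      ← Functor.whiskerRight_comp, Category.assoc, Subfunctor.toRange_ι]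
    change _ = (presheafToSheaf J AddCommGrpCat.{u}).map (Functor.whiskerRight
        ((sheafToPresheaf J (Type u)).map (WidePullback.π (fun _ : Fin (n.unop.len + 1) => f) 0) ≫
          (sheafToPresheaf J (Type u)).map f) AddCommGrpCat.free.{u})
    rw [← Functor.map_comp]
    have := WidePullback.π_arrow (fun _ : Fin (n.unop.len + 1) => f) 0
    rw [this]
    rfl

/-- **Free Čech nerve resolution**: for an epimorphism `K' ⟶ K` of sheaves of sets, the augmentation
`ℤ[Čech nerve] ⟶ ℤ[K]` is a quasi-isomorphism. -/
theorem quasiIso_ε [Epi f] : QuasiIso (AlternatingFaceMapComplex.ε.app (Tg J f)) := by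
  have nat := AlternatingFaceMapComplex.ε.naturality (g J f)
  have h1 : IsIso ((SimplicialObject.Augmented.drop ⋙ alternatingFaceMapComplex _).map (g J f)) := by
    have : (SimplicialObject.Augmented.drop ⋙ alternatingFaceMapComplex _).map (g J f) = 𝟙 _ := by
      change (alternatingFaceMapComplex _).map (𝟙 _) = 𝟙 _
      exact (alternatingFaceMapComplex _).map_id _
    rw [this]
    exact IsIso.id _
  have h2 : IsIso ((SimplicialObject.Augmented.point ⋙ ChainComplex.single₀ _).map (g J f)) := by
    change IsIso ((ChainComplex.single₀ _).map ((presheafToSheaf J AddCommGrpCat.{u}).map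
      (Functor.whiskerRight (Subfunctor.range f.hom).ι AddCommGrpCat.free.{u})))
    infer_instance
  have h3 : QuasiIso (AlternatingFaceMapComplex.ε.app (aY'' J f) ≫
      (SimplicialObject.Augmented.point ⋙ ChainComplex.single₀ _).map (g J f)) := inferInstance
  rw [← nat] at h3
  exact (quasiIso_iff_comp_left _ _).1 h3

end Groth.Agent.Lib.Helper6.CechRes
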