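import Groth.Agent.Lib.Helper6.CohTopClosed
import Mathlib.CategoryTheory.Adjunction.Whiskering
import Mathlib.CategoryTheory.Adjunction.FullyFaithful
import Mathlib.CategoryTheory.Adjunction.Opposites

/-!
# Pushforward along a closed embedding: fully faithful, essential image (helper6)
-/

universe u

open CategoryTheory Limits Opposite TopologicalSpace

namespace Groth.Agent.Lib.Helper6.ClosedEmb

open CohTop

variable {Z X : TopCat.{u}} (i : Z ⟶ X) (hi : Topology.IsClosedEmbedding i)

include hi in
lemma isOpen_hat (W : Opens Z) : IsOpen {x : X | ∀ z : Z, i z = x → z ∈ W} := by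
  have h : {x : X | ∀ z : Z, i z = x → z ∈ W} = (i '' ((W : Set Z)ᶜ))ᶜ := by
    ext x
    simp only [Set.mem_ofPred_eq, Set.mem_compl_iff, Set.mem_image, not_exists, not_and]
    constructor
    · intro h z hz hzx
      exact hz (h z hzx)
    · intro h z hzx
      by_contra hz
      exact h z hz hzx
  rw [h]
  exact (hi.isClosedMap _ W.2.isClosed_compl).isOpen_compl

/-- `W ↦ (X ∖ Z) ∪ i(W)`, the right adjoint of `i⁻¹` on opens -/
def hat : Opens Z ⥤ Opens X where
  obj W := ⟨{x : X | ∀ z : Z, i z = x → z ∈ W}, isOpen_hat i hi W⟩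
  map {W W'} f := homOfLE (fun x hx z hz => f.le (hx z hz))

lemma mem_hat {W : Opens Z} {x : X} : x ∈ (hat i hi).obj W ↔ ∀ z : Z, i z = x → z ∈ W := Iff.rfl

lemma map_le_iff (V : Opens X) (W : Opens Z) :
    (Opens.map i).obj V ≤ W ↔ V ≤ (hat i hi).obj W := by
  constructor
  · intro h x hx z hz
    apply h
    change i z ∈ V
    rw [hz]
    exact hx
  · intro h z hz
    exact h hz z rfl

/-- `i⁻¹ ⊣ hat` on opens -/
def adjLR : Opens.map i ⊣ hat i hi :=
  Adjunction.mkOfHomEquiv
    { homEquiv := fun V W =>
        { toFun := fun f => homOfLE ((map_le_iff i hi V W).1 f.le)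
          invFun := fun g => homOfLE ((map_le_iff i hi V W).2 g.le)
          left_inv := fun _ => Subsingleton.elim _ _
          right_inv := fun _ => Subsingleton.elim _ _ }
      homEquiv_naturality_left_symm := fun _ _ => Subsingleton.elim _ _
      homEquiv_naturality_right := fun _ _ => Subsingleton.elim _ _ }

lemma map_hat (W : Opens Z) : (Opens.map i).obj ((hat i hi).obj W) = W := by
  apply le_antisymm
  · exact (map_le_iff i hi _ _).2 le_rfl
  · intro z hz z' hz'
    rw [hi.injective hz']
    exact hz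

lemma isIso_of_eq {P : Type*} [Preorder P] {a b : P} (f : a ⟶ b) (h : a = b) : IsIso f :=
  ⟨homOfLE h.ge, Subsingleton.elim _ _, Subsingleton.elim _ _⟩

instance : IsIso (adjLR i hi).counit := by
  have : ∀ W, IsIso ((adjLR i hi).counit.app W) := fun W =>
    isIso_of_eq _ (map_hat i hi W)
  exact NatIso.isIso_of_isIso_app _

/-- the presheaf-level adjunction `i_* ⊣ hat^*` -/
def adjPre : (Functor.whiskeringLeft _ _ AddCommGrpCat.{u}).obj (Opens.map i).op ⊣
    (Functor.whiskeringLeft _ _ AddCommGrpCat.{u}).obj (hat i hi).op :=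
  (adjLR i hi).op.whiskerLeft AddCommGrpCat.{u}

instance : IsIso (adjPre i hi).unit := by
  have : IsIso (adjLR i hi).op.unit := by
    have : (adjLR i hi).op.unit = NatTrans.op (adjLR i hi).counit := rfl
    rw [this]
    infer_instance
  have : ∀ P, IsIso ((adjPre i hi).unit.app P) := by
    intro P
    have : ∀ W, IsIso (((adjPre i hi).unit.app P).app W) := by
      intro W
      dsimp only [adjPre]
      rw [Adjunction.whiskerLeft_unit_app_app]
      infer_instance
    exact NatIso.isIso_of_isIso_app _
  exact NatIso.isIso_of_isIso_app _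

/-- presheaf pushforward along a closed embedding is fully faithful -/
noncomputable def ffPre :
    ((Functor.whiskeringLeft _ _ AddCommGrpCat.{u}).obj (Opens.map i).op).FullyFaithful :=
  (adjPre i hi).fullyFaithfulLOfIsIsoUnit

/-- `i_*` is fully faithful for a closed embedding `i` -/
noncomputable def ff : (CohTop.push i).FullyFaithful :=
  Functor.FullyFaithful.ofCompFaithful (G := sheafToPresheaf _ _)
    ((fullyFaithfulSheafToPresheaf _ _).comp (ffPre i hi) :
      (sheafToPresheaf (Opens.grothendieckTopology Z) AddCommGrpCat.{u} ⋙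
        (Functor.whiskeringLeft _ _ AddCommGrpCat.{u}).obj (Opens.map i).op).FullyFaithful)

section Supp

variable (U : Opens X) (hU : (U : Set X) = (Set.range i)ᶜ)

/-- sheaves whose sections over opens inside `U` vanish -/
def Supp (H : Ab X) : Prop := ∀ V : Opens X, V ≤ U → IsZero (H.obj.obj (op V))

include hU in
lemma map_eq_bot_of_le {V : Opens X} (hV : V ≤ U) : (Opens.map i).obj V = ⊥ := by
  ext z
  simp only [Opens.coe_bot, Set.mem_empty_iff_false, iff_false]
  intro hz
  have : i z ∈ (U : Set X) := hV hz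
  rw [hU] at this
  exact this ⟨z, rfl⟩

include hU in
lemma supp_push (G : Ab Z) : Supp U ((CohTop.push i).obj G) := by
  intro V hV
  have hT := TopCat.Sheaf.isTerminalOfEqEmpty G (map_eq_bot_of_le i U hU hV)
  exact (isZero_zero _).of_iso (hT.uniqueUpToIso (isZero_zero _).isTerminal)

include hU in
lemma le_hat (W : Opens Z) : U ≤ (hat i hi).obj W := by
  intro x hx z hz
  exfalso
  have : x ∈ (U : Set X) := hx
  rw [hU] at this
  exact this ⟨z, hz⟩

include hU in
lemma hat_iSup_le {ι : Type*} (W : ι → Opens Z) :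
    (hat i hi).obj (iSup W) ≤ iSup (fun o : Option ι => Option.rec U (fun a => (hat i hi).obj (W a)) o) := by
  intro x hx
  by_cases hxr : x ∈ Set.range i
  · obtain ⟨z, rfl⟩ := hxr
    have hz : z ∈ iSup W := hx z rfl
    obtain ⟨a, ha⟩ := Opens.mem_iSup.1 hz
    refine Opens.mem_iSup.2 ⟨some a, ?_⟩
    intro z' hz'
    rw [hi.injective hz']
    exact ha
  · refine Opens.mem_iSup.2 ⟨none, ?_⟩
    change x ∈ (U : Set X)
    rw [hU]
    exact hxr

lemma subsingleton_of_supp {H : Ab X} (hH : Supp U H) {V : Opens X} (hV : V ≤ U) :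
    Subsingleton (H.obj.obj (op V)) :=
  AddCommGrpCat.subsingleton_of_isZero (hH V hV)

lemma map_map_apply (H : Ab X) {A B C : Opens X} (f : A ⟶ B) (g : B ⟶ C) (k : A ⟶ C)
    (s : H.obj.obj (op C)) :
    H.obj.map f.op (H.obj.map g.op s) = H.obj.map k.op s := by
  obtain rfl : k = f ≫ g := Subsingleton.elim _ _
  rw [op_comp, Functor.map_comp]
  rfl

include hU in
/-- the presheaf `W ↦ H((X ∖ Z) ∪ i(W))` on `Z` is a sheaf if `H` is supported on `Z` -/
lemma isSheaf_flat (H : Ab X) (hH : Supp U H) :
    TopCat.Presheaf.IsSheaf (C := AddCommGrpCat.{u}) (X := Z) ((hat i hi).op ⋙ H.obj) := by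
  rw [TopCat.Presheaf.isSheaf_iff_isSheafUniqueGluing]
  intro ι W sf hsf
  let U' : Option ι → Opens X := fun o => Option.rec U (fun a => (hat i hi).obj (W a)) o
  let iUV : ∀ o, U' o ⟶ (hat i hi).obj (iSup W) := fun o =>
    match o with
    | none => homOfLE (le_hat i hi U hU _)
    | some a => (hat i hi).map (Opens.leSupr W a)
  let sf' : ∀ o, H.obj.obj (op (U' o)) := fun o =>
    match o with
    | none => 0
    | some a => sf a
  have hcompat : TopCat.Presheaf.IsCompatible H.obj U' sf' := by
    intro o o'
    match o, o' with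
    | none, _ =>
      exact @Subsingleton.elim _ (subsingleton_of_supp U hH inf_le_left) _ _
    | some a, none =>
      exact @Subsingleton.elim _ (subsingleton_of_supp U hH inf_le_right) _ _
    | some a, some b =>
      have h := hsf a b
      have hle : (hat i hi).obj (W a) ⊓ (hat i hi).obj (W b) ≤ (hat i hi).obj (W a ⊓ W b) :=
        fun x hx z hz => ⟨hx.1 z hz, hx.2 z hz⟩
      have h' := congrArg (H.obj.map (homOfLE hle).op) h
      change H.obj.map (homOfLE hle).op (H.obj.map ((hat i hi).map (Opens.infLELeft _ _)).op (sf a)) =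
        H.obj.map (homOfLE hle).op (H.obj.map ((hat i hi).map (Opens.infLERight _ _)).op (sf b)) at h'
      rw [map_map_apply H _ _ (Opens.infLELeft _ _), map_map_apply H _ _ (Opens.infLERight _ _)] at h'
      exact h'
  obtain ⟨s, hs, hs'⟩ := TopCat.Sheaf.existsUnique_gluing' H U' ((hat i hi).obj (iSup W)) iUV
    (hat_iSup_le i hi U hU W) sf' hcompat
  refine ⟨s, fun a => ?_, fun t ht => ?_⟩
  · exact hs (some a)
  · apply hs'
    intro o
    match o with
    | none => exact @Subsingleton.elim _ (subsingleton_of_supp U hH le_rfl) _ _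
    | some a => exact ht a

/-- the sheaf `W ↦ H((X ∖ Z) ∪ i(W))` on `Z` -/
noncomputable def flat (H : Ab X) (hH : Supp U H) : Ab Z :=
  ⟨(hat i hi).op ⋙ H.obj, isSheaf_flat i hi U hU H hH⟩

lemma le_hat_map (V : Opens X) : V ≤ (hat i hi).obj ((Opens.map i).obj V) :=
  (map_le_iff i hi _ _).1 le_rfl

include hU in
lemma hat_map_le (V : Opens X) : (hat i hi).obj ((Opens.map i).obj V) ≤ V ⊔ U := by
  intro x hx
  by_cases hxr : x ∈ Set.range i
  · obtain ⟨z, rfl⟩ := hxr
    exact Or.inl (hx z rfl)
  · refine Or.inr ?_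
    change x ∈ (U : Set X)
    rw [hU]
    exact hxr

/-- restriction `H(V') ⟶ H(V)` is bijective if `V ≤ V' ≤ V ⊔ U` and `H` is supported off `U` -/
lemma bijective_res (H : Ab X) (hH : Supp U H) {V V' : Opens X} (h : V ≤ V') (h' : V' ≤ V ⊔ U) :
    Function.Bijective (H.obj.map (homOfLE h).op) := by
  have hcover : V' ≤ V ⊔ (V' ⊓ U) := by
    intro x hx
    rcases h' hx with hxV | hxU
    · exact Or.inl hxV
    · exact Or.inr ⟨hx, hxU⟩
  constructor
  · intro s t hst
    refine TopCat.Sheaf.eq_of_locally_eq₂ H (homOfLE h) (homOfLE (inf_le_left : V' ⊓ U ≤ V'))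
      hcover s t hst ?_
    exact @Subsingleton.elim _ (subsingleton_of_supp U hH inf_le_right) _ _
  · intro t
    let U'' : Bool → Opens X := fun b => Bool.rec (V' ⊓ U) V b
    let iUV : ∀ b, U'' b ⟶ V' := fun b =>
      match b with
      | true => homOfLE h
      | false => homOfLE inf_le_left
    let sf : ∀ b, H.obj.obj (op (U'' b)) := fun b =>
      match b with
      | true => t
      | false => 0
    have hcompat : TopCat.Presheaf.IsCompatible H.obj U'' sf := by
      intro b b'
      match b, b' with
      | true, true => rfl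
      | true, false =>
        exact @Subsingleton.elim _
          (subsingleton_of_supp U hH (inf_le_right.trans inf_le_right)) _ _
      | false, _ =>
        exact @Subsingleton.elim _
          (subsingleton_of_supp U hH (inf_le_left.trans inf_le_right)) _ _
    have hc : V' ≤ iSup U'' := by
      refine hcover.trans (sup_le ?_ ?_)
      · exact le_iSup U'' true
      · exact le_iSup U'' false
    obtain ⟨s, hs, -⟩ := TopCat.Sheaf.existsUnique_gluing' H U'' V' iUV hc sf hcompat
    exact ⟨s, hs true⟩

include hU in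
/-- `i_* (flat H) ≅ H` at the presheaf level -/
noncomputable def pushFlatHom (H : Ab X) (hH : Supp U H) :
    ((CohTop.push i).obj (flat i hi U hU H hH)).obj ⟶ H.obj where
  app V := H.obj.map (homOfLE (le_hat_map i hi V.unop)).op
  naturality V V' f := by
    change H.obj.map _ ≫ H.obj.map _ = H.obj.map _ ≫ H.obj.map _
    rw [← Functor.map_comp, ← Functor.map_comp]
    rfl

instance (H : Ab X) (hH : Supp U H) : IsIso (pushFlatHom i hi U hU H hH) := by
  have : ∀ V, IsIso ((pushFlatHom i hi U hU H hH).app V) := by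
    intro V
    rw [ConcreteCategory.isIso_iff_bijective]
    exact bijective_res U H hH (le_hat_map i hi V.unop) (hat_map_le i hi U hU V.unop)
  exact NatIso.isIso_of_isIso_app _

/-- `i_* (flat H) ≅ H` -/
noncomputable def pushFlatIso (H : Ab X) (hH : Supp U H) :
    (CohTop.push i).obj (flat i hi U hU H hH) ≅ H :=
  (fullyFaithfulSheafToPresheaf _ _).preimageIso (asIso (pushFlatHom i hi U hU H hH))

end Supp

end Groth.Agent.Lib.Helper6.ClosedEmb
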