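import Groth.Agent.Lib.Helper6.ClosedEmb
import Groth.Agent.Lib.Helper6.LocCohZFlasque
import Mathlib.CategoryTheory.Adjunction.Restrict
import Mathlib.CategoryTheory.Adjunction.Unique

/-!
# `i_* ⊣ i⁻¹ Γ_Z` for a closed embedding `i : Z ⟶ X` (helper6)
-/

universe u

open CategoryTheory Limits Opposite TopologicalSpace

namespace Groth.Agent.Lib.Helper6.ClosedEmbAdj

open CohTop ClosedEmb LocCohZSupp LocCohZFlasque

variable {Z X : TopCat.{u}} (i : Z ⟶ X) (hi : Topology.IsClosedEmbedding i)
  (U : Opens X) (hU : (U : Set X) = (Set.range i)ᶜ)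

/-- the property of being supported on the complement of `U` -/
def P : ObjectProperty (Ab X) := Supp U

lemma η_eq_zero_of_supp (K : Ab X) (hK : Supp U K) : η U K = 0 := by
  apply Sheaf.hom_ext
  ext W s
  have : Subsingleton (K.obj.obj (op (W.unop ⊓ U))) := subsingleton_of_supp U hK inf_le_right
  exact (η_app_eq_zero_iff U K inf_le_left inf_le_right le_rfl s).2 (Subsingleton.elim _ _)

lemma comp_η_eq_zero {K F : Ab X} (hK : Supp U K) (b : K ⟶ F) : b ≫ η U F = 0 := by
  have nat := (adjU U).unit.naturality b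
  change b ≫ η U F = η U K ≫ _ at nat
  rw [nat, η_eq_zero_of_supp U K hK, zero_comp]

/-- `Γ_Z` with values in the sheaves supported on `Z` -/
noncomputable def T' : Ab X ⥤ (P U).FullSubcategory :=
  (P U).lift (LocCohZ.sectSuppF U) (fun F V hV => isZero_sectSupp_obj U F V hV)

/-- the coreflection onto sheaves supported on `Z` -/
noncomputable def adj1 : (P U).ι ⊣ T' U :=
  Adjunction.mkOfHomEquiv
    { homEquiv := fun K F =>
        { toFun := fun b => ObjectProperty.homMk (lift' U b (comp_η_eq_zero U K.property b))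
          invFun := fun c => c.hom ≫ ι' U F
          left_inv := fun b => lift'_ι' U b _
          right_inv := fun c => by
            apply ObjectProperty.hom_ext
            apply (cancel_mono (ι' U F)).1
            exact lift'_ι' U _ _ }
      homEquiv_naturality_left_symm := fun {K' K F} f g => by
        change (f ≫ g).hom ≫ ι' U F = f.hom ≫ g.hom ≫ ι' U F
        exact Category.assoc _ _ _
      homEquiv_naturality_right := fun {K F F'} b φ => by
        apply ObjectProperty.hom_ext
        apply (cancel_mono (ι' U F')).1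
        change lift' U (b ≫ φ) _ ≫ ι' U F' = (lift' U b _ ≫ (LocCohZ.sectSuppF U).map φ) ≫ ι' U F'
        rw [lift'_ι', Category.assoc, map_ι', ← Category.assoc, lift'_ι'] }

/-- `i_*` with values in the sheaves supported on `Z` -/
noncomputable def E : Ab Z ⥤ (P U).FullSubcategory :=
  (P U).lift (CohTop.push i) (supp_push i U hU)

include hi in
lemma faithful_E : (E i U hU).Faithful := by
  have h : (CohTop.push i).Faithful := (ff i hi).faithful
  exact Functor.Faithful.of_comp_iso ((P U).liftCompιIso (CohTop.push i) (supp_push i U hU))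

include hi in
lemma full_E : (E i U hU).Full := by
  have h : (CohTop.push i).Full := (ff i hi).full
  exact Functor.Full.of_comp_faithful_iso ((P U).liftCompιIso (CohTop.push i) (supp_push i U hU))

include hi in
lemma essSurj_E : (E i U hU).EssSurj :=
  ⟨fun K => ⟨flat i hi U hU K.obj K.property,
    ⟨(P U).isoMk (pushFlatIso i hi U hU K.obj K.property)⟩⟩⟩

include hi in
lemma isEquivalence_E : (E i U hU).IsEquivalence :=
  { faithful := faithful_E i hi U hU
    full := full_E i hi U hU
    essSurj := essSurj_E i hi U hU }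

/-- `i⁻¹` restricted to sheaves supported on `Z` is left adjoint to `i_*` -/
noncomputable def adj0 : (P U).ι ⋙ CohTop.pull i ⊣ E i U hU :=
  (TopCat.Sheaf.pullbackPushforwardAdjunction AddCommGrpCat.{u} i).restrictFullyFaithful
    (P U).fullyFaithfulι (Functor.FullyFaithful.id _)
    (Functor.rightUnitor _).symm (Functor.leftUnitor _ ≪≫ ((P U).liftCompιIso _ _).symm)

include hi hU in
/-- **`i_* ⊣ Γ_Z ⋙ i⁻¹`** -/
theorem nonempty_adj : Nonempty (CohTop.push i ⊣ LocCohZ.sectSuppF U ⋙ CohTop.pull i) := by
  have := isEquivalence_E i hi U hU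
  let adjE : E i U hU ⊣ (E i U hU).inv := (E i U hU).asEquivalence.toAdjunction
  let adjE' : (E i U hU).inv ⊣ E i U hU := (E i U hU).asEquivalence.symm.toAdjunction
  let eInv : (E i U hU).inv ≅ (P U).ι ⋙ CohTop.pull i :=
    Adjunction.leftAdjointUniq adjE' (adj0 i U hU)
  let a : E i U hU ⋙ (P U).ι ⊣ T' U ⋙ (E i U hU).inv := adjE.comp (adj1 U)
  let a' : E i U hU ⋙ (P U).ι ⊣ T' U ⋙ (P U).ι ⋙ CohTop.pull i :=
    a.ofNatIsoRight (Functor.isoWhiskerLeft (T' U) eInv)
  exact ⟨a'⟩

section Compl

variable {X : TopCat.{u}} (U : Opens X)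

lemma isClosedEmbedding_inclCompl : Topology.IsClosedEmbedding (CohCx.inclCompl U) :=
  U.2.isClosed_compl.isClosedEmbedding_subtypeVal

lemma coe_eq_compl_range : (U : Set X) = (Set.range (CohCx.inclCompl U))ᶜ := by
  have : Set.range (CohCx.inclCompl U) = (U : Set X)ᶜ := Subtype.range_val
  rw [this, compl_compl]

/-- `i_* ⊣ i⁻¹ Γ_Z` for the inclusion of the closed complement of `U` -/
theorem nonempty_adj_inclCompl :
    Nonempty (CohTop.push (CohCx.inclCompl U) ⊣
      LocCohZ.sectSuppF U ⋙ CohTop.pull (CohCx.inclCompl U)) :=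
  nonempty_adj (CohCx.inclCompl U) (isClosedEmbedding_inclCompl U) U (coe_eq_compl_range U)

end Compl

end Groth.Agent.Lib.Helper6.ClosedEmbAdj
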