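import Groth.Prelude.Def_CohCx
import Groth.Agent.Lib.Helper6.CohSiteOverSet
import Groth.Agent.Lib.Helper6.TotAcyc
import Groth.Agent.Lib.Helper6.TotAcycProd
import Groth.Agent.Lib.Helper6.SieveExt
import Mathlib.CategoryTheory.Sites.Pullback
import Mathlib.CategoryTheory.Functor.Flat

/-!
# Direct image along a morphism of sites preserves total acyclicity (helper6)
-/

universe u

open CategoryTheory Limits Opposite Abelian

namespace Groth.Agent.Lib.Helper6.CohSiteMorph

open CohSiteOverSet

variable {C D : Type u} [SmallCategory C] [SmallCategory D] [HasFiniteLimits D]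
  (J : GrothendieckTopology C) (K : GrothendieckTopology D) (u : D ⥤ C)
  [PreservesFiniteLimits u] [u.IsContinuous K J]

/-- direct image -/
noncomputable abbrev Rab : Sheaf J AddCommGrpCat.{u} ⥤ Sheaf K AddCommGrpCat.{u} := CohSite.push J K u

/-- inverse image -/
noncomputable abbrev Lab : Sheaf K AddCommGrpCat.{u} ⥤ Sheaf J AddCommGrpCat.{u} :=
  u.sheafPullback AddCommGrpCat.{u} K J

/-- the adjunction -/
noncomputable abbrev adjab : Lab J K u ⊣ Rab J K u :=
  u.sheafAdjunctionContinuous AddCommGrpCat.{u} K J

/-- direct image of sheaves of sets -/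
abbrev Rset : Sheaf J (Type u) ⥤ Sheaf K (Type u) :=
  u.sheafPushforwardContinuous (Type u) K J

/-- inverse image of sheaves of sets -/
noncomputable abbrev Lset : Sheaf K (Type u) ⥤ Sheaf J (Type u) :=
  u.sheafPullback (Type u) K J

/-- the adjunction for sheaves of sets -/
noncomputable abbrev adjset : Lset J K u ⊣ Rset J K u :=
  u.sheafAdjunctionContinuous (Type u) K J

instance : PreservesFiniteLimits (Lab J K u) := by
  have : RepresentablyFlat u := flat_of_preservesFiniteLimits u
  exact CategoryTheory.Functor.SmallCategories.instPreservesFiniteLimitsSheafSheafPullbackOfRepresentablyFlat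
    u AddCommGrpCat.{u} K J

instance : (Lab J K u).Additive := (adjab J K u).left_adjoint_additive

instance : PreservesFiniteLimits (Rab J K u) := by
  have := (adjab J K u).rightAdjoint_preservesLimits
  exact PreservesLimits.preservesFiniteLimits _

/-- direct image commutes with the forgetful functors -/
noncomputable def rightIso :
    Rab J K u ⋙ sheafCompose K (forget AddCommGrpCat.{u}) ≅
      sheafCompose J (forget AddCommGrpCat.{u}) ⋙ Rset J K u :=
  Iso.refl _

/-- inverse image commutes with the free functors -/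
noncomputable def leftIso : ZF K ⋙ Lab J K u ≅ Lset J K u ⋙ ZF J :=
  ((adjZ K).comp (adjab J K u)).leftAdjointUniq
    (((adjset J K u).comp (adjZ J)).ofNatIsoRight (rightIso J K u).symm)

theorem totallyAcyclic_push {F : Sheaf J AddCommGrpCat.{u}} (hF : CohCx.IsTotallyAcyclic F) :
    CohCx.IsTotallyAcyclic ((Rab J K u).obj F) := by
  intro T p
  obtain ⟨e⟩ := ExtAdj.nonempty_ext_addEquiv_of_class (adjab J K u) CohCx.IsTotallyAcyclic
    (fun S hS h1 hI => by
      haveI := hI
      refine ⟨fun T' p' => ⟨fun a b => ?_⟩, ?_⟩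
      · have h0 : ∀ x : CohCx.HK T' S.X₃ (p' + 1), x = 0 :=
          TotAcycProd.vanish_X₃ hS _ (fun q x => (h1 T' q).elim _ _) p'
        exact (h0 a).trans (h0 b).symm
      · apply TotAcycProd.epi_of_sections_surjective
        intro V
        exact SieveExt.surjective_of_H1_vanish J hS (u.obj V)
          (fun x => (TotAcyc.subsingleton_HU J h1 (u.obj V) 0).elim _ _))
    ((ZF K).obj T) F hF (p + 1)
  have h : Subsingleton (Ext ((ZF J).obj ((Lset J K u).obj T)) F (p + 1)) :=
    hF ((Lset J K u).obj T) p
  have h' : Subsingleton (Ext ((Lab J K u).obj ((ZF K).obj T)) F (p + 1)) :=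
    subsingleton_ext_of_iso ((leftIso J K u).app T) (p + 1) h
  exact e.symm.toEquiv.subsingleton

end Groth.Agent.Lib.Helper6.CohSiteMorph
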