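import Groth.Agent.Lib.Helper6.CohSiteBigger
import Groth.Agent.Lib.Helper6.CohSiteOver
import Mathlib.CategoryTheory.Limits.Constructions.Over.Connected
import Mathlib.CategoryTheory.Limits.Constructions.Over.Basic
import Mathlib.CategoryTheory.Limits.Preserves.Shapes.Over
import Mathlib.CategoryTheory.Sites.Over

/-!
# `H^p(U, F ∘ u) ≅ H^p(u U, F)` for continuous and cocontinuous `u` commuting with fibre products
(helper6)
-/

universe u

open CategoryTheory Limits Opposite Abelian

namespace Groth.Agent.Lib.Helper6.CohSitePushCocont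

variable {C D : Type u} [SmallCategory C] [SmallCategory D] [HasPullbacks C]
  (J : GrothendieckTopology C) (K : GrothendieckTopology D) (u : C ⥤ D)
  [u.IsContinuous J K] (hu : CoverPreserving J K u) [PreservesLimitsOfShape WalkingCospan u]
  [u.IsCocontinuous J K] (U : C)

instance : PreservesLimitsOfShape WalkingCospan (Over.post (X := U) u) := by
  have : PreservesLimitsOfShape WalkingCospan (Over.post (X := U) u ⋙ Over.forget (u.obj U)) :=
    inferInstanceAs (PreservesLimitsOfShape WalkingCospan (Over.forget U ⋙ u))
  exact preservesLimitsOfShape_of_reflects_of_preserves (Over.post (X := U) u)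
    (Over.forget (u.obj U))

/-- the image of the terminal object is terminal -/
noncomputable def isTerminalPost : IsTerminal ((Over.post (X := U) u).obj (Over.mk (𝟙 U))) :=
  IsTerminal.ofIso Over.mkIdTerminal
    (Over.isoMk (Iso.refl _) (by
      change 𝟙 (u.obj U) ≫ u.map (𝟙 U) = 𝟙 (u.obj U)
      rw [u.map_id, Category.id_comp]) : Over.mk (𝟙 (u.obj U)) ≅
      (Over.post (X := U) u).obj (Over.mk (𝟙 U)))

instance : PreservesLimit (Functor.empty.{0} (Over U)) (Over.post (X := U) u) :=
  preservesLimit_of_preserves_limit_cone (Over.mkIdTerminal (X := U))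
    ((isLimitMapConeEmptyConeEquiv (Over.post (X := U) u) (Over.mk (𝟙 U))).symm
      (isTerminalPost u U))

instance : HasFiniteLimits (Over U) := hasFiniteLimits_of_hasTerminal_and_pullbacks

instance : PreservesFiniteLimits (Over.post (X := U) u) := by
  haveI : PreservesLimitsOfShape (Discrete.{0} PEmpty) (Over.post (X := U) u) :=
    preservesLimitsOfShape_pempty_of_preservesTerminal _
  exact preservesFiniteLimits_of_preservesTerminal_and_pullbacks _

omit [u.IsContinuous J K] [u.IsCocontinuous J K] in
include hu in
lemma isContinuous_post :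
    (Over.post (X := U) u).IsContinuous (J.over U) (K.over (u.obj U)) := by
  have : RepresentablyFlat (Over.post (X := U) u) := flat_of_preservesFiniteLimits _
  exact Functor.isContinuous_of_coverPreserving
    (compatiblePreservingOfFlat (K.over (u.obj U)) (Over.post (X := U) u))
    (hu.overPost U)

include hu in
theorem nonempty_HU_addEquiv (F : Sheaf K AddCommGrpCat.{u}) (p : ℕ) :
    Nonempty (CohSite.HU ((CohSite.push K J u).obj F) p U ≃+ CohSite.HU F p (u.obj U)) := by
  haveI := isContinuous_post J K u hu U
  obtain ⟨e₁⟩ := CohSiteOver.nonempty_HU_addEquiv J U ((CohSite.push K J u).obj F) p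
  obtain ⟨e₂⟩ := CohSiteOver.nonempty_HU_addEquiv K (u.obj U) F p
  obtain ⟨e₃⟩ := CohSiteBigger.nonempty_H_addEquiv (J.over U) (K.over (u.obj U))
    (Over.post (X := U) u) (Over.mkIdTerminal (X := U)) (F.over (u.obj U)) p
  exact ⟨e₁.trans (e₃.trans e₂.symm)⟩

end Groth.Agent.Lib.Helper6.CohSitePushCocont
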