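import Groth.Agent.Lib.Helper6.CohTopRestr
import Groth.Agent.Lib.Helper6.RDShift

/-!
# Higher direct images and restriction to an open of the base (helper6)
-/

universe u

open CategoryTheory Limits Opposite TopologicalSpace

namespace Groth.Agent.Lib.Helper6.CohTopBase

open CohTop CohTopRestr DeltaCompare

variable {X Y : TopCat.{u}}

instance restr_pfc (U : Opens X) : PreservesFiniteColimits (restrFunctor U) := by
  rw [Functor.preservesFiniteColimits_iff_forall_exact_map_and_epi]
  intro S hS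
  have h := restr_shortExact U hS
  exact ⟨h.exact, h.epi_g⟩

variable (f : X ⟶ Y) (V : Opens Y)

/-- the restriction of `f` over `V` -/
abbrev gV : TopCat.of ((Opens.map f).obj V) ⟶ TopCat.of V :=
  TopCat.ofHom ⟨(V : Set Y).restrictPreimage f, f.hom.continuous.restrictPreimage⟩

instance gV_additive : (CohTop.push (gV f V)).Additive := CohTop.instAdditiveAbPush _

instance gV_pfl : PreservesFiniteLimits (CohTop.push (gV f V)) := CohTopPush.push_pfl _

lemma opens_eq (W : Opens (TopCat.of V)) :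
    (Opens.map f).obj ((jF V).obj W) =
      (jF ((Opens.map f).obj V)).obj ((Opens.map (gV f V)).obj W) := by
  ext x
  constructor
  · rintro ⟨y, hy, hxy⟩
    have hx : x ∈ (Opens.map f).obj V := by
      change f x ∈ V
      rw [← hxy]
      exact y.2
    refine ⟨⟨x, hx⟩, ?_, rfl⟩
    change (gV f V) ⟨x, hx⟩ ∈ W
    have : (gV f V) ⟨x, hx⟩ = y := Subtype.ext hxy.symm
    rw [this]
    exact hy
  · rintro ⟨z, hz, rfl⟩
    exact ⟨(gV f V) z, hz, rfl⟩

/-- the two functors `Opens V ⥤ Opens X` agree -/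
def α : jF V ⋙ Opens.map f ≅ Opens.map (gV f V) ⋙ jF ((Opens.map f).obj V) :=
  NatIso.ofComponents (fun W => eqToIso (opens_eq f V W)) (fun _ => Subsingleton.elim _ _)

/-- `(f_* G)|_V ≅ g_* (G|_{f⁻¹V})` -/
noncomputable def ρobj (G : Ab X) :
    (restrFunctor V).obj ((CohTop.push f).obj G) ≅
      (CohTop.push (gV f V)).obj ((restrFunctor ((Opens.map f).obj V)).obj G) :=
  (fullyFaithfulSheafToPresheaf _ _).preimageIso
    (Functor.isoWhiskerRight (NatIso.op (α f V)).symm G.obj)

lemma ρobj_hom_app (G : Ab X) (W : Opens (TopCat.of V)) :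
    (ρobj f V G).hom.hom.app (op W) = G.obj.map ((α f V).inv.app W).op := rfl

/-- `f_* ⋙ (-)|_V ≅ (-)|_{f⁻¹V} ⋙ g_*` -/
noncomputable def ρ : CohTop.push f ⋙ restrFunctor V ≅
    restrFunctor ((Opens.map f).obj V) ⋙ CohTop.push (gV f V) :=
  NatIso.ofComponents (ρobj f V) (fun {G G'} g => by
    apply Sheaf.hom_ext
    apply NatTrans.ext
    funext W
    exact (g.hom.naturality ((α f V).inv.app W.unop).op).symm)

/-- `R^0 f_* ⋙ (-)|_V ≅ (-)|_{f⁻¹V} ⋙ R^0 g_*` -/
noncomputable def θ : CohTop.Rpush f 0 ⋙ restrFunctor V ≅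
    restrFunctor ((Opens.map f).obj V) ⋙ CohTop.Rpush (gV f V) 0 :=
  Functor.isoWhiskerRight (Functor.rightDerivedZeroIsoSelf (CohTop.push f)) (restrFunctor V) ≪≫
    ρ f V ≪≫ Functor.isoWhiskerLeft (restrFunctor ((Opens.map f).obj V))
      (Functor.rightDerivedZeroIsoSelf (CohTop.push (gV f V))).symm

/-- `(R^p f_* F)|_V ≅ R^p g_* (F|_{f⁻¹V})`. -/
theorem nonempty_restr_Rpush_iso (F : Ab X) (p : ℕ) :
    Nonempty ((restrFunctor V).obj ((CohTop.Rpush f p).obj F) ≅
      (CohTop.Rpush (gV f V) p).obj ((restrFunctor ((Opens.map f).obj V)).obj F)) :=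
  delta_compare (fun n => CohTop.Rpush f n ⋙ restrFunctor V)
    (fun n => restrFunctor ((Opens.map f).obj V) ⋙ CohTop.Rpush (gV f V) n) (θ f V)
    (fun _ => True) (fun G _ => by
      have hE := ExtAcyc.sesUnder_shortExact G
      have hI : Injective (ExtAcyc.sesUnder G).X₂ := inferInstance
      refine ⟨_, _, (ExtAcyc.sesUnder G).f, (ExtAcyc.sesUnder G).g, trivial,
        RDShift.HasShift.comp_exact (RDShift.hasShift_rightDerived (CohTop.push f) _ hE
          (fun n => Functor.isZero_rightDerived_obj_injective_succ _ n _)) (restrFunctor V),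
        RDShift.hasShift_comp_rightDerived (CohTop.push (gV f V))
          (restrFunctor ((Opens.map f).obj V)) _ (restr_shortExact _ hE)
          (fun n => CohTopPush.isZero_Rpush_of_flasque (gV f V) _ n)⟩) p F trivial

end Groth.Agent.Lib.Helper6.CohTopBase
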