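import Groth.Agent.Lib.Helper6.SheafCoh
import Mathlib.CategoryTheory.Sites.LocallyBijective
import Mathlib.Topology.Sheaves.SheafCondition.UniqueGluing
import Mathlib.Topology.Sheaves.LocallySurjective

/-!
# The constant sheaf on an irreducible space is flasque (helper6)
-/

universe u

open CategoryTheory Limits Opposite TopologicalSpace

namespace Groth.Agent.Lib.Helper6.CohTopConst

open CohTop

variable (X : TopCat.{u}) (A : Type u) [AddCommGroup A]

/-- the constant presheaf -/
abbrev Pc : (Opens X)ᵒᵖ ⥤ AddCommGrpCat.{u} := (Functor.const _).obj (AddCommGrpCat.of A)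

/-- the sheafification map of the constant presheaf -/
noncomputable abbrev η : Pc X A ⟶ (CohTop.const X A).obj :=
  toSheafify (Opens.grothendieckTopology X) (Pc X A)

variable {X A}

lemma η_res {U V : Opens X} (h : V ≤ U) (a : A) :
    (CohTop.const X A).obj.map (homOfLE h).op ((η X A).app (op U) a) = (η X A).app (op V) a := by
  have := ConcreteCategory.congr_hom ((η X A).naturality (homOfLE h).op) a
  rw [ConcreteCategory.comp_apply, ConcreteCategory.comp_apply] at this
  exact this.symm

lemma η_locally_surjective (U : Opens X) (t : (CohTop.const X A).obj.obj (op U)) (x : X)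
    (hx : x ∈ U) : ∃ (V : Opens X) (hV : V ≤ U), x ∈ V ∧ ∃ a : A,
      (η X A).app (op V) a = (CohTop.const X A).obj.map (homOfLE hV).op t := by
  have h : TopCat.Presheaf.IsLocallySurjective (η X A) :=
    inferInstanceAs (Presheaf.IsLocallySurjective (Opens.grothendieckTopology X)
      (toSheafify (Opens.grothendieckTopology X) (Pc X A)))
  obtain ⟨V, hV, ⟨a, ha⟩, hxV⟩ := (TopCat.Presheaf.isLocallySurjective_iff _).1 h U t x hx
  exact ⟨V, hV, hxV, a, ha⟩

lemma η_locally_injective (U : Opens X) (a b : A) (h : (η X A).app (op U) a = (η X A).app (op U) b)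
    (hU : (U : Set X).Nonempty) : a = b := by
  have hi : Presheaf.IsLocallyInjective (Opens.grothendieckTopology X) (η X A) :=
    inferInstanceAs (Presheaf.IsLocallyInjective (Opens.grothendieckTopology X)
      (toSheafify (Opens.grothendieckTopology X) (Pc X A)))
  have hm := Presheaf.equalizerSieve_mem (Opens.grothendieckTopology X) (η X A)
    (X := op U) (a : (Pc X A).obj (op U)) b h
  obtain ⟨x, hx⟩ := hU
  obtain ⟨V, f, hf, hxV⟩ := hm x hx
  exact hf

/-- On a (pre)irreducible space, sections of the constant sheaf over a nonempty open are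
constant. -/
lemma exists_eq_η [PreirreducibleSpace X] (V : Opens X) (hV : (V : Set X).Nonempty)
    (s : (CohTop.const X A).obj.obj (op V)) : ∃ a : A, (η X A).app (op V) a = s := by
  obtain ⟨x₀, hx₀⟩ := hV
  obtain ⟨W₀, hW₀, hx₀W, a, ha⟩ := η_locally_surjective V s x₀ hx₀
  refine ⟨a, ?_⟩
  have key : ∀ x : V, ∃ (W : Opens X) (hW : W ≤ V), x.1 ∈ W ∧
      (CohTop.const X A).obj.map (homOfLE hW).op ((η X A).app (op V) a) =
        (CohTop.const X A).obj.map (homOfLE hW).op s := by
    rintro ⟨x, hx⟩
    obtain ⟨W, hW, hxW, b, hb⟩ := η_locally_surjective V s x hx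
    refine ⟨W, hW, hxW, ?_⟩
    have hne : ((W ⊓ W₀ : Opens X) : Set X).Nonempty :=
      nonempty_preirreducible_inter W.2 W₀.2 ⟨x, hxW⟩ ⟨x₀, hx₀W⟩
    have hab : b = a := by
      apply η_locally_injective (W ⊓ W₀) b a _ hne
      rw [← η_res (inf_le_left : W ⊓ W₀ ≤ W) b, hb, ← η_res (inf_le_right : W ⊓ W₀ ≤ W₀) a, ha]
      simp only [← ConcreteCategory.comp_apply, ← Functor.map_comp]
      rfl
    rw [η_res hW a, ← hab, hb]
  choose W hW hxW hWeq using key
  exact TopCat.Sheaf.eq_of_locally_eq' (CohTop.const X A) W V (fun x => homOfLE (hW x))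
    (fun x hx => Opens.mem_iSup.2 ⟨⟨x, hx⟩, hxW _⟩) _ _ hWeq

/-- The constant sheaf on a (pre)irreducible space is flasque. -/
theorem const_isFlasque [PreirreducibleSpace X] : TopCat.Sheaf.IsFlasque (CohTop.const X A) where
  epi {U V} i := by
    rw [AddCommGrpCat.epi_iff_surjective]
    intro s
    by_cases hV : ((V.unop : Opens X) : Set X).Nonempty
    · obtain ⟨a, ha⟩ := exists_eq_η V.unop hV s
      refine ⟨(η X A).app U a, ?_⟩
      rw [← ha]
      exact η_res (leOfHom i.unop) a
    · have hbot : V.unop = ⊥ := by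
        ext x
        simp only [Opens.coe_bot, Set.mem_empty_iff_false, iff_false]
        exact fun hx => hV ⟨x, hx⟩
      have hT := TopCat.Sheaf.isTerminalOfEqEmpty (CohTop.const X A) hbot
      have hZ : IsZero ((CohTop.const X A).obj.obj (op V.unop)) :=
        (isZero_zero _).of_iso (hT.uniqueUpToIso (isZero_zero _).isTerminal)
      have hsub := AddCommGrpCat.subsingleton_of_isZero hZ
      exact ⟨0, @Subsingleton.elim _ hsub _ _⟩

end Groth.Agent.Lib.Helper6.CohTopConst
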