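import Groth.Agent.Lib.Helper6.CohTopLeray
import Groth.Agent.Lib.Helper6.RDShift

/-!
# Sheaf cohomology as right derived functors of global sections (helper6)
-/

universe u

open CategoryTheory Limits Opposite TopologicalSpace Abelian

namespace Groth.Agent.Lib.Helper6.CohTopGamma

open CohTop DeltaCompare CohTopLeray

/-- global sections -/
noncomputable abbrev Γ (X : TopCat.{u}) : Ab X ⥤ AddCommGrpCat.{u} :=
  (sheafSections (Opens.grothendieckTopology X) AddCommGrpCat.{u}).obj (op ⊤)

variable {X : TopCat.{u}}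

instance : (Γ X).Additive where
  map_add {F G f g} := by
    change (f + g).hom.app (op ⊤) = f.hom.app (op ⊤) + g.hom.app (op ⊤)
    rw [Sheaf.Hom.add_app]

instance : PreservesFiniteLimits (Γ X) := by
  have := (constantSheafAdj (Opens.grothendieckTopology X) AddCommGrpCat.{u}
    (isTerminalTop (α := Opens X))).rightAdjoint_preservesLimits
  exact PreservesLimits.preservesFiniteLimits _

/-- `H^0(X, -) ≅ Γ` -/
noncomputable def θ₀ : extFunctorObj (ZZ X) 0 ≅ Γ X :=
  NatIso.ofComponents
    (fun G => (Sheaf.H.equiv₀ G (isTerminalTop (α := Opens X))).toAddCommGrpIso)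
    (fun {G G'} g => by
      ext x
      exact (Sheaf.H.equiv₀_naturality (isTerminalTop (α := Opens X)) g x).symm)

/-- `H^q(X, F) ≅ (R^q Γ)(F)`. -/
theorem nonempty_H_iso_rightDerived (F : Ab X) (q : ℕ) :
    Nonempty ((extFunctorObj (ZZ X) q).obj F ≅ ((Γ X).rightDerived q).obj F) :=
  delta_compare (fun n => extFunctorObj (ZZ X) n) (fun n => (Γ X).rightDerived n)
    (θ₀ ≪≫ (Functor.rightDerivedZeroIsoSelf (Γ X)).symm) (fun _ => True) (fun G _ => by
      have hE := ExtAcyc.sesUnder_shortExact G
      have hI : Injective (ExtAcyc.sesUnder G).X₂ := inferInstance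
      exact ⟨_, _, (ExtAcyc.sesUnder G).f, (ExtAcyc.sesUnder G).g, trivial,
        ExtShift.hasShift_ext (ZZ X) _ hE (fun n x => Ext.eq_zero_of_injective x),
        RDShift.hasShift_rightDerived _ _ hE
          (fun n => Functor.isZero_rightDerived_obj_injective_succ _ n _)⟩) q F trivial

end Groth.Agent.Lib.Helper6.CohTopGamma
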