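import Groth.Agent.Lib.Helper6.OverShriek
import Mathlib.Topology.Sheaves.SheafCondition.Sites

/-!
# Extension by zero along an open embedding (helper6)
-/

universe u
open CategoryTheory Limits Opposite TopologicalSpace Topology

namespace Groth.Agent.Lib.Helper6.OpenShriek

open MultiAdj

variable {X Y : TopCat.{u}} {f : X ⟶ Y} (hf : IsOpenEmbedding f)

/-- the multi-initial structure of the image functor of an open embedding -/
def openEmb : MultiInit.{0} hf.isOpenMap.functor where
  I V := PLift ((V : Set Y) ⊆ Set.range f)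
  d V _ := (Opens.map f).obj V
  a V i := homOfLE (by
    intro y hy
    obtain ⟨x, rfl⟩ := i.down hy
    exact ⟨x, hy, rfl⟩)
  fact {V e} b := ⟨⟨fun y hy => by
      obtain ⟨x, _, rfl⟩ := leOfHom b hy
      exact ⟨x, rfl⟩⟩,
    homOfLE (fun x hx => by
      obtain ⟨y, hy, hxy⟩ := leOfHom b hx
      rw [← hf.injective hxy]
      exact hy)⟩
  fact_spec b := Subsingleton.elim _ _
  fact_uniq b p h := by
    rcases p with ⟨⟨hp⟩, c⟩
    exact Sigma.ext rfl (heq_of_eq (Subsingleton.elim _ _))

lemma sigmaMono : SigmaMono (openEmb hf) AddCommGrpCat.{u} := fun V X Y f hf => by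
  haveI := hf
  exact OverShriek.mono_sigmaMap f

end Groth.Agent.Lib.Helper6.OpenShriek
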