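import Groth.Prelude.Def_CohCx
import Groth.Agent.Lib.Helper6.CohTopRestr
import Groth.Agent.Lib.Helper6.OpenShriek
import Groth.Agent.Lib.Helper6.DerivedCatAdj

/-!
# `H^p(U, K) ≅ H^p(U, K|_U)` in the derived category (helper6)
-/

universe u

open CategoryTheory Limits Opposite TopologicalSpace

namespace Groth.Agent.Lib.Helper6.CohTopRestrDer

open CohTop CohTopRestr SheafCoh

variable {X : TopCat.{u}} (U : Opens X)

lemma isOE : Topology.IsOpenEmbedding
    (TopCat.Hom.hom (TopCat.ofHom ⟨_, continuous_subtype_val⟩ : TopCat.of U ⟶ X)) :=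
  U.isOpenEmbedding

instance : (isOE U).isOpenMap.functor.IsContinuous (Opens.grothendieckTopology (TopCat.of U))
    (Opens.grothendieckTopology X) := (isOE U).functor_isContinuous

/-- extension by zero -/
noncomputable abbrev L : Ab (TopCat.of U) ⥤ Ab X :=
  MultiAdj.shriek (OpenShriek.openEmb (isOE U)) (Opens.grothendieckTopology (TopCat.of U))
    (Opens.grothendieckTopology X) (A := AddCommGrpCat.{u})

/-- `j_! ⊣ j^*` -/
noncomputable abbrev adj : L U ⊣ restrFunctor U :=
  MultiAdj.adj (OpenShriek.openEmb (isOE U)) (Opens.grothendieckTopology (TopCat.of U))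
    (Opens.grothendieckTopology X) (A := AddCommGrpCat.{u})

instance : (L U).Additive := MultiAdj.shriek_additive _ _ _

instance : PreservesFiniteLimits (L U) :=
  MultiAdj.shriek_preservesFiniteLimits _ _ _ (OpenShriek.sigmaMono (isOE U))

instance : PreservesFiniteColimits (L U) := by
  have := (adj U).leftAdjoint_preservesColimits
  exact PreservesColimits.preservesFiniteColimits _

/-- `Hom(j_! ℤ[h_⊤], G) ≃ Hom(ℤ[h_U], G)` -/
noncomputable def homEquivFree (G : Ab X) :
    ((L U).obj (Zfree (Opens.grothendieckTopology (TopCat.of U)) ⊤) ⟶ G) ≃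
      (Zfree (Opens.grothendieckTopology X) U ⟶ G) :=
  ((adj U).homEquiv _ G).trans
    ((homEquiv (Opens.grothendieckTopology (TopCat.of U)) ⊤ ((restrFunctor U).obj G)).trans
      ((secIso U G).symm.addCommGroupIsoToAddEquiv.toEquiv.trans (homEquiv (Opens.grothendieckTopology X) U G).symm))

lemma homEquivFree_naturality {G G' : Ab X} (g : G ⟶ G')
    (φ : (L U).obj (Zfree (Opens.grothendieckTopology (TopCat.of U)) ⊤) ⟶ G) :
    homEquivFree U G' (φ ≫ g) = homEquivFree U G φ ≫ g := by
  apply (homEquiv (Opens.grothendieckTopology X) U G').injective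
  rw [homEquiv_naturality_right]
  simp only [homEquivFree, Equiv.trans_apply, Equiv.apply_symm_apply]
  rw [Adjunction.homEquiv_naturality_right, homEquiv_naturality_right]
  have h1 := ConcreteCategory.congr_hom (secIso_naturality U g)
    ((secIso U G).inv (homEquiv (Opens.grothendieckTopology (TopCat.of U)) ⊤
      ((restrFunctor U).obj G) ((adj U).homEquiv _ G φ)))
  rw [ConcreteCategory.comp_apply, ConcreteCategory.comp_apply] at h1
  have h2 : (secIso U G).hom ((secIso U G).inv (homEquiv (Opens.grothendieckTopology (TopCat.of U))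
      ⊤ ((restrFunctor U).obj G) ((adj U).homEquiv _ G φ))) = _ :=
    ConcreteCategory.congr_hom (secIso U G).inv_hom_id _
  rw [h2] at h1
  change (secIso U G').inv _ = _
  erw [← h1]
  exact ConcreteCategory.congr_hom (secIso U G').hom_inv_id _

/-- `j_! ℤ[h_⊤] ≅ ℤ[h_U]` -/
noncomputable def freeIso :
    (L U).obj (Zfree (Opens.grothendieckTopology (TopCat.of U)) ⊤) ≅
      Zfree (Opens.grothendieckTopology X) U where
  hom := (homEquivFree U _).symm (𝟙 _)
  inv := homEquivFree U _ (𝟙 _)
  hom_inv_id := by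
    apply (homEquivFree U _).injective
    rw [homEquivFree_naturality, Equiv.apply_symm_apply, Category.id_comp]
  inv_hom_id := by
    rw [← homEquivFree_naturality, Category.id_comp, Equiv.apply_symm_apply]

/-- precomposition with an isomorphism, additively -/
def homAddEquivLeft {𝒞 : Type*} [Category 𝒞] [Preadditive 𝒞] {A A' : 𝒞} (e : A ≅ A') (B : 𝒞) :
    (A ⟶ B) ≃+ (A' ⟶ B) where
  toFun f := e.inv ≫ f
  invFun g := e.hom ≫ g
  left_inv f := by simp
  right_inv g := by simp
  map_add' f g := by simp

/-- postcomposition with an isomorphism, additively -/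
def homAddEquivRight {𝒞 : Type*} [Category 𝒞] [Preadditive 𝒞] (A : 𝒞) {B B' : 𝒞} (e : B ≅ B') :
    (A ⟶ B) ≃+ (A ⟶ B') where
  toFun f := f ≫ e.hom
  invFun g := g ≫ e.inv
  left_inv f := by simp
  right_inv g := by simp
  map_add' f g := by simp

theorem nonempty_HDU_addEquiv [HasDerivedCategory.{u} (Ab X)]
    [HasDerivedCategory.{u} (Ab (TopCat.of U))]
    [PreservesFiniteLimits (restrFunctor U)] [PreservesFiniteColimits (restrFunctor U)]
    (K : DerivedCategory (Ab X)) (p : ℤ) :
    Nonempty (CohCx.HDU K p U ≃+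
      CohCx.HDU ((restrFunctor U).mapDerivedCategory.obj K) p ⊤) := by
  let adjD := DerivedCatAdj.mapDerivedCategoryAdj (adj U)
  let e1 : (DerivedCategory.singleFunctor (Ab X) 0).obj
      (Zfree (Opens.grothendieckTopology X) U) ≅
      (L U).mapDerivedCategory.obj ((DerivedCategory.singleFunctor (Ab (TopCat.of U)) 0).obj
        (Zfree (Opens.grothendieckTopology (TopCat.of U)) ⊤)) :=
    (DerivedCategory.singleFunctor (Ab X) 0).mapIso (freeIso U).symm ≪≫
      (((L U).mapDerivedCategorySingleFunctor 0).symm.app _)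
  exact ⟨(homAddEquivLeft e1 _).trans ((adjD.homAddEquiv _ _).trans
    (homAddEquivRight _ (((restrFunctor U).mapDerivedCategory.commShiftIso p).app K)))⟩

end Groth.Agent.Lib.Helper6.CohTopRestrDer
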