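import Mathlib.CategoryTheory.Abelian.Refinements
import Mathlib.Algebra.Homology.ShortComplex.ShortExact

/-!
# The third isomorphism theorem for cokernels (helper6)

For `a : A ⟶ B`, `b : B ⟶ C` with `b` mono and `c = a ≫ b`:
`0 ⟶ coker a ⟶ coker c ⟶ coker b ⟶ 0` is short exact.
-/

universe v u

open CategoryTheory Limits

namespace Groth.Agent.Lib.Helper6.CokerTriple

variable {𝒜 : Type u} [Category.{v} 𝒜] [Abelian 𝒜]

theorem shortExact {A B C : 𝒜} (a : A ⟶ B) (b : B ⟶ C) (c : A ⟶ C) (i : A ⟶ A) (j : C ⟶ C)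
    [Mono b] (hi : i = 𝟙 A) (hj : j = 𝟙 C) (h₁ : a ≫ b = i ≫ c) (h₂ : c ≫ j = a ≫ b) :
    ∃ w : cokernel.map a c i b h₁ ≫ cokernel.map c b a j h₂ = 0,
      (ShortComplex.mk _ _ w).ShortExact := by
  subst hi hj
  have hc : a ≫ b = c := by simpa using h₁
  have w : cokernel.map a c (𝟙 A) b h₁ ≫ cokernel.map c b a (𝟙 C) h₂ = 0 := by
    apply (cancel_epi (cokernel.π a)).1
    rw [cokernel.π_desc_assoc, Category.assoc, cokernel.π_desc, Category.id_comp,
      cokernel.condition, comp_zero]
  refine ⟨w, ?_⟩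
  -- the second map is a cokernel of the first
  have hcok : IsColimit (CokernelCofork.ofπ (cokernel.map c b a (𝟙 C) h₂) w) := by
    refine CokernelCofork.IsColimit.ofπ _ _
      (fun {Z} f hf => cokernel.desc b (cokernel.π c ≫ f) ?_) ?_ ?_
    · have : b ≫ cokernel.π c = cokernel.π a ≫ cokernel.map a c (𝟙 A) b h₁ := by
        rw [cokernel.π_desc]
      rw [← Category.assoc, this, Category.assoc, hf, comp_zero]
    · intro Z f hf
      apply (cancel_epi (cokernel.π c)).1
      rw [cokernel.π_desc_assoc, Category.id_comp, cokernel.π_desc]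
    · intro Z f hf g hg
      apply (cancel_epi (cokernel.π b)).1
      rw [cokernel.π_desc, ← hg, cokernel.π_desc_assoc, Category.id_comp]
  have hmono : Mono (cokernel.map a c (𝟙 A) b h₁) := by
    refine Preadditive.mono_of_cancel_zero _ (fun {K} k hk => ?_)
    obtain ⟨K', e, he, k', hk'⟩ := surjective_up_to_refinements_of_epi (cokernel.π a) k
    have h0 : (k' ≫ b) ≫ cokernel.π c = 0 := by
      have : b ≫ cokernel.π c = cokernel.π a ≫ cokernel.map a c (𝟙 A) b h₁ := by
        rw [cokernel.π_desc]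
      rw [Category.assoc, this, ← Category.assoc, ← hk', Category.assoc, hk, comp_zero]
    have hex : (ShortComplex.mk c (cokernel.π c) (cokernel.condition c)).Exact :=
      ShortComplex.exact_of_g_is_cokernel _ (cokernelIsCokernel c)
    obtain ⟨K'', e', he', l, hl⟩ := hex.exact_up_to_refinements (k' ≫ b) h0
    dsimp at l hl
    have h1 : e' ≫ k' = l ≫ a := by
      apply (cancel_mono b).1
      rw [Category.assoc, hl, Category.assoc, hc]
    have h2 : (e' ≫ e) ≫ k = 0 := by
      rw [Category.assoc, hk', ← Category.assoc, h1, Category.assoc, cokernel.condition,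
        comp_zero]
    haveI : Epi (e' ≫ e) := epi_comp _ _
    exact (cancel_epi (e' ≫ e)).1 (by rw [h2, comp_zero])
  haveI := hmono
  haveI : Epi (cokernel.map c b a (𝟙 C) h₂) := by
    have : cokernel.π c ≫ cokernel.map c b a (𝟙 C) h₂ = cokernel.π b := by
      rw [cokernel.π_desc, Category.id_comp]
    exact epi_of_epi_fac this
  exact { exact := ShortComplex.exact_of_g_is_cokernel _ hcok }

end Groth.Agent.Lib.Helper6.CokerTriple
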