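import Groth.Agent.Lib.Helper6.TensAQuotB
import Groth.Agent.Lib.Helper6.FibreLinkD
import Groth.Agent.Lib.helper11.TFunCorep4
import Mathlib
set_option backward.isDefEq.respectTransparency.types false
set_option autoImplicit false
set_option linter.style.haveILetI false
set_option linter.unusedSectionVars false
universe u
attribute [local instance] HasDerivedCategory.standard
open AlgebraicGeometry CategoryTheory CategoryTheory.Limits Opposite

/-!
# Corepresentability of `M ↦ Γ(X, f^*(M~) ⊗ F)` (helper6)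
-/

noncomputable section
namespace Groth.Agent.Lib.Helper6.Corep

open Groth.Agent.Lib.Helper23.FQuot Groth.Agent.Lib.Helper6.TensAQuot

section Lift

variable {A : Type u} [CommRing A]

/-- a natural isomorphism of the underlying abelian-group valued functors between two `A`-linear
endofunctors of `A`-modules is `A`-linear -/
theorem nonempty_iso_of_forget₂_iso {G G' : ModuleCat.{u} A ⥤ ModuleCat.{u} A}
    (hG : ∀ (M : ModuleCat.{u} A) (a : A), G.map (a • 𝟙 M) = a • 𝟙 (G.obj M))
    (hG' : ∀ (M : ModuleCat.{u} A) (a : A), G'.map (a • 𝟙 M) = a • 𝟙 (G'.obj M))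
    (β : G ⋙ forget₂ (ModuleCat.{u} A) AddCommGrpCat.{u} ≅
      G' ⋙ forget₂ (ModuleCat.{u} A) AddCommGrpCat.{u}) : Nonempty (G ≅ G') := by
  let bh : ∀ M : ModuleCat.{u} A, G.obj M → G'.obj M := fun M x => (β.hom.app M).hom x
  let bi : ∀ M : ModuleCat.{u} A, G'.obj M → G.obj M := fun M y => (β.inv.app M).hom y
  have hnat : ∀ {M N : ModuleCat.{u} A} (g : M ⟶ N) (x : G.obj M),
      bh N ((G.map g).hom x) = (G'.map g).hom (bh M x) := by
    intro M N g x
    have h := β.hom.naturality g
    exact congrArg (fun φ => φ.hom x) h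
  have hlin : ∀ (M : ModuleCat.{u} A) (a : A) (x : G.obj M), bh M (a • x) = a • bh M x := by
    intro M a x
    have h1 : (G.map (a • 𝟙 M)).hom x = a • x := by rw [hG]; rfl
    have h2 : (G'.map (a • 𝟙 M)).hom (bh M x) = a • bh M x := by
      rw [hG']; rfl
    rw [← h1, hnat, h2]
  let e : ∀ M : ModuleCat.{u} A, G.obj M ≃ₗ[A] G'.obj M := fun M =>
    { toFun := bh M
      invFun := bi M
      left_inv := fun x => by
        have h := congrArg (fun φ => φ.hom x) (β.hom_inv_id_app M)
        exact h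
      right_inv := fun y => by
        have h := congrArg (fun φ => φ.hom y) (β.inv_hom_id_app M)
        exact h
      map_add' := fun x y => map_add (β.hom.app M).hom x y
      map_smul' := fun a x => hlin M a x }
  refine ⟨NatIso.ofComponents (fun M => (e M).toModuleIso) ?_⟩
  intro M N g
  apply ModuleCat.hom_ext
  apply LinearMap.ext
  intro x
  exact hnat g x

end Lift

section Main

variable (A : Type u) [CommRing A] {X : Scheme.{u}} [X.Over (Spec (CommRingCat.of A))]

attribute [local instance] specOverSelf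

theorem globalSectionsA_map_smulMod (M : X.Modules) (a : A) :
    (CohIII.globalSectionsA A).map (Formal.smulMod A M a) =
      a • 𝟙 ((CohIII.globalSectionsA A).obj M) := by
  change (moduleSpecΓFunctor (R := CommRingCat.of A)).map
    ((Scheme.Modules.pushforward (X ↘ Spec (CommRingCat.of A))).map (Formal.smulMod A M a)) = _
  rw [pushforward_map_smulMod (X ↘ Spec (CommRingCat.of A)) (Category.comp_id _), Γ_map_smulMod]
  rfl

/-- `Γ(X, -) = H^0(X, -)` naturally, as abelian groups -/
def globalSectionsAIsoH0 :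
    CohIII.globalSectionsA A (X := X) ⋙ forget₂ (ModuleCat.{u} A) AddCommGrpCat.{u} ≅ CohIII.HAb X 0 :=
  NatIso.ofComponents
    (fun M => (AddEquiv.toAddCommGrpIso
      (Sheaf.H.equiv₀ ((SheafOfModules.toSheaf X.ringCatSheaf).obj M)
        (isTerminalTop (α := TopologicalSpace.Opens X))).symm :
        AddCommGrpCat.of ((CohIII.globalSectionsA A).obj M) ≅ (CohIII.HAb X 0).obj M))
    (by
      intro M N g
      apply AddCommGrpCat.hom_ext
      apply AddMonoidHom.ext
      intro x
      exact (Sheaf.H.equiv₀_symm_naturality (isTerminalTop (α := TopologicalSpace.Opens X))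
        ((SheafOfModules.toSheaf X.ringCatSheaf).map g) x).symm)

theorem tensorAFunctor_globalSectionsA_map_smul (F : X.Modules) (M : ModuleCat.{u} A) (a : A) :
    (CohIII.tensorAFunctor A F ⋙ CohIII.globalSectionsA A).map (a • 𝟙 M) =
      a • 𝟙 ((CohIII.tensorAFunctor A F ⋙ CohIII.globalSectionsA A).obj M) := by
  change (CohIII.globalSectionsA A).map ((CohIII.tensorAFunctor A F).map (a • 𝟙 M)) = _
  rw [tensorAFunctor_map_smul, globalSectionsA_map_smulMod]
  rfl

/-- **`M ↦ Γ(X, f^*(M~) ⊗ F)` is, `A`-linearly and naturally, `T^0` of the Grothendieck complex**,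
and `T^0` is left exact. -/
theorem exists_complex_iso_globalSections [IsNoetherianRing A]
    [IsProper (X ↘ Spec (CommRingCat.of A))] (F : X.Modules) (hF : Coh.IsCoh F)
    (hfl : FlatMod.IsFlatOver (X ↘ Spec (CommRingCat.of A)) F) :
    ∃ (L : CochainComplex (ModuleCat.{u} A) ℤ),
      (∀ i, Module.Finite A (L.X i) ∧ Module.Free A (L.X i)) ∧
      Nonempty (CohIII.tensorAFunctor A F ⋙ CohIII.globalSectionsA A ≅ CohIII.TFun L (0 : ℤ)) ∧
      (CohIII.TFun L (0 : ℤ)).PreservesMonomorphisms := by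
  obtain ⟨L, t, h1, h2, h3, hbc, hneg⟩ :=
    Groth.Agent.Lib.Helper6.FibreLink.exists_grothendieck_complex_fibre' A X F hF hfl
  obtain ⟨α⟩ := h3 0
  have hflat : ∀ i, Module.Flat A (L.X i) := fun i => haveI := (h1 i).2; inferInstance
  let β : (CohIII.tensorAFunctor A F ⋙ CohIII.globalSectionsA A) ⋙
      forget₂ (ModuleCat.{u} A) AddCommGrpCat.{u} ≅
      CohIII.TFun L (0 : ℤ) ⋙ forget₂ (ModuleCat.{u} A) AddCommGrpCat.{u} :=
    Functor.associator _ _ _ ≪≫
      Functor.isoWhiskerLeft (CohIII.tensorAFunctor A F) (globalSectionsAIsoH0 A) ≪≫ α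
  have hG' : ∀ (M : ModuleCat.{u} A) (a : A),
      (CohIII.TFun L (0 : ℤ)).map (a • 𝟙 M) = a • 𝟙 ((CohIII.TFun L (0 : ℤ)).obj M) := by
    intro M a
    rw [Functor.map_smul, CategoryTheory.Functor.map_id]
  obtain ⟨γ⟩ := nonempty_iso_of_forget₂_iso (tensorAFunctor_globalSectionsA_map_smul A F) hG' β
  refine ⟨L, h1, ⟨γ⟩, ?_⟩
  have hepi : (CohIII.TFun L (-1 : ℤ)).PreservesEpimorphisms :=
    ⟨fun {M N} g _ => ⟨fun a b _ => (hneg (-1) (by norm_num) N).eq_of_src a b⟩⟩
  exact (Groth.Agent.Lib.helper11.TFunBasic.preservesEpi_iff_preservesMono L hflat (-1 : ℤ) (0 : ℤ)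
    (by simp)).mp hepi

/-- **S2436** -/
theorem exists_corep [IsNoetherianRing A]
    [IsProper (X ↘ Spec (CommRingCat.of A))] (F : X.Modules) (hF : Coh.IsCoh F)
    (hfl : FlatMod.IsFlatOver (X ↘ Spec (CommRingCat.of A)) F) :
    ∃ Q : ModuleCat.{u} A, Module.Finite A Q ∧
      Nonempty (CohIII.tensorAFunctor A F ⋙ CohIII.globalSectionsA A ≅
        (linearCoyoneda A (ModuleCat.{u} A)).obj (op Q)) := by
  obtain ⟨L, h1, ⟨γ⟩, hmono⟩ := exists_complex_iso_globalSections A F hF hfl
  have hflat : ∀ i, Module.Flat A (L.X i) := fun i => haveI := (h1 i).2; inferInstance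
  haveI : Module.Finite A (L.X (0 : ℤ)) := (h1 0).1
  haveI : Module.Finite A (L.X ((ComplexShape.up ℤ).next (0 : ℤ))) := (h1 _).1
  obtain ⟨Q, hQ, ⟨δ⟩⟩ :=
    Groth.Agent.Lib.helper11.TFunCorep4.exists_corep_of_preservesMono L (0 : ℤ) hflat hmono
  exact ⟨Q, hQ, ⟨γ ≪≫ δ⟩⟩

end Main

end Groth.Agent.Lib.Helper6.Corep
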