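import Groth.Agent.Lib.Helper6.CorepA
import Mathlib
set_option backward.isDefEq.respectTransparency.types false
set_option autoImplicit false
set_option linter.style.haveILetI false
set_option linter.unusedSectionVars false
universe u
attribute [local instance] HasDerivedCategory.standard
open AlgebraicGeometry CategoryTheory CategoryTheory.Limits Opposite

/-!
# The kernel of a natural transformation between corepresentable functors (helper6)
-/

noncomputable section
namespace Groth.Agent.Lib.Helper6.Corep

section Abstract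

variable {A : Type u} [CommRing A]

/-- the kernel of a natural transformation between functors corepresented by finite modules is
corepresented by a finite module -/
theorem exists_kernel_corep {G G' : ModuleCat.{u} A ⥤ ModuleCat.{u} A} {Q Q' : ModuleCat.{u} A}
    [Module.Finite A Q]
    (ε : G ≅ (linearCoyoneda A (ModuleCat.{u} A)).obj (op Q))
    (ε' : G' ≅ (linearCoyoneda A (ModuleCat.{u} A)).obj (op Q')) (η : G ⟶ G') :
    ∃ (R : ModuleCat.{u} A) (ι : (linearCoyoneda A (ModuleCat.{u} A)).obj (op R) ⟶ G),
      Module.Finite A R ∧ (∀ M : ModuleCat.{u} A, Function.Injective (ι.app M).hom) ∧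
        ∀ (M : ModuleCat.{u} A) (x : G.obj M), (η.app M).hom x = 0 ↔ ∃ y, (ι.app M).hom y = x := by
  let η' : (linearCoyoneda A (ModuleCat.{u} A)).obj (op Q) ⟶
      (linearCoyoneda A (ModuleCat.{u} A)).obj (op Q') := ε.inv ≫ η ≫ ε'.hom
  let u : Q' ⟶ Q := (η'.app Q).hom (𝟙 Q)
  have hu : ∀ (M : ModuleCat.{u} A) (φ : Q ⟶ M), (η'.app M).hom φ = u ≫ φ := by
    intro M φ
    have h := congrArg (fun ψ => ψ.hom (𝟙 Q)) (η'.naturality φ)
    simp only [ModuleCat.hom_comp, LinearMap.comp_apply] at h
    have e1 : (((linearCoyoneda A (ModuleCat.{u} A)).obj (op Q)).map φ).hom (𝟙 Q) = φ :=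
      Category.id_comp φ
    rw [e1] at h
    exact h
  let π : Q ⟶ cokernel u := cokernel.π u
  have hπs : Function.Surjective π.hom := (ModuleCat.epi_iff_surjective π).1 inferInstance
  haveI : Module.Finite A (cokernel u : ModuleCat.{u} A) := Module.Finite.of_surjective π.hom hπs
  let ι : (linearCoyoneda A (ModuleCat.{u} A)).obj (op (cokernel u)) ⟶ G :=
    (linearCoyoneda A (ModuleCat.{u} A)).map π.op ≫ ε.inv
  have hι : ∀ (M : ModuleCat.{u} A) (y : cokernel u ⟶ M), (ι.app M).hom y = (ε.inv.app M).hom (π ≫ y) :=
    fun M y => rfl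
  have hεinj : ∀ M : ModuleCat.{u} A, Function.Injective (ε.inv.app M).hom := by
    intro M
    exact (ConcreteCategory.bijective_of_isIso (ε.inv.app M)).1
  have hε'inj : ∀ M : ModuleCat.{u} A, Function.Injective (ε'.hom.app M).hom := by
    intro M
    exact (ConcreteCategory.bijective_of_isIso (ε'.hom.app M)).1
  refine ⟨cokernel u, ι, inferInstance, ?_, ?_⟩
  · intro M y y' h
    rw [hι, hι] at h
    have h2 : π ≫ y = π ≫ y' := hεinj M h
    exact (cancel_epi π).1 h2
  · intro M x
    have hx : (ε.inv.app M).hom ((ε.hom.app M).hom x) = x :=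
      congrArg (fun ψ => ψ.hom x) (ε.hom_inv_id_app M)
    have key : (η.app M).hom x = 0 ↔ u ≫ (ε.hom.app M).hom x = 0 := by
      rw [← hu]
      change _ ↔ (ε'.hom.app M).hom ((η.app M).hom ((ε.inv.app M).hom ((ε.hom.app M).hom x))) = 0
      rw [hx]
      constructor
      · intro h
        rw [h, map_zero]
      · intro h
        apply hε'inj M
        rw [h, map_zero]
    rw [key]
    constructor
    · intro h
      refine ⟨cokernel.desc u ((ε.hom.app M).hom x) h, ?_⟩
      rw [hι, cokernel.π_desc]
      exact hx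
    · rintro ⟨y, rfl⟩
      rw [hι]
      have hy : (ε.hom.app M).hom ((ε.inv.app M).hom (π ≫ y)) = π ≫ y :=
        congrArg (fun ψ => ψ.hom (π ≫ y)) (ε.inv_hom_id_app M)
      rw [hy, ← Category.assoc, cokernel.condition, zero_comp]

end Abstract

end Groth.Agent.Lib.Helper6.Corep
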