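import Groth.Agent.Lib.Helper6.CorepB
import Mathlib

/-!
# Functors cut out inside a corepresentable functor by a natural transformation (helper6)
-/

set_option backward.isDefEq.respectTransparency.types false
set_option autoImplicit false
set_option linter.style.haveILetI false
set_option linter.unusedSectionVars false
universe u v w
open CategoryTheory CategoryTheory.Limits Opposite

noncomputable section
namespace Groth.Agent.Lib.Helper6.Corep

/-- two subfunctors of an abelian-group valued functor with the same image are isomorphic -/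
theorem nonempty_iso_of_range_eq {𝒞 : Type v} [Category.{w} 𝒞] {P P' Hf : 𝒞 ⥤ AddCommGrpCat.{u}}
    (j : P ⟶ Hf) (j' : P' ⟶ Hf)
    (hj : ∀ M, Function.Injective (j.app M).hom) (hj' : ∀ M, Function.Injective (j'.app M).hom)
    (hr : ∀ (M : 𝒞) (x : Hf.obj M), (∃ y, (j.app M).hom y = x) ↔ (∃ y', (j'.app M).hom y' = x)) :
    Nonempty (P ≅ P') := by
  classical
  have h1 : ∀ (M : 𝒞) (y : P.obj M), ∃ y' : P'.obj M, (j'.app M).hom y' = (j.app M).hom y :=
    fun M y => (hr M _).1 ⟨y, rfl⟩
  have h2 : ∀ (M : 𝒞) (y' : P'.obj M), ∃ y : P.obj M, (j.app M).hom y = (j'.app M).hom y' :=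
    fun M y' => (hr M _).2 ⟨y', rfl⟩
  choose f hf using h1
  choose g hg using h2
  let e : ∀ M : 𝒞, P.obj M ≃+ P'.obj M := fun M =>
    { toFun := f M
      invFun := g M
      left_inv := fun y => hj M (by rw [hg, hf])
      right_inv := fun y' => hj' M (by rw [hf, hg])
      map_add' := fun y z => hj' M (by rw [hf, map_add, map_add, hf, hf]) }
  refine ⟨NatIso.ofComponents (fun M => (e M).toAddCommGrpIso) ?_⟩
  intro M M' φ
  ext y
  apply hj' M'
  show (j'.app M').hom (f M' ((P.map φ).hom y)) = (j'.app M').hom ((P'.map φ).hom (f M y))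
  have n1 := congrArg (fun ψ => ψ.hom (f M y)) (j'.naturality φ)
  have n2 := congrArg (fun ψ => ψ.hom y) (j.naturality φ)
  simp only [AddCommGrpCat.hom_comp, AddMonoidHom.comp_apply] at n1 n2
  rw [n1, hf, hf, ← n2]


variable {A : Type u} [CommRing A]

/-- a functor cut out, inside a functor corepresented by a finite module, as the kernel of a natural transformation
to a corepresentable functor, is corepresentable by a finite module -/
theorem exists_corep_of_kernel {Ψ : ModuleCat.{u} A ⥤ AddCommGrpCat.{u}}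
    {G G' : ModuleCat.{u} A ⥤ ModuleCat.{u} A} {Q Q' : ModuleCat.{u} A} [Module.Finite A Q]
    (ε : G ≅ (linearCoyoneda A (ModuleCat.{u} A)).obj (op Q))
    (ε' : G' ≅ (linearCoyoneda A (ModuleCat.{u} A)).obj (op Q')) (η : G ⟶ G')
    (j : Ψ ⟶ G ⋙ forget₂ (ModuleCat.{u} A) AddCommGrpCat.{u})
    (hj : ∀ M, Function.Injective (j.app M).hom)
    (hr : ∀ (M : ModuleCat.{u} A) (x : G.obj M), (η.app M).hom x = 0 ↔ ∃ y, (j.app M).hom y = x) :
    ∃ N : ModuleCat.{u} A, Module.Finite A N ∧
      Nonempty (Ψ ≅ (linearCoyoneda A (ModuleCat.{u} A)).obj (op N) ⋙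
        forget₂ (ModuleCat.{u} A) AddCommGrpCat.{u}) := by
  obtain ⟨R, ι, hR, hι, hker⟩ := exists_kernel_corep ε ε' η
  refine ⟨R, hR, ?_⟩
  refine nonempty_iso_of_range_eq j (Functor.whiskerRight ι (forget₂ (ModuleCat.{u} A) AddCommGrpCat.{u}))
    hj (fun M => hι M) ?_
  intro M x
  rw [← hr M x]
  exact hker M x

end Groth.Agent.Lib.Helper6.Corep
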