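import Groth.Agent.Lib.Helper6.CorepA
import Groth.Agent.S0458
import Mathlib
set_option backward.isDefEq.respectTransparency.types false
set_option autoImplicit false
set_option linter.style.haveILetI false
set_option linter.unusedSectionVars false
universe u
attribute [local instance] HasDerivedCategory.standard
open AlgebraicGeometry CategoryTheory CategoryTheory.Limits Opposite TopologicalSpace

/-!
# `H^p(X, F) ≃ₗ[A] H^p(L)` for the Grothendieck complex, and fibres of dimension `≤ d` (helper6)
-/

noncomputable section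
namespace Groth.Agent.Lib.Helper6.CurveProj

open Groth.Agent.Lib.Helper23.FQuot Groth.Agent.Lib.Helper6.TensAQuot Groth.Agent.Lib.Lead.FormalA

section Lin

variable (A : Type u) [CommRing A] {X : Scheme.{u}} [X.Over (Spec (CommRingCat.of A))]
  (F : X.Modules) (L : CochainComplex (ModuleCat.{u} A) ℤ) (p : ℕ)
  (α : CohIII.tensorAFunctor A F ⋙ CohIII.HAb X p ≅
    CohIII.TFun L (p : ℤ) ⋙ forget₂ (ModuleCat.{u} A) AddCommGrpCat.{u})

/-- the components of the natural isomorphism `α` are `A`-linear -/
def αlin (M : ModuleCat.{u} A) :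
    Coh.HH X ((CohIII.tensorAFunctor A F).obj M) p ≃ₗ[A] (CohIII.TFun L (p : ℤ)).obj M where
  toFun x := (α.hom.app M).hom x
  invFun y := (α.inv.app M).hom y
  left_inv x := congrArg (fun φ => φ.hom x) (α.hom_inv_id_app M)
  right_inv y := congrArg (fun φ => φ.hom y) (α.inv_hom_id_app M)
  map_add' x y := map_add (α.hom.app M).hom x y
  map_smul' a x := by
    have h1 : a • x = ((CohIII.tensorAFunctor A F ⋙ CohIII.HAb X p).map (a • 𝟙 M)).hom x := by
      change _ = Sheaf.H.map ((SheafOfModules.toSheaf X.ringCatSheaf).map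
        ((CohIII.tensorAFunctor A F).map (a • 𝟙 M))) p x
      rw [tensorAFunctor_map_smul]
      rfl
    have h2 := congrArg (fun φ => φ.hom x) (α.hom.naturality (a • 𝟙 M))
    have h3 : (CohIII.TFun L (p : ℤ)).map (a • 𝟙 M) = a • 𝟙 _ := by
      rw [Functor.map_smul, CategoryTheory.Functor.map_id]
    change (α.hom.app M).hom (a • x) = a • (show (CohIII.TFun L (p : ℤ)).obj M from (α.hom.app M).hom x)
    rw [h1]
    refine h2.trans ?_
    change ((CohIII.TFun L (p : ℤ)).map (a • 𝟙 M)).hom ((α.hom.app M).hom x) = _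
    rw [h3]
    rfl

/-- `H^p(X, F) ≃ₗ[A] H^p(L ⊗ A)` -/
def HHEquivTFun : Coh.HH X F p ≃ₗ[A] (CohIII.TFun L (p : ℤ)).obj (ModuleCat.of A A) :=
  (LinearEquiv.ofBijective (Canon.HHlin A (tensorAFunctorSelfIso A F).inv p)
    (HHlin_bijective_of_isIso A _ p)).trans (αlin A F L p α (ModuleCat.of A A))

end Lin

section Vanish

open MonoidalCategory Groth.Agent.Lib.helper11

variable {A : Type u} [CommRing A]

/-- a finite module all of whose fibres vanish is zero -/
theorem subsingleton_of_forall_residueField (N : Type u) [AddCommGroup N] [Module A N]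
    [Module.Finite A N]
    (h : ∀ y : PrimeSpectrum A, Subsingleton (TensorProduct A N y.asIdeal.ResidueField)) :
    Subsingleton N := by
  rw [← Module.support_eq_empty_iff (R := A)]
  ext y
  simp only [Set.mem_empty_iff_false, iff_false]
  rw [Module.mem_support_iff_nontrivial_residueField_tensorProduct]
  haveI := h y
  haveI : Subsingleton (TensorProduct A y.asIdeal.ResidueField N) :=
    (TensorProduct.comm A _ _).toEquiv.subsingleton
  exact not_nontrivial _

variable [IsNoetherianRing A] (L : CochainComplex (ModuleCat.{u} A) ℤ)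
  (hfin : ∀ i, Module.Finite A (L.X i)) (hflat : ∀ i, Module.Flat A (L.X i))
  (t : ℤ) (ht : ∀ i : ℤ, t ≤ i → IsZero (L.X i))

include hfin hflat ht in
/-- if `H^q(L ⊗ κ(y)) = 0` for all `q > d` and all primes `y`, then `H^q(L ⊗ M) = 0` for all `q > d`
and all `M` -/
theorem isZero_TFun_of_fibres (d : ℤ)
    (hfib : ∀ q : ℤ, d < q → ∀ y : PrimeSpectrum A,
      IsZero ((CohIII.TFun L q).obj (ModuleCat.of A y.asIdeal.ResidueField))) :
    ∀ q : ℤ, d < q → ∀ M : ModuleCat.{u} A, IsZero ((CohIII.TFun L q).obj M) := by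
  have key : ∀ (n : ℕ) (q : ℤ), d < q → t ≤ q + n → ∀ M : ModuleCat.{u} A,
      IsZero ((CohIII.TFun L q).obj M) := by
    intro n
    induction n with
    | zero =>
      intro q _ hq M
      exact DRankFlat.isZero_TFun_obj L q (ht q (by simpa using hq)) M
    | succ n ih =>
      intro q hdq hq M
      have hnext : ∀ M : ModuleCat.{u} A, IsZero ((CohIII.TFun L (q + 1)).obj M) :=
        ih (q + 1) (by omega) (by push_cast at hq; omega)
      have hm := (TFunZero.exact_of_forall_isZero L (q + 1) hnext).1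
      haveI he : (CohIII.TFun L q).PreservesEpimorphisms :=
        (TFunBasic.preservesEpi_iff_preservesMono L hflat q (q + 1) rfl).mpr hm
      let e := TFunEW.isoTensorLeft L q hflat
      haveI := hfin q
      haveI : Module.Finite A (ModuleCat.of A A) := inferInstanceAs (Module.Finite A A)
      haveI hN : Module.Finite A ((CohIII.TFun L q).obj (ModuleCat.of A A)) :=
        TFunExact.finite_TFun_obj L q (ModuleCat.of A A)
      haveI hs : Subsingleton ((CohIII.TFun L q).obj (ModuleCat.of A A)) := by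
        refine subsingleton_of_forall_residueField (A := A) _ (fun y => ?_)
        haveI := ModuleCat.subsingleton_of_isZero (hfib q hdq y)
        exact (e.app (ModuleCat.of A y.asIdeal.ResidueField)).toLinearEquiv.symm.toEquiv.subsingleton
      have h4 : Subsingleton (TensorProduct A ((CohIII.TFun L q).obj (ModuleCat.of A A)) M) :=
        inferInstance
      have h4' : Subsingleton ((tensorLeft ((CohIII.TFun L q).obj (ModuleCat.of A A))).obj M) := h4
      have h5 : Subsingleton ((CohIII.TFun L q).obj M) :=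
        (e.app M).toLinearEquiv.toEquiv.subsingleton
      exact ModuleCat.isZero_of_subsingleton _
  intro q hq M
  rcases le_or_gt t q with h | h
  · exact key 0 q hq (by simpa using h) M
  · exact key (t - q).toNat q hq (by rw [Int.toNat_of_nonneg (by omega)]; omega) M

end Vanish

section Geom

open Groth.Agent.Lib.helper11

/-- Grothendieck vanishing on the fibres of a morphism of finite type -/
theorem subsingleton_fiberH_of_dim_le {X Y : Scheme.{u}} (f : X ⟶ Y) [LocallyOfFiniteType f]
    [QuasiCompact f] (F : X.Modules) (y : Y) (d : ℕ)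
    (hdim : topologicalKrullDim ↥(f.fiber y) ≤ d) (p : ℕ) (hp : d < p) :
    Subsingleton (CohIII.fiberH f F y p) := by
  haveI : IsLocallyNoetherian (f.fiber y) := by
    unfold Scheme.Hom.fiber
    infer_instance
  haveI : IsNoetherian (f.fiber y) := {}
  haveI hN : NoetherianSpace (f.fiber y) := inferInstance
  haveI : NoetherianSpace ↑(f.fiber y).toTopCat := hN
  exact Groth.Agent.S0458.result (X := (f.fiber y).toTopCat) d hdim
    (Coh.toAb (CohIII.fiberMod f F y)) p hp

variable (A : Type u) [CommRing A] [IsNoetherianRing A] {X : Scheme.{u}}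
  [X.Over (Spec (CommRingCat.of A))] [IsProper (X ↘ Spec (CommRingCat.of A))]
  (F : X.Modules) (hF : Coh.IsCoh F) (hfl : FlatMod.IsFlatOver (X ↘ Spec (CommRingCat.of A)) F)

include hF hfl in
/-- **the Grothendieck complex of a family with fibres of dimension `≤ d`**: `A`-linear
identifications `H^p(X, F) ≃ H^p(L)`, `T^0` left exact, `T^q = 0` for `q > d`. -/
theorem exists_complex_of_fibre_dim_le (d : ℕ)
    (hdim : ∀ s : Spec (CommRingCat.of A),
      topologicalKrullDim ↥((X ↘ Spec (CommRingCat.of A)).fiber s) ≤ d) :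
    ∃ (L : CochainComplex (ModuleCat.{u} A) ℤ),
      (∀ i, Module.Finite A (L.X i) ∧ Module.Free A (L.X i)) ∧
      (∀ p : ℕ, Nonempty (Coh.HH X F p ≃ₗ[A] (CohIII.TFun L (p : ℤ)).obj (ModuleCat.of A A))) ∧
      (CohIII.TFun L (0 : ℤ)).PreservesMonomorphisms ∧
      (∀ q : ℤ, (d : ℤ) < q → ∀ M : ModuleCat.{u} A, IsZero ((CohIII.TFun L q).obj M)) := by
  obtain ⟨L, t, h1, h2, h3, hbc, hneg⟩ :=
    Groth.Agent.Lib.Helper6.FibreLink.exists_grothendieck_complex_fibre' A X F hF hfl
  haveI : F.IsQuasicoherent := hF.1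
  have hfin : ∀ i, Module.Finite A (L.X i) := fun i => (h1 i).1
  have hflat : ∀ i, Module.Flat A (L.X i) := fun i => haveI := (h1 i).2; inferInstance
  refine ⟨L, h1, fun p => ?_, ?_, ?_⟩
  · obtain ⟨α⟩ := h3 p
    exact ⟨HHEquivTFun A F L p α⟩
  · have hepi : (CohIII.TFun L (-1 : ℤ)).PreservesEpimorphisms :=
      ⟨fun {M N} g _ => ⟨fun a b _ => (hneg (-1) (by norm_num) N).eq_of_src a b⟩⟩
    exact (TFunBasic.preservesEpi_iff_preservesMono L hflat (-1 : ℤ) (0 : ℤ) (by simp)).mp hepi
  · refine isZero_TFun_of_fibres L hfin hflat (t : ℤ) h2 (d : ℤ) ?_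
    intro q hq y
    have hq0 : (0 : ℤ) ≤ q := by omega
    have hcast : ((q.toNat : ℕ) : ℤ) = q := Int.toNat_of_nonneg hq0
    have hz := (Groth.Agent.Lib.Helper6.FibreLink.isZero_TFun_residueField_iff F L hbc q.toNat y).2
      (subsingleton_fiberH_of_dim_le (X ↘ Spec (CommRingCat.of A)) F y d (hdim y) q.toNat (by omega))
    rw [hcast] at hz
    exact hz

include hF hfl in
/-- **S19060**: fibres of dimension `≤ 1`, `H^1(X, F)` projective ⇒ `H^0(X, F)` projective -/
theorem projective_HH_zero_of_projective_HH_one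
    (hdim : ∀ s : Spec (CommRingCat.of A),
      topologicalKrullDim ↥((X ↘ Spec (CommRingCat.of A)).fiber s) ≤ 1)
    (hp : Module.Projective A (Coh.HH X F 1)) : Module.Projective A (Coh.HH X F 0) := by
  obtain ⟨L, h1, hH, hm0, hvan⟩ := exists_complex_of_fibre_dim_le A F hF hfl 1 hdim
  have hfin : ∀ i, Module.Finite A (L.X i) := fun i => (h1 i).1
  have hflat : ∀ i, Module.Flat A (L.X i) := fun i => haveI := (h1 i).2; inferInstance
  obtain ⟨e0⟩ := hH 0
  obtain ⟨e1⟩ := hH 1
  have hm2 := (TFunZero.exact_of_forall_isZero L (2 : ℤ) (hvan 2 (by norm_num))).1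
  haveI he1 : (CohIII.TFun L (1 : ℤ)).PreservesEpimorphisms :=
    (TFunBasic.preservesEpi_iff_preservesMono L hflat (1 : ℤ) (2 : ℤ) (by simp)).mpr hm2
  haveI := hp
  haveI hflH : Module.Flat A (Coh.HH X F 1) := Module.Flat.of_projective
  have hfl1 : Module.Flat A ((CohIII.TFun L (1 : ℤ)).obj (ModuleCat.of A A)) :=
    Module.Flat.of_linearEquiv e1.symm
  have hm1 : (CohIII.TFun L (1 : ℤ)).PreservesMonomorphisms :=
    (TFunExact.preservesMono_iff_flat L (1 : ℤ) hflat).mpr hfl1
  haveI he0 : (CohIII.TFun L (0 : ℤ)).PreservesEpimorphisms :=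
    (TFunBasic.preservesEpi_iff_preservesMono L hflat (0 : ℤ) (1 : ℤ) (by simp)).mpr hm1
  haveI hfl0 : Module.Flat A ((CohIII.TFun L (0 : ℤ)).obj (ModuleCat.of A A)) :=
    (TFunExact.preservesMono_iff_flat L (0 : ℤ) hflat).mp hm0
  haveI := hfin 0
  haveI : Module.Finite A (ModuleCat.of A A) := inferInstanceAs (Module.Finite A A)
  haveI hN : Module.Finite A ((CohIII.TFun L (0 : ℤ)).obj (ModuleCat.of A A)) :=
    TFunExact.finite_TFun_obj L (0 : ℤ) (ModuleCat.of A A)
  haveI : Module.FinitePresentation A ((CohIII.TFun L (0 : ℤ)).obj (ModuleCat.of A A)) :=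
    Module.finitePresentation_of_finite A _
  haveI : Module.Projective A ((CohIII.TFun L (0 : ℤ)).obj (ModuleCat.of A A)) :=
    Module.Flat.projective_of_finitePresentation
  exact Module.Projective.of_equiv e0.symm

end Geom

end Groth.Agent.Lib.Helper6.CurveProj
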