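import Groth.Agent.Lib.Helper6.CurveProjA
import Groth.Agent.Lib.helper11.TFunDedekind
import Groth.Agent.Lib.helper11.DRankExact
import Groth.Agent.Lib.Helper28.ProjSpaceBasic
import Groth.Prelude.Def_PerfAux
import Mathlib
set_option backward.isDefEq.respectTransparency.types false
set_option autoImplicit false
set_option linter.style.haveILetI false
set_option linter.unusedSectionVars false
universe u
attribute [local instance] HasDerivedCategory.standard
open AlgebraicGeometry CategoryTheory CategoryTheory.Limits Opposite TopologicalSpace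

/-!
# Jumps of fibre cohomology over a discrete valuation ring (helper6)
-/

noncomputable section
namespace Groth.Agent.Lib.Helper6.DVRBetti

open Groth.Agent.Lib.helper11 Groth.Agent.Lib.Helper6.CurveProj

variable (R : Type u) [CommRing R] [IsDomain R] [IsDiscreteValuationRing R]
  {X : Scheme.{u}} [X.Over (Spec (CommRingCat.of R))] [IsProper (X ↘ Spec (CommRingCat.of R))]
  (F : X.Modules) (hF : Coh.IsCoh F) (hfl : FlatMod.IsFlatOver (X ↘ Spec (CommRingCat.of R)) F)

include hF hfl in
theorem fiberRank_eq_iff_free (p : ℕ) (s : ↥(Spec (CommRingCat.of R)))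
    (hs : s ≠ genericPoint ↥(Spec (CommRingCat.of R))) :
    CohIII.fiberRank (X ↘ Spec (CommRingCat.of R)) F p s =
        CohIII.fiberRank (X ↘ Spec (CommRingCat.of R)) F p (genericPoint ↥(Spec (CommRingCat.of R))) ↔
      Module.Free R (Coh.HH X F p) ∧ Module.Free R (Coh.HH X F (p + 1)) := by
  obtain ⟨L, t, h1, h2, h3, hbc, hneg⟩ :=
    Groth.Agent.Lib.Helper6.FibreLink.exists_grothendieck_complex_fibre' R X F hF hfl
  haveI : F.IsQuasicoherent := hF.1
  have hP : ∀ i, Module.Finite R (L.X i) ∧ Module.Flat R (L.X i) :=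
    fun i => ⟨(h1 i).1, haveI := (h1 i).2; inferInstance⟩
  have hflat : ∀ i, Module.Flat R (L.X i) := fun i => (hP i).2
  obtain ⟨α0⟩ := h3 p
  obtain ⟨α1⟩ := h3 (p + 1)
  let e0 : Coh.HH X F p ≃ₗ[R] L.homology (p : ℤ) :=
    (HHEquivTFun R F L p α0).trans (DRankFlat.TAEquiv L (p : ℤ))
  let e1 : Coh.HH X F (p + 1) ≃ₗ[R] L.homology ((p + 1 : ℕ) : ℤ) :=
    (HHEquivTFun R F L (p + 1) α1).trans (DRankFlat.TAEquiv L ((p + 1 : ℕ) : ℤ))
  have hcast : ((p + 1 : ℕ) : ℤ) = (p : ℤ) + 1 := by push_cast; rfl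
  -- points of `Spec R`
  have hη : genericPoint ↥(Spec (CommRingCat.of R)) = (⊥ : PrimeSpectrum R) :=
    genericPoint_eq_bot_of_affine (CommRingCat.of R)
  have hsc : s = IsLocalRing.closedPoint R := by
    apply PrimeSpectrum.ext
    have hne : s.asIdeal ≠ ⊥ := by
      intro h
      apply hs
      rw [hη]
      exact PrimeSpectrum.ext h
    haveI := s.isPrime
    have hmax : s.asIdeal.IsMaximal := Ring.DimensionLEOne.maximalOfPrime hne s.isPrime
    exact (IsLocalRing.eq_maximalIdeal hmax)
  rw [← Groth.Agent.Lib.Helper6.FibreLink.dRank_eq_fiberRank F L hbc p s,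
    ← Groth.Agent.Lib.Helper6.FibreLink.dRank_eq_fiberRank F L hbc p _, hη, hsc]
  have hfinH : ∀ q : ℤ, Module.Finite R (L.homology q) := by
    intro q
    haveI := (hP q).1
    haveI : Module.Finite R (ModuleCat.of R R) := inferInstanceAs (Module.Finite R R)
    haveI : Module.Finite R (CohIII.T L q (ModuleCat.of R R)) :=
      TFunExact.finite_TFun_obj L q (ModuleCat.of R R)
    exact Module.Finite.equiv (DRankFlat.TAEquiv L q)
  have hex := TFunDedekind.exact_iff_flat_homology L hflat (p : ℤ) ((p : ℤ) + 1) rfl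
  constructor
  · intro h
    have hexact := DRankExact.exact_of_dRank_minimalPrimes L hP (p : ℤ) ((p : ℤ) - 1) ((p : ℤ) + 1)
      (CochainComplex.prev ℤ _) (CochainComplex.next ℤ _) rfl (by
        intro q hq
        rw [IsDomain.minimalPrimes_eq_singleton_bot] at hq
        have hq' : q = (⊥ : PrimeSpectrum R) := PrimeSpectrum.ext hq
        rw [hq']
        exact h.symm)
    obtain ⟨f0, f1⟩ := hex.1 hexact
    rw [← hcast] at f1
    haveI := hfinH (p : ℤ)
    haveI := hfinH ((p + 1 : ℕ) : ℤ)
    haveI : Module.Free R (L.homology (p : ℤ)) := Module.free_of_flat_of_isLocalRing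
    haveI : Module.Free R (L.homology ((p + 1 : ℕ) : ℤ)) := Module.free_of_flat_of_isLocalRing
    exact ⟨Module.Free.of_equiv e0.symm, Module.Free.of_equiv e1.symm⟩
  · rintro ⟨f0, f1⟩
    haveI := f0
    haveI := f1
    haveI : Module.Flat R (Coh.HH X F p) := Module.Flat.of_free
    haveI : Module.Flat R (Coh.HH X F (p + 1)) := Module.Flat.of_free
    have g0 : Module.Flat R (L.homology (p : ℤ)) := Module.Flat.of_linearEquiv e0.symm
    have g1 : Module.Flat R (L.homology ((p + 1 : ℕ) : ℤ)) := Module.Flat.of_linearEquiv e1.symm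
    rw [hcast] at g1
    obtain ⟨hm, he⟩ := hex.2 ⟨g0, g1⟩
    obtain ⟨U, hU, hxU, hconst⟩ := DRankExact.dRank_const_of_exact L hP (p : ℤ) ((p : ℤ) - 1)
      ((p : ℤ) + 1) (CochainComplex.prev ℤ _) (CochainComplex.next ℤ _) rfl hm he
      (IsLocalRing.closedPoint R)
    have hmem : (⊥ : PrimeSpectrum R) ∈ U :=
      (IsLocalRing.specializes_closedPoint (⊥ : PrimeSpectrum R)).mem_open hU hxU
    exact (hconst _ hmem).symm

end Groth.Agent.Lib.Helper6.DVRBetti
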