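import Mathlib.Algebra.Homology.ShortComplex.ShortExact
import Mathlib.Algebra.Homology.ShortComplex.ExactFunctor
import Mathlib.CategoryTheory.Abelian.Basic

/-!
# Comparison of effaceable δ-functors by dimension shifting, relational form (helper6)

`ShiftData SG SI SQ`: the part of a long exact sequence used in dimension shifting
(`SI n ⟶ SQ n ⟶ SG (n+1) ⟶ 0` exact and `SI (n+1) = 0`).  `delta_compare`: two families of objects
`S n G`, `T n G` which admit compatible shift data on a class `P` of indices and agree in degree `0`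
agree in all degrees.  No functoriality is required.
-/

set_option autoImplicit false
set_option linter.style.haveILetI false
set_option linter.unusedSectionVars false
set_option linter.unusedVariables false

universe v v' u u' w

open CategoryTheory Limits

namespace Groth.Agent.Lib.Helper6.DeltaCompareRel

variable {ℬ : Type u'} [Category.{v'} ℬ] [Abelian ℬ]

/-- Dimension shifting data. -/
structure ShiftData (SG SI SQ : ℕ → ℬ) where
  zero : ∀ n, IsZero (SI (n + 1))
  a : ∀ n, SI n ⟶ SQ n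
  δ : ∀ n, SQ n ⟶ SG (n + 1)
  w : ∀ n, a n ≫ δ n = 0
  exact : ∀ n, (ShortComplex.mk _ _ (w n)).Exact
  epi : ∀ n, Epi (δ n)

namespace ShiftData

variable {SG SI SQ : ℕ → ℬ} (d : ShiftData SG SI SQ)

include d in
lemma nonempty_iso_cokernel : Nonempty (SG 1 ≅ cokernel (d.a 0)) := by
  haveI := d.epi 0
  haveI : Epi (ShortComplex.mk _ _ (d.w 0)).g := d.epi 0
  exact ⟨(d.exact 0).gIsCokernel.coconePointUniqueUpToIso (colimit.isColimit _)⟩

include d in
lemma nonempty_iso_succ (n : ℕ) : Nonempty (SQ (n + 1) ≅ SG (n + 2)) := by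
  haveI := d.epi (n + 1)
  haveI : Mono (d.δ (n + 1)) := (d.exact (n + 1)).mono_g ((d.zero n).eq_of_src _ _)
  haveI := isIso_of_mono_of_epi (d.δ (n + 1))
  exact ⟨asIso (d.δ (n + 1))⟩

/-- shift data are preserved by exact functors -/
noncomputable def map {ℬ' : Type*} [Category ℬ'] [Abelian ℬ'] (F : ℬ ⥤ ℬ') [F.Additive]
    [PreservesFiniteLimits F] [PreservesFiniteColimits F] :
    ShiftData (fun n => F.obj (SG n)) (fun n => F.obj (SI n)) (fun n => F.obj (SQ n)) where
  zero n := F.map_isZero (d.zero n)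
  a n := F.map (d.a n)
  δ n := F.map (d.δ n)
  w n := by rw [← F.map_comp, d.w n, F.map_zero]
  exact n := (d.exact n).map F
  epi n := by
    haveI := d.epi n
    infer_instance

end ShiftData

/-- Comparison of δ-functors on a class of objects, relational form. -/
theorem delta_compare {𝒜 : Type w} (S T : ℕ → 𝒜 → ℬ) (P : 𝒜 → Prop)
    (base : ∀ G, P G → Nonempty (S 0 G ≅ T 0 G))
    (step : ∀ G, P G → ∃ (I Q : 𝒜), P Q ∧
      ∃ (dS : ShiftData (fun n => S n G) (fun n => S n I) (fun n => S n Q))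
        (dT : ShiftData (fun n => T n G) (fun n => T n I) (fun n => T n Q))
        (θI : S 0 I ≅ T 0 I) (θQ : S 0 Q ≅ T 0 Q), dS.a 0 ≫ θQ.hom = θI.hom ≫ dT.a 0) :
    ∀ (n : ℕ) (G : 𝒜), P G → Nonempty (S n G ≅ T n G) := by
  intro n
  induction n with
  | zero => exact base
  | succ n ih =>
    intro G hG
    obtain ⟨I, Q, hQ, dS, dT, θI, θQ, hθ⟩ := step G hG
    cases n with
    | zero =>
      obtain ⟨e₁⟩ := dS.nonempty_iso_cokernel
      obtain ⟨e₂⟩ := dT.nonempty_iso_cokernel
      exact ⟨e₁ ≪≫ cokernel.mapIso _ _ θI θQ hθ ≪≫ e₂.symm⟩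
    | succ m =>
      obtain ⟨e₁⟩ := dS.nonempty_iso_succ m
      obtain ⟨e₂⟩ := dT.nonempty_iso_succ m
      obtain ⟨e⟩ := ih Q hQ
      exact ⟨e₁.symm ≪≫ e ≪≫ e₂⟩

end Groth.Agent.Lib.Helper6.DeltaCompareRel
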