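import Groth.Prelude.Def_DeltaF
import Mathlib.Algebra.Homology.ShortComplex.Exact
import Mathlib.CategoryTheory.Abelian.Basic

/-!
# Effaceable delta-functors are universal (helper6)

`exists_next`: given an effaceable delta functor `T`, any delta functor `T'`, and a natural
transformation `τn : T.F n ⟶ T'.F n`, there is a natural transformation in degree `n + 1`
commuting with all connecting morphisms.  `next_unique`: it is unique.
-/

universe v u v' u'

namespace Groth.Agent.Lib.Helper6.DeltaFun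

open CategoryTheory CategoryTheory.Limits DeltaF

variable {A : Type u} [Category.{v} A] [Abelian A] {B : Type u'} [Category.{v'} B] [Abelian B]

/-- The short complex `X ⟶ Y ⟶ cokernel u`. -/
noncomputable abbrev cs {X Y : A} (u : X ⟶ Y) : ShortComplex A :=
  ShortComplex.mk u (cokernel.π u) (cokernel.condition u)

lemma cokSeq_shortExact {X Y : A} (u : X ⟶ Y) [Mono u] : (cs u).ShortExact :=
  ShortComplex.ShortExact.mk' (ShortComplex.cokernelSequence_exact u)
    (show Mono u from inferInstance) (show Epi (cokernel.π u) from inferInstance)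

variable (T T' : CohDeltaFunctor A B ℕ)

lemma epi_δ (S : ShortComplex A) (hS : S.ShortExact) (n : ℕ)
    (h0 : (T.F (n + 1)).map S.f = 0) : Epi (T.δ S hS n (n + 1) rfl) :=
  (T.exact₁ S hS n (n + 1) rfl).epi_f_iff.2 h0

variable {T T'}

/-- Compatibility of a map in degree `n+1` with a short exact sequence. -/
def Compat (n : ℕ) (τn : T.F n ⟶ T'.F n) (S : ShortComplex A) (hS : S.ShortExact)
    (lam : (T.F (n + 1)).obj S.X₁ ⟶ (T'.F (n + 1)).obj S.X₁) : Prop :=
  T.δ S hS n (n + 1) rfl ≫ lam = τn.app S.X₃ ≫ T'.δ S hS n (n + 1) rfl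

lemma exists_compat (n : ℕ) (τn : T.F n ⟶ T'.F n) (S : ShortComplex A) (hS : S.ShortExact)
    (h0 : (T.F (n + 1)).map S.f = 0) :
    ∃ lam, Compat n τn S hS lam := by
  have : Epi (T.δ S hS n (n + 1) rfl) := epi_δ T S hS n h0
  have hk : (T.F n).map S.g ≫ τn.app S.X₃ ≫ T'.δ S hS n (n + 1) rfl = 0 := by
    rw [τn.naturality_assoc, T'.comp_δ, comp_zero]
  exact ⟨(T.exact₃ S hS n (n + 1) rfl).desc _ hk, (T.exact₃ S hS n (n + 1) rfl).g_desc _ hk⟩

lemma compat_unique (n : ℕ) (τn : T.F n ⟶ T'.F n) (S : ShortComplex A) (hS : S.ShortExact)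
    (h0 : (T.F (n + 1)).map S.f = 0) (lam lam') (h : Compat n τn S hS lam)
    (h' : Compat n τn S hS lam') : lam = lam' := by
  have : Epi (T.δ S hS n (n + 1) rfl) := epi_δ T S hS n h0
  exact (cancel_epi (T.δ S hS n (n + 1) rfl)).1 (h.trans h'.symm)

/-- Transfer of compatibility along a morphism of short exact sequences. -/
lemma transfer (n : ℕ) (τn : T.F n ⟶ T'.F n) {S S' : ShortComplex A} (hS : S.ShortExact)
    (hS' : S'.ShortExact) (φ : S ⟶ S') (lam') (h' : Compat n τn S' hS' lam') :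
    T.δ S hS n (n + 1) rfl ≫ (T.F (n + 1)).map φ.τ₁ ≫ lam' =
      τn.app S.X₃ ≫ T'.δ S hS n (n + 1) rfl ≫ (T'.F (n + 1)).map φ.τ₁ := by
  have h1 := T.δ_natural hS hS' φ n (n + 1) rfl
  have h2 := T'.δ_natural hS hS' φ n (n + 1) rfl
  unfold Compat at h'
  rw [← Category.assoc, ← h1, Category.assoc, h', ← h2, τn.naturality_assoc]

section Effaceable

variable (n : ℕ) (τn : T.F n ⟶ T'.F n)
  (Y : A → A) (u : ∀ X, X ⟶ Y X) (hu : ∀ X, Mono (u X))
  (hu0 : ∀ X, (T.F (n + 1)).map (u X) = 0)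
  (lamX : ∀ X, (T.F (n + 1)).obj X ⟶ (T'.F (n + 1)).obj X)
  (hlam : ∀ X, Compat n τn (cs (u X)) (cokSeq_shortExact (u X))
    (lamX X))

include hu0 hlam in
lemma compat_all (S : ShortComplex A) (hS : S.ShortExact) : Compat n τn S hS (lamX S.X₁) := by
  have := hS.mono_f
  have := hS.epi_g
  have := hu S.X₁
  have hv : S.f ≫ pushout.inl S.f (u S.X₁) = u S.X₁ ≫ pushout.inr S.f (u S.X₁) :=
    pushout.condition
  have hvm : Mono (S.f ≫ pushout.inl S.f (u S.X₁)) := mono_comp _ _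
  have hv0 : (T.F (n + 1)).map (S.f ≫ pushout.inl S.f (u S.X₁)) = 0 := by
    rw [hv, Functor.map_comp, hu0, zero_comp]
  obtain ⟨lam₂, hlam₂⟩ := exists_compat n τn
    (cs (S.f ≫ pushout.inl S.f (u S.X₁))) (cokSeq_shortExact _) hv0
  let φ₀ : cs (u S.X₁) ⟶
      cs (S.f ≫ pushout.inl S.f (u S.X₁)) :=
    ShortComplex.homMk (𝟙 S.X₁) (pushout.inr _ _)
      (cokernel.map _ _ (𝟙 S.X₁) (pushout.inr _ _) (by rw [Category.id_comp]; exact hv.symm))
      (by dsimp; rw [Category.id_comp]; exact hv) (by dsimp; simp)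
  have t0 := transfer n τn (cokSeq_shortExact (u S.X₁)) (cokSeq_shortExact _) φ₀ lam₂ hlam₂
  have t0' : Compat n τn (cs (u S.X₁)) (cokSeq_shortExact _) lam₂ := by
    unfold Compat
    simpa [φ₀] using t0
  have e : lam₂ = lamX S.X₁ :=
    compat_unique n τn _ (cokSeq_shortExact (u S.X₁)) (hu0 S.X₁) _ _ t0' (hlam S.X₁)
  let φ : S ⟶ cs (S.f ≫ pushout.inl S.f (u S.X₁)) :=
    ShortComplex.homMk (𝟙 S.X₁) (pushout.inl _ _)
      (hS.exact.desc (pushout.inl _ _ ≫ cokernel.π _) (by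
        rw [← Category.assoc]; exact cokernel.condition _))
      (by dsimp; rw [Category.id_comp]) (by dsimp; simp)
  have t1 := transfer n τn hS (cokSeq_shortExact _) φ lam₂ hlam₂
  unfold Compat
  rw [← e]
  simpa [φ] using t1

include hu0 hlam in
lemma lam_natural {X X' : A} (h : X ⟶ X') :
    (T.F (n + 1)).map h ≫ lamX X' = lamX X ≫ (T'.F (n + 1)).map h := by
  have := hu X
  let φ : cs (u X) ⟶
      cs (pushout.inr (u X) h) :=
    ShortComplex.homMk h (pushout.inl _ _)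
      (cokernel.map _ _ h (pushout.inl _ _) pushout.condition)
      (by dsimp; exact pushout.condition.symm) (by dsimp; simp)
  have k := compat_all n τn Y u hu hu0 lamX hlam
    (cs (pushout.inr (u X) h)) (cokSeq_shortExact _)
  have t := transfer n τn (cokSeq_shortExact (u X)) (cokSeq_shortExact _) φ (lamX X') k
  have : Epi (T.δ (cs (u X)) (cokSeq_shortExact (u X)) n (n + 1) rfl) :=
    epi_δ T _ _ n (hu0 X)
  refine (cancel_epi
    (T.δ (cs (u X)) (cokSeq_shortExact (u X)) n (n + 1) rfl)).1 ?_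
  have h1 := hlam X
  unfold Compat at h1
  rw [← Category.assoc _ (lamX X), h1, Category.assoc]
  simpa [φ] using t

end Effaceable

lemma exists_next (hT : T.IsEffaceable) (n : ℕ) (τn : T.F n ⟶ T'.F n) :
    ∃ σ : T.F (n + 1) ⟶ T'.F (n + 1), ∀ (S : ShortComplex A) (hS : S.ShortExact),
      T.δ S hS n (n + 1) rfl ≫ σ.app S.X₁ = τn.app S.X₃ ≫ T'.δ S hS n (n + 1) rfl := by
  choose Y u hu hu0 using hT n
  have hex := fun X => exists_compat n τn (cs (u X))
    (@cokSeq_shortExact _ _ _ _ _ (u X) (hu X)) (hu0 X)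
  choose lamX hlam using hex
  exact ⟨{ app := lamX, naturality := fun X X' h => lam_natural n τn Y u hu hu0 lamX hlam h },
    fun S hS => compat_all n τn Y u hu hu0 lamX hlam S hS⟩

lemma next_unique (hT : T.IsEffaceable) (n : ℕ) (τn : T.F n ⟶ T'.F n)
    (σ σ' : T.F (n + 1) ⟶ T'.F (n + 1))
    (hσ : ∀ (S : ShortComplex A) (hS : S.ShortExact),
      T.δ S hS n (n + 1) rfl ≫ σ.app S.X₁ = τn.app S.X₃ ≫ T'.δ S hS n (n + 1) rfl)
    (hσ' : ∀ (S : ShortComplex A) (hS : S.ShortExact),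
      T.δ S hS n (n + 1) rfl ≫ σ'.app S.X₁ = τn.app S.X₃ ≫ T'.δ S hS n (n + 1) rfl) :
    σ = σ' := by
  ext X
  obtain ⟨Y, u, hu, hu0⟩ := hT n X
  exact compat_unique n τn (cs u) (cokSeq_shortExact u) hu0 _ _
    (hσ _ _) (hσ' _ _)

end Groth.Agent.Lib.Helper6.DeltaFun
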