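import Groth.Agent.Lib.Helper6.DevRed
import Mathlib
set_option backward.isDefEq.respectTransparency.types false
set_option autoImplicit false

/-!
# Natural endomorphisms of the identity of `Coh(X)` are multiplications by global functions
-/

universe u
open CategoryTheory CategoryTheory.Limits AlgebraicGeometry Opposite TopologicalSpace
open Groth.Agent.Lib.Helper17.CohKer Groth.Agent.Lib.Helper17.StalkExact Groth.Agent.Lib.Helper28.QCohLoc

namespace Groth.Agent.Lib.Helper6.DevCentre
open Groth.Agent.Lib.Helper6.DevSub Groth.Agent.Lib.Helper6.DevCore Groth.Agent.Lib.Helper6.DevRed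

variable {X : Scheme.{u}}

theorem smul_oneGerm_eq_zero (y : X) (a : X.presheaf.stalk y) (h : a • oneGerm y = 0) : a = 0 := by
  obtain ⟨V, hy, a', rfl⟩ := TopCat.Presheaf.exists_germ_eq X.presheaf a
  rw [← germ_eq_smul_oneGerm] at h
  have h' : (Coh.structureModule X).presheaf.germ V y hy (show Γ(Coh.structureModule X, V) from a') =
      (Coh.structureModule X).presheaf.germ V y hy 0 := by rw [h, map_zero]
  obtain ⟨V', hyV', i₁, i₂, h3⟩ := TopCat.Presheaf.germ_eq _ y hy hy _ _ h'
  rw [map_zero] at h3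
  have h4 : X.presheaf.map i₁.op a' = 0 := h3
  rw [← TopCat.Presheaf.germ_res_apply X.presheaf i₁ y hyV' a', h4, map_zero]

/-- the category of coherent modules -/
abbrev CohCat (X : Scheme.{u}) := ObjectProperty.FullSubcategory (fun M : X.Modules => Coh.IsCoh M)

/-- the structure sheaf as an object of `Coh(X)` -/
noncomputable def OO (X : Scheme.{u}) : CohCat X := ⟨Coh.structureModule X, isCoh_structureModule⟩

variable [IsNoetherian X] (φ : 𝟭 (CohCat X) ⟶ 𝟭 (CohCat X))

/-- the global function attached to a natural endomorphism of the identity -/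
noncomputable def rr : Γ(X, ⊤) :=
  (show Γ(X, ⊤) from (φ.app (OO X)).hom.app ⊤ (show Γ(Coh.structureModule X, ⊤) from (1 : Γ(X, ⊤))))

theorem nat_hom {M N : CohCat X} (f : M.obj ⟶ N.obj) :
    f ≫ (φ.app N).hom = (φ.app M).hom ≫ f := by
  have := φ.naturality (ObjectProperty.homMk f : M ⟶ N)
  exact congrArg (fun g => g.hom) this

/-- the component of `φ` at a coherent module, as a morphism of modules -/
noncomputable def comp (M : X.Modules) (hM : Coh.IsCoh M) : M ⟶ M := (φ.app ⟨M, hM⟩).hom

theorem nat_comp {M N : X.Modules} (hM : Coh.IsCoh M) (hN : Coh.IsCoh N) (f : M ⟶ N) :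
    f ≫ comp φ N hN = comp φ M hM ≫ f :=
  nat_hom φ (M := ⟨M, hM⟩) (N := ⟨N, hN⟩) f

theorem rr_eq : rr φ = (show Γ(X, ⊤) from (comp φ (Coh.structureModule X) isCoh_structureModule).app ⊤
    (show Γ(Coh.structureModule X, ⊤) from (1 : Γ(X, ⊤)))) := rfl

theorem stalk_comp_eq_smul (M : X.Modules) (hM : Coh.IsCoh M) (y : X) (m : M.presheaf.stalk y) :
    stalkHom (comp φ M hM) y m = X.presheaf.germ ⊤ y (Set.mem_univ y) (rr φ) • m := by
  obtain ⟨H, ι, hι, hH, h₀, hp, hr, hcyc, hzero⟩ :=
    exists_graph (Coh.structureModule X) M isCoh_structureModule hM y (oneGerm y) m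
  have n1 := nat_comp φ hH isCoh_structureModule (ι ≫ biprod.fst)
  have n2 := nat_comp φ hH hM (ι ≫ biprod.snd)
  obtain ⟨c, hc⟩ := hcyc (stalkHom (comp φ H hH) y h₀)
  -- compare in the structure sheaf
  have e1 : stalkHom (comp φ (Coh.structureModule X) isCoh_structureModule) y (oneGerm y) =
      X.presheaf.germ ⊤ y (Set.mem_univ y) (rr φ) • oneGerm y := by
    have h1 := stalkHom_germ (comp φ (Coh.structureModule X) isCoh_structureModule) y ⊤ trivial
      (show Γ(Coh.structureModule X, ⊤) from (1 : Γ(X, ⊤)))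
    exact h1.trans (germ_eq_smul_oneGerm y ⊤ trivial (rr φ))
  have e2 : stalkHom (comp φ (Coh.structureModule X) isCoh_structureModule) y (oneGerm y) = c • oneGerm y := by
    have e2' : stalkHom ((ι ≫ biprod.fst) ≫ comp φ (Coh.structureModule X) isCoh_structureModule) y h₀ =
        stalkHom (comp φ H hH ≫ ι ≫ biprod.fst) y h₀ := congrArg (fun g => stalkHom g y h₀) n1
    rw [stalkHom_comp (ι ≫ biprod.fst), stalkHom_comp (comp φ H hH) (ι ≫ biprod.fst), hp, hc, stalkHom_smul,
      hp] at e2'
    exact e2'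
  have e3 : c = X.presheaf.germ ⊤ y (Set.mem_univ y) (rr φ) := by
    have h0 : (c - X.presheaf.germ ⊤ y (Set.mem_univ y) (rr φ)) • oneGerm y = 0 := by
      rw [sub_smul, ← e1, ← e2, sub_self]
    exact sub_eq_zero.1 (smul_oneGerm_eq_zero y _ h0)
  have e4 : stalkHom ((ι ≫ biprod.snd) ≫ comp φ M hM) y h₀ =
      stalkHom (comp φ H hH ≫ ι ≫ biprod.snd) y h₀ := congrArg (fun g => stalkHom g y h₀) n2
  rw [stalkHom_comp (ι ≫ biprod.snd), stalkHom_comp (comp φ H hH) (ι ≫ biprod.snd), hr, hc, stalkHom_smul,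
    hr, e3] at e4
  exact e4

end Groth.Agent.Lib.Helper6.DevCentre
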