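import Groth.Agent.Lib.Helper6.DevExt
import Mathlib
set_option backward.isDefEq.respectTransparency.types false
set_option autoImplicit false

/-!
# Filtrations of coherent modules by direct images of ideals of integral closed subschemes
-/

universe u v w
open CategoryTheory CategoryTheory.Limits

namespace Groth.Agent.Lib.Helper6.DevFilt

section abelian

variable {C : Type w} [Category.{v} C] [Abelian C]

/-- pulling back a short exact sequence along a monomorphism into the cokernel term -/
theorem shortExact_pullback {A B D D' : C} (f : A ⟶ B) (g : B ⟶ D) (w : f ≫ g = 0)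
    (hS : (ShortComplex.mk f g w).ShortExact) (c : D' ⟶ D) [Mono c] :
    ∃ (f' : A ⟶ pullback g c) (w' : f' ≫ pullback.snd g c = 0),
      f' ≫ pullback.fst g c = f ∧ (ShortComplex.mk f' (pullback.snd g c) w').ShortExact := by
  haveI : Mono f := hS.mono_f
  haveI : Epi g := hS.epi_g
  have hker : IsLimit (KernelFork.ofι f w) := hS.fIsKernel
  let f' : A ⟶ pullback g c := pullback.lift f 0 (by rw [w, zero_comp])
  have hf'1 : f' ≫ pullback.fst g c = f := pullback.lift_fst _ _ _
  have hf'2 : f' ≫ pullback.snd g c = 0 := pullback.lift_snd _ _ _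
  haveI : Mono f' := mono_of_mono_fac hf'1
  refine ⟨f', hf'2, hf'1, ShortComplex.ShortExact.mk' ?_ inferInstance inferInstance⟩
  refine ShortComplex.exact_of_f_is_kernel _ ?_
  refine KernelFork.IsLimit.ofι' _ _ (fun {T} x hx => ?_)
  have h1 : (x ≫ pullback.fst g c) ≫ g = 0 := by
    rw [Category.assoc, pullback.condition, ← Category.assoc, hx, zero_comp]
  let t : T ⟶ A := hker.lift (KernelFork.ofι _ h1)
  have ht : t ≫ f = x ≫ pullback.fst g c := hker.fac (KernelFork.ofι _ h1) WalkingParallelPair.zero
  refine ⟨t, ?_⟩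
  apply pullback.hom_ext
  · rw [Category.assoc, hf'1, ht]
  · rw [Category.assoc, hf'2, comp_zero, hx]

/-- the cokernel of the pullback of a monomorphism along an epimorphism -/
noncomputable def cokernelPullbackIso {B D D' : C} (g : B ⟶ D) [Epi g] (c : D' ⟶ D) [Mono c] :
    cokernel (pullback.fst g c) ≅ cokernel c := by
  have hck : IsLimit (KernelFork.ofι c (cokernel.condition c)) :=
    Abelian.monoIsKernelOfCokernel (CokernelCofork.ofπ (cokernel.π c) (cokernel.condition c))
      (cokernelIsCokernel c)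
  have hw : pullback.fst g c ≫ g ≫ cokernel.π c = 0 := by
    rw [← Category.assoc, pullback.condition, Category.assoc, cokernel.condition, comp_zero]
  have hk : IsLimit (KernelFork.ofι (pullback.fst g c) hw) := by
    refine KernelFork.IsLimit.ofι' _ _ (fun {T} x hx => ?_)
    have h1 : (x ≫ g) ≫ cokernel.π c = 0 := by rw [Category.assoc, hx]
    let t : T ⟶ D' := hck.lift (KernelFork.ofι _ h1)
    have ht : t ≫ c = x ≫ g := hck.fac (KernelFork.ofι _ h1) WalkingParallelPair.zero
    exact ⟨pullback.lift x t ht.symm, pullback.lift_fst _ _ _⟩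
  have hcok : IsColimit (CokernelCofork.ofπ (g ≫ cokernel.π c) hw) :=
    Abelian.epiIsCokernelOfKernel (KernelFork.ofι (pullback.fst g c) hw) hk
  exact (cokernelIsCokernel (pullback.fst g c)).coconePointUniqueUpToIso hcok

/-- the pullback of a monomorphism `c` along `g` is the kernel of `g ≫ cokernel.π c` -/
noncomputable def pullbackIsoKernel {B D D' : C} (g : B ⟶ D) (c : D' ⟶ D) [Mono c] :
    pullback g c ≅ kernel (g ≫ cokernel.π c) := by
  have hck : IsLimit (KernelFork.ofι c (cokernel.condition c)) :=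
    Abelian.monoIsKernelOfCokernel (CokernelCofork.ofπ (cokernel.π c) (cokernel.condition c))
      (cokernelIsCokernel c)
  have hw : pullback.fst g c ≫ g ≫ cokernel.π c = 0 := by
    rw [← Category.assoc, pullback.condition, Category.assoc, cokernel.condition, comp_zero]
  have hk : IsLimit (KernelFork.ofι (pullback.fst g c) hw) := by
    refine KernelFork.IsLimit.ofι' _ _ (fun {T} x hx => ?_)
    have h1 : (x ≫ g) ≫ cokernel.π c = 0 := by rw [Category.assoc, hx]
    let t : T ⟶ D' := hck.lift (KernelFork.ofι _ h1)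
    have ht : t ≫ c = x ≫ g := hck.fac (KernelFork.ofι _ h1) WalkingParallelPair.zero
    exact ⟨pullback.lift x t ht.symm, pullback.lift_fst _ _ _⟩
  exact hk.conePointUniqueUpToIso (limit.isLimit (parallelPair (g ≫ cokernel.π c) 0))

end abelian

section filt
open AlgebraicGeometry Groth.Agent.Lib.Helper6.DevCore Groth.Agent.Lib.Helper6.DevRed

variable {X : Scheme.{u}}

/-- `C` is isomorphic to the direct image of a nonzero quasi-coherent ideal of an integral closed subscheme -/
def IsIdealPush (C : X.Modules) : Prop :=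
  ∃ (Z : Scheme.{u}) (i : Z ⟶ X), IsClosedImmersion i ∧ IsIntegral Z ∧
    ∃ (I : Z.Modules) (ι : I ⟶ Coh.structureModule Z), Mono ι ∧ Coh.IsQCoh I ∧ ¬ IsZero I ∧
      Nonempty (C ≅ (Coh.push i).obj I)

theorem IsIdealPush.of_iso {C C' : X.Modules} (e : C ≅ C') (h : IsIdealPush C) : IsIdealPush C' := by
  obtain ⟨Z, i, hi, hZ, I, ι, hι, hI, hI0, ⟨e'⟩⟩ := h
  exact ⟨Z, i, hi, hZ, I, ι, hι, hI, hI0, ⟨e.symm ≪≫ e'⟩⟩

/-- `M` has a finite filtration by coherent submodules whose successive quotients are direct images of nonzero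
ideals of integral closed subschemes -/
inductive HasFilt : X.Modules → Prop
  | zero (M : X.Modules) : IsZero M → HasFilt M
  | step (M' M : X.Modules) (f : M' ⟶ M) : Mono f → Coh.IsCoh M → HasFilt M' →
      IsIdealPush (cokernel f) → HasFilt M

theorem HasFilt.of_iso {M N : X.Modules} (e : M ≅ N) (h : HasFilt M) : HasFilt N := by
  cases h with
  | zero _ hz => exact HasFilt.zero N (hz.of_iso e.symm)
  | step M' _ f hf hM hM' hgood =>
    exact HasFilt.step M' N (f ≫ e.hom) (mono_comp _ _) (isCoh_of_iso e hM) hM'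
      (IsIdealPush.of_iso (cokernelCompIsIso f e.hom).symm hgood)

theorem HasFilt.isCoh {M : X.Modules} (h : HasFilt M) : Coh.IsCoh M := by
  cases h with
  | zero _ hz => exact isCoh_of_isZero hz
  | step M' _ f hf hM hM' hgood => exact hM

/-- filtered modules are closed under extensions -/
theorem HasFilt.ext [IsLocallyNoetherian X] {D : X.Modules} (hD : HasFilt D) :
    ∀ {A B : X.Modules} (f : A ⟶ B) (g : B ⟶ D) (w : f ≫ g = 0),
      (ShortComplex.mk f g w).ShortExact → HasFilt A → Coh.IsCoh B → HasFilt B := by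
  induction hD with
  | zero D hz =>
    intro A B f g w hS hA hB
    haveI : Mono f := hS.mono_f
    haveI : Epi f := hS.exact.epi_f (hz.eq_of_tgt _ _)
    haveI : IsIso f := isIso_of_mono_of_epi f
    exact hA.of_iso (asIso f)
  | step D' D c hc hDcoh hD' hgood ih =>
    intro A B f g w hS hA hB
    haveI : Epi g := hS.epi_g
    obtain ⟨f', w', hf', hS'⟩ := shortExact_pullback f g w hS c
    have hB' : Coh.IsCoh (pullback g c) :=
      isCoh_of_iso (pullbackIsoKernel g c).symm
        (isCoh_kernel _ hB (isCoh_cokernel c hD'.isCoh hDcoh))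
    have hFB' : HasFilt (pullback g c) := ih f' (pullback.snd g c) w' hS' hA hB'
    exact HasFilt.step (pullback g c) B (pullback.fst g c) inferInstance hB hFB'
      (IsIdealPush.of_iso (cokernelPullbackIso g c).symm hgood)

end filt

section chain
open AlgebraicGeometry Groth.Agent.Lib.Helper6.DevCore Groth.Agent.Lib.Helper6.DevRed

variable {X : Scheme.{u}}

theorem HasFilt.exists_chain {M : X.Modules} (h : HasFilt M) :
    ∃ (m : ℕ) (F : ℕ → X.Modules) (φ : (j : ℕ) → (F j ⟶ F (j + 1))),
      IsZero (F 0) ∧ Nonempty (F m ≅ M) ∧ (∀ j ≤ m, Coh.IsCoh (F j)) ∧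
        ∀ j < m, Mono (φ j) ∧ IsIdealPush (cokernel (φ j)) := by
  induction h with
  | zero M hz =>
    exact ⟨0, fun _ => M, fun _ => 𝟙 M, hz, ⟨Iso.refl _⟩, fun j _ => isCoh_of_isZero hz,
      fun j hj => absurd hj (Nat.not_lt_zero j)⟩
  | step M' M f hf hM hM' hgood ih =>
    obtain ⟨m, F, φ, hz, ⟨e⟩, hcoh, hstep⟩ := ih
    let F' : ℕ → X.Modules := fun j => if j ≤ m then F j else M
    have hle : ∀ j, j ≤ m → F' j = F j := fun j h => if_pos h
    have hgt : ∀ j, ¬ j ≤ m → F' j = M := fun j h => if_neg h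
    let φ' : (j : ℕ) → (F' j ⟶ F' (j + 1)) := fun j =>
      if h1 : j + 1 ≤ m then eqToHom (hle j (by omega)) ≫ φ j ≫ eqToHom (hle (j + 1) h1).symm
      else if h2 : j = m then
        eqToHom ((hle j (by omega)).trans (by rw [h2])) ≫ e.hom ≫ f ≫ eqToHom (hgt (j + 1) h1).symm
      else eqToHom ((hgt j (by omega)).trans (hgt (j + 1) h1).symm)
    refine ⟨m + 1, F', φ', ?_, ?_, ?_, ?_⟩
    · rw [hle 0 (Nat.zero_le m)]
      exact hz
    · exact ⟨eqToIso (hgt (m + 1) (by omega))⟩
    · intro j hj
      by_cases h : j ≤ m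
      · rw [hle j h]
        exact hcoh j h
      · rw [hgt j h]
        exact hM
    · intro j hj
      by_cases h1 : j + 1 ≤ m
      · have hφ : φ' j = eqToHom (hle j (by omega)) ≫ φ j ≫ eqToHom (hle (j + 1) h1).symm := dif_pos h1
        obtain ⟨hm, hg⟩ := hstep j (by omega)
        rw [hφ]
        refine ⟨inferInstance, ?_⟩
        exact IsIdealPush.of_iso
          ((cokernelEpiComp _ _) ≪≫ (cokernelCompIsIso _ _)).symm hg
      · have h2 : j = m := by omega
        have hφ : φ' j = eqToHom ((hle j (by omega)).trans (by rw [h2])) ≫ e.hom ≫ f ≫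
            eqToHom (hgt (j + 1) h1).symm := by
          simp only [φ', dif_neg h1, dif_pos h2]
        rw [hφ]
        refine ⟨inferInstance, ?_⟩
        exact IsIdealPush.of_iso
          ((cokernelEpiComp _ _) ≪≫ (cokernelEpiComp _ _) ≪≫ (cokernelCompIsIso _ _)).symm hgood

end chain

end Groth.Agent.Lib.Helper6.DevFilt
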