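import Groth.Agent.Lib.Helper6.DevPow
import Groth.Agent.Lib.Helper6.DevExt
import Mathlib
set_option backward.isDefEq.respectTransparency.types false
set_option autoImplicit false

/-!
# The ideal step of devissage with a test module `G` (Stacks 01YM)
-/

universe u
open CategoryTheory CategoryTheory.Limits AlgebraicGeometry Opposite TopologicalSpace
open Groth.Agent.Lib.Helper17.CohKer Groth.Agent.Lib.Helper17.StalkExact Groth.Agent.Lib.Helper28.QCohLoc

namespace Groth.Agent.Lib.Helper6.DevIdeal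
open Groth.Agent.Lib.Helper6.DevSub Groth.Agent.Lib.Helper6.DevCore Groth.Agent.Lib.Helper6.DevSoc
  Groth.Agent.Lib.Helper6.DevRed Groth.Agent.Lib.Helper6.DevSum Groth.Agent.Lib.Helper17.Serre
  Groth.Agent.Lib.Helper6.DevStep Groth.Agent.Lib.Helper6.DevExt Groth.Agent.Lib.Helper6.DevPow
  Groth.Agent.Lib.Helper6.IdealMul

variable {X : Scheme.{u}}

attribute [local instance] Abelian.hasFiniteBiproducts

/-- a submodule of a power of an ideal of an integral closed subscheme which vanishes at the generic point is zero -/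
theorem isZero_of_mono_biproduct (I : X.IdealSheafData) [IsIntegral I.subscheme] (y : X) (hy : closure {y} = (I.support : Set X))
    {N : X.Modules} (j : N ⟶ ClSub.quotMod I) [Mono j] {r : ℕ} {M : X.Modules}
    (m : M ⟶ ⨁ fun _ : Fin r => N) [Mono m] (hyM : y ∉ CohB1.support M) : IsZero M := by
  have h0 : m = 0 := by
    apply biproduct.hom_ext
    intro k
    rw [zero_comp, ← cancel_mono j, zero_comp]
    let φ := (m ≫ biproduct.π (fun _ : Fin r => N) k) ≫ j
    have hz : IsZero (Abelian.image φ) := by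
      refine isZero_of_mono_quotMod I y hy (Abelian.image.ι φ) ?_
      exact fun h => hyM (support_subset_of_epi (Abelian.factorThruImage φ) h)
    have : φ = 0 := by
      rw [← Abelian.image.fac φ, hz.eq_of_tgt (Abelian.factorThruImage φ) 0, zero_comp]
    exact this
  haveI : Mono (0 : M ⟶ ⨁ fun _ : Fin r => N) := h0 ▸ inferInstance
  exact IsZero.of_mono_zero M (⨁ fun _ : Fin r => N)

section main

variable [IsNoetherian X] (P : X.Modules → Prop) (hP : ∀ M N : X.Modules, Nonempty (M ≅ N) → P M → P N)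
  (h₁ : ∀ S : ShortComplex X.Modules, S.ShortExact → Coh.IsCoh S.X₁ → Coh.IsCoh S.X₂ → Coh.IsCoh S.X₃ →
      P S.X₁ → P S.X₃ → P S.X₂)
  (h₂ : ∀ (F : X.Modules) (r : ℕ), Coh.IsCoh F → 1 ≤ r → P (∐ fun _ : Fin r => F) → P F)

include hP h₁ h₂ in
/-- **the ideal step with a test module.** -/
theorem ideal_case (Z : Closeds X) (hirr : IsIrreducible (Z : Set X)) (ξ : X) (hξ : closure {ξ} = (Z : Set X))
    (IH : ∀ N : X.Modules, Coh.IsCoh N → CohB1.support N ⊆ (Z : Set X) → ξ ∉ CohB1.support N → P N)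
    (G : X.Modules) (hG : Coh.IsCoh G) (hξG : ξ ∈ CohB1.support G)
    (hGm : ∀ a ∈ IsLocalRing.maximalIdeal (X.presheaf.stalk ξ), ∀ m : ↑(G.presheaf.stalk ξ), a • m = 0)
    (hG4 : ∀ J : X.IdealSheafData, ξ ∉ (J.support : Set X) →
      ∃ (G' : X.Modules) (ι' : G' ⟶ (Dual3.idealMul J).obj G), Mono ι' ∧ Coh.IsQCoh G' ∧
        IsIso ((TopCat.Presheaf.stalkFunctor _ ξ).map (ι' ≫ Dual3.idealMulι J G).mapPresheaf) ∧ P G')
    (N : X.Modules) (j : N ⟶ ClSub.quotMod (Scheme.IdealSheafData.vanishingIdeal Z)) (hj : Mono j)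
    (hN : Coh.IsCoh N) : P N := by
  classical
  haveI hint := isIntegral_subscheme_vanishingIdeal Z hirr
  have hNZ : CohB1.support N ⊆ (Z : Set X) :=
    (support_subset_of_mono j).trans (support_quotMod_vanishingIdeal Z).le
  by_cases hξN : ξ ∈ CohB1.support N
  swap
  · exact IH N hN hNZ hξN
  -- the generator of the stalk of `N`
  obtain ⟨g, hg0, hgm, hgcyc⟩ := exists_gen_quotMod Z ξ hξ
  have hjinj : Function.Injective (stalkHom j ξ) := stalkHom_injective_of_mono j ξ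
  haveI : Nontrivial (N.presheaf.stalk ξ) := not_subsingleton_iff_nontrivial.1 hξN
  obtain ⟨n₀, hn₀⟩ := exists_ne (0 : N.presheaf.stalk ξ)
  obtain ⟨c₀, hc₀⟩ := hgcyc (stalkHom j ξ n₀)
  have hc₀u : IsUnit c₀ := by
    by_contra h
    apply hn₀
    apply hjinj
    rw [hc₀, hgm c₀ h, map_zero]
  have hn₀m : ∀ a ∈ IsLocalRing.maximalIdeal (X.presheaf.stalk ξ), a • n₀ = 0 := by
    intro a ha
    apply hjinj
    rw [stalkHom_smul, hc₀, smul_comm, hgm a ha, smul_zero, map_zero]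
  have hn₀c : ∀ n : N.presheaf.stalk ξ, ∃ d : X.presheaf.stalk ξ, n = d • n₀ := by
    intro n
    obtain ⟨d, hd⟩ := hgcyc (stalkHom j ξ n)
    obtain ⟨u, rfl⟩ := hc₀u
    refine ⟨d * ↑u⁻¹, hjinj ?_⟩
    rw [hd, stalkHom_smul, hc₀, smul_smul, mul_assoc, Units.inv_mul, mul_one]
  obtain ⟨r, hr, H, ι, hι, hH, hpb, hqb⟩ := exists_graph_pow ξ G N hG hN hGm hξG n₀ hn₀ hn₀m hn₀c
  have hB : Coh.IsCoh (⨁ fun _ : Fin r => N) :=
    isCoh_of_iso (biproduct.isoCoproduct (fun _ : Fin r => N)).symm (isCoh_sigma_fin r _ (fun _ => hN))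
  -- the first projection is a monomorphism
  haveI := mono_kernel_fst_snd ι
  have hy' : closure {ξ} = ((Scheme.IdealSheafData.vanishingIdeal Z).support : Set X) := by
    rw [Scheme.IdealSheafData.coe_support_vanishingIdeal]; exact hξ
  have hkz : IsZero (kernel (ι ≫ biprod.fst)) :=
    isZero_of_mono_biproduct (Scheme.IdealSheafData.vanishingIdeal Z) ξ hy' j
      (kernel.ι (ι ≫ biprod.fst) ≫ ι ≫ biprod.snd)
      (notMem_support_kernel _ ξ (fun h hh => hpb.1 (hh.trans (map_zero _).symm)))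
  haveI hpmono : Mono (ι ≫ biprod.fst) := Preadditive.mono_of_kernel_zero (hkz.eq_of_src _ _)
  -- the cokernel of the first projection and its annihilator
  have hCp : Coh.IsCoh (cokernel (ι ≫ biprod.fst)) := isCoh_cokernel _ hH hG
  have hξCp : ξ ∉ CohB1.support (cokernel (ι ≫ biprod.fst)) := notMem_support_cokernel _ ξ hpb.2
  haveI : (cokernel (ι ≫ biprod.fst)).IsQuasicoherent := hCp.1
  haveI : SheafOfModules.IsFiniteType.{u} (R := X.ringCatSheaf) (cokernel (ι ≫ biprod.fst) : X.Modules) := hCp.2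
  -- the kernel of the second projection and its annihilator
  have hT : Coh.IsCoh (kernel (ι ≫ biprod.snd)) := isCoh_kernel _ hH hB
  have hξT : ξ ∉ CohB1.support (kernel (ι ≫ biprod.snd)) :=
    notMem_support_kernel _ ξ (fun h hh => hqb.1 (hh.trans (map_zero _).symm))
  haveI : (kernel (ι ≫ biprod.snd)).IsQuasicoherent := hT.1
  haveI : SheafOfModules.IsFiniteType.{u} (R := X.ringCatSheaf) (kernel (ι ≫ biprod.snd) : X.Modules) := hT.2
  obtain ⟨n, hn⟩ := exists_pow_inf_eq_zero G hG (kernel.ι (ι ≫ biprod.snd) ≫ ι ≫ biprod.fst)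
    (Groth.Agent.Lib.Helper17.AnnIdeal.annIdeal (kernel (ι ≫ biprod.snd))) (fun U a ha s => by
      rw [Groth.Agent.Lib.Helper17.AnnIdeal.annIdeal_ideal] at ha
      exact Module.mem_annihilator.1 ha s)
  -- the ideal
  let J₁ := Groth.Agent.Lib.Helper17.AnnIdeal.annIdeal (cokernel (ι ≫ biprod.fst))
  let J₂ := Groth.Agent.Lib.Helper17.AnnIdeal.annIdeal (kernel (ι ≫ biprod.snd))
  have hξJ : ξ ∉ ((J₁ * J₂ ^ (n + 1)).support : Set X) := by
    rw [Scheme.IdealSheafData.support_mul, Scheme.IdealSheafData.support_pow_succ, Closeds.coe_sup]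
    rintro (h | h)
    · rw [Groth.Agent.Lib.Helper17.AnnIdeal.support_annIdeal] at h
      exact hξCp h
    · rw [Groth.Agent.Lib.Helper17.AnnIdeal.support_annIdeal] at h
      exact hξT h
  have hJ1 : J₁ * J₂ ^ (n + 1) ≤ J₁ := by
    rw [Scheme.IdealSheafData.le_def]
    intro U
    change J₁.ideal U * (J₂ ^ (n + 1)).ideal U ≤ J₁.ideal U
    exact Ideal.mul_le_left (I := J₁.ideal U) (J := (J₂ ^ (n + 1)).ideal U)
  have hJ2 : J₁ * J₂ ^ (n + 1) ≤ J₂ ^ n := by
    rw [Scheme.IdealSheafData.le_def]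
    intro U
    change J₁.ideal U * (J₂.ideal U) ^ (n + 1) ≤ (J₂.ideal U) ^ n
    refine (Ideal.mul_le_right (I := J₁.ideal U) (J := (J₂.ideal U) ^ (n + 1))).trans ?_
    exact Ideal.pow_le_pow_right (Nat.le_succ n)
  obtain ⟨G', ι', hι', hG'q, hiso, hPG'⟩ := hG4 (J₁ * J₂ ^ (n + 1)) hξJ
  -- the morphism `G' ⟶ H`
  have hkill : (ι' ≫ Dual3.idealMulι (J₁ * J₂ ^ (n + 1)) G) ≫ cokernel.π (ι ≫ biprod.fst) = 0 := by
    rw [Category.assoc, idealMulι_comp_eq_zero (J₁ * J₂ ^ (n + 1)) G (fun U a ha s =>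
      Module.mem_annihilator.1 (hJ1 U ha) s) (cokernel.π (ι ≫ biprod.fst)), comp_zero]
  let lam : G' ⟶ H := Abelian.monoLift (ι ≫ biprod.fst) _ hkill
  have hlam : lam ≫ ι ≫ biprod.fst = ι' ≫ Dual3.idealMulι (J₁ * J₂ ^ (n + 1)) G :=
    Abelian.monoLift_comp _ _ _
  haveI hmono' : Mono (ι' ≫ Dual3.idealMulι (J₁ * J₂ ^ (n + 1)) G) := mono_comp _ _
  haveI hψ : Mono (lam ≫ ι ≫ biprod.snd) := by
    apply Preadditive.mono_of_cancel_zero
    intro K x hx
    let b : K ⟶ kernel (ι ≫ biprod.snd) := kernel.lift _ (x ≫ lam) (by rw [Category.assoc]; exact hx)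
    have hb : b ≫ kernel.ι _ = x ≫ lam := kernel.lift_ι _ _ _
    have hb0 : b = 0 := hn (J₁ * J₂ ^ (n + 1)) hJ2 K (x ≫ ι') b (by
      rw [Category.assoc, ← hlam, ← Category.assoc x, ← hb, Category.assoc])
    have h0 : x ≫ lam = 0 := by rw [← hb, hb0, zero_comp]
    rw [← cancel_mono (ι' ≫ Dual3.idealMulι (J₁ * J₂ ^ (n + 1)) G), zero_comp, ← hlam, ← Category.assoc, h0,
      zero_comp]
  -- `G'` is coherent
  haveI : G'.IsQuasicoherent := hG'q
  haveI : G.IsQuasicoherent := hG.1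
  haveI : SheafOfModules.IsFiniteType.{u} (R := X.ringCatSheaf) G := hG.2
  have hG' : Coh.IsCoh G' := ⟨hG'q, isFiniteType_of_mono (ι' ≫ Dual3.idealMulι (J₁ * J₂ ^ (n + 1)) G)⟩
  -- the stalk maps
  have hisob : Function.Bijective (stalkHom (ι' ≫ Dual3.idealMulι (J₁ * J₂ ^ (n + 1)) G) ξ) := by
    have h : IsIso ((stalkFunctor ξ).map (ι' ≫ Dual3.idealMulι (J₁ * J₂ ^ (n + 1)) G)) := hiso
    exact (ConcreteCategory.isIso_iff_bijective _).1 h
  have hψsurj : Function.Surjective (stalkHom (lam ≫ ι ≫ biprod.snd) ξ) := by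
    intro z
    obtain ⟨h, rfl⟩ := hqb.2 z
    obtain ⟨g', hg'⟩ := hisob.2 (stalkHom (ι ≫ biprod.fst) ξ h)
    refine ⟨g', ?_⟩
    rw [stalkHom_comp]
    congr 1
    apply hpb.1
    rw [← stalkHom_comp, hlam, hg']
  have hξC : ξ ∉ CohB1.support (cokernel (lam ≫ ι ≫ biprod.snd)) := notMem_support_cokernel _ ξ hψsurj
  have hC : Coh.IsCoh (cokernel (lam ≫ ι ≫ biprod.snd)) := isCoh_cokernel _ hG' hB
  have hCZ : CohB1.support (cokernel (lam ≫ ι ≫ biprod.snd)) ⊆ (Z : Set X) :=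
    (support_subset_of_epi (cokernel.π (lam ≫ ι ≫ biprod.snd))).trans
      ((support_biproduct_subset N).trans hNZ)
  -- conclusion
  have hPB : P (⨁ fun _ : Fin r => N) := by
    let S : ShortComplex X.Modules := ShortComplex.mk (lam ≫ ι ≫ biprod.snd)
      (cokernel.π (lam ≫ ι ≫ biprod.snd)) (cokernel.condition _)
    have hS : S.ShortExact :=
      ShortComplex.ShortExact.mk' (ShortComplex.exact_of_g_is_cokernel _ (cokernelIsCokernel _)) hψ
        coequalizer.π_epi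
    exact h₁ S hS hG' hB hC hPG' (IH _ hC hCZ hξC)
  exact h₂ N r hN hr (hP _ _ ⟨biproduct.isoCoproduct _⟩ hPB)

end main

end Groth.Agent.Lib.Helper6.DevIdeal
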