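import Groth.Agent.Lib.Helper6.DevSub
import Mathlib
set_option backward.isDefEq.respectTransparency.types false
set_option autoImplicit false

/-!
# Socle elements in the generic stalk

For a coherent module `Q` on a locally Noetherian scheme whose support lies in the closure of a point `y` and contains
`y`, the stalk `Q_y` contains a nonzero element killed by the maximal ideal of `O_{X,y}`.
-/

universe u
open CategoryTheory CategoryTheory.Limits AlgebraicGeometry Opposite TopologicalSpace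
open Groth.Agent.Lib.Helper17.CohKer Groth.Agent.Lib.Helper17.StalkExact Groth.Agent.Lib.Helper28.QCohLoc

namespace Groth.Agent.Lib.Helper6.DevSoc
open Groth.Agent.Lib.Helper6.DevSub

variable {X : Scheme.{u}}

/-- elements of the maximal ideal act nilpotently on the stalk at `y` of a quasi-coherent module supported in the
closure of `y`. -/
theorem exists_pow_smul_eq_zero (Q : X.Modules) [Q.IsQuasicoherent] (y : X)
    (hsupp : CohB1.support Q ⊆ closure {y}) (a : X.presheaf.stalk y)
    (ha : a ∈ IsLocalRing.maximalIdeal (X.presheaf.stalk y)) (q : Q.presheaf.stalk y) :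
    ∃ n : ℕ, a ^ n • q = 0 := by
  obtain ⟨U₁, hy₁, a₁, rfl⟩ := TopCat.Presheaf.exists_germ_eq X.presheaf a
  obtain ⟨U₂, hy₂, q₂, rfl⟩ := TopCat.Presheaf.exists_germ_eq Q.presheaf q
  obtain ⟨_, ⟨U, hU, rfl⟩, hyU, hU12⟩ :=
    X.isBasis_affineOpens.exists_subset_of_mem_open (show y ∈ ((U₁ ⊓ U₂ : X.Opens) : Set X) from ⟨hy₁, hy₂⟩)
      (U₁ ⊓ U₂).2
  have hU1 : U ≤ U₁ := fun x hx => (hU12 hx).1
  have hU2 : U ≤ U₂ := fun x hx => (hU12 hx).2
  have e1 : X.presheaf.germ U₁ y hy₁ a₁ = X.presheaf.germ U y hyU (resO hU1 a₁) :=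
    (TopCat.Presheaf.germ_res_apply X.presheaf (homOfLE hU1) y hyU a₁).symm
  have e2 : Q.presheaf.germ U₂ y hy₂ q₂ = Q.presheaf.germ U y hyU (res Q hU2 q₂) := (germ_res' Q y hU2 hyU q₂).symm
  rw [e1] at ha ⊢
  rw [e2]
  set a' := resO hU1 a₁
  set q' := res Q hU2 q₂
  have hnu : y ∉ X.basicOpen a' := by
    intro h
    rw [Scheme.mem_basicOpen _ _ _ hyU] at h
    exact ha h
  have hz : res Q (X.basicOpen_le a') q' = 0 := by
    refine Groth.Agent.S0048.sections_eq_zero Q _ (fun x hx hxs => hnu ?_) _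
    have hspec : y ⤳ x := specializes_iff_mem_closure.2 (hsupp hxs)
    exact hspec.mem_open (X.basicOpen a').2 hx
  obtain ⟨n, hn⟩ := (isLocOn_of_isQuasicoherent Q hU).inj a' q' hz
  refine ⟨n, ?_⟩
  rw [← map_pow, ← germ_smul', hn, map_zero]

/-- **socle element.** -/
theorem exists_socle [IsLocallyNoetherian X] (Q : X.Modules) (hQ : Coh.IsCoh Q) (y : X)
    (hsupp : CohB1.support Q ⊆ closure {y}) (hy : y ∈ CohB1.support Q) :
    ∃ q : Q.presheaf.stalk y, q ≠ 0 ∧
      ∀ a ∈ IsLocalRing.maximalIdeal (X.presheaf.stalk y), a • q = 0 := by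
  haveI : Q.IsQuasicoherent := hQ.1
  haveI : Nontrivial (Q.presheaf.stalk y) := not_subsingleton_iff_nontrivial.1 hy
  obtain ⟨p, hp⟩ := associatedPrimes.nonempty (X.presheaf.stalk y) (Q.presheaf.stalk y)
  obtain ⟨hpp, q, rfl⟩ := isAssociatedPrime_iff.1 hp
  refine ⟨q, ?_, fun a ha => ?_⟩
  · rintro rfl
    apply hpp.ne_top
    rw [Ideal.eq_top_iff_one, Submodule.mem_colon_singleton, smul_zero]
    exact Submodule.zero_mem _
  · obtain ⟨n, hn⟩ := exists_pow_smul_eq_zero Q y hsupp a ha q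
    have h1 : a ^ n ∈ Submodule.colon (⊥ : Submodule (X.presheaf.stalk y) (Q.presheaf.stalk y)) {q} := by
      rw [Submodule.mem_colon_singleton, hn]
      exact Submodule.zero_mem _
    have h2 := hpp.mem_of_pow_mem n h1
    rw [Submodule.mem_colon_singleton] at h2
    exact (Submodule.mem_bot _).1 h2

end Groth.Agent.Lib.Helper6.DevSoc
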