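import Groth.Agent.S0049
import Groth.Agent.Lib.Helper17.Serre2
import Groth.Agent.Lib.Helper17.QCAlgGen
import Groth.Agent.Lib.Helper28.QCohGen
import Mathlib
set_option backward.isDefEq.respectTransparency.types false
set_option autoImplicit false

/-!
# A coherent submodule with prescribed cyclic stalk

On a Noetherian scheme `X`, for a coherent module `E`, an open `W`, a section `s` of `E` over `W` there is a coherent
submodule `H ⊆ E` whose stalk at every point `y ∈ W` is the cyclic submodule of `E_y` generated by the germ of `s`: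
`H = ker (E ⟶ j_* (E|_W / O_W s))`.
-/

universe u
open CategoryTheory CategoryTheory.Limits AlgebraicGeometry Opposite TopologicalSpace
open Groth.Agent.Lib.Helper17.CohKer Groth.Agent.Lib.Helper17.StalkExact Groth.Agent.Lib.Helper28.QCohLoc
open Groth.Agent.Lib.Helper17.Serre

namespace Groth.Agent.Lib.Helper6.DevSub

variable {X : Scheme.{u}} (E : X.Modules) (W : X.Opens) (s : Γ(E, W))

/-- the restriction of `E` to `W` -/
noncomputable abbrev EW : (↑W : Scheme.{u}).Modules := (Scheme.Modules.restrictFunctor W.ι).obj E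

/-- the section `s` as a global section of `E|_W` -/
noncomputable def sW : Γ(EW E W, ⊤) := res E (le_of_eq W.ι_image_top) s

/-- `O_W ⟶ E|_W`, `1 ↦ s` -/
noncomputable def σ : Coh.structureModule (↑W : Scheme.{u}) ⟶ EW E W := ofSection (EW E W) (sW E W s)

/-- the quotient `E|_W / O_W s` -/
noncomputable abbrev C : (↑W : Scheme.{u}).Modules := cokernel (σ E W s)

/-- `E ⟶ j_* (E|_W / O_W s)` -/
noncomputable def ψ : E ⟶ (Scheme.Modules.pushforward W.ι).obj (C E W s) :=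
  (Scheme.Modules.restrictAdjunction W.ι).unit.app E ≫
    (Scheme.Modules.pushforward W.ι).map (cokernel.π (σ E W s))

/-- the submodule generated by `s`, extended to `X` -/
noncomputable abbrev H : X.Modules := kernel (ψ E W s)

theorem ψ_app (V : X.Opens) (t : Γ(E, V)) :
    (ψ E W s).app V t = (cokernel.π (σ E W s)).app (W.ι ⁻¹ᵁ V)
      (res E (W.ι.image_preimage_le V) t) := rfl

section coh
variable [IsNoetherian X] [E.IsQuasicoherent] [SheafOfModules.IsFiniteType.{u} (R := X.ringCatSheaf) E]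

instance : (C E W s).IsQuasicoherent := isQuasicoherent_cokernel (σ E W s)

instance : ((Scheme.Modules.pushforward W.ι).obj (C E W s)).IsQuasicoherent :=
  isQuasicoherent_pushforward W.ι _

instance : (H E W s).IsQuasicoherent := isQuasicoherent_kernel (ψ E W s)

instance : SheafOfModules.IsFiniteType.{u} (R := X.ringCatSheaf) (H E W s) := isFiniteType_kernel (ψ E W s)

end coh

section stalk

theorem germ_res' (L : X.Modules) (x : X) {U V : X.Opens} (h : V ≤ U) (hx : x ∈ V) (t : Γ(L, U)) :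
    L.presheaf.germ V x hx (res L h t) = L.presheaf.germ U x (h hx) t :=
  TopCat.Presheaf.germ_res_apply L.presheaf (homOfLE h) x hx t

theorem res_congr (L : X.Modules) {U V : X.Opens} (h h' : V ≤ U) (t : Γ(L, U)) : res L h t = res L h' t := rfl

theorem res_EW {U V : (↑W : Scheme.{u}).Opens} (h : V ≤ U) (x : Γ(EW E W, U)) :
    res (EW E W) h x = res E (W.ι.image_mono h) (show Γ(E, W.ι ''ᵁ U) from x) := rfl

theorem smul_EW {U : (↑W : Scheme.{u}).Opens} (c : Γ(↑W, U)) (x : Γ(EW E W, U)) :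
    (c • x : Γ(EW E W, U)) = ((W.ι.appIso U).inv c • (show Γ(E, W.ι ''ᵁ U) from x) : Γ(E, W.ι ''ᵁ U)) := rfl

variable (y : X) (hy : y ∈ W)

/-- the germ of `s` is killed by `ψ` -/
theorem ψ_app_self : (ψ E W s).app W s = 0 := by
  rw [ψ_app]
  have h1 : (σ E W s).app (W.ι ⁻¹ᵁ W) (1 : Γ(↑W, W.ι ⁻¹ᵁ W)) = res E (W.ι.image_preimage_le W) s := by
    unfold σ
    rw [ofSection_app_one, res_EW]
    unfold sW
    exact res_res E _ _ s
  have h2 : (cokernel.π (σ E W s)).app (W.ι ⁻¹ᵁ W)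
      ((σ E W s).app (W.ι ⁻¹ᵁ W) (1 : Γ(↑W, W.ι ⁻¹ᵁ W))) = 0 :=
    congrArg (fun φ : (Coh.structureModule (↑W : Scheme.{u}) ⟶ C E W s) =>
      φ.app (W.ι ⁻¹ᵁ W) (1 : Γ(↑W, W.ι ⁻¹ᵁ W))) (cokernel.condition (σ E W s))
  exact (congrArg ((cokernel.π (σ E W s)).app (W.ι ⁻¹ᵁ W)) h1).symm.trans h2

theorem stalkHom_ψ_germ : stalkHom (ψ E W s) y (E.presheaf.germ W y hy s) = 0 := by
  rw [stalkHom_germ, ψ_app_self, map_zero]

end stalk

section stalk2

theorem germ_map (L : X.Modules) (x : X) {U V : X.Opens} (f : op U ⟶ op V) (hx : x ∈ V) (t : Γ(L, U)) :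
    L.presheaf.germ V x hx (L.presheaf.map f t) = L.presheaf.germ U x (leOfHom f.unop hx) t :=
  TopCat.Presheaf.germ_res_apply L.presheaf f.unop x hx t

theorem EW_map {U V : (↑W : Scheme.{u}).Opens} (f : op U ⟶ op V) (x : Γ(EW E W, U)) :
    (EW E W).presheaf.map f x =
      E.presheaf.map (W.ι.opensFunctor.map f.unop).op (show Γ(E, W.ι ''ᵁ U) from x) := rfl

variable (y : X) (hy : y ∈ W)

/-- the short complex `O_W ⟶ E|_W ⟶ C` -/
noncomputable def SC : ShortComplex (↑W : Scheme.{u}).Modules :=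
  ShortComplex.mk (σ E W s) (cokernel.π (σ E W s)) (cokernel.condition (σ E W s))

theorem SC_exact : (SC E W s).Exact :=
  ShortComplex.exact_of_g_is_cokernel _ (cokernelIsCokernel (σ E W s))

theorem exists_smul_of_stalkHom_ψ_eq_zero (t : E.presheaf.stalk y) (ht : stalkHom (ψ E W s) y t = 0) :
    ∃ c : X.presheaf.stalk y, t = c • E.presheaf.germ W y hy s := by
  obtain ⟨V₀, hyV₀, t₀, rfl⟩ := TopCat.Presheaf.exists_germ_eq E.presheaf t
  rw [stalkHom_germ] at ht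
  set P := (Scheme.Modules.pushforward W.ι).obj (C E W s) with hP
  have ht' : P.presheaf.germ V₀ y hyV₀ ((ψ E W s).app V₀ t₀) = P.presheaf.germ V₀ y hyV₀ 0 := by
    rw [ht, map_zero]
  obtain ⟨V₁, hyV₁, i₁, i₂, h1⟩ := TopCat.Presheaf.germ_eq P.presheaf y hyV₀ hyV₀ _ _ ht'
  rw [map_zero] at h1
  have hyV : y ∈ V₁ ⊓ W := ⟨hyV₁, hy⟩
  have hVV₀ : V₁ ⊓ W ≤ V₀ := inf_le_left.trans (leOfHom i₁)
  have hψ : (ψ E W s).app (V₁ ⊓ W) (res E hVV₀ t₀) = 0 := by
    rw [app_res]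
    have : res P hVV₀ ((ψ E W s).app V₀ t₀) = res P (inf_le_left : V₁ ⊓ W ≤ V₁) (res P (leOfHom i₁) ((ψ E W s).app V₀ t₀)) :=
      (res_res P _ _ _).symm
    rw [this]
    have h1' : res P (leOfHom i₁) ((ψ E W s).app V₀ t₀) = 0 := h1
    rw [h1', res_zero]
  rw [ψ_app] at hψ
  -- the point of `W`
  let y' : (↑W : Scheme.{u}) := ⟨y, hy⟩
  have hy'V : y' ∈ W.ι ⁻¹ᵁ (V₁ ⊓ W) := hyV
  set t'' : Γ(EW E W, W.ι ⁻¹ᵁ (V₁ ⊓ W)) := res E (W.ι.image_preimage_le (V₁ ⊓ W)) (res E hVV₀ t₀) with ht''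
  have hex : Function.Exact (stalkHom (σ E W s) y') (stalkHom (cokernel.π (σ E W s)) y') :=
    stalkHom_exact_of_exact (SC E W s) (SC_exact E W s) y'
  have hker : stalkHom (cokernel.π (σ E W s)) y'
      ((EW E W).presheaf.germ (W.ι ⁻¹ᵁ (V₁ ⊓ W)) y' hy'V t'') = 0 := by
    have hψ' : (cokernel.π (σ E W s)).app (W.ι ⁻¹ᵁ (V₁ ⊓ W)) t'' =
        (0 : Γ(C E W s, W.ι ⁻¹ᵁ (V₁ ⊓ W))) := hψ
    rw [stalkHom_germ, hψ']
    exact map_zero _
  obtain ⟨u, hu⟩ := (hex _).1 hker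
  obtain ⟨V₂, hy'V₂, c, rfl⟩ := TopCat.Presheaf.exists_germ_eq (Coh.structureModule (↑W : Scheme.{u})).presheaf u
  rw [stalkHom_germ] at hu
  obtain ⟨V₃, hy'V₃, k₂, k₁, h3⟩ := TopCat.Presheaf.germ_eq (EW E W).presheaf y' hy'V₂ hy'V _ _ hu
  have hyU₃ : y ∈ W.ι ''ᵁ V₃ := ⟨y', hy'V₃, rfl⟩
  -- the right hand side
  have hR : E.presheaf.germ (W.ι ''ᵁ V₃) y hyU₃
      (show Γ(E, W.ι ''ᵁ V₃) from (EW E W).presheaf.map k₁.op t'') = E.presheaf.germ V₀ y hyV₀ t₀ := by
    rw [EW_map, germ_map, ht'']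
    erw [germ_res', germ_res']
  -- the left hand side
  have hσ : (σ E W s).app V₂ c = (show Γ(↑W, V₂) from c) • res (EW E W) (le_top : V₂ ≤ ⊤) (sW E W s) :=
    ofSection_app (EW E W) (sW E W s) V₂ c
  have hL : E.presheaf.germ (W.ι ''ᵁ V₃) y hyU₃
      (show Γ(E, W.ι ''ᵁ V₃) from (EW E W).presheaf.map k₂.op ((σ E W s).app V₂ c)) =
      X.presheaf.germ (W.ι ''ᵁ V₃) y hyU₃ ((W.ι.appIso V₃).inv ((↑W : Scheme.{u}).presheaf.map k₂.op c)) •
        E.presheaf.germ W y hy s := by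
    rw [hσ, Scheme.Modules.map_smul (EW E W) k₂, smul_EW, germ_smul']
    congr 1
    rw [EW_map, germ_map, res_EW, germ_res']
    unfold sW
    erw [germ_res']
  refine ⟨X.presheaf.germ (W.ι ''ᵁ V₃) y hyU₃
    ((W.ι.appIso V₃).inv ((↑W : Scheme.{u}).presheaf.map k₂.op c)), ?_⟩
  rw [← hR, ← hL]
  exact congrArg (fun z => E.presheaf.germ (W.ι ''ᵁ V₃) y hyU₃ (show Γ(E, W.ι ''ᵁ V₃) from z)) h3.symm

end stalk2

section package

theorem stalkHom_comp {F G K : X.Modules} (f : F ⟶ G) (g : G ⟶ K) (x : X) (m : F.presheaf.stalk x) :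
    stalkHom (f ≫ g) x m = stalkHom g x (stalkHom f x m) := by
  unfold stalkHom
  rw [Functor.map_comp]
  rfl

theorem stalkHom_id (F : X.Modules) (x : X) (m : F.presheaf.stalk x) : stalkHom (𝟙 F) x m = m := by
  unfold stalkHom
  rw [(stalkFunctor x).map_id]
  rfl

theorem stalkHom_zero (F G : X.Modules) (x : X) (m : F.presheaf.stalk x) :
    stalkHom (0 : F ⟶ G) x m = 0 := by
  unfold stalkHom
  rw [Functor.map_zero]
  rfl

/-- **cyclic coherent submodule with prescribed stalk.** -/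
theorem exists_cyclic_sub [IsNoetherian X] (E : X.Modules) (hE : Coh.IsCoh E) (y : X)
    (e : E.presheaf.stalk y) :
    ∃ (H : X.Modules) (ι : H ⟶ E), Mono ι ∧ Coh.IsCoh H ∧
      ∃ h₀ : H.presheaf.stalk y, stalkHom ι y h₀ = e ∧
        ∀ h : H.presheaf.stalk y, ∃ c : X.presheaf.stalk y, h = c • h₀ := by
  have : E.IsQuasicoherent := hE.1
  have : SheafOfModules.IsFiniteType.{u} (R := X.ringCatSheaf) E := hE.2
  obtain ⟨W, hy, s, rfl⟩ := TopCat.Presheaf.exists_germ_eq E.presheaf e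
  have hmono : Mono (kernel.ι (ψ E W s)) := equalizer.ι_mono
  refine ⟨H E W s, kernel.ι (ψ E W s), hmono, ⟨inferInstance, inferInstance⟩, ?_⟩
  let S : ShortComplex X.Modules := ShortComplex.mk (kernel.ι (ψ E W s)) (ψ E W s) (kernel.condition _)
  have hS : S.Exact := ShortComplex.exact_of_f_is_kernel _ (kernelIsKernel (ψ E W s))
  have hex : Function.Exact (stalkHom (kernel.ι (ψ E W s)) y) (stalkHom (ψ E W s) y) :=
    stalkHom_exact_of_exact S hS y
  have hinj := stalkHom_injective_of_mono (kernel.ι (ψ E W s)) y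
  obtain ⟨h₀, hh₀⟩ := (hex _).1 (stalkHom_ψ_germ E W s y hy)
  refine ⟨h₀, hh₀, fun h => ?_⟩
  have hk : stalkHom (ψ E W s) y (stalkHom (kernel.ι (ψ E W s)) y h) = 0 := (hex _).2 ⟨h, rfl⟩
  obtain ⟨c, hc⟩ := exists_smul_of_stalkHom_ψ_eq_zero E W s y hy _ hk
  refine ⟨c, hinj ?_⟩
  rw [hc, stalkHom_smul, hh₀]

/-- **the graph lemma**: for germs `a`, `b` of two coherent modules there is a coherent submodule `H` of `A ⊞ B`
whose stalk at `y` is cyclic with generator mapping to `(a, b)`. -/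
theorem exists_graph [IsNoetherian X] (A B : X.Modules) (hA : Coh.IsCoh A) (hB : Coh.IsCoh B) (y : X)
    (a : A.presheaf.stalk y) (b : B.presheaf.stalk y) :
    ∃ (H : X.Modules) (ι : H ⟶ A ⊞ B), Mono ι ∧ Coh.IsCoh H ∧
      ∃ h₀ : H.presheaf.stalk y, stalkHom (ι ≫ biprod.fst) y h₀ = a ∧ stalkHom (ι ≫ biprod.snd) y h₀ = b ∧
        (∀ h : H.presheaf.stalk y, ∃ c : X.presheaf.stalk y, h = c • h₀) ∧
        ∀ c : X.presheaf.stalk y, c • a = 0 → c • b = 0 → c • h₀ = 0 := by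
  have : A.IsQuasicoherent := hA.1
  have : B.IsQuasicoherent := hB.1
  have : SheafOfModules.IsFiniteType.{u} (R := X.ringCatSheaf) A := hA.2
  have : SheafOfModules.IsFiniteType.{u} (R := X.ringCatSheaf) B := hB.2
  have hE : Coh.IsCoh (A ⊞ B) := ⟨inferInstance, Groth.Agent.Lib.Helper17.QCAlgGen.isFiniteType_biprod A B⟩
  obtain ⟨H, ι, hι, hH, h₀, hh₀, hcyc⟩ := exists_cyclic_sub (A ⊞ B) hE y
    (stalkHom (biprod.inl : A ⟶ A ⊞ B) y a + stalkHom (biprod.inr : B ⟶ A ⊞ B) y b)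
  refine ⟨H, ι, hι, hH, h₀, ?_, ?_, hcyc, ?_⟩
  · rw [stalkHom_comp, hh₀, map_add, ← stalkHom_comp, ← stalkHom_comp, biprod.inl_fst, biprod.inr_fst,
      stalkHom_id, stalkHom_zero, add_zero]
  · rw [stalkHom_comp, hh₀, map_add, ← stalkHom_comp, ← stalkHom_comp, biprod.inl_snd, biprod.inr_snd,
      stalkHom_id, stalkHom_zero, zero_add]
  · intro c hca hcb
    apply stalkHom_injective_of_mono ι y
    rw [stalkHom_smul, hh₀, smul_add, ← stalkHom_smul, ← stalkHom_smul, hca, hcb, map_zero, map_zero,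
      add_zero, map_zero]

end package

end Groth.Agent.Lib.Helper6.DevSub
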