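import Groth.Agent.Lib.Helper6.DevRed
import Mathlib
set_option backward.isDefEq.respectTransparency.types false
set_option autoImplicit false

/-!
# Coherent submodules with prescribed finitely generated stalk, and the step of devissage for classes closed under
direct summands
-/

universe u
open CategoryTheory CategoryTheory.Limits AlgebraicGeometry Opposite TopologicalSpace
open Groth.Agent.Lib.Helper17.CohKer Groth.Agent.Lib.Helper17.StalkExact Groth.Agent.Lib.Helper28.QCohLoc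

namespace Groth.Agent.Lib.Helper6.DevSum
open Groth.Agent.Lib.Helper6.DevSub Groth.Agent.Lib.Helper6.DevCore Groth.Agent.Lib.Helper6.DevSoc
  Groth.Agent.Lib.Helper6.DevStep Groth.Agent.Lib.Helper6.DevRed

variable {X : Scheme.{u}}

theorem stalkHom_add {F G : X.Modules} (f g : F ⟶ G) (x : X) (m : F.presheaf.stalk x) :
    stalkHom (f + g) x m = stalkHom f x m + stalkHom g x m := by
  unfold stalkHom
  rw [Functor.map_add]
  rfl

theorem stalk_biprod_total (A B : X.Modules) (x : X) (z : (A ⊞ B).presheaf.stalk x) :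
    z = stalkHom (biprod.inl : A ⟶ A ⊞ B) x (stalkHom (biprod.fst : A ⊞ B ⟶ A) x z) +
      stalkHom (biprod.inr : B ⟶ A ⊞ B) x (stalkHom (biprod.snd : A ⊞ B ⟶ B) x z) := by
  rw [← stalkHom_comp, ← stalkHom_comp, ← stalkHom_add, biprod.total, stalkHom_id]

theorem stalkHom_desc {A B C : X.Modules} (a : A ⟶ C) (b : B ⟶ C) (x : X) (z : (A ⊞ B).presheaf.stalk x) :
    stalkHom (biprod.desc a b) x z = stalkHom a x (stalkHom (biprod.fst : A ⊞ B ⟶ A) x z) +
      stalkHom b x (stalkHom (biprod.snd : A ⊞ B ⟶ B) x z) := by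
  rw [← stalkHom_comp, ← stalkHom_comp, ← stalkHom_add, ← biprod.desc_eq]

/-- **coherent submodule with prescribed finitely generated stalk.** -/
theorem exists_sub_of_fg [IsNoetherian X] (E : X.Modules) (hE : Coh.IsCoh E) (y : X)
    (W : Submodule (X.presheaf.stalk y) (E.presheaf.stalk y)) (hW : W.FG) :
    ∃ (H : X.Modules) (ι : H ⟶ E), Mono ι ∧ Coh.IsCoh H ∧
      ∀ t : E.presheaf.stalk y, t ∈ W ↔ ∃ h : H.presheaf.stalk y, stalkHom ι y h = t := by
  induction W, hW using Submodule.fg_induction with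
  | singleton e =>
    obtain ⟨H, ι, hι, hH, h₀, hh₀, hcyc⟩ := exists_cyclic_sub E hE y e
    refine ⟨H, ι, hι, hH, fun t => ?_⟩
    rw [Submodule.mem_span_singleton]
    constructor
    · rintro ⟨c, rfl⟩
      exact ⟨c • h₀, by rw [stalkHom_smul, hh₀]⟩
    · rintro ⟨h, rfl⟩
      obtain ⟨c, rfl⟩ := hcyc h
      exact ⟨c, by rw [stalkHom_smul, hh₀]⟩
  | sup W₁ W₂ _ _ ih₁ ih₂ =>
    obtain ⟨H₁, ι₁, hι₁, hH₁, h1⟩ := ih₁
    obtain ⟨H₂, ι₂, hι₂, hH₂, h2⟩ := ih₂
    have : H₁.IsQuasicoherent := hH₁.1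
    have : H₂.IsQuasicoherent := hH₂.1
    have : SheafOfModules.IsFiniteType.{u} (R := X.ringCatSheaf) H₁ := hH₁.2
    have : SheafOfModules.IsFiniteType.{u} (R := X.ringCatSheaf) H₂ := hH₂.2
    have hB : Coh.IsCoh (H₁ ⊞ H₂) :=
      ⟨inferInstance, Groth.Agent.Lib.Helper17.QCAlgGen.isFiniteType_biprod H₁ H₂⟩
    refine ⟨Abelian.image (biprod.desc ι₁ ι₂), Abelian.image.ι _, inferInstance, isCoh_image _ hB hE,
      fun t => ?_⟩
    rw [Submodule.mem_sup]
    constructor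
    · rintro ⟨t₁, ht₁, t₂, ht₂, rfl⟩
      obtain ⟨a₁, rfl⟩ := (h1 t₁).1 ht₁
      obtain ⟨a₂, rfl⟩ := (h2 t₂).1 ht₂
      refine ⟨stalkHom (Abelian.factorThruImage (biprod.desc ι₁ ι₂)) y
        (stalkHom (biprod.inl : H₁ ⟶ H₁ ⊞ H₂) y a₁ + stalkHom (biprod.inr : H₂ ⟶ H₁ ⊞ H₂) y a₂), ?_⟩
      rw [← stalkHom_comp, Abelian.image.fac, map_add, ← stalkHom_comp, ← stalkHom_comp, biprod.inl_desc,
        biprod.inr_desc]
    · rintro ⟨h, rfl⟩
      obtain ⟨z, rfl⟩ := stalkHom_surjective_of_epi (Abelian.factorThruImage (biprod.desc ι₁ ι₂)) y h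
      rw [← stalkHom_comp, Abelian.image.fac, stalkHom_desc]
      exact ⟨_, (h1 _).2 ⟨_, rfl⟩, _, (h2 _).2 ⟨_, rfl⟩, rfl⟩

/-- a complement of a line in a Noetherian module killed by the maximal ideal of a local ring -/
theorem exists_compl {R V : Type*} [CommRing R] [IsLocalRing R] [AddCommGroup V] [Module R V]
    [IsNoetherian R V] (hm : ∀ a ∈ IsLocalRing.maximalIdeal R, ∀ v : V, a • v = 0) (b₀ : V) (hb₀ : b₀ ≠ 0) :
    ∃ W : Submodule R V, (∀ v : V, ∃ d : R, ∃ w ∈ W, v = d • b₀ + w) ∧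
      ∀ d : R, ∀ w ∈ W, d • b₀ + w = 0 → d ∈ IsLocalRing.maximalIdeal R ∧ w = 0 := by
  obtain ⟨W, hW, hmax⟩ := (wellFounded_gt (α := Submodule R V)).has_min {W | b₀ ∉ W}
    ⟨⊥, fun h => hb₀ ((Submodule.mem_bot R).1 h)⟩
  have hW' : b₀ ∉ W := hW
  have hmem : ∀ d : R, d • b₀ ∈ W → d ∈ IsLocalRing.maximalIdeal R := by
    intro d hd
    by_contra hc
    obtain ⟨u, rfl⟩ := IsLocalRing.notMem_maximalIdeal.1 hc
    apply hW'
    have := W.smul_mem (↑u⁻¹ : R) hd
    simpa [smul_smul] using this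
  refine ⟨W, fun v => ?_, fun d w hw h => ?_⟩
  · by_contra hv
    push_neg at hv
    have hlt : W < W ⊔ Submodule.span R {v} := by
      refine lt_of_le_of_ne le_sup_left fun heq => ?_
      have hvW : v ∈ W := by
        rw [heq]
        exact Submodule.mem_sup_right (Submodule.mem_span_singleton_self v)
      exact hv 0 v hvW (by simp)
    have hnot : b₀ ∉ W ⊔ Submodule.span R {v} := by
      intro hb
      obtain ⟨w, hw, z, hz, hwz⟩ := Submodule.mem_sup.1 hb
      obtain ⟨c, rfl⟩ := Submodule.mem_span_singleton.1 hz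
      by_cases hc : c ∈ IsLocalRing.maximalIdeal R
      · rw [hm c hc v, add_zero] at hwz
        exact hW' (hwz ▸ hw)
      · obtain ⟨u, rfl⟩ := IsLocalRing.notMem_maximalIdeal.1 hc
        refine hv (↑u⁻¹ : R) (-((↑u⁻¹ : R) • w)) (W.neg_mem (W.smul_mem _ hw)) ?_
        have h1 : (↑u : R) • v = b₀ - w := by rw [← hwz]; abel
        have h2 : v = (↑u⁻¹ : R) • ((↑u : R) • v) := by simp [smul_smul]
        rw [h2, h1, smul_sub]
        abel
    exact hmax _ hnot hlt
  · have h1 : d • b₀ ∈ W := by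
      have : d • b₀ = -w := eq_neg_of_add_eq_zero_left h
      rw [this]
      exact W.neg_mem hw
    have hd := hmem d h1
    refine ⟨hd, ?_⟩
    rw [hm d hd b₀, zero_add] at h
    exact h

/-- at the generic point `y` of `Z`, sections of the vanishing ideal of `Z` over an affine neighbourhood are exactly
those whose germ lies in the maximal ideal. -/
theorem mem_vanishingIdeal_of_germ_mem (Z : Closeds X) (y : X) (hy : closure {y} = (Z : Set X))
    (U : X.affineOpens) (hyU : y ∈ U.1) (a : Γ(X, U.1))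
    (ha : X.presheaf.germ U.1 y hyU a ∈ IsLocalRing.maximalIdeal (X.presheaf.stalk y)) :
    a ∈ (Scheme.IdealSheafData.vanishingIdeal Z).ideal U := by
  rw [Scheme.IdealSheafData.vanishingIdeal_ideal, PrimeSpectrum.mem_vanishingIdeal]
  intro p hp
  by_contra hnp
  have h1 : U.2.fromSpec p ∈ X.basicOpen a := by
    have : p ∈ U.2.fromSpec ⁻¹ᵁ X.basicOpen a := by
      rw [U.2.fromSpec_preimage_basicOpen]
      exact hnp
    exact this
  have hspec : y ⤳ U.2.fromSpec p := specializes_iff_mem_closure.2 (hy ▸ hp)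
  have h2 : y ∈ X.basicOpen a := hspec.mem_open (X.basicOpen a).2 h1
  rw [Scheme.mem_basicOpen _ _ _ hyU] at h2
  exact ha h2

/-- a module killed by the vanishing ideal of `Z` has stalk at the generic point killed by the maximal ideal -/
theorem maximalIdeal_smul_of_killed (Z : Closeds X) (y : X) (hy : closure {y} = (Z : Set X)) (G : X.Modules)
    (hk : ClSub.KilledByIdeal (Scheme.IdealSheafData.vanishingIdeal Z) G)
    (a : X.presheaf.stalk y) (ha : a ∈ IsLocalRing.maximalIdeal (X.presheaf.stalk y))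
    (v : G.presheaf.stalk y) : a • v = 0 := by
  obtain ⟨U₁, hy₁, a₁, rfl⟩ := TopCat.Presheaf.exists_germ_eq X.presheaf a
  obtain ⟨U₂, hy₂, v₂, rfl⟩ := TopCat.Presheaf.exists_germ_eq G.presheaf v
  obtain ⟨_, ⟨U, hU, rfl⟩, hyU, hU12⟩ :=
    X.isBasis_affineOpens.exists_subset_of_mem_open (show y ∈ ((U₁ ⊓ U₂ : X.Opens) : Set X) from ⟨hy₁, hy₂⟩)
      (U₁ ⊓ U₂).2
  have hU1 : U ≤ U₁ := fun x hx => (hU12 hx).1
  have hU2 : U ≤ U₂ := fun x hx => (hU12 hx).2
  have e1 : X.presheaf.germ U₁ y hy₁ a₁ = X.presheaf.germ U y hyU (resO hU1 a₁) :=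
    (TopCat.Presheaf.germ_res_apply X.presheaf (homOfLE hU1) y hyU a₁).symm
  have e2 : G.presheaf.germ U₂ y hy₂ v₂ = G.presheaf.germ U y hyU (res G hU2 v₂) := (germ_res' G y hU2 hyU v₂).symm
  rw [e1] at ha ⊢
  rw [e2, ← germ_smul']
  have hmem := mem_vanishingIdeal_of_germ_mem Z y hy ⟨U, hU⟩ hyU _ ha
  have h0 := hk ⟨U, hU⟩ _ hmem (res G hU2 v₂)
  exact (congrArg (G.presheaf.germ U y hyU) h0).trans (map_zero _)

section summand

variable [IsNoetherian X] (K' : ObjectProperty X.Modules) [K'.IsClosedUnderIsomorphisms]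
  (hex : ∀ S : ShortComplex X.Modules, S.ShortExact → Coh.IsCoh S.X₁ → Coh.IsCoh S.X₂ → Coh.IsCoh S.X₃ →
      (K' S.X₁ → K' S.X₂ → K' S.X₃) ∧ (K' S.X₁ → K' S.X₃ → K' S.X₂) ∧ (K' S.X₂ → K' S.X₃ → K' S.X₁))
  (hsum : ∀ (M N : X.Modules) (i : N ⟶ M) (r : M ⟶ N), i ≫ r = 𝟙 N → Coh.IsCoh M → Coh.IsCoh N →
      K' M → K' N)

include hex hsum in
/-- **the step for a class with two-out-of-three and direct summands**, using a module `G` of the class whose stalk
at `y` is nonzero and killed by the maximal ideal. -/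
theorem step_summand (Z : Set X) (y : X) (hZ : closure {y} = Z)
    (IH : ∀ N : X.Modules, Coh.IsCoh N → CohB1.support N ⊆ Z → y ∉ CohB1.support N → K' N)
    (G : X.Modules) (hG : Coh.IsCoh G) (hKG : K' G) (hGZ : CohB1.support G ⊆ Z)
    (hyG : y ∈ CohB1.support G)
    (hGm : ∀ a ∈ IsLocalRing.maximalIdeal (X.presheaf.stalk y), ∀ v : G.presheaf.stalk y, a • v = 0)
    (Q : X.Modules) (hQ : Coh.IsCoh Q) (hQZ : CohB1.support Q ⊆ Z) (hyQ : y ∈ CohB1.support Q) :
    ∃ (S : X.Modules) (i : S ⟶ Q), Mono i ∧ Coh.IsCoh S ∧ K' S ∧ y ∈ CohB1.support S := by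
  haveI := isNoetherian_stalk G hG y
  haveI : Nontrivial (G.presheaf.stalk y) := not_subsingleton_iff_nontrivial.1 hyG
  obtain ⟨b₀, hb₀⟩ := exists_ne (0 : G.presheaf.stalk y)
  obtain ⟨W, hW1, hW2⟩ := exists_compl hGm b₀ hb₀
  obtain ⟨G', ι', hι', hG', hG'W⟩ := exists_sub_of_fg G hG y W (IsNoetherian.noetherian W)
  obtain ⟨q, hq0, hqm⟩ := exists_socle Q hQ y (hZ ▸ hQZ) hyQ
  obtain ⟨H, ι, hι, hH, h₀, hp, hr, hcyc, hzero⟩ := exists_graph Q G hQ hG y q b₀
  have hHZ : CohB1.support H ⊆ Z :=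
    (support_subset_of_mono ι).trans ((support_biprod_subset Q G).trans (Set.union_subset hQZ hGZ))
  have hG'Z : CohB1.support G' ⊆ Z := (support_subset_of_mono ι').trans hGZ
  have : H.IsQuasicoherent := hH.1
  have : G'.IsQuasicoherent := hG'.1
  have : SheafOfModules.IsFiniteType.{u} (R := X.ringCatSheaf) H := hH.2
  have : SheafOfModules.IsFiniteType.{u} (R := X.ringCatSheaf) G' := hG'.2
  have hB : Coh.IsCoh (H ⊞ G') :=
    ⟨inferInstance, Groth.Agent.Lib.Helper17.QCAlgGen.isFiniteType_biprod H G'⟩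
  have hBZ : CohB1.support (H ⊞ G') ⊆ Z := (support_biprod_subset H G').trans (Set.union_subset hHZ hG'Z)
  -- the generic isomorphism `H ⊞ G' ⟶ G`
  have hfinj : ∀ z : (H ⊞ G').presheaf.stalk y,
      stalkHom (biprod.desc (ι ≫ biprod.snd) ι') y z = 0 → z = 0 := by
    intro z hz
    rw [stalkHom_desc] at hz
    obtain ⟨c, hc⟩ := hcyc (stalkHom (biprod.fst : H ⊞ G' ⟶ H) y z)
    rw [hc, stalkHom_smul, hr] at hz
    obtain ⟨hcm, hw0⟩ := hW2 c _ ((hG'W _).2 ⟨_, rfl⟩) hz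
    have h1 : stalkHom (biprod.fst : H ⊞ G' ⟶ H) y z = 0 := by
      rw [hc]
      exact hzero c (hqm c hcm) (hGm c hcm b₀)
    have h2 : stalkHom (biprod.snd : H ⊞ G' ⟶ G') y z = 0 := by
      apply stalkHom_injective_of_mono ι' y
      rw [hw0, map_zero]
    rw [stalk_biprod_total H G' y z, h1, h2, map_zero, map_zero, add_zero]
  have hfsurj : Function.Surjective (stalkHom (biprod.desc (ι ≫ biprod.snd) ι') y) := by
    intro v
    obtain ⟨d, w, hw, rfl⟩ := hW1 v
    obtain ⟨g', rfl⟩ := (hG'W w).1 hw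
    refine ⟨stalkHom (biprod.inl : H ⟶ H ⊞ G') y (d • h₀) + stalkHom (biprod.inr : G' ⟶ H ⊞ G') y g', ?_⟩
    rw [map_add, ← stalkHom_comp, ← stalkHom_comp, biprod.inl_desc, biprod.inr_desc, stalkHom_smul, hr]
  have hK1 : K' (kernel (biprod.desc (ι ≫ biprod.snd) ι')) := IH _ (isCoh_kernel _ hB hG)
    ((support_subset_of_mono (kernel.ι _)).trans hBZ) (notMem_support_kernel _ y hfinj)
  have hK2 : K' (cokernel (biprod.desc (ι ≫ biprod.snd) ι')) := IH _ (isCoh_cokernel _ hB hG)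
    ((support_subset_of_epi (cokernel.π _)).trans hGZ) (notMem_support_cokernel _ y hfsurj)
  have hKB : K' (H ⊞ G') := mem_of_ker_coker K' hex _ hB hG hK1 hK2 hKG
  have hKH : K' H := hsum (H ⊞ G') H biprod.inl biprod.fst biprod.inl_fst hB hH hKB
  have hpinj : ∀ h : H.presheaf.stalk y, stalkHom (ι ≫ biprod.fst) y h = 0 → h = 0 := by
    intro h hh
    obtain ⟨c, rfl⟩ := hcyc h
    rw [stalkHom_smul, hp] at hh
    have hc := (smul_eq_zero_iff_mem q hq0 hqm c).1 hh
    exact hzero c hh (hGm c hc b₀)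
  have hK3 : K' (kernel (ι ≫ biprod.fst)) := IH _ (isCoh_kernel _ hH hQ)
    ((support_subset_of_mono (kernel.ι _)).trans hHZ) (notMem_support_kernel _ y hpinj)
  refine ⟨Abelian.image (ι ≫ biprod.fst), Abelian.image.ι _, inferInstance, isCoh_image _ hH hQ,
    image_mem_of_ker K' hex _ hH hQ hK3 hKH, mem_support_image _ y ⟨h₀, ?_⟩⟩
  rw [hp]
  exact hq0

end summand

end Groth.Agent.Lib.Helper6.DevSum
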