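import Groth.Agent.Lib.Helper6.ExtAcyc

/-!
# Dimension shifting across a functor (helper6)
-/

universe w w' v v' u u'

open CategoryTheory Limits Abelian

namespace Groth.Agent.Lib.Helper6.ExtAcycFun

open ExtAcyc

variable {𝒜 : Type u} [Category.{v} 𝒜] [Abelian 𝒜] [HasExt.{w} 𝒜] [EnoughInjectives 𝒜]
  {ℬ : Type u'} [Category.{v'} ℬ] [Abelian ℬ] [HasExt.{w'} ℬ]
  (R : 𝒜 ⥤ ℬ) [R.PreservesZeroMorphisms]

/-- Dimension shifting across `R`: if for every short exact `0 → X₁ → X₂ → X₃ → 0` in `𝒜` with `X₁` in a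
class `P` and `X₂` injective, `X₃` is in `P`, `R` keeps the sequence short exact, `R X₂` has no higher
`Ext` from `A`, and `Hom(A, R X₂) → Hom(A, R X₃)` is onto, then `Ext^{n+1}(A, R F) = 0` for `F` in `P`. -/
theorem ext_succ_eq_zero (A : ℬ) (P : 𝒜 → Prop)
    (h : ∀ S : ShortComplex 𝒜, S.ShortExact → P S.X₁ → Injective S.X₂ → P S.X₃ ∧
      (S.map R).ShortExact ∧ (∀ (n : ℕ) (x : Ext A (S.map R).X₂ (n + 1)), x = 0) ∧
      ∀ y : Ext A (S.map R).X₃ 0, ∃ y' : Ext A (S.map R).X₂ 0,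
        y'.comp (Ext.mk₀ (S.map R).g) (add_zero 0) = y)
    (n : ℕ) : ∀ (F : 𝒜), P F → ∀ (x : Ext A (R.obj F) (n + 1)), x = 0 := by
  induction n with
  | zero =>
    intro F hF x
    have hS := sesUnder_shortExact F
    obtain ⟨hQ, hRS, hvan, hsurj⟩ := h (sesUnder F) hS hF inferInstance
    obtain ⟨x₃, rfl⟩ := Ext.covariant_sequence_exact₁ A hRS x (hvan _ _) (n₀ := 0) rfl
    obtain ⟨y', rfl⟩ := hsurj x₃
    rw [Ext.comp_assoc_of_second_deg_zero, hRS.comp_extClass, Ext.comp_zero]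
    rfl
  | succ m ih =>
    intro F hF x
    have hS := sesUnder_shortExact F
    obtain ⟨hQ, hRS, hvan, -⟩ := h (sesUnder F) hS hF inferInstance
    obtain ⟨x₃, rfl⟩ := Ext.covariant_sequence_exact₁ A hRS x (hvan _ _) (n₀ := m + 1) rfl
    have : x₃ = 0 := ih _ hQ x₃
    rw [this, Ext.zero_comp]
    rfl

end Groth.Agent.Lib.Helper6.ExtAcycFun
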