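import Mathlib.Algebra.Homology.DerivedCategory.Ext.ExactSequences

/-!
# Bijectivity on Ext from vanishing of the third term (helper6)
-/

universe w v u
open CategoryTheory Limits Abelian

namespace Groth.Agent.Lib.Helper6.ExtBij

variable {A : Type u} [Category.{v} A] [Abelian A] [HasExt.{w} A]

theorem bijective_postcomp_of_vanish {S : ShortComplex A} (hS : S.ShortExact) (Z : A)
    (h : ∀ (i : ℕ) (x : Ext Z S.X₃ i), x = 0) (i : ℕ) :
    Function.Bijective ((Ext.mk₀ S.f).postcomp Z (add_zero i)) := by
  constructor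
  · rw [injective_iff_map_eq_zero]
    intro x hx
    have hx' : x.comp (Ext.mk₀ S.f) (add_zero i) = 0 := hx
    rcases i with _ | j
    · have := hS.mono_f
      exact (injective_iff_map_eq_zero _).1 (Ext.postcomp_mk₀_injective_of_mono Z S.f) x hx
    · obtain ⟨z, rfl⟩ := Ext.covariant_sequence_exact₁ Z hS x hx' (rfl : j + 1 = j + 1)
      rw [h j z, Ext.zero_comp]
  · intro y
    obtain ⟨x, hx⟩ := Ext.covariant_sequence_exact₂ Z hS y (h i _)
    exact ⟨x, hx⟩

end Groth.Agent.Lib.Helper6.ExtBij
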