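import Mathlib

/-!
# `Ext` commutes with localization (Noetherian ring, finite modules)

The map `Ext^i_R(M, N) → Ext^i_{S⁻¹R}(S⁻¹M, S⁻¹N)` induced by the exact localization functor
exhibits the target as the localization of the source.
-/

set_option autoImplicit false
set_option linter.style.haveILetI false
set_option linter.unusedSectionVars false
set_option linter.unusedVariables false
set_option backward.isDefEq.respectTransparency.types false

universe u

open CategoryTheory CategoryTheory.Limits CategoryTheory.Abelian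

namespace Groth.Agent.Lib.Helper6.ExtLocalize

variable {R : Type u} [CommRing R] (S : Submonoid R)

/-- the localization functor -/
noncomputable abbrev L : ModuleCat.{u} R ⥤ ModuleCat.{u} (Localization S) :=
  ModuleCat.localizedModuleFunctor.{u} S

theorem localizedModuleMap_smul_id (N : ModuleCat.{u} R) (r : R) :
    ModuleCat.localizedModuleMap S (r • 𝟙 N) =
      algebraMap R (Localization S) r • 𝟙 (N.localizedModule S) := by
  apply ModuleCat.hom_ext
  refine LinearMap.ext fun x => ?_
  obtain ⟨⟨m, s⟩, rfl⟩ := IsLocalizedModule.mk'_surjective S (N.localizedModuleMkLinearMap S) x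
  simp only [Function.uncurry_apply_pair]
  rw [ModuleCat.localizedModuleMap_hom_apply, IsLocalizedModule.map_mk']
  simp only [ModuleCat.hom_smul, ModuleCat.hom_id, LinearMap.smul_apply, LinearMap.id_coe, id_eq]
  rw [IsLocalizedModule.mk'_smul]
  exact (algebraMap_smul (Localization S) r
    (IsLocalizedModule.mk' (N.localizedModuleMkLinearMap S) m s)).symm

theorem L_map_smul_id (N : ModuleCat.{u} R) (r : R) :
    (L S).map (r • 𝟙 N) = algebraMap R (Localization S) r • 𝟙 ((L S).obj N) :=
  localizedModuleMap_smul_id S N r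

/-- semilinearity of the map on `Ext` -/
theorem map_smul {M N : ModuleCat.{u} R} {i : ℕ} (r : R) (e : Ext.{u} M N i) :
    (r • e).mapExactFunctor (L S) =
      algebraMap R (Localization S) r • e.mapExactFunctor (L S) := by
  rw [Ext.smul_eq_comp_mk₀, Ext.mapExactFunctor_comp, Ext.mapExactFunctor_mk₀, L_map_smul_id,
    Ext.smul_eq_comp_mk₀]

theorem map_sub {M N : ModuleCat.{u} R} {i : ℕ} (e e' : Ext.{u} M N i) :
    (e - e').mapExactFunctor (L S) = e.mapExactFunctor (L S) - e'.mapExactFunctor (L S) :=
  ((L S).mapExtAddHom M N i).map_sub e e'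

/-- elements of `S` act injectively on `Ext` over the localization -/
theorem eq_zero_of_smul_eq_zero {M' N' : ModuleCat.{u} (Localization S)} {i : ℕ} (s : S)
    (y : Ext.{u} M' N' i) (h : algebraMap R (Localization S) (s : R) • y = 0) : y = 0 := by
  obtain ⟨v, hv⟩ := IsLocalization.map_units (Localization S) s
  have := congrArg (fun t => (↑v⁻¹ : Localization S) • t) h
  simpa [smul_smul, ← hv] using this

/-- the localization property of the map on `Ext^i` -/
def IsLoc (M N : ModuleCat.{u} R) (i : ℕ) : Prop :=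
  (∀ y : Ext.{u} ((L S).obj M) ((L S).obj N) i, ∃ (e : Ext.{u} M N i) (s : S),
      algebraMap R (Localization S) (s : R) • y = e.mapExactFunctor (L S)) ∧
  (∀ e : Ext.{u} M N i, e.mapExactFunctor (L S) = 0 → ∃ s : S, (s : R) • e = 0)

theorem isLoc_zero (M N : ModuleCat.{u} R) [Module.FinitePresentation R M] : IsLoc S M N 0 := by
  haveI hL : IsLocalizedModule S (IsLocalizedModule.mapExtendScalars S
      (M.localizedModuleMkLinearMap S) (N.localizedModuleMkLinearMap S) (Localization S)) :=
    Module.FinitePresentation.isLocalizedModule_mapExtendScalars S _ _ _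
  constructor
  · intro y
    obtain ⟨g, rfl⟩ := (Ext.mk₀_bijective _ _).2 y
    let g' : M.localizedModule S →ₗ[Localization S] N.localizedModule S := g.hom
    obtain ⟨⟨f, s⟩, hf⟩ := IsLocalizedModule.surj S (IsLocalizedModule.mapExtendScalars S
      (M.localizedModuleMkLinearMap S) (N.localizedModuleMkLinearMap S) (Localization S)) g'
    refine ⟨Ext.mk₀ (ModuleCat.ofHom f), s, ?_⟩
    rw [Ext.mapExactFunctor_mk₀, ← Ext.mk₀_smul]
    congr 1
    apply ModuleCat.hom_ext
    have hf' : (s : R) • g' = IsLocalizedModule.mapExtendScalars S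
      (M.localizedModuleMkLinearMap S) (N.localizedModuleMkLinearMap S) (Localization S) f := hf
    refine Eq.trans ?_ hf'
    refine LinearMap.ext fun x => ?_
    exact algebraMap_smul (Localization S) (s : R) (g' x)
  · intro e he
    obtain ⟨f, rfl⟩ := (Ext.mk₀_bijective _ _).2 e
    rw [Ext.mapExactFunctor_mk₀] at he
    have h0 : (L S).map f = 0 := (Ext.mk₀_bijective _ _).1 (he.trans (Ext.mk₀_zero _ _).symm)
    have h1 : IsLocalizedModule.mapExtendScalars S
        (M.localizedModuleMkLinearMap S) (N.localizedModuleMkLinearMap S) (Localization S) f.hom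
        = 0 := congrArg ModuleCat.Hom.hom h0
    obtain ⟨s, hs⟩ := (IsLocalizedModule.eq_zero_iff S _).1 h1
    refine ⟨s, ?_⟩
    rw [← Ext.mk₀_smul]
    have : (s : R) • f = 0 := by
      apply ModuleCat.hom_ext
      exact hs
    rw [this, Ext.mk₀_zero]

attribute [local instance] Ext.subsingleton_of_projective in
theorem isLoc_succ {S₀ : ShortComplex (ModuleCat.{u} R)} (hS : S₀.ShortExact) [Projective S₀.X₂]
    (N : ModuleCat.{u} R) (i : ℕ) (h1 : IsLoc S S₀.X₁ N i) (h2 : IsLoc S S₀.X₂ N i) :
    IsLoc S S₀.X₃ N (i + 1) := by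
  have hS' : (S₀.map (L S)).ShortExact := hS.map_of_exact (L S)
  haveI : Projective (S₀.map (L S)).X₂ := (L S).projective_obj _
  have hi : 1 + i = i + 1 := add_comm 1 i
  constructor
  · intro y
    obtain ⟨y1, hy1⟩ := Ext.contravariant_sequence_exact₃ hS' ((L S).obj N) y
      (Subsingleton.elim _ _) hi
    obtain ⟨e1, s, he1⟩ := h1.1 y1
    refine ⟨hS.extClass.comp e1 hi, s, ?_⟩
    rw [Ext.mapExactFunctor_comp, Ext.mapExactFunctor_extClass, ← he1, Ext.comp_smul]
    exact congrArg _ hy1.symm
  · intro e he
    obtain ⟨e1, rfl⟩ := Ext.contravariant_sequence_exact₃ hS N e (Subsingleton.elim _ _) hi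
    rw [Ext.mapExactFunctor_comp, Ext.mapExactFunctor_extClass] at he
    obtain ⟨y2, hy2⟩ := Ext.contravariant_sequence_exact₁ hS' ((L S).obj N)
      (e1.mapExactFunctor (L S)) hi he
    obtain ⟨e2, s, he2⟩ := h2.1 y2
    have h0 : ((s : R) • e1 - (Ext.mk₀ S₀.f).comp e2 (zero_add i)).mapExactFunctor (L S) = 0 := by
      rw [map_sub, map_smul, Ext.mapExactFunctor_comp, Ext.mapExactFunctor_mk₀, ← he2,
        Ext.comp_smul]
      have : (Ext.mk₀ ((L S).map S₀.f)).comp y2 (zero_add i) = e1.mapExactFunctor (L S) := hy2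
      rw [this, sub_self]
    obtain ⟨t, ht⟩ := h1.2 _ h0
    refine ⟨t * s, ?_⟩
    have h3 : (t : R) • (s : R) • e1 = (t : R) • (Ext.mk₀ S₀.f).comp e2 (zero_add i) := by
      rw [smul_sub] at ht
      exact sub_eq_zero.1 ht
    rw [← Ext.comp_smul]
    have h4 : ((↑(t * s) : R)) • e1 = (t : R) • (s : R) • e1 := by
      rw [smul_smul]; rfl
    rw [h4, h3, Ext.comp_smul, hS.extClass_comp_assoc, smul_zero]

theorem isLoc [IsNoetherianRing R] (N : ModuleCat.{u} R) (i : ℕ) :
    ∀ (M : ModuleCat.{u} R) [Module.Finite R M], IsLoc S M N i := by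
  induction i with
  | zero =>
    intro M _
    haveI : Module.FinitePresentation R M := Module.finitePresentation_of_finite R M
    exact isLoc_zero S M N
  | succ i ih =>
    intro M _
    obtain ⟨n, f, hf⟩ := Module.Finite.exists_fin' R M
    have hS : f.shortComplexKer.ShortExact := LinearMap.shortExact_shortComplexKer hf
    haveI : Module.Finite R f.shortComplexKer.X₁ :=
      inferInstanceAs (Module.Finite R (LinearMap.ker f))
    haveI : Module.Finite R f.shortComplexKer.X₂ :=
      inferInstanceAs (Module.Finite R (Fin n → R))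
    haveI : Projective f.shortComplexKer.X₂ := by
      have : Module.Projective R (ModuleCat.of R (Fin n → R)) :=
        inferInstanceAs (Module.Projective R (Fin n → R))
      exact (IsProjective.iff_projective _).1 this
    exact isLoc_succ S hS N i (ih _) (ih _)

/-- **`Ext` commutes with localization.** -/
theorem main [IsNoetherianRing R] (M N : ModuleCat.{u} R) [Module.Finite R M] (i : ℕ) :
    (∀ y : Ext.{u} ((L S).obj M) ((L S).obj N) i, ∃ (e : Ext.{u} M N i) (s : S),
      algebraMap R (Localization S) (s : R) • y = (L S).mapExtAddHom M N i e) ∧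
    (∀ e : Ext.{u} M N i, (L S).mapExtAddHom M N i e = 0 ↔ ∃ s : S, (s : R) • e = 0) := by
  obtain ⟨h1, h2⟩ := isLoc S N i M
  refine ⟨h1, fun e => ⟨h2 e, ?_⟩⟩
  rintro ⟨s, hs⟩
  apply eq_zero_of_smul_eq_zero S s
  have := map_smul S (s : R) e
  rw [hs] at this
  rw [Functor.mapExtAddHom_apply, ← this]
  exact Ext.mapExactFunctor_zero _ _ _ _

end Groth.Agent.Lib.Helper6.ExtLocalize
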