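import Groth.Agent.Lib.Helper1.Invertible
import Groth.Agent.Lib.Helper1.ModFlatMore
import Groth.Prelude.Def_ModSite2

/-!
# `ℰxt^q(O^n, -) = 0` for `q ≥ 1` on a ringed site

* `Pn n`: the functor `G ↦ G^n` on a preadditive category with finite biproducts, self-adjoint.
* `isZero_rightDerived_succ_of_exact`: an exact functor has no higher derived functors.
* `sheafHomIsoOfIso`: `ℋom(M, -) ≅ ℋom(M', -)` for `M ≅ M'`.
* `sheafHomFreeIso`: `ℋom(O^n, -) ≅ (-)^n`.
* `isZero_extSh_of_iso_free`: `ℰxt^{q+1}(M, G) = 0` if `M ≅ O^n`.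
-/

set_option autoImplicit false
universe u v v' u₁ u₂
open CategoryTheory CategoryTheory.Limits

namespace Groth.Agent.Lib.Helper6.FinFreeExt

section Pn

variable {A : Type u₁} [Category.{v} A] [Preadditive A] [HasFiniteBiproducts A]

/-- `G ↦ G^n` -/
noncomputable def Pn (n : ℕ) : A ⥤ A where
  obj G := ⨁ (fun _ : Fin n => G)
  map f := biproduct.map (fun _ => f)
  map_id G := by
    apply biproduct.hom_ext
    intro j
    simp
  map_comp f g := by
    apply biproduct.hom_ext
    intro j
    simp

/-- the hom-set bijection of the self-adjunction of `(-)^n` -/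
noncomputable def PnHomEquiv (n : ℕ) (G H : A) :
    ((⨁ (fun _ : Fin n => G)) ⟶ H) ≃ (G ⟶ ⨁ (fun _ : Fin n => H)) where
  toFun f := biproduct.lift (fun j => biproduct.ι (fun _ : Fin n => G) j ≫ f)
  invFun g := biproduct.desc (fun j => g ≫ biproduct.π (fun _ : Fin n => H) j)
  left_inv f := by
    apply biproduct.hom_ext'
    intro j
    simp
  right_inv g := by
    apply biproduct.hom_ext
    intro j
    simp

/-- `(-)^n` is self-adjoint -/
noncomputable def PnAdj (n : ℕ) : Pn (A := A) n ⊣ Pn n :=
  Adjunction.mkOfHomEquiv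
    { homEquiv := fun G H => PnHomEquiv n G H
      homEquiv_naturality_left_symm := fun {G' G H} f g => by
        apply biproduct.hom_ext'
        intro j
        show biproduct.ι (fun _ : Fin n => G') j ≫
            biproduct.desc (fun j => (f ≫ g) ≫ biproduct.π (fun _ : Fin n => H) j) =
          biproduct.ι (fun _ : Fin n => G') j ≫ biproduct.map (fun _ => f) ≫
            biproduct.desc (fun j => g ≫ biproduct.π (fun _ : Fin n => H) j)
        simp <;> exact Category.assoc _ _ _
      homEquiv_naturality_right := fun {G H H'} f g => by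
        apply biproduct.hom_ext
        intro j
        show biproduct.lift (fun j => biproduct.ι (fun _ : Fin n => G) j ≫ f ≫ g) ≫
            biproduct.π (fun _ : Fin n => H') j =
          (biproduct.lift (fun j => biproduct.ι (fun _ : Fin n => G) j ≫ f) ≫
            biproduct.map (fun _ => g)) ≫ biproduct.π (fun _ : Fin n => H') j
        simp <;> exact (Category.assoc _ _ _).symm }

instance (n : ℕ) : (Pn (A := A) n).IsLeftAdjoint := (PnAdj n).isLeftAdjoint
instance (n : ℕ) : (Pn (A := A) n).IsRightAdjoint := (PnAdj n).isRightAdjoint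

end Pn

section Exact

variable {A : Type u₁} {B : Type u₂} [Category.{v} A] [Category.{v'} B] [Abelian A] [Abelian B]
  [HasInjectiveResolutions A]

/-- an exact functor has no higher right derived functors -/
lemma isZero_rightDerived_succ_of_exact (Φ : A ⥤ B) [Φ.Additive] [PreservesFiniteLimits Φ]
    [PreservesFiniteColimits Φ] (n : ℕ) (X : A) : IsZero ((Φ.rightDerived (n + 1)).obj X) := by
  let I := injectiveResolution X
  refine IsZero.of_iso ?_ (I.isoRightDerivedObj Φ (n + 1))
  show IsZero (((Φ.mapHomologicalComplex _).obj I.cocomplex).homology (n + 1))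
  rw [← HomologicalComplex.exactAt_iff_isZero_homology,
    HomologicalComplex.exactAt_iff' _ n (n + 1) (n + 2) (by simp)
      (by simp only [CochainComplex.next]; rfl)]
  exact (I.exact_succ n).map Φ

end Exact

section ModSite

open Groth.Agent.Lib.Helper1.ModFlat Groth.Agent.Lib.Helper1.Invertible

variable {C : Type u} [SmallCategory C] {J : GrothendieckTopology C} (O : Sheaf J CommRingCat.{u})

attribute [local instance] Abelian.hasFiniteBiproducts

/-- `O^n` -/
noncomputable abbrev freeN (n : ℕ) : ModSite.Mod O := ⨁ (fun _ : Fin n => ModSite.unit O)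

instance tensL_additive (G : ModSite.Mod O) : (tensL O G).Additive :=
  Functor.additive_of_iso (tensLIso O G).symm

/-- `G ⊗ O^n ≅ G^n`, componentwise -/
noncomputable def tensFreeIsoApp (n : ℕ) (G : ModSite.Mod O) :
    (tens O (freeN O n)).obj G ≅ ⨁ (fun _ : Fin n => G) :=
  (tensL O G).mapBiproduct (fun _ : Fin n => ModSite.unit O) ≪≫
    biproduct.mapIso (fun _ => (rightUnitNatIso O).app G)

lemma tensFreeIsoApp_hom_π (n : ℕ) (G : ModSite.Mod O) (j : Fin n) :
    (tensFreeIsoApp O n G).hom ≫ biproduct.π (fun _ : Fin n => G) j =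
      (tensL O G).map (biproduct.π (fun _ : Fin n => ModSite.unit O) j) ≫
        (rightUnitNatIso O).hom.app G := by
  simp only [tensFreeIsoApp, Iso.trans_hom, Functor.mapBiproduct_hom, biproduct.mapIso_hom,
    Iso.app_hom, Category.assoc, biproduct.map_π]
  rw [← Category.assoc]
  congr 1
  exact biproduct.lift_π _ _

lemma tensFreeIsoApp_naturality (n : ℕ) {G G' : ModSite.Mod O} (f : G ⟶ G') :
    (tens O (freeN O n)).map f ≫ (tensFreeIsoApp O n G').hom =
      (tensFreeIsoApp O n G).hom ≫ biproduct.map (fun _ : Fin n => f) := by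
  apply biproduct.hom_ext
  intro j
  rw [Category.assoc, Category.assoc, tensFreeIsoApp_hom_π, biproduct.map_π, ← Category.assoc,
    ← Category.assoc, tensFreeIsoApp_hom_π, Category.assoc, Category.assoc]
  have h2 := (rightUnitNatIso O).hom.naturality f
  have h3 := ((ModSite.tensorBi O).map f).naturality
    (biproduct.π (fun _ : Fin n => ModSite.unit O) j)
  erw [← h2]
  rw [← Category.assoc, ← Category.assoc]
  congr 1
  exact h3.symm

/-- `- ⊗ O^n ≅ (-)^n` -/
noncomputable def tensFreeIso (n : ℕ) : tens O (freeN O n) ≅ Pn n :=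
  NatIso.ofComponents (fun G => tensFreeIsoApp O n G)
    (fun f => tensFreeIsoApp_naturality O n f)

variable {O}

/-- `ℋom(M, -) ≅ ℋom(M', -)` for `M ≅ M'` -/
noncomputable def sheafHomIsoOfIso {M M' : ModSite.Mod O} [ModSite.HasSheafHom M]
    [ModSite.HasSheafHom M'] (e : M ≅ M') : ModSite.sheafHom M ≅ ModSite.sheafHom M' :=
  ((ModSite.sheafHomAdj M).ofNatIsoLeft ((ModSite.tensorBi O).flip.mapIso e)).rightAdjointUniq
    (ModSite.sheafHomAdj M')

/-- `ℋom(M, -) ≅ (-)^n` for `M ≅ O^n` -/
noncomputable def sheafHomFreeIso {M : ModSite.Mod O} [ModSite.HasSheafHom M] {n : ℕ}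
    (e : M ≅ freeN O n) : ModSite.sheafHom M ≅ Pn n :=
  ((ModSite.sheafHomAdj M).ofNatIsoLeft
    ((ModSite.tensorBi O).flip.mapIso e ≪≫ tensFreeIso O n)).rightAdjointUniq (PnAdj n)

/-- `ℰxt^{q+1}(M, G) = 0` for `M ≅ O^n` -/
theorem isZero_extSh_of_iso_free {M : ModSite.Mod O} [ModSite.HasSheafHom M]
    [HasInjectiveResolutions (ModSite.Mod O)] {n : ℕ} (e : M ≅ freeN O n) (q : ℕ)
    (G : ModSite.Mod O) : IsZero ((ModSite.extSh M (q + 1)).obj G) := by
  haveI : PreservesFiniteLimits (ModSite.sheafHom M) :=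
    (ModSite.sheafHomAdj M).rightAdjoint_preservesLimits.{0, 0}.preservesFiniteLimits
  haveI : PreservesFiniteColimits (Pn (A := ModSite.Mod O) n) :=
    (PnAdj n).leftAdjoint_preservesColimits.{0, 0}.preservesFiniteColimits
  haveI : PreservesFiniteColimits (ModSite.sheafHom M) :=
    preservesFiniteColimits_of_natIso (sheafHomFreeIso e).symm
  exact isZero_rightDerived_succ_of_exact (ModSite.sheafHom M) q G

end ModSite

end Groth.Agent.Lib.Helper6.FinFreeExt
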