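import Mathlib
import Groth.Prelude.Def_Coh
import Groth.Prelude.Def_ModSite2
import Groth.Agent.Lib.Helper6.FinFreeExt
import Groth.Agent.Lib.Helper6.DevPow
import Groth.Agent.Lib.Helper6.DevRed
import Groth.Agent.Lib.Helper6.DevCore
import Groth.Agent.Lib.Helper17.FinTypeConv
import Groth.Agent.Lib.Helper28.FinType

/-!
# Coherence of Ext sheaves, part A: finite free modules and presentations on affines (helper6)
-/

set_option autoImplicit false
set_option linter.style.haveILetI false
set_option linter.unusedSectionVars false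
set_option linter.unusedVariables false
set_option backward.isDefEq.respectTransparency.types false

universe u

open CategoryTheory Limits Opposite AlgebraicGeometry

namespace Groth.Agent.Lib.Helper6.ExtShCohA

open Groth.Agent.Lib.Helper6.FinFreeExt Groth.Agent.Lib.Helper6.DevCore

variable {X : Scheme.{u}}

attribute [local instance] Abelian.hasFiniteBiproducts

/-- `O^(I) ≅ O^n` for finite `I` -/
theorem exists_free_iso_freeN (I : Type u) [Finite I] :
    ∃ n : ℕ, Nonempty ((SheafOfModules.free I : X.Modules) ≅ freeN X.sheaf n) := by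
  haveI : Fintype I := Fintype.ofFinite I
  refine ⟨Fintype.card I, ⟨?_⟩⟩
  let e : I ≃ Fin (Fintype.card I) := Fintype.equivFin I
  let e1 : (∐ fun _ : I => ModSite.unit X.sheaf) ≅
      ∐ fun _ : Fin (Fintype.card I) => ModSite.unit X.sheaf :=
    Sigma.whiskerEquiv (f := fun _ : I => ModSite.unit X.sheaf)
      (g := fun _ : Fin (Fintype.card I) => ModSite.unit X.sheaf) e (fun _ => Iso.refl _)
  exact e1 ≪≫ (biproduct.isoCoproduct (fun _ : Fin (Fintype.card I) => ModSite.unit X.sheaf)).symm

/-- finite powers of a coherent module are coherent -/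
theorem isCoh_Pn (n : ℕ) (G : X.Modules) (hG : Coh.IsCoh G) :
    Coh.IsCoh ((Pn (A := ModSite.Mod X.sheaf) n).obj G) :=
  isCoh_of_iso (biproduct.isoCoproduct (fun _ : Fin n => G)).symm
    (DevPow.isCoh_sigma_fin n _ (fun _ => hG))

theorem isCoh_freeN (n : ℕ) : Coh.IsCoh (freeN X.sheaf n) :=
  isCoh_of_iso (biproduct.isoCoproduct (fun _ : Fin n => ModSite.unit X.sheaf)).symm
    (DevPow.isCoh_sigma_fin n _ (fun _ => DevRed.isCoh_structureModule))

/-- on an affine scheme a coherent module is a quotient of a finite free module -/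
theorem exists_epi_freeN [IsAffine X] (F : X.Modules) (hF : Coh.IsCoh F) :
    ∃ (n : ℕ) (p : freeN X.sheaf n ⟶ F), Epi p := by
  haveI : F.IsQuasicoherent := hF.1
  haveI : SheafOfModules.IsFiniteType.{u} (R := X.ringCatSheaf) F := hF.2
  have hfin : Module.Finite Γ(X, ⊤) Γ(F, ⊤) :=
    Groth.Agent.Lib.Helper28.FinType.finite_of_isAffineOpen F (isAffineOpen_top X)
  obtain ⟨σ, hσ⟩ := Groth.Agent.Lib.Helper17.FinTypeConv.exists_generatingSections_of_finite F hfin
  haveI : Finite σ.I := hσ.finite
  obtain ⟨n, ⟨e⟩⟩ := exists_free_iso_freeN (X := X) σ.I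
  haveI : Epi σ.π := σ.epi
  exact ⟨n, e.inv ≫ σ.π, epi_comp _ _⟩

end Groth.Agent.Lib.Helper6.ExtShCohA
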