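import Mathlib
import Groth.Prelude.Def_Coh
import Groth.Prelude.Def_ModSite2
import Groth.Prelude.Def_ExtSupp
import Groth.Agent.Lib.Helper6.SheafHomExact
import Groth.Agent.Lib.Helper6.RDSesLES
import Groth.Agent.Lib.Helper6.ModAbPush
import Groth.Agent.Lib.Helper6.TotAcycProd

/-!
# The contravariant long exact sequence of Ext sheaves on a scheme (helper6)

For a short exact sequence `0 ⟶ F' ⟶ F ⟶ F'' ⟶ 0` of `O_X`-modules:
`0 ⟶ ℋom(F'', G) ⟶ ℋom(F, G) ⟶ ℋom(F', G) ⟶ ℰxt¹(F'', G) ⟶ ⋯` is exact.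
-/

set_option autoImplicit false
set_option linter.style.haveILetI false
set_option linter.unusedSectionVars false
set_option linter.unusedVariables false
set_option backward.isDefEq.respectTransparency.types false

universe u

open CategoryTheory Limits Opposite AlgebraicGeometry

namespace Groth.Agent.Lib.Helper6.ExtShLES

variable {X : Scheme.{u}}

/-- a sectionwise surjective map of `O_X`-modules is an epimorphism -/
lemma epi_of_sections_surjective {A B : X.Modules} (φ : A ⟶ B)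
    (h : ∀ (V : X.Opens) (t : B.val.obj (op V)), ∃ x : A.val.obj (op V), φ.val.app (op V) x = t) :
    Epi φ := by
  have : Epi ((ModAbPush.tS X).map φ) := by
    apply TotAcycProd.epi_of_sections_surjective
    intro W t
    exact h W t
  have hF : (ModAbPush.tS X).Faithful :=
    inferInstanceAs (SheafOfModules.toSheaf.{u} X.ringCatSheaf).Faithful
  exact (ModAbPush.tS X).epi_of_epi_map this

variable (S : ShortComplex (ModSite.Mod X.sheaf))
  [ModSite.HasSheafHom (O := X.sheaf) S.X₁] [ModSite.HasSheafHom (O := X.sheaf) S.X₂]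
  [ModSite.HasSheafHom (O := X.sheaf) S.X₃]

/-- `ℋom(F'', -) ⟶ ℋom(F, -)` -/
noncomputable abbrev α : ModSite.sheafHom (O := X.sheaf) S.X₃ ⟶
    ModSite.sheafHom (O := X.sheaf) S.X₂ :=
  ExtSupp.sheafHomMap (O := X.sheaf) S.g

/-- `ℋom(F, -) ⟶ ℋom(F', -)` -/
noncomputable abbrev β : ModSite.sheafHom (O := X.sheaf) S.X₂ ⟶
    ModSite.sheafHom (O := X.sheaf) S.X₁ :=
  ExtSupp.sheafHomMap (O := X.sheaf) S.f

lemma hw : α S ≫ β S = 0 := by
  ext I : 2
  exact SheafHomExact.sheafHomMap_comp_app X.sheaf S I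

variable [HasInjectiveResolutions (ModSite.Mod X.sheaf)]

lemma hses (hS : S.ShortExact) (I : ModSite.Mod X.sheaf) (hI : Injective I) :
    (RDSes.sc (α S) (β S) (hw S) I).ShortExact := by
  have := hS.mono_f
  have := hS.epi_g
  let A : X.Modules := (ModSite.sheafHom (O := X.sheaf) S.X₃).obj I
  let B : X.Modules := (ModSite.sheafHom (O := X.sheaf) S.X₂).obj I
  let C : X.Modules := (ModSite.sheafHom (O := X.sheaf) S.X₁).obj I
  let a : A ⟶ B := (ExtSupp.sheafHomMap (O := X.sheaf) S.g).app I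
  let b : B ⟶ C := (ExtSupp.sheafHomMap (O := X.sheaf) S.f).app I
  have w : a ≫ b = 0 := SheafHomExact.sheafHomMap_comp_app X.sheaf S I
  have hm : Mono a := SheafHomExact.mono_sheafHomMap_app X.sheaf S I
  have he : (ShortComplex.mk a b w).Exact :=
    SheafHomExact.exact_sheafHomMap_app X.sheaf S I hS.exact
  have hepi : Epi b :=
    epi_of_sections_surjective b (fun V t =>
      SheafHomExact.surjective_sheafHomMap_app X.sheaf S.f I V t)
  exact ShortComplex.ShortExact.mk' he hm hepi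

variable (hS : S.ShortExact) (G : ModSite.Mod X.sheaf)

/-- `ℰxtⁱ(F'', G) ⟶ ℰxtⁱ(F, G)` -/
noncomputable abbrev a (i : ℕ) : (ModSite.extSh (O := X.sheaf) S.X₃ i).obj G ⟶
    (ModSite.extSh (O := X.sheaf) S.X₂ i).obj G :=
  (NatTrans.rightDerived (α S) i).app G

/-- `ℰxtⁱ(F, G) ⟶ ℰxtⁱ(F', G)` -/
noncomputable abbrev b (i : ℕ) : (ModSite.extSh (O := X.sheaf) S.X₂ i).obj G ⟶
    (ModSite.extSh (O := X.sheaf) S.X₁ i).obj G :=
  (NatTrans.rightDerived (β S) i).app G

/-- `ℰxtⁱ(F', G) ⟶ ℰxtⁱ⁺¹(F'', G)` -/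
noncomputable abbrev δ (i : ℕ) : (ModSite.extSh (O := X.sheaf) S.X₁ i).obj G ⟶
    (ModSite.extSh (O := X.sheaf) S.X₃ (i + 1)).obj G :=
  RDSes.δApp (α S) (β S) (hw S) (hses S hS) i G

include hS in
lemma mono_a_zero : Mono (a S G 0) :=
  RDSes.mono_rightDerived_zero_app (α S) (β S) (hw S) (hses S hS) G

lemma a_b (i : ℕ) : a S G i ≫ b S G i = 0 :=
  RDSes.rightDerived_comp_app (α S) (β S) (hw S) i G

lemma b_δ (i : ℕ) : b S G i ≫ δ S hS G i = 0 :=
  RDSes.rightDerived_comp_δApp' (α S) (β S) (hw S) (hses S hS) i G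

lemma δ_a (i : ℕ) : δ S hS G i ≫ a S G (i + 1) = 0 :=
  RDSes.δApp_comp_rightDerived (α S) (β S) (hw S) (hses S hS) i G

include hS in
lemma exact_a_b (i : ℕ) : (ShortComplex.mk _ _ (a_b S G i)).Exact :=
  RDSes.exact_at_B (α S) (β S) (hw S) (hses S hS) i G

lemma exact_b_δ (i : ℕ) : (ShortComplex.mk _ _ (b_δ S hS G i)).Exact :=
  RDSes.exact_at_C (α S) (β S) (hw S) (hses S hS) i G

lemma exact_δ_a (i : ℕ) : (ShortComplex.mk _ _ (δ_a S hS G i)).Exact :=
  RDSes.exact_at_A (α S) (β S) (hw S) (hses S hS) i G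

end Groth.Agent.Lib.Helper6.ExtShLES
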