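import Mathlib
import Groth.Prelude.Def_Coh
import Groth.Prelude.Def_ModSite2
import Groth.Agent.Lib.Helper6.ExtShCohA
import Groth.Agent.Lib.Helper6.ExtShLES
import Groth.Agent.Lib.Helper1.TensorAdj

/-!
# Coherence of Ext sheaves, part B: the affine Noetherian case by dimension shifting (helper6)
-/

set_option autoImplicit false
set_option linter.style.haveILetI false
set_option linter.unusedSectionVars false
set_option linter.unusedVariables false
set_option backward.isDefEq.respectTransparency.types false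

universe u

open CategoryTheory Limits Opposite AlgebraicGeometry

namespace Groth.Agent.Lib.Helper6.ExtShCohB

open Groth.Agent.Lib.Helper6.FinFreeExt Groth.Agent.Lib.Helper6.DevCore
  Groth.Agent.Lib.Helper6.ExtShCohA

section abelian

variable {𝒜 : Type*} [Category 𝒜] [Abelian 𝒜]

/-- `A ≅ ker (g ≫ h)` for `0 ⟶ A ⟶ B ⟶ C` exact and `h` mono -/
theorem nonempty_iso_kernel_comp {A B C D : 𝒜} (f : A ⟶ B) (g : B ⟶ C) (w : f ≫ g = 0)
    (hex : (ShortComplex.mk f g w).Exact) (hf : Mono f) (h : C ⟶ D) (hh : Mono h) :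
    Nonempty (A ≅ kernel (g ≫ h)) := by
  have w' : f ≫ g ≫ h = 0 := by rw [reassoc_of% w, zero_comp]
  let φ : ShortComplex.mk f g w ⟶ ShortComplex.mk f (g ≫ h) w' :=
    { τ₁ := 𝟙 _, τ₂ := 𝟙 _, τ₃ := h }
  haveI : Epi φ.τ₁ := inferInstanceAs (Epi (𝟙 A))
  haveI : IsIso φ.τ₂ := inferInstanceAs (IsIso (𝟙 B))
  haveI : Mono φ.τ₃ := inferInstanceAs (Mono h)
  have hex' : (ShortComplex.mk f (g ≫ h) w').Exact :=
    (ShortComplex.exact_iff_of_epi_of_isIso_of_mono φ).1 hex
  haveI : Mono (ShortComplex.mk f (g ≫ h) w').f := inferInstanceAs (Mono f)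
  exact ⟨hex'.fIsKernel.conePointUniqueUpToIso (limit.isLimit _)⟩

/-- `C ≅ coker f` for `A ⟶ B ⟶ C ⟶ 0` exact -/
theorem nonempty_iso_cokernel {A B C : 𝒜} (f : A ⟶ B) (g : B ⟶ C) (w : f ≫ g = 0)
    (hex : (ShortComplex.mk f g w).Exact) [Epi g] : Nonempty (C ≅ cokernel f) := by
  haveI : Epi (ShortComplex.mk f g w).g := inferInstanceAs (Epi g)
  exact ⟨hex.gIsCokernel.coconePointUniqueUpToIso (colimit.isColimit _)⟩

end abelian

variable {X : Scheme.{u}}

attribute [local instance] Abelian.hasFiniteBiproducts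

local instance hsh (F : X.Modules) : ModSite.HasSheafHom (O := X.sheaf) F :=
  Groth.Agent.Lib.Helper1.TensorAdj.hasSheafHom X.sheaf F

variable [HasInjectiveResolutions (ModSite.Mod X.sheaf)]

/-- `ℰxt⁰(O^n, G) ≅ G^n` is coherent -/
theorem isCoh_extSh_zero_freeN (n : ℕ) (G : ModSite.Mod X.sheaf) (hG : Coh.IsCoh G) :
    Coh.IsCoh ((ModSite.extSh (O := X.sheaf) (freeN X.sheaf n) 0).obj G) := by
  let Φ : ModSite.Mod X.sheaf ⥤ ModSite.Mod X.sheaf :=
    ModSite.sheafHom (O := X.sheaf) (freeN X.sheaf n)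
  haveI : Φ.Additive := ModSite.sheafHom_additive X.sheaf _
  haveI : PreservesFiniteLimits Φ :=
    (ModSite.sheafHomAdj (freeN X.sheaf n)).rightAdjoint_preservesLimits.{0, 0}.preservesFiniteLimits
  let e1 : (Φ.rightDerived 0).obj G ≅ Φ.obj G := (Functor.rightDerivedZeroIsoSelf Φ).app G
  let e2 : Φ.obj G ≅ (Pn n).obj G := (sheafHomFreeIso (Iso.refl _)).app G
  exact isCoh_of_iso (e1 ≪≫ e2).symm (isCoh_Pn n G hG)

variable [IsAffine X] [IsLocallyNoetherian X]

/-- degree zero -/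
theorem isCoh_extSh_zero (G : X.Modules) (hG : Coh.IsCoh G) (F : X.Modules) (hF : Coh.IsCoh F) :
    Coh.IsCoh ((ModSite.extSh (O := X.sheaf) F 0).obj G) := by
  obtain ⟨n, p, hp⟩ := exists_epi_freeN F hF
  have hK : Coh.IsCoh (kernel p) := isCoh_kernel p (isCoh_freeN n) hF
  obtain ⟨m, q, hq⟩ := exists_epi_freeN (kernel p) hK
  let S : ShortComplex (ModSite.Mod X.sheaf) := ShortComplex.mk (kernel.ι p) p (kernel.condition p)
  have hS : S.ShortExact :=
    { exact := ShortComplex.exact_of_f_is_kernel _ (kernelIsKernel p)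
      mono_f := inferInstanceAs (Mono (kernel.ι p))
      epi_g := hp }
  let S' : ShortComplex (ModSite.Mod X.sheaf) := ShortComplex.mk (kernel.ι q) q (kernel.condition q)
  have hS' : S'.ShortExact :=
    { exact := ShortComplex.exact_of_f_is_kernel _ (kernelIsKernel q)
      mono_f := inferInstanceAs (Mono (kernel.ι q))
      epi_g := hq }
  obtain ⟨e⟩ := nonempty_iso_kernel_comp (ExtShLES.a S G 0) (ExtShLES.b S G 0) (ExtShLES.a_b S G 0)
    (ExtShLES.exact_a_b S hS G 0) (ExtShLES.mono_a_zero S hS G) (ExtShLES.a S' G 0)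
    (ExtShLES.mono_a_zero S' hS' G)
  exact isCoh_of_iso e.symm (isCoh_kernel _ (isCoh_extSh_zero_freeN n G hG)
    (isCoh_extSh_zero_freeN m G hG))

/-- the affine Noetherian case -/
theorem isCoh_extSh_affine (G : X.Modules) (hG : Coh.IsCoh G) :
    ∀ (i : ℕ) (F : X.Modules) (hF : Coh.IsCoh F),
      Coh.IsCoh ((ModSite.extSh (O := X.sheaf) F i).obj G)
  | 0, F, hF => isCoh_extSh_zero G hG F hF
  | i + 1, F, hF => by
    obtain ⟨n, p, hp⟩ := exists_epi_freeN F hF
    have hK : Coh.IsCoh (kernel p) := isCoh_kernel p (isCoh_freeN n) hF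
    let S : ShortComplex (ModSite.Mod X.sheaf) :=
      ShortComplex.mk (kernel.ι p) p (kernel.condition p)
    have hS : S.ShortExact :=
      { exact := ShortComplex.exact_of_f_is_kernel _ (kernelIsKernel p)
        mono_f := inferInstanceAs (Mono (kernel.ι p))
        epi_g := hp }
    have hz : IsZero ((ModSite.extSh (O := X.sheaf) (freeN X.sheaf n) (i + 1)).obj G) :=
      isZero_extSh_of_iso_free (Iso.refl _) i G
    haveI : Epi (ExtShLES.δ S hS G i) :=
      (ExtShLES.exact_δ_a S hS G i).epi_f (hz.eq_of_tgt _ _)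
    obtain ⟨e⟩ := nonempty_iso_cokernel (ExtShLES.b S G i) (ExtShLES.δ S hS G i)
      (ExtShLES.b_δ S hS G i) (ExtShLES.exact_b_δ S hS G i)
    exact isCoh_of_iso e.symm (isCoh_cokernel _ (isCoh_extSh_affine G hG i _ (isCoh_freeN n))
      (isCoh_extSh_affine G hG i _ hK))

end Groth.Agent.Lib.Helper6.ExtShCohB
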