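import Groth.Agent.Lib.Helper6.HomDual
import Groth.Agent.Lib.Helper6.DCohSheafHom
import Groth.Agent.Lib.Helper6.FinFreeExt
import Groth.Agent.Lib.Helper6.HZshRestrict
import Groth.Agent.Lib.Helper6.GrothSS
import Groth.Agent.Lib.Helper1.TensorAssoc
import Mathlib

/-!
# `ℰxt^i(L ⊗ F, G) ≅ ℰxt^i(F, G) ⊗ L^∨` for `L` finite locally free (helper6)
-/

set_option autoImplicit false
set_option linter.style.haveILetI false
set_option linter.unusedSectionVars false
set_option linter.unusedVariables false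
set_option backward.isDefEq.respectTransparency.types false
universe u
open CategoryTheory CategoryTheory.Limits AlgebraicGeometry Opposite TopologicalSpace MonoidalCategory
noncomputable section

namespace Groth.Agent.Lib.Helper6.HomDualExt

open Groth.Agent.Lib.Helper28 Groth.Agent.Lib.Helper28.HomMod
  Groth.Agent.Lib.Helper6.HomAdj Groth.Agent.Lib.Helper6.HomBC Groth.Agent.Lib.Helper6.HomDual
  Groth.Agent.Lib.Helper2.GSplit2 Groth.Agent.Lib.Helper1.ModFlat Groth.Agent.Lib.Helper1.TensorAssoc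
  Groth.Agent.Lib.Helper6

variable {X : Scheme.{u}}

/-- the abstract internal hom of `ModSite` is the concrete sheaf of homomorphisms -/
def msIso (A : X.Modules) [ModSite.HasSheafHom (O := X.sheaf) A] :
    ModSite.sheafHom (O := X.sheaf) A ≅ homModF A :=
  (DCohSheafHom.sheafHomIso A).symm ≪≫ HomAdj.sheafHomIso A

/-- `ℋom(L, -) ≅ - ⊗ L^∨` for `L` with local bases -/
def dualIso (L : X.Modules) (hL : HasLocBasis L) [ModSite.HasSheafHom (O := X.sheaf) L] :
    ModSite.sheafHom (O := X.sheaf) L ≅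
      tens X.sheaf ((ModSite.sheafHom (O := X.sheaf) L).obj (Coh.structureModule X)) :=
  msIso L ≪≫ (dualNatIso L hL).symm ≪≫
    (show TL (dual L) ≅ tens X.sheaf (dual L) from tensLIso X.sheaf (dual L)) ≪≫
    (ModSite.tensorBi X.sheaf).flip.mapIso ((msIso L).app (Coh.structureModule X)).symm

/-- `ℋom(L ⊗ F, -) ≅ ℋom(L, ℋom(F, -))` -/
def homTensorIso (L F : X.Modules) [ModSite.HasSheafHom (O := X.sheaf) L]
    [ModSite.HasSheafHom (O := X.sheaf) F] [ModSite.HasSheafHom (O := X.sheaf) (CohB1.tensorMod L F)] :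
    ModSite.sheafHom (O := X.sheaf) (CohB1.tensorMod L F) ≅
      ModSite.sheafHom (O := X.sheaf) F ⋙ ModSite.sheafHom (O := X.sheaf) L :=
  (ModSite.sheafHomAdj (O := X.sheaf) (CohB1.tensorMod L F)).rightAdjointUniq
    (((ModSite.sheafHomAdj (O := X.sheaf) L).comp (ModSite.sheafHomAdj (O := X.sheaf) F)).ofNatIsoLeft
      (tensAssoc X.sheaf L F))

theorem nonempty_extSh_tensor_iso (L F G : X.Modules) (hL : FlatMod.IsFinLocFree L)
    [ModSite.HasSheafHom (O := X.sheaf) L] [ModSite.HasSheafHom (O := X.sheaf) F]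
    [ModSite.HasSheafHom (O := X.sheaf) (CohB1.tensorMod L F)]
    [HasInjectiveResolutions (ModSite.Mod X.sheaf)] (i : ℕ) :
    Nonempty ((ModSite.extSh (O := X.sheaf) (CohB1.tensorMod L F) i).obj G ≅
      CohB1.tensorMod ((ModSite.extSh (O := X.sheaf) F i).obj G)
        ((ModSite.sheafHom (O := X.sheaf) L).obj (Coh.structureModule X))) := by
  have hL' : HasLocBasis L := hasLocBasis_of_isFinLocFree L hL
  let D : X.Modules := (ModSite.sheafHom (O := X.sheaf) L).obj (Coh.structureModule X)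
  let T : ModSite.Mod X.sheaf ⥤ ModSite.Mod X.sheaf := tens X.sheaf D
  let ΦF : ModSite.Mod X.sheaf ⥤ ModSite.Mod X.sheaf := ModSite.sheafHom (O := X.sheaf) F
  let ΦL : ModSite.Mod X.sheaf ⥤ ModSite.Mod X.sheaf := ModSite.sheafHom (O := X.sheaf) L
  haveI : EnoughInjectives (ModSite.Mod X.sheaf) := GrothSS.enoughInjectives_of_hasInjectiveResolutions
  haveI : T.Additive := (Adjunction.ofIsLeftAdjoint T).left_adjoint_additive
  haveI : PreservesFiniteColimits T :=
    (Adjunction.ofIsLeftAdjoint T).leftAdjoint_preservesColimits.{0, 0}.preservesFiniteColimits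
  haveI : PreservesFiniteLimits ΦL :=
    (ModSite.sheafHomAdj (O := X.sheaf) L).rightAdjoint_preservesLimits.{0, 0}.preservesFiniteLimits
  haveI : PreservesFiniteLimits T := preservesFiniteLimits_of_natIso (dualIso L hL')
  haveI : ΦF.Additive := ModSite.sheafHom_additive X.sheaf F
  haveI : PreservesFiniteLimits ΦF :=
    (ModSite.sheafHomAdj (O := X.sheaf) F).rightAdjoint_preservesLimits.{0, 0}.preservesFiniteLimits
  let e1 : ModSite.sheafHom (O := X.sheaf) (CohB1.tensorMod L F) ≅ ΦF ⋙ T :=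
    homTensorIso L F ≪≫ Functor.isoWhiskerLeft ΦF (dualIso L hL')
  obtain ⟨e2⟩ := HZshRestrict.nonempty_rightDerived_postcomp_iso T ΦF i
  haveI : (ModSite.sheafHom (O := X.sheaf) (CohB1.tensorMod L F)).Additive :=
    ModSite.sheafHom_additive X.sheaf _
  exact ⟨(GrothSS.rightDerivedIsoOfIso e1 i ≪≫ e2).app G⟩

/-- the same with the factors of the tensor product swapped -/
theorem nonempty_extSh_tensor_iso' (L F G : X.Modules) (hL : FlatMod.IsFinLocFree L)
    [ModSite.HasSheafHom (O := X.sheaf) L] [ModSite.HasSheafHom (O := X.sheaf) F]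
    [ModSite.HasSheafHom (O := X.sheaf) (CohB1.tensorMod F L)]
    [HasInjectiveResolutions (ModSite.Mod X.sheaf)] (i : ℕ) :
    Nonempty ((ModSite.extSh (O := X.sheaf) (CohB1.tensorMod F L) i).obj G ≅
      CohB1.tensorMod ((ModSite.extSh (O := X.sheaf) F i).obj G)
        ((ModSite.sheafHom (O := X.sheaf) L).obj (Coh.structureModule X))) := by
  let e : CohB1.tensorMod F L ≅ CohB1.tensorMod L F := (tensLIso X.sheaf F).app L
  haveI : ModSite.HasSheafHom (O := X.sheaf) (CohB1.tensorMod L F) :=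
    Functor.isLeftAdjoint_of_iso ((ModSite.tensorBi X.sheaf).flip.mapIso e)
  obtain ⟨e2⟩ := nonempty_extSh_tensor_iso L F G hL i
  haveI : (ModSite.sheafHom (O := X.sheaf) (CohB1.tensorMod L F)).Additive :=
    ModSite.sheafHom_additive X.sheaf _
  haveI : (ModSite.sheafHom (O := X.sheaf) (CohB1.tensorMod F L)).Additive :=
    ModSite.sheafHom_additive X.sheaf _
  exact ⟨(GrothSS.rightDerivedIsoOfIso (FinFreeExt.sheafHomIsoOfIso e) i).app G ≪≫ e2⟩

end Groth.Agent.Lib.Helper6.HomDualExt
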