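import Groth.Agent.Lib.Helper6.HomRestr
import Groth.Agent.Lib.Helper6.HomDualExt
import Groth.Agent.Lib.Helper1.DerivedExact
import Groth.Agent.Lib.Helper26.ExtZeroSch
import Groth.Prelude.Def_CxOX
import Mathlib

/-!
# Local Ext sheaves on a scheme commute with restriction to an open subscheme (helper6)
-/

set_option autoImplicit false
set_option linter.style.haveILetI false
set_option linter.unusedSectionVars false
set_option linter.unusedVariables false
set_option backward.isDefEq.respectTransparency.types false
universe u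
open CategoryTheory CategoryTheory.Limits AlgebraicGeometry Opposite TopologicalSpace
noncomputable section

namespace Groth.Agent.Lib.Helper6.HomRestrExt

open Groth.Agent.Lib.Helper28 Groth.Agent.Lib.Helper28.HomMod
  Groth.Agent.Lib.Helper6.HomAdj Groth.Agent.Lib.Helper6.HomRestr Groth.Agent.Lib.Helper6.HomDualExt

variable {X : Scheme.{u}} (U : X.Opens) (F : X.Modules)

/-- `ℋom(F, -)|_U ≅ ℋom(F|_U, (-)|_U)` for the internal homs of `ModSite` -/
def sheafHomRestrIso [ModSite.HasSheafHom (O := X.sheaf) F]
    [ModSite.HasSheafHom (O := (↑U : Scheme.{u}).sheaf) (F.restrict U.ι)] :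
    ModSite.sheafHom (O := X.sheaf) F ⋙ Scheme.Modules.restrictFunctor U.ι ≅
      Scheme.Modules.restrictFunctor U.ι ⋙
        ModSite.sheafHom (O := (↑U : Scheme.{u}).sheaf) (F.restrict U.ι) :=
  Functor.isoWhiskerRight (msIso F) (Scheme.Modules.restrictFunctor U.ι) ≪≫ restrNatIso U F ≪≫
    Functor.isoWhiskerLeft (Scheme.Modules.restrictFunctor U.ι) (msIso (F.restrict U.ι)).symm

instance preservesInjectiveObjects_restrictFunctor :
    (Scheme.Modules.restrictFunctor U.ι).PreservesInjectiveObjects :=
  ⟨fun {I} hI => Groth.Agent.Lib.Helper26.ExtZeroSch.injective_restrict U I hI⟩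

/-- **local Ext sheaves commute with restriction to an open subscheme** -/
def extShRestrIso [ModSite.HasSheafHom (O := X.sheaf) F]
    [ModSite.HasSheafHom (O := (↑U : Scheme.{u}).sheaf) (F.restrict U.ι)]
    [HasInjectiveResolutions (ModSite.Mod X.sheaf)]
    [HasInjectiveResolutions (ModSite.Mod (↑U : Scheme.{u}).sheaf)] (i : ℕ) :
    ModSite.extSh (O := X.sheaf) F i ⋙ Scheme.Modules.restrictFunctor U.ι ≅
      Scheme.Modules.restrictFunctor U.ι ⋙
        ModSite.extSh (O := (↑U : Scheme.{u}).sheaf) (F.restrict U.ι) i := by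
  let R : X.Modules ⥤ (↑U : Scheme.{u}).Modules := Scheme.Modules.restrictFunctor U.ι
  let ΦX : X.Modules ⥤ X.Modules := ModSite.sheafHom (O := X.sheaf) F
  let ΦU : (↑U : Scheme.{u}).Modules ⥤ (↑U : Scheme.{u}).Modules :=
    ModSite.sheafHom (O := (↑U : Scheme.{u}).sheaf) (F.restrict U.ι)
  haveI : R.Additive := (Scheme.Modules.restrictAdjunction U.ι).left_adjoint_additive
  haveI : PreservesFiniteLimits R := inferInstanceAs (PreservesFiniteLimits (Scheme.Modules.restrictFunctor U.ι))
  haveI : PreservesFiniteColimits R :=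
    inferInstanceAs (PreservesFiniteColimits (Scheme.Modules.restrictFunctor U.ι))
  haveI : R.PreservesHomology := inferInstance
  haveI : R.PreservesInjectiveObjects := preservesInjectiveObjects_restrictFunctor U
  haveI : HasInjectiveResolutions X.Modules := ‹HasInjectiveResolutions (ModSite.Mod X.sheaf)›
  haveI : HasInjectiveResolutions (↑U : Scheme.{u}).Modules :=
    ‹HasInjectiveResolutions (ModSite.Mod (↑U : Scheme.{u}).sheaf)›
  haveI : ΦX.Additive := ModSite.sheafHom_additive X.sheaf F
  haveI : ΦU.Additive := ModSite.sheafHom_additive _ _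
  exact Groth.Agent.Lib.Helper1.DerivedExact.rightDerivedCompIso R R ΦX ΦU (sheafHomRestrIso U F) i

end Groth.Agent.Lib.Helper6.HomRestrExt
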