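import Mathlib
import Groth.Prelude.Def_Coh
import Groth.Prelude.Def_ModSite2
import Groth.Agent.Lib.Helper6.ExtShCohB
import Groth.Agent.Lib.Helper6.CohLocal
import Groth.Agent.Lib.Helper6.HomRestrExt
import Groth.Agent.Lib.Helper6.K0LocC
import Groth.Agent.Lib.Helper8.SheafModGroth

/-!
# Coherence of the Ext sheaves of coherent modules on a locally Noetherian scheme (helper6)
-/

set_option autoImplicit false
set_option linter.style.haveILetI false
set_option linter.unusedSectionVars false
set_option linter.unusedVariables false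
set_option backward.isDefEq.respectTransparency.types false

universe u

open CategoryTheory Limits Opposite AlgebraicGeometry

namespace Groth.Agent.Lib.Helper6.ExtShCoh

open Groth.Agent.Lib.Helper6.DevCore

/-- `Mod(O_X)` has injective resolutions -/
theorem hasInjectiveResolutions (X : Scheme.{u}) : HasInjectiveResolutions (ModSite.Mod X.sheaf) := by
  haveI : EnoughInjectives (ModSite.Mod X.sheaf) :=
    Groth.Agent.Lib.Helper8.SheafModGroth.enoughInjectives _ (ModSite.ringSh X.sheaf)
  infer_instance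

/-- **the Ext sheaves of coherent modules on a locally Noetherian scheme are coherent** -/
theorem isCoh_extSh (X : Scheme.{u}) [IsLocallyNoetherian X] (F G : X.Modules)
    (hF : Coh.IsCoh F) (hG : Coh.IsCoh G)
    [ModSite.HasSheafHom (O := X.sheaf) F] [HasInjectiveResolutions (ModSite.Mod X.sheaf)] (i : ℕ) :
    Coh.IsCoh ((ModSite.extSh (O := X.sheaf) F i).obj G) := by
  apply CohLocal.isCoh_of_locally
  intro x
  obtain ⟨U, hU, hxU⟩ : ∃ U : X.Opens, IsAffineOpen U ∧ x ∈ U := by
    obtain ⟨_, ⟨U, hU, rfl⟩, hxU, -⟩ :=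
      X.isBasis_affineOpens.exists_subset_of_mem_open (Set.mem_univ x) isOpen_univ
    exact ⟨U, hU, hxU⟩
  refine ⟨U, hxU, ?_⟩
  haveI : IsAffine (↑U : Scheme.{u}) := hU
  haveI : HasInjectiveResolutions (ModSite.Mod (↑U : Scheme.{u}).sheaf) :=
    hasInjectiveResolutions (↑U : Scheme.{u})
  haveI : ModSite.HasSheafHom (O := (↑U : Scheme.{u}).sheaf) (F.restrict U.ι) :=
    Groth.Agent.Lib.Helper1.TensorAdj.hasSheafHom _ _
  exact isCoh_of_iso ((HomRestrExt.extShRestrIso U F i).app G).symm
    (ExtShCohB.isCoh_extSh_affine (G.restrict U.ι) (K0LocC.isCoh_restrict U.ι G hG) i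
      (F.restrict U.ι) (K0LocC.isCoh_restrict U.ι F hF))

end Groth.Agent.Lib.Helper6.ExtShCoh

namespace Groth.Agent.Lib.Helper6.ExtShCoh

open Groth.Agent.Lib.Helper6.DevCore

/-- `ℋom(F, G)` is coherent for coherent `F`, `G` (internal hom of `ModSite`) -/
theorem isCoh_sheafHom (X : Scheme.{u}) [IsLocallyNoetherian X] (F G : ModSite.Mod X.sheaf)
    (hF : Coh.IsCoh F) (hG : Coh.IsCoh G) [ModSite.HasSheafHom (O := X.sheaf) F] :
    Coh.IsCoh ((ModSite.sheafHom (O := X.sheaf) F).obj G) := by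
  haveI := hasInjectiveResolutions X
  let Φ : ModSite.Mod X.sheaf ⥤ ModSite.Mod X.sheaf := ModSite.sheafHom (O := X.sheaf) F
  haveI : Φ.Additive := ModSite.sheafHom_additive X.sheaf _
  haveI : PreservesFiniteLimits Φ :=
    (ModSite.sheafHomAdj F).rightAdjoint_preservesLimits.{0, 0}.preservesFiniteLimits
  let e1 : (Φ.rightDerived 0).obj G ≅ Φ.obj G := (Functor.rightDerivedZeroIsoSelf Φ).app G
  exact isCoh_of_iso e1 (isCoh_extSh X F G hF hG 0)

/-- `ℋom(F, G)` is coherent for coherent `F`, `G` (internal hom of `DCoh`) -/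
theorem isCoh_dcoh_sheafHom (X : Scheme.{u}) [IsLocallyNoetherian X] (F G : X.Modules)
    (hF : Coh.IsCoh F) (hG : Coh.IsCoh G) [DCoh.HasSheafHom F] :
    Coh.IsCoh ((DCoh.sheafHom F).obj G) := by
  haveI : ModSite.HasSheafHom (O := X.sheaf) F :=
    Groth.Agent.Lib.Helper1.TensorAdj.hasSheafHom _ _
  exact isCoh_of_iso ((DCohSheafHom.sheafHomIso F).app G).symm (isCoh_sheafHom X F G hF hG)

end Groth.Agent.Lib.Helper6.ExtShCoh
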