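import Groth.Agent.Lib.Helper6.K0Delta
import Groth.Agent.Lib.Helper18.Cyc.InvStalk
import Groth.Agent.Lib.Helper2.HZDepth5
import Groth.Agent.Lib.Helper28.AmpleUnit
import Groth.Prelude.Def_RefHull
import Mathlib
set_option backward.isDefEq.respectTransparency.types false
set_option autoImplicit false

/-!
# Lengths of stalks of invertible modules at points whose local ring is a field
-/

universe u
open CategoryTheory CategoryTheory.Limits AlgebraicGeometry Opposite TopologicalSpace

namespace Groth.Agent.Lib.Helper6.K0Rank
open Groth.Agent.Lib.Helper6.K0Filt Groth.Agent.Lib.Helper6.K0Len Groth.Agent.Lib.Helper6.K0Delta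

/-- length is invariant under semilinear bijections -/
theorem length_eq_of_semilinear {R S M N : Type*} [CommRing R] [CommRing S] [AddCommGroup M] [Module R M]
    [AddCommGroup N] [Module S N] (σ : R ≃+* S) (e : M ≃+ N) (h : ∀ (r : R) (m : M), e (r • m) = σ r • e m) :
    Module.length R M = Module.length S N := by
  letI : Algebra R S := σ.toRingHom.toAlgebra
  letI : Module R N := Module.compHom N σ.toRingHom
  haveI : IsScalarTower R S N := ⟨fun r s n => by
    show (σ r * s) • n = σ r • (s • n)
    rw [mul_smul]⟩
  let e' : M ≃ₗ[R] N := { e with map_smul' := fun r m => h r m }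
  rw [e'.length_eq]
  exact Module.length_eq_of_surjective σ.surjective

variable {X : Scheme.{u}}

/-- the length of the stalk of the restriction to an open subscheme -/
theorem len_restrict {Y : Scheme.{u}} (f : Y ⟶ X) [IsOpenImmersion f] (F : X.Modules) (y : Y) :
    len (F.restrict f) y = len F (f y) :=
  length_eq_of_semilinear (Groth.Agent.Lib.Helper2.HZDepth5.psi f y)
    (Groth.Agent.Lib.Helper2.HZDepth5.hh f F y).addCommGroupIsoToAddEquiv
    (fun a x => Groth.Agent.Lib.Helper2.HZDepth5.hh_smul f F y a x)

/-- an invertible module has length one at a point whose local ring is a field -/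
theorem len_eq_one_of_isInvertible (L : X.Modules) (hL : PicF.IsInvertible L) (x : X)
    (hx : IsField (X.presheaf.stalk x)) : len L x = 1 := by
  obtain ⟨V, hxV, e, he⟩ := Groth.Agent.Lib.Helper18.InvStalk.exists_local_generator L hL x
  obtain ⟨hspan, hfree⟩ := he x hxV
  have hm : IsLocalRing.maximalIdeal (X.presheaf.stalk x) = ⊥ :=
    IsLocalRing.isField_iff_maximalIdeal_eq.1 hx
  refine length_eq_one_of_gen (L.presheaf.germ V x hxV e) ?_ ?_ ?_
  · intro h0
    have := hfree 1 (by rw [one_smul]; exact h0)
    exact one_ne_zero this
  · intro a ha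
    rw [hm, Ideal.mem_bot] at ha
    rw [ha, zero_smul]
  · intro g'
    have : g' ∈ Submodule.span (X.presheaf.stalk x) {L.presheaf.germ V x hxV e} := by
      rw [hspan]; trivial
    obtain ⟨c, hc⟩ := Submodule.mem_span_singleton.1 this
    exact ⟨c, hc.symm⟩

section integral
variable [IsIntegral X]

theorem isField_stalk_genericPoint : IsField (X.presheaf.stalk (genericPoint X)) :=
  Field.toIsField (X.functionField)

theorem len_structureModule_genericPoint : len (Coh.structureModule X) (genericPoint X) = 1 :=
  len_eq_one_of_isInvertible _ (Groth.Agent.Lib.Helper28.AmpleUnit.isInvertible_structureModule X) _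
    isField_stalk_genericPoint

/-- a generically invertible module has length one at the generic point -/
theorem len_genericPoint_of_genInvertible (F : X.Modules) (hF : RefHull.GenInvertible F) :
    len F (genericPoint X) = 1 := by
  obtain ⟨U, hU, hinv⟩ := hF
  have hne : (U : Set X).Nonempty := hU.nonempty
  have hη : genericPoint X ∈ U := by
    obtain ⟨z, hz⟩ := hne
    exact (genericPoint_specializes z).mem_open U.isOpen hz
  have h1 := len_restrict U.ι F ⟨genericPoint X, hη⟩
  have h2 : U.ι ⟨genericPoint X, hη⟩ = genericPoint X := rfl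
  rw [h2] at h1
  rw [← h1]
  apply len_eq_one_of_isInvertible _ hinv
  have e : (U : Scheme.{u}).presheaf.stalk ⟨genericPoint X, hη⟩ ≃+* X.presheaf.stalk (U.ι ⟨genericPoint X, hη⟩) :=
    Groth.Agent.Lib.Helper2.HZDepth5.psi U.ι ⟨genericPoint X, hη⟩
  exact e.toMulEquiv.isField (isField_stalk_genericPoint (X := X))

end integral

end Groth.Agent.Lib.Helper6.K0Rank
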