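import Groth.Agent.Lib.Helper6.K0LocA
import Groth.Agent.Lib.Helper6.K0Rank
import Mathlib
set_option backward.isDefEq.respectTransparency.types false
set_option autoImplicit false
set_option linter.style.haveILetI false

/-!
# Restriction to the complement kills the modules coming from a closed subscheme
-/

universe u
open CategoryTheory CategoryTheory.Limits AlgebraicGeometry Opposite TopologicalSpace
open Groth.Agent.Lib.Helper17.CohKer Groth.Agent.Lib.Helper17.StalkExact Groth.Agent.Lib.Helper28.QCohLoc

namespace Groth.Agent.Lib.Helper6.K0LocB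
open Groth.Agent.Lib.Helper6.K0Filt Groth.Agent.Lib.Helper6.K0Len Groth.Agent.Lib.Helper6.K0Loc
  Groth.Agent.Lib.Helper6.DevCore Groth.Agent.Lib.Helper6.K0Abs Groth.Agent.Lib.Helper6.DevFin Groth.Agent.Lib.Helper6.DevSub

variable {X Y : Scheme.{u}}

/-- the support of a direct image along a closed map lies in the range -/
theorem support_push_subset_range (f : Y ⟶ X) (hf : IsClosedMap f) (F : Y.Modules) :
    CohB1.support ((Coh.push f).obj F) ⊆ Set.range f := by
  intro x hx
  by_contra hxr
  apply hx
  let V : X.Opens := ⟨(Set.range f)ᶜ, hf.isClosed_range.isOpen_compl⟩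
  suffices h : ∀ m : ((Coh.push f).obj F).presheaf.stalk x, m = 0 from
    ⟨fun m m' => by rw [h m, h m']⟩
  intro m
  obtain ⟨U, hxU, t, rfl⟩ := TopCat.Presheaf.exists_germ_eq ((Coh.push f).obj F).presheaf m
  have hW : x ∈ U ⊓ V := ⟨hxU, hxr⟩
  rw [← germ_res' ((Coh.push f).obj F) x (inf_le_left : U ⊓ V ≤ U) hW]
  have h0 : res ((Coh.push f).obj F) (inf_le_left : U ⊓ V ≤ U) t = 0 := by
    refine section_eq_zero_of_notMem_support F (f ⁻¹ᵁ (U ⊓ V)) ?_ _
    intro w hw
    exact absurd ⟨w, rfl⟩ hw.2
  rw [h0]
  exact map_zero _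

/-- the support of the restriction to an open subscheme -/
theorem support_restrict {U : Scheme.{u}} (j : U ⟶ X) [IsOpenImmersion j] (F : X.Modules) (u : U) :
    u ∈ CohB1.support (F.restrict j) ↔ j u ∈ CohB1.support F := by
  unfold CohB1.support
  simp only [Set.mem_ofPred_eq]
  have e := (Groth.Agent.Lib.Helper2.HZDepth5.hh j F u).addCommGroupIsoToAddEquiv
  rw [not_iff_not]
  exact ⟨fun h => e.symm.injective.subsingleton, fun h => e.injective.subsingleton⟩

/-- a module supported off the image of `j` restricts to zero along `j` -/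
theorem isZero_restrict_of_support {U : Scheme.{u}} (j : U ⟶ X) [IsOpenImmersion j] (F : X.Modules)
    (h : Disjoint (CohB1.support F) (Set.range j)) : IsZero ((Scheme.Modules.restrictFunctor j).obj F) := by
  apply isZero_of_support_eq_empty
  rw [Set.eq_empty_iff_forall_notMem]
  intro u hu
  have := (support_restrict j F u).1 hu
  exact Set.disjoint_left.1 h this ⟨u, rfl⟩

end Groth.Agent.Lib.Helper6.K0LocB
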