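import Mathlib
import Groth.Prelude.Def_Coh
import Groth.Prelude.Def_ModSite2
import Groth.Agent.Lib.Helper6.ExtShCohB
import Groth.Agent.Lib.Helper6.CohLocal
import Groth.Agent.Lib.Helper6.HomRestrExt
import Groth.Agent.Lib.Helper6.K0LocC
import Groth.Agent.Lib.Helper17.Serre2
import Groth.Agent.Lib.Helper17.CohKer

/-!
# Quasi-coherence of `ℰxtⁱ(F, G)` for `F` coherent and `G` quasi-coherent (helper6)
-/

set_option autoImplicit false
set_option linter.style.haveILetI false
set_option linter.unusedSectionVars false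
set_option linter.unusedVariables false
set_option backward.isDefEq.respectTransparency.types false

universe u

open CategoryTheory Limits Opposite AlgebraicGeometry

namespace Groth.Agent.Lib.Helper6.ExtShQCoh

open Groth.Agent.Lib.Helper6.FinFreeExt Groth.Agent.Lib.Helper6.DevCore
  Groth.Agent.Lib.Helper6.ExtShCohA Groth.Agent.Lib.Helper6.ExtShCohB

variable {X : Scheme.{u}}

attribute [local instance] Abelian.hasFiniteBiproducts

theorem isQC_of_iso {M N : X.Modules} (e : M ≅ N) (hM : M.IsQuasicoherent) : N.IsQuasicoherent :=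
  (SheafOfModules.isQuasicoherent X.ringCatSheaf).prop_of_iso e hM

theorem isQC_of_isZero {M : X.Modules} (hz : IsZero M) : M.IsQuasicoherent :=
  (DevRed.isCoh_of_isZero hz).1

theorem isQC_kernel {A B : X.Modules} (hA : A.IsQuasicoherent) (hB : B.IsQuasicoherent)
    (φ : A ⟶ B) : (kernel φ).IsQuasicoherent :=
  Groth.Agent.Lib.Helper17.CohKer.isQuasicoherent_kernel φ

theorem isQC_cokernel {A B : X.Modules} (hA : A.IsQuasicoherent) (hB : B.IsQuasicoherent)
    (φ : A ⟶ B) : (cokernel φ).IsQuasicoherent :=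
  Groth.Agent.Lib.Helper17.CohKer.isQuasicoherent_cokernel φ

/-- finite coproducts of quasi-coherent modules are quasi-coherent -/
theorem isQC_sigma_fin : ∀ (r : ℕ) (f : Fin r → X.Modules), (∀ k, (f k).IsQuasicoherent) →
    (∐ f).IsQuasicoherent
  | 0, f, _ => by
    apply isQC_of_isZero
    rw [IsZero.iff_id_eq_zero]
    apply Sigma.hom_ext
    intro k
    exact Fin.elim0 k
  | r + 1, f, hf => by
    have ih := isQC_sigma_fin r (fun i => f i.succ) (fun i => hf i.succ)
    let c₁ : Cofan fun i : Fin r => f i.succ := Cofan.mk (∐ fun i : Fin r => f i.succ) (Sigma.ι _)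
    have t₁ : IsColimit c₁ := coproductIsCoproduct _
    let c₂ : BinaryCofan (f 0) c₁.pt := BinaryBicone.toCocone (BinaryBiproduct.bicone (f 0) c₁.pt)
    have t₂ : IsColimit c₂ := BinaryBiproduct.isColimit (f 0) c₁.pt
    have t := extendCofanIsColimit f t₁ t₂
    let e : (f 0 ⊞ ∐ fun i : Fin r => f i.succ) ≅ ∐ f :=
      t.coconePointUniqueUpToIso (coproductIsCoproduct f)
    haveI : (f 0).IsQuasicoherent := hf 0
    haveI : (∐ fun i : Fin r => f i.succ).IsQuasicoherent := ih
    exact isQC_of_iso e inferInstance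

theorem isQC_Pn (n : ℕ) (G : X.Modules) (hG : G.IsQuasicoherent) :
    ((Pn (A := ModSite.Mod X.sheaf) n).obj G).IsQuasicoherent :=
  isQC_of_iso (biproduct.isoCoproduct (fun _ : Fin n => G)).symm
    (isQC_sigma_fin n _ (fun _ => hG))

local instance hsh (F : X.Modules) : ModSite.HasSheafHom (O := X.sheaf) F :=
  Groth.Agent.Lib.Helper1.TensorAdj.hasSheafHom X.sheaf F

variable [HasInjectiveResolutions (ModSite.Mod X.sheaf)]

/-- `ℰxt⁰(O^n, G) ≅ G^n` is quasi-coherent -/
theorem isQC_extSh_zero_freeN (n : ℕ) (G : ModSite.Mod X.sheaf)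
    (hG : (show X.Modules from G).IsQuasicoherent) :
    (show X.Modules from
      ((ModSite.extSh (O := X.sheaf) (freeN X.sheaf n) 0).obj G)).IsQuasicoherent := by
  let Φ : ModSite.Mod X.sheaf ⥤ ModSite.Mod X.sheaf :=
    ModSite.sheafHom (O := X.sheaf) (freeN X.sheaf n)
  haveI : Φ.Additive := ModSite.sheafHom_additive X.sheaf _
  haveI : PreservesFiniteLimits Φ :=
    (ModSite.sheafHomAdj (freeN X.sheaf n)).rightAdjoint_preservesLimits.{0, 0}.preservesFiniteLimits
  let e1 : (Φ.rightDerived 0).obj G ≅ Φ.obj G := (Functor.rightDerivedZeroIsoSelf Φ).app G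
  let e2 : Φ.obj G ≅ (Pn n).obj G := (sheafHomFreeIso (Iso.refl _)).app G
  exact isQC_of_iso (e1 ≪≫ e2).symm (isQC_Pn n G hG)

variable [IsAffine X] [IsLocallyNoetherian X]

/-- degree zero -/
theorem isQC_extSh_zero (G : X.Modules) (hG : G.IsQuasicoherent) (F : X.Modules)
    (hF : Coh.IsCoh F) :
    ((ModSite.extSh (O := X.sheaf) F 0).obj G).IsQuasicoherent := by
  obtain ⟨n, p, hp⟩ := exists_epi_freeN F hF
  have hK : Coh.IsCoh (kernel p) := isCoh_kernel p (isCoh_freeN n) hF
  obtain ⟨m, q, hq⟩ := exists_epi_freeN (kernel p) hK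
  let S : ShortComplex (ModSite.Mod X.sheaf) := ShortComplex.mk (kernel.ι p) p (kernel.condition p)
  have hS : S.ShortExact :=
    { exact := ShortComplex.exact_of_f_is_kernel _ (kernelIsKernel p)
      mono_f := inferInstanceAs (Mono (kernel.ι p))
      epi_g := hp }
  let S' : ShortComplex (ModSite.Mod X.sheaf) := ShortComplex.mk (kernel.ι q) q (kernel.condition q)
  have hS' : S'.ShortExact :=
    { exact := ShortComplex.exact_of_f_is_kernel _ (kernelIsKernel q)
      mono_f := inferInstanceAs (Mono (kernel.ι q))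
      epi_g := hq }
  obtain ⟨e⟩ := nonempty_iso_kernel_comp (ExtShLES.a S G 0) (ExtShLES.b S G 0) (ExtShLES.a_b S G 0)
    (ExtShLES.exact_a_b S hS G 0) (ExtShLES.mono_a_zero S hS G) (ExtShLES.a S' G 0)
    (ExtShLES.mono_a_zero S' hS' G)
  exact isQC_of_iso e.symm (isQC_kernel (isQC_extSh_zero_freeN n G hG)
    (isQC_extSh_zero_freeN m G hG) _)

/-- the affine locally Noetherian case -/
theorem isQC_extSh_affine (G : X.Modules) (hG : G.IsQuasicoherent) :
    ∀ (i : ℕ) (F : X.Modules) (hF : Coh.IsCoh F),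
      ((ModSite.extSh (O := X.sheaf) F i).obj G).IsQuasicoherent
  | 0, F, hF => isQC_extSh_zero G hG F hF
  | i + 1, F, hF => by
    obtain ⟨n, p, hp⟩ := exists_epi_freeN F hF
    have hK : Coh.IsCoh (kernel p) := isCoh_kernel p (isCoh_freeN n) hF
    let S : ShortComplex (ModSite.Mod X.sheaf) :=
      ShortComplex.mk (kernel.ι p) p (kernel.condition p)
    have hS : S.ShortExact :=
      { exact := ShortComplex.exact_of_f_is_kernel _ (kernelIsKernel p)
        mono_f := inferInstanceAs (Mono (kernel.ι p))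
        epi_g := hp }
    have hz : IsZero ((ModSite.extSh (O := X.sheaf) (freeN X.sheaf n) (i + 1)).obj G) :=
      isZero_extSh_of_iso_free (Iso.refl _) i G
    haveI : Epi (ExtShLES.δ S hS G i) :=
      (ExtShLES.exact_δ_a S hS G i).epi_f (hz.eq_of_tgt _ _)
    obtain ⟨e⟩ := nonempty_iso_cokernel (ExtShLES.b S G i) (ExtShLES.δ S hS G i)
      (ExtShLES.b_δ S hS G i) (ExtShLES.exact_b_δ S hS G i)
    exact isQC_of_iso e.symm (isQC_cokernel (isQC_extSh_affine G hG i _ (isCoh_freeN n))
      (isQC_extSh_affine G hG i _ hK) _)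

end Groth.Agent.Lib.Helper6.ExtShQCoh
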