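import Mathlib
import Groth.Prelude.Def_ExtSupp
import Groth.Prelude.Def_ToposFin2
import Groth.Agent.Lib.Helper6.TotAcycMono
import Groth.Agent.Lib.Helper6.CohSiteOverSet
import Groth.Agent.Lib.Helper6.ModAbCoh
import Groth.Agent.Lib.Helper6.QuotExact

/-!
# Cohomology with supports does not depend on the ring (helper6)

`Ext^n_O(O/O_U, X) ≅ Ext^n_ℤ(ℤ/ℤ_U, X_ab)`.
-/

universe u

open CategoryTheory Limits Opposite Abelian

namespace Groth.Agent.Lib.Helper6.HZIndep

open TotAcycMono (Φ)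

variable {C : Type u} [SmallCategory C] {J : GrothendieckTopology C}

section Vanish

/-- cohomology with supports of a totally acyclic sheaf vanishes -/
theorem subsingleton_ext_quotZ {F : Sheaf J AddCommGrpCat.{u}} (hF : CohCx.IsTotallyAcyclic F)
    (K : Sheaf J (Type u)) (p : ℕ) :
    Subsingleton (Ext (ToposFin.quotZ K) F (p + 1)) := by
  let t := terminal.from K
  let e := Sheaf.toImage t
  let ι := Sheaf.imageι t
  have ht : (Φ J).map e ≫ (Φ J).map ι = (Φ J).map t := by
    rw [← Functor.map_comp, Sheaf.toImage_ι]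
  haveI hmono : Mono ((Φ J).map ι) := TotAcycMono.mono_Φ_map J ι
  haveI hepi : Epi ((Φ J).map e) := inferInstance
  let S : ShortComplex (Sheaf J AddCommGrpCat.{u}) :=
    ShortComplex.mk ((Φ J).map ι) (cokernel.π ((Φ J).map ι)) (cokernel.condition _)
  have hS : S.ShortExact :=
    { exact := ShortComplex.exact_cokernel _
      mono_f := hmono
      epi_g := inferInstanceAs (Epi (cokernel.π ((Φ J).map ι))) }
  let i : ToposFin.quotZ K ≅ S.X₃ :=
    cokernelIsoOfEq ht.symm ≪≫ cokernelEpiComp ((Φ J).map e) ((Φ J).map ι)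
  refine CohSiteOverSet.subsingleton_ext_of_iso i (p + 1) ?_
  have key : ∀ x₃ : Ext S.X₃ F (p + 1), x₃ = 0 := by
    intro x₃
    have h0 : (Ext.mk₀ S.g).comp x₃ (zero_add (p + 1)) = 0 := (hF _ p).elim _ _
    obtain ⟨x₁, rfl⟩ := Ext.contravariant_sequence_exact₃ hS F x₃ h0 (Nat.add_comm 1 p)
    cases p with
    | zero =>
      obtain ⟨y, rfl⟩ := (Ext.mk₀_bijective _ _).2 x₁
      obtain ⟨x, hx⟩ := TotAcycMono.surjective_restrict J hF ι y
      have : Ext.mk₀ y = (Ext.mk₀ S.f).comp (Ext.mk₀ x) (zero_add 0) := by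
        rw [Ext.mk₀_comp_mk₀]
        exact congrArg Ext.mk₀ hx.symm
      rw [this, ← Ext.comp_assoc_of_third_deg_zero, hS.extClass_comp, Ext.zero_comp]
    | succ q =>
      have : x₁ = 0 := (hF _ q).elim _ _
      rw [this, Ext.comp_zero]
  exact ⟨fun a b => (key a).trans (key b).symm⟩

end Vanish

section Eval

/-- the transpose `(a(P ⋙ free) ⟶ A) ≃ (P ⟶ A ⋙ forget)` -/
noncomputable def tr (P : Cᵒᵖ ⥤ Type u) (A : Sheaf J AddCommGrpCat.{u}) :
    ((presheafToSheaf J AddCommGrpCat.{u}).obj (P ⋙ AddCommGrpCat.free.{u}) ⟶ A) ≃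
      (P ⟶ A.obj ⋙ forget AddCommGrpCat.{u}) :=
  ((sheafificationAdjunction J AddCommGrpCat.{u}).homEquiv _ A).trans
    ((AddCommGrpCat.adj.whiskerRight Cᵒᵖ).homEquiv P A.obj)

lemma tr_app (P : Cᵒᵖ ⥤ Type u) (A : Sheaf J AddCommGrpCat.{u})
    (χ : (presheafToSheaf J AddCommGrpCat.{u}).obj (P ⋙ AddCommGrpCat.free.{u}) ⟶ A)
    (W : Cᵒᵖ) (x : P.obj W) :
    (tr P A χ).app W x =
      ((sheafificationAdjunction J AddCommGrpCat.{u}).homEquiv _ A χ).app W
        (FreeAbelianGroup.of x) := by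
  simp [tr]
  rfl

lemma tr_naturality_left {P' P : Cᵒᵖ ⥤ Type u} (f : P' ⟶ P) (A : Sheaf J AddCommGrpCat.{u})
    (χ : (presheafToSheaf J AddCommGrpCat.{u}).obj (P ⋙ AddCommGrpCat.free.{u}) ⟶ A) :
    tr P' A ((presheafToSheaf J AddCommGrpCat.{u}).map
      (Functor.whiskerRight f AddCommGrpCat.free.{u}) ≫ χ) = f ≫ tr P A χ := by
  ext W x
  change (tr P' A _).app W x = (tr P A χ).app W (f.app W x)
  rw [tr_app, tr_app, Adjunction.homEquiv_naturality_left]
  rfl

lemma tr_zero_app (P : Cᵒᵖ ⥤ Type u) (A : Sheaf J AddCommGrpCat.{u}) (W : Cᵒᵖ) (x : P.obj W) :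
    (tr P A 0).app W x = 0 := by
  rw [tr_app, Adjunction.homEquiv_unit, Functor.map_zero, comp_zero]
  rfl

variable (U : C)

/-- the canonical section of `eps U` over `U` -/
noncomputable def can : (ToposFin.eps J U).obj.obj (op U) :=
  (toSheafify J (yoneda.obj U)).app (op U) (𝟙 U)

/-- evaluation at the canonical section -/
noncomputable def ev (A : Sheaf J AddCommGrpCat.{u})
    (χ : (Φ J).obj (ToposFin.eps J U) ⟶ A) : A.obj.obj (op U) :=
  (tr (ToposFin.eps J U).obj A χ).app (op U) (can U)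

lemma ev_zero (A : Sheaf J AddCommGrpCat.{u}) : ev U A 0 = 0 := tr_zero_app _ _ _ _

lemma ev_injective (A : Sheaf J AddCommGrpCat.{u}) : Function.Injective (ev U A) := by
  intro χ χ' h
  apply (tr (ToposFin.eps J U).obj A).injective
  refine sheafify_hom_ext J _ _ ((sheafCompose J (forget AddCommGrpCat.{u})).obj A).2 ?_
  apply yonedaEquiv.injective
  exact h

lemma eq_zero_iff_ev (A : Sheaf J AddCommGrpCat.{u})
    (χ : (Φ J).obj (ToposFin.eps J U) ⟶ A) : χ = 0 ↔ ev U A χ = 0 :=
  ⟨fun h => h ▸ ev_zero U A, fun h => ev_injective U A (h.trans (ev_zero U A).symm)⟩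

open ModAbCoh in
/-- the key computation: restricting a global section to `U` -/
lemma ev_map_freePtIso (A : Sheaf J AddCommGrpCat.{u}) (t' : ToposFin.eps J U ⟶ pt (J := J))
    (ψ' : ZZ (J := J) ⟶ A) :
    ev U A ((Φ J).map t' ≫ (freePtIso (J := J)).hom ≫ ψ') = ev1 A ψ' (op U) := by
  unfold ev
  have h1 := tr_naturality_left t'.hom A ((freePtIso (J := J)).hom ≫ ψ')
  have h1' : tr (ToposFin.eps J U).obj A ((Φ J).map t' ≫ (freePtIso (J := J)).hom ≫ ψ') =
      t'.hom ≫ tr (pt (J := J)).obj A ((freePtIso (J := J)).hom ≫ ψ') := h1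
  rw [h1']
  change (tr (pt (J := J)).obj A ((freePtIso (J := J)).hom ≫ ψ')).app (op U)
    (t'.hom.app (op U) (can U)) = _
  rw [tr_app]
  unfold freePtIso
  rw [Functor.mapIso_hom, Adjunction.homEquiv_naturality_left]
  unfold ev1
  change ((sheafificationAdjunction J AddCommGrpCat.{u}).homEquiv _ A ψ').app (op U) _ =
    ((sheafificationAdjunction J AddCommGrpCat.{u}).homEquiv _ A ψ').app (op U) _
  congr 1

end Eval

section Compare

open ModAbCoh

variable (O : Sheaf J CommRingCat.{u}) (U : C)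

/-- `⊤_ ≅ pt` -/
noncomputable def iPt : ⊤_ (Sheaf J (Type u)) ≅ pt (J := J) :=
  terminalIsTerminal.uniqueUpToIso (Sheaf.isTerminalTerminal J Types.isTerminalPUnit)

/-- global sections of a module, in terms of the underlying abelian sheaf -/
noncomputable def B (X : ModSite.Mod O) :
    (ModSite.unit O ⟶ X) ≃+ ((Φ J).obj (⊤_ (Sheaf J (Type u))) ⟶ ModSite.toAb X) :=
  (AddEquiv.ofBijective (α (ModSite.ringSh O) X) (α_bijective (ModSite.ringSh O) X)).trans
    { toFun := fun ψ' => (Φ J).map (iPt (J := J)).hom ≫ (freePtIso (J := J)).hom ≫ ψ'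
      invFun := fun ψ => (freePtIso (J := J)).inv ≫ (Φ J).map (iPt (J := J)).inv ≫ ψ
      left_inv := fun ψ' => by
        dsimp only
        rw [← Functor.map_comp_assoc, Iso.inv_hom_id,
          CategoryTheory.Functor.map_id, Category.id_comp, Iso.inv_hom_id_assoc]
      right_inv := fun ψ => by
        dsimp only
        rw [Iso.hom_inv_id_assoc, ← Functor.map_comp_assoc, Iso.hom_inv_id,
          CategoryTheory.Functor.map_id, Category.id_comp]
      map_add' := fun a b => by
        rw [Preadditive.comp_add, Preadditive.comp_add] }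

lemma B_apply (X : ModSite.Mod O) (φ : ModSite.unit O ⟶ X) :
    B O X φ = (Φ J).map (iPt (J := J)).hom ≫ (freePtIso (J := J)).hom ≫
      α (ModSite.ringSh O) X φ := rfl

lemma B_naturality {X X' : ModSite.Mod O} (f : X ⟶ X') (φ : ModSite.unit O ⟶ X) :
    B O X' (φ ≫ f) = B O X φ ≫ (SheafOfModules.toSheaf (ModSite.ringSh O)).map f := by
  rw [B_apply, B_apply]
  change _ ≫ _ ≫ (c (ModSite.ringSh O) ≫ (SheafOfModules.toSheaf _).map (φ ≫ f)) =
    (_ ≫ _ ≫ (c (ModSite.ringSh O) ≫ (SheafOfModules.toSheaf _).map φ)) ≫ _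
  rw [Functor.map_comp]
  simp only [Category.assoc]

lemma restr_map_eq_zero_iff (X : ModSite.Mod O) (φ : ModSite.unit O ⟶ X) :
    (ModSite.restr O U).map φ = 0 ↔ (X.unitHomEquiv φ).val (op U) = 0 := by
  constructor
  · intro h
    have h1 := congrArg (fun ψ : (ModSite.restr O U).obj (ModSite.unit O) ⟶
      (ModSite.restr O U).obj X => (ψ.val.app (op (Over.mk (𝟙 U)))).hom
        (1 : (ModSite.ringSh O).obj.obj (op U))) h
    exact h1
  · intro h
    apply SheafOfModules.hom_ext
    apply PresheafOfModules.hom_ext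
    intro Y
    have hs : (X.unitHomEquiv φ).val (op Y.unop.left) = 0 := by
      have := (X.unitHomEquiv φ).property (Y.unop.hom.op)
      rw [h] at this
      exact this.symm.trans (map_zero (X.val.presheaf.map (Y.unop.hom.op)).hom)
    ext
    exact hs

/-- a global section vanishes on `U` iff the corresponding map kills `ℤ_U` -/
lemma cond (X : ModSite.Mod O) (φ : ModSite.unit O ⟶ X) :
    (ToposFin.freeAb J).map (terminal.from (ToposFin.eps J U)) ≫ B O X φ = 0 ↔
      (ModSite.restr O U).map φ = 0 := by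
  rw [restr_map_eq_zero_iff, ← ev1_α]
  have h1 : (ToposFin.freeAb J).map (terminal.from (ToposFin.eps J U)) ≫ B O X φ =
      (Φ J).map (terminal.from (ToposFin.eps J U) ≫ (iPt (J := J)).hom) ≫
        (freePtIso (J := J)).hom ≫ α (ModSite.ringSh O) X φ := by
    rw [B_apply, Functor.map_comp, Category.assoc]
  rw [h1, eq_zero_iff_ev, ev_map_freePtIso]
  exact Iff.rfl

variable [ModSite.HasPushOver O U]

open QuotSect in
/-- `Hom_O(O/O_U, X) ≃+ Hom(ℤ/ℤ_U, X_ab)` -/
noncomputable def Θ (X : ModSite.Mod O) :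
    ((ModSite.quotOn O U).obj (ModSite.unit O) ⟶ X) ≃+
      (ToposFin.quotZ (ToposFin.eps J U) ⟶ ModSite.toAb X) where
  toFun g := cokernel.desc _ (B O X ((ModSite.quotOnπ O U).app (ModSite.unit O) ≫ g))
    ((cond O U X _).2 (restr_π_comp O U g))
  invFun h := descQ O U ((B O X).symm (cokernel.π _ ≫ h)) ((cond O U X _).1 (by
    rw [AddEquiv.apply_symm_apply, cokernel.condition_assoc, zero_comp]))
  left_inv g := by
    rw [← cancel_epi ((ModSite.quotOnπ O U).app (ModSite.unit O)), π_descQ]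
    apply (B O X).injective
    rw [AddEquiv.apply_symm_apply, cokernel.π_desc]
  right_inv h := by
    rw [← cancel_epi (cokernel.π ((ToposFin.freeAb J).map (terminal.from (ToposFin.eps J U)))),
      cokernel.π_desc, π_descQ, AddEquiv.apply_symm_apply]
  map_add' a b := by
    rw [← cancel_epi (cokernel.π ((ToposFin.freeAb J).map (terminal.from (ToposFin.eps J U))))]
    simp only [cokernel.π_desc, Preadditive.comp_add, map_add]

lemma π_Θ (X : ModSite.Mod O) (g : (ModSite.quotOn O U).obj (ModSite.unit O) ⟶ X) :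
    cokernel.π ((ToposFin.freeAb J).map (terminal.from (ToposFin.eps J U))) ≫ Θ O U X g =
      B O X ((ModSite.quotOnπ O U).app (ModSite.unit O) ≫ g) :=
  cokernel.π_desc _ _ _

lemma Θ_naturality {X X' : ModSite.Mod O} (f : X ⟶ X')
    (g : (ModSite.quotOn O U).obj (ModSite.unit O) ⟶ X) :
    Θ O U X' (g ≫ f) = Θ O U X g ≫ (SheafOfModules.toSheaf (ModSite.ringSh O)).map f := by
  rw [← cancel_epi (cokernel.π ((ToposFin.freeAb J).map (terminal.from (ToposFin.eps J U)))),
    π_Θ]
  have h3 : cokernel.π ((ToposFin.freeAb J).map (terminal.from (ToposFin.eps J U))) ≫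
      Θ O U X g ≫ (SheafOfModules.toSheaf (ModSite.ringSh O)).map f =
      (cokernel.π ((ToposFin.freeAb J).map (terminal.from (ToposFin.eps J U))) ≫
        Θ O U X g) ≫ (SheafOfModules.toSheaf (ModSite.ringSh O)).map f :=
    (Category.assoc _ _ _).symm
  rw [h3, π_Θ, ← B_naturality, Category.assoc]

variable [HasExt.{u} (ModSite.Mod O)]

/-- degree zero -/
noncomputable def equiv₀ (X : ModSite.Mod O) :
    Ext ((ModSite.quotOn O U).obj (ModSite.unit O)) X 0 ≃+
      Ext (ToposFin.quotZ (ToposFin.eps J U)) (ModSite.toAb X) 0 :=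
  Ext.addEquiv₀.trans ((Θ O U X).trans Ext.addEquiv₀.symm)

lemma equiv₀_naturality {X X' : ModSite.Mod O} (f : X ⟶ X')
    (x : Ext ((ModSite.quotOn O U).obj (ModSite.unit O)) X 0) :
    equiv₀ O U X' (x.comp (Ext.mk₀ f) (add_zero 0)) =
      (equiv₀ O U X x).comp
        (Ext.mk₀ ((SheafOfModules.toSheaf (ModSite.ringSh O)).map f)) (add_zero 0) := by
  obtain ⟨φ, rfl⟩ := Ext.addEquiv₀.symm.surjective x
  simp only [equiv₀, AddEquiv.trans_apply, Ext.addEquiv₀_symm_apply, Ext.mk₀_comp_mk₀,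
    ExtAdj.addEquiv₀_mk₀]
  congr 1
  exact Θ_naturality O U f φ

/-- the natural isomorphism in degree zero -/
noncomputable def θ₀ : extFunctorObj ((ModSite.quotOn O U).obj (ModSite.unit O)) 0 ≅
    SheafOfModules.toSheaf (ModSite.ringSh O) ⋙
      extFunctorObj (ToposFin.quotZ (ToposFin.eps J U)) 0 :=
  NatIso.ofComponents (fun X => (equiv₀ O U X).toAddCommGrpIso) (fun {X X'} f => by
    ext x
    exact equiv₀_naturality O U f x)

open DeltaCompare in
/-- **`Ext^n_O(O/O_U, X) ≃ H^n_Z(X_ab)`** -/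
theorem nonempty_ext_addEquiv (X : ModSite.Mod O) (n : ℕ) :
    Nonempty (Ext ((ModSite.quotOn O U).obj (ModSite.unit O)) X n ≃+
      Ext (ToposFin.quotZ (ToposFin.eps J U)) (ModSite.toAb X) n) := by
  have := Groth.Agent.Lib.Helper8.SheafModGroth.enoughInjectives J (ModSite.ringSh O)
  obtain ⟨e⟩ := delta_compare
    (fun n => extFunctorObj ((ModSite.quotOn O U).obj (ModSite.unit O)) n)
    (fun n => SheafOfModules.toSheaf (ModSite.ringSh O) ⋙
      extFunctorObj (ToposFin.quotZ (ToposFin.eps J U)) n) (θ₀ O U)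
    (fun _ => True) (fun G _ => by
      have hE := ExtAcyc.sesUnder_shortExact G
      have hI : Injective (ExtAcyc.sesUnder G).X₂ := inferInstance
      refine ⟨_, _, (ExtAcyc.sesUnder G).f, (ExtAcyc.sesUnder G).g, trivial,
        ExtShift.hasShift_ext _ _ hE (fun n x => Ext.eq_zero_of_injective x),
        ExtShift.hasShift_ext_comp (SheafOfModules.toSheaf (ModSite.ringSh O))
          (ToposFin.quotZ (ToposFin.eps J U)) _
          (hE.map_of_exact (SheafOfModules.toSheaf (ModSite.ringSh O))) (fun n x => ?_)⟩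
      have h := subsingleton_ext_quotZ
        (InjModTotAcyc.totallyAcyclic (ModSite.ringSh O) (ExtAcyc.sesUnder G).X₂)
        (ToposFin.eps J U) n
      exact @Subsingleton.elim _ h _ _) n X trivial
  exact ⟨e.addCommGroupIsoToAddEquiv⟩

end Compare

end Groth.Agent.Lib.Helper6.HZIndep
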