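import Mathlib
import Groth.Agent.Lib.Helper6.QuotExact
import Groth.Agent.Lib.Helper6.HZIndep
import Groth.Agent.Lib.Helper6.GrothSS
import Groth.Agent.Lib.Helper6.ExtRDNat
import Groth.Agent.Lib.Helper6.LocGlobExtSS

/-!
# Functor isomorphisms for the spectral sequences of Ext with supports (helper6)
-/

universe u

open CategoryTheory Limits Opposite Abelian

namespace Groth.Agent.Lib.Helper6.ExtSuppSS

variable {C : Type u} [SmallCategory C] {J : GrothendieckTopology C} (O : Sheaf J CommRingCat.{u})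
  (U : C) [ModSite.HasPushOver O U]

instance : (ModSite.quotOn O U).Additive :=
  (QuotSect.adj O U).left_adjoint_additive

/-- `Hom(M, Γ_Z -) ≅ Hom(M/M_U, -)` -/
noncomputable def homSectIso (M : ModSite.Mod O) :
    ModSite.sectOn O U ⋙ ExtRDNat.G M ≅ ExtRDNat.G ((ModSite.quotOn O U).obj M) :=
  NatIso.ofComponents
    (fun N' => (((QuotSect.adj O U).homAddEquiv M N').symm).toAddCommGrpIso)
    (fun {N' N''} g => by
      ext φ
      exact (QuotSect.adj O U).homEquiv_naturality_right_symm φ g)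

/-- `Γ(Γ_Z ℋom(M, -)) ≅ Hom(M/M_U, -)` -/
noncomputable def gammaZHomIso (M : ModSite.Mod O) [ModSite.HasSheafHom M] :
    ExtSupp.gammaZHom U M ≅ ExtRDNat.G ((ModSite.quotOn O U).obj M) :=
  haveI : ModSite.HasSheafHom ((ModSite.quotOn O U).obj M) :=
    Groth.Agent.Lib.Helper1.TensorAdj.hasSheafHom O _
  (Functor.associator _ _ _).symm ≪≫
    Functor.isoWhiskerRight (QuotSect.sheafHomSectIso O U M) _ ≪≫
    LocGlobExtSS.compIso O ((ModSite.quotOn O U).obj M)

/-- `Hom(O/O_U, ℋom(M, -)) ≅ Hom(M/M_U, -)` -/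
noncomputable def homQuotUnitSheafHomIso (M : ModSite.Mod O) [ModSite.HasSheafHom M] :
    ModSite.sheafHom M ⋙ ExtRDNat.G ((ModSite.quotOn O U).obj (ModSite.unit O)) ≅
      ExtRDNat.G ((ModSite.quotOn O U).obj M) :=
  Functor.isoWhiskerLeft (ModSite.sheafHom M) (homSectIso O U (ModSite.unit O)).symm ≪≫
    gammaZHomIso O U M

variable [HasExt.{u} (ModSite.Mod O)] [HasInjectiveResolutions (ModSite.Mod O)]

/-- `R^p Hom(O/O_U, -)(X) ≅ H^p_Z(X)` -/
theorem nonempty_rightDerived_iso_HZ (X : ModSite.Mod O) (p : ℕ) :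
    Nonempty (((ExtRDNat.G ((ModSite.quotOn O U).obj (ModSite.unit O))).rightDerived p).obj X ≅
      AddCommGrpCat.of (ModSite.HZ U X p)) := by
  obtain ⟨e⟩ := ExtRDNat.nonempty_rightDerived_coyoneda_iso
    ((ModSite.quotOn O U).obj (ModSite.unit O)) p
  obtain ⟨e'⟩ := HZIndep.nonempty_ext_addEquiv O U X p
  exact ⟨e.app X ≪≫
    AddEquiv.toAddCommGrpIso (X := AddCommGrpCat.of _) (Y := AddCommGrpCat.of _) e'⟩

end Groth.Agent.Lib.Helper6.ExtSuppSS
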