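import Groth.Agent.Lib.Helper6.HZshRestrict
import Groth.Agent.Lib.Helper1.RestrExact

/-!
# `ℋ^q_Z` commutes with localisation on a ringed site (helper6)
-/

set_option autoImplicit false
universe u
open CategoryTheory CategoryTheory.Limits Opposite

namespace Groth.Agent.Lib.Helper6.HZshRestr

open Groth.Agent.Lib.Helper1 Groth.Agent.Lib.Helper1.RestrExact HZshRestrict

variable {C : Type u} [SmallCategory C] {J : GrothendieckTopology C}
  (O : Sheaf J CommRingCat.{u}) [HasBinaryProducts C] (U X : C)

/-- the object `U × X ⟶ X` of `C/X` -/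
noncomputable abbrev U' : Over X := Over.mk (Limits.prod.snd : U ⨯ X ⟶ X)

lemma restr_restr_map_eq_zero {M N : ModSite.Mod O} (ψ : M ⟶ N)
    (h : (ModSite.restr O U).map ψ = 0) :
    (ModSite.restr (O.over X) (U' U X)).map ((ModSite.restr O X).map ψ) = 0 := by
  rw [restr_map_eq_zero_iff] at h ⊢
  intro W k x
  exact h W.left (k.left ≫ Limits.prod.fst) x

variable [ModSite.HasPushOver (O.over X) (U' U X)]

/-- the comparison `(Γ_Z M)|_X ⟶ Γ_{Z/X}(M|_X)` -/
noncomputable def j (M : ModSite.Mod O) :
    (ModSite.restr O X).obj ((ModSite.sectOn O U).obj M) ⟶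
      (ModSite.sectOn (O.over X) (U' U X)).obj ((ModSite.restr O X).obj M) :=
  QuotSect.liftS (O.over X) (U' U X) ((ModSite.restr O X).map ((ModSite.sectOnι O U).app M))
    (restr_restr_map_eq_zero O U X _ (by
      have := QuotSect.restr_comp_ι O U (𝟙 ((ModSite.sectOn O U).obj M))
      rwa [Category.id_comp] at this))

@[reassoc (attr := simp)]
lemma j_ι (M : ModSite.Mod O) :
    j O U X M ≫ (ModSite.sectOnι (O.over X) (U' U X)).app ((ModSite.restr O X).obj M) =
      (ModSite.restr O X).map ((ModSite.sectOnι O U).app M) :=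
  QuotSect.liftS_ι (O.over X) (U' U X) _ _

instance mono_j (M : ModSite.Mod O) : Mono (j O U X M) := by
  have : Mono ((ModSite.restr O X).map ((ModSite.sectOnι O U).app M)) := inferInstance
  exact mono_of_mono_fac (j_ι O U X M)

lemma j_naturality {M N : ModSite.Mod O} (g : M ⟶ N) :
    (ModSite.restr O X).map ((ModSite.sectOn O U).map g) ≫ j O U X N =
      j O U X M ≫ (ModSite.sectOn (O.over X) (U' U X)).map ((ModSite.restr O X).map g) := by
  rw [← cancel_mono ((ModSite.sectOnι (O.over X) (U' U X)).app ((ModSite.restr O X).obj N)),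
    Category.assoc, Category.assoc, j_ι]
  have nat : (ModSite.sectOn (O.over X) (U' U X)).map ((ModSite.restr O X).map g) ≫
      (ModSite.sectOnι (O.over X) (U' U X)).app ((ModSite.restr O X).obj N) =
      (ModSite.sectOnι (O.over X) (U' U X)).app ((ModSite.restr O X).obj M) ≫
        (ModSite.restr O X).map g :=
    (ModSite.sectOnι (O.over X) (U' U X)).naturality ((ModSite.restr O X).map g)
  have nat' : (ModSite.sectOn O U).map g ≫ (ModSite.sectOnι O U).app N =
      (ModSite.sectOnι O U).app M ≫ g := (ModSite.sectOnι O U).naturality g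
  rw [nat, j_ι_assoc, ← Functor.map_comp, ← Functor.map_comp, nat']

instance epi_j (M : ModSite.Mod O) : Epi (j O U X M) := by
  apply SectOnEpi.epi_of_forall_lift
  intro V b
  have hb0 : (ModSite.restr (O.over X) (U' U X)).map
      (b ≫ (ModSite.sectOnι (O.over X) (U' U X)).app ((ModSite.restr O X).obj M)) = 0 :=
    QuotSect.restr_comp_ι (O.over X) (U' U X) b
  -- the section of `b`, as a section of `M` over `V.left`
  have hs : ∃ s' : M.val.obj (op V.left),
      (∀ (W : C) (w : W ⟶ V.left), Nonempty (W ⟶ U) → M.val.map w.op s' = 0) ∧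
      ∀ t' : ((ModSite.sectOn O U).obj M).val.obj (op V.left),
        ((ModSite.sectOnι O U).app M).val.app (op V.left) t' = s' →
        ((ModSite.restr O X).map ((ModSite.sectOnι O U).app M)).val.app (op V) t' =
          ModSiteFree.homEquiv (O.over X) V _
            (b ≫ (ModSite.sectOnι (O.over X) (U' U X)).app ((ModSite.restr O X).obj M)) :=
    ⟨ModSiteFree.homEquiv (O.over X) V _
        (b ≫ (ModSite.sectOnι (O.over X) (U' U X)).app ((ModSite.restr O X).obj M)),
      fun W w ⟨k⟩ => SectOnEpi.map_homEquiv_eq_zero (O.over X) V (U' U X) _ hb0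
        (W := Over.mk (w ≫ V.hom)) (Over.homMk w)
        ⟨Over.homMk (prod.lift k (w ≫ V.hom)) (prod.lift_snd _ _)⟩,
      fun t' ht' => ht'⟩
  obtain ⟨s', hs', hs''⟩ := hs
  let a' : ModSite.freeOn O V.left ⟶ M := (ModSiteFree.homEquiv O V.left M).symm s'
  have ha' : (ModSite.restr O U).map a' = 0 := by
    apply SectOnEpi.restr_eq_zero_of_vanish
    intro W w hw
    rw [Equiv.apply_symm_apply]
    exact hs' W w hw
  let l := QuotSect.liftS O U a' ha'
  have hl : l ≫ (ModSite.sectOnι O U).app M = a' := QuotSect.liftS_ι O U a' ha'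
  let t' := ModSiteFree.homEquiv O V.left _ l
  have ht' : ((ModSite.sectOnι O U).app M).val.app (op V.left) t' = s' := by
    have := ModSiteFree.homEquiv_comp O V.left l ((ModSite.sectOnι O U).app M)
    rw [hl] at this
    have h3 : ModSiteFree.homEquiv O V.left M a' = s' := Equiv.apply_symm_apply _ _
    exact this.symm.trans h3
  have hex : ∃ a : ModSite.freeOn (O.over X) V ⟶
        (ModSite.restr O X).obj ((ModSite.sectOn O U).obj M),
      ((ModSite.restr O X).map ((ModSite.sectOnι O U).app M)).val.app (op V)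
        (ModSiteFree.homEquiv (O.over X) V _ a) =
      ModSiteFree.homEquiv (O.over X) V _
        (b ≫ (ModSite.sectOnι (O.over X) (U' U X)).app ((ModSite.restr O X).obj M)) :=
    ⟨(ModSiteFree.homEquiv (O.over X) V
        ((ModSite.restr O X).obj ((ModSite.sectOn O U).obj M))).symm t', by
      have key : ∀ t : ((ModSite.restr O X).obj ((ModSite.sectOn O U).obj M)).val.obj (op V),
          ModSiteFree.homEquiv (O.over X) V _ ((ModSiteFree.homEquiv (O.over X) V _).symm t) = t :=
        fun t => Equiv.apply_symm_apply _ t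
      exact (congrArg (fun z => ((ModSite.restr O X).map
        ((ModSite.sectOnι O U).app M)).val.app (op V) z) (key t')).trans (hs'' t' ht')⟩
  obtain ⟨a, ha⟩ := hex
  refine ⟨a, ?_⟩
  rw [← cancel_mono ((ModSite.sectOnι (O.over X) (U' U X)).app ((ModSite.restr O X).obj M)),
    Category.assoc, j_ι]
  apply (ModSiteFree.homEquiv (O.over X) V _).injective
  rw [ModSiteFree.homEquiv_comp]
  exact ha

instance isIso_j (M : ModSite.Mod O) : IsIso (j O U X M) := isIso_of_mono_of_epi _

/-- `Γ_Z` commutes with localisation -/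
noncomputable def sectOnRestrIso :
    ModSite.sectOn O U ⋙ ModSite.restr O X ≅
      ModSite.restr O X ⋙ ModSite.sectOn (O.over X) (U' U X) :=
  NatIso.ofComponents (fun M => asIso (j O U X M)) (fun g => j_naturality O U X g)

variable [HasInjectiveResolutions (ModSite.Mod O)]
  [HasInjectiveResolutions (ModSite.Mod (O.over X))]

/-- `ℋ^q_Z` commutes with localisation -/
theorem nonempty_HZsh_restr_iso (q : ℕ) :
    Nonempty (ModSite.HZsh O U q ⋙ ModSite.restr O X ≅
      ModSite.restr O X ⋙ ModSite.HZsh (O.over X) (U' U X) q) := by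
  have hEI : EnoughInjectives (ModSite.Mod O) :=
    GrothSS.enoughInjectives_of_hasInjectiveResolutions
  have hEI' : EnoughInjectives (ModSite.Mod (O.over X)) :=
    GrothSS.enoughInjectives_of_hasInjectiveResolutions
  obtain ⟨e₁⟩ := nonempty_rightDerived_postcomp_iso (ModSite.restr O X) (ModSite.sectOn O U) q
  let e₂ : (ModSite.sectOn O U ⋙ ModSite.restr O X).rightDerived q ≅
      (ModSite.restr O X ⋙ ModSite.sectOn (O.over X) (U' U X)).rightDerived q :=
    GrothSS.rightDerivedIsoOfIso (sectOnRestrIso O U X) q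
  obtain ⟨e₃⟩ := RDCompExact.nonempty_rightDerived_comp_iso (ModSite.restr O X)
    (ModSite.sectOn (O.over X) (U' U X)) q
  exact ⟨e₁.symm ≪≫ e₂ ≪≫ e₃⟩

end Groth.Agent.Lib.Helper6.HZshRestr
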