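import Groth.Prelude.Def_ExtSupp
import Groth.Agent.Lib.Helper6.QuotExact
import Groth.Agent.Lib.Helper6.QuotSect
import Groth.Agent.Lib.Helper6.SubtermUnit
import Groth.Agent.Lib.Helper6.ExtAdj
import Groth.Agent.Lib.Helper6.ExtChgUniv
import Groth.Agent.Lib.Helper6.HZshRestr
import Groth.Agent.Lib.Helper1.RestrExact
import Groth.Agent.Lib.Helper8.SheafModGroth

/-!
# Excision for Ext with supports on a ringed site (helper6)

`U`, `V` cover the site, `V` subterminal.  Then `Q = M/M_U` satisfies `j_{V!}(Q|_V) ≅ Q`,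
`Q|_V ≅ (M|_V)/(M|_V)_{U×V}`, hence `Ext^i_Z(M, N) ≃+ Ext^i_Z(V; M|_V, N|_V)`.
-/

set_option autoImplicit false
universe w' w u
open CategoryTheory CategoryTheory.Limits Opposite

namespace Groth.Agent.Lib.Helper6.ExtZExcise

open Groth.Agent.Lib.Helper1 Groth.Agent.Lib.Helper1.RestrExact QuotSect QuotExact

variable {C : Type u} [SmallCategory C] {J : GrothendieckTopology C}
  (O : Sheaf J CommRingCat.{u})

/-- `M/M_U` is null on `U` (no `HasPushOver` binder) -/
theorem isNullOn_quotOn (U : C) (M : ModSite.Mod O) :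
    ModSite.IsNullOn O U ((ModSite.quotOn O U).obj M) := by
  let adj := ModSite.extZeroAdj O U
  have hsplit : adj.unit.app ((ModSite.restr O U).obj M) ≫ (ModSite.restr O U).map (adj.counit.app M) = 𝟙 _ :=
    adj.right_triangle_components M
  have : Epi ((ModSite.restr O U).map (adj.counit.app M)) := by
    have : IsSplitEpi ((ModSite.restr O U).map (adj.counit.app M)) := ⟨⟨⟨_, hsplit⟩⟩⟩
    infer_instance
  exact (isZero_cokernel_of_epi ((ModSite.restr O U).map (adj.counit.app M))).of_iso
    (PreservesCokernel.iso (ModSite.restr O U) (adj.counit.app M))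

/-- a cokernel of a map from a torsion object, null on `U`, is `quotOn` (no `HasPushOver` binder) -/
theorem nonempty_iso_quotOn (U : C) {Y X Q : ModSite.Mod O} (g : Y ⟶ X) (p : X ⟶ Q) (w : g ≫ p = 0)
    (hc : IsColimit (CokernelCofork.ofπ p w)) (hY : IsTors O U Y)
    (hQ : ModSite.IsNullOn O U Q) : Nonempty (Q ≅ (ModSite.quotOn O U).obj X) := by
  haveI : Epi p := epi_of_isColimit_cofork hc
  obtain ⟨a, ha⟩ := CokernelCofork.IsColimit.desc' hc ((ModSite.quotOnπ O U).app X)
      (hY _ (isNullOn_quotOn O U X) _)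
  let b : (ModSite.quotOn O U).obj X ⟶ Q :=
    cokernel.desc _ p (counit_comp_eq_zero_of_isNullOn O U p hQ)
  have hb : (ModSite.quotOnπ O U).app X ≫ b = p := cokernel.π_desc _ _ _
  have ha' : p ≫ a = (ModSite.quotOnπ O U).app X := ha
  haveI : Epi ((ModSite.quotOnπ O U).app X) := by
    show Epi (cokernel.π _); infer_instance
  refine ⟨⟨a, b, ?_, ?_⟩⟩
  · rw [← cancel_epi p, reassoc_of% ha', hb, Category.comp_id]
  · rw [← cancel_epi ((ModSite.quotOnπ O U).app X), reassoc_of% hb, ha', Category.comp_id]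

section Cover

variable [HasBinaryProducts C] (U V : C)
  (hUV : J.CoversTop (fun b : Bool => cond b U V))

include hUV in
/-- a module null on `U` satisfies (LC) for `V` when `U`, `V` cover -/
lemma LC_of_isNullOn {Q : ModSite.Mod O} (hQ : ModSite.IsNullOn O U Q) : LC O V Q := by
  have hQ' := (ExtSupp.isNullOn_iff O U Q).1 hQ
  intro T t
  refine ⟨_, hUV T, ?_⟩
  intro W g hg
  obtain ⟨b, ⟨k⟩⟩ := hg
  cases b with
  | true => exact Or.inr (hQ' k _)
  | false => exact Or.inl ⟨k⟩

end Cover

section Restr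

variable [HasBinaryProducts C] (U V : C)

/-- (LC) for `U` restricts to (LC) for `U × V ⟶ V` on `C/V` -/
lemma LC_restr {T : ModSite.Mod O} (hT : LC O U T) :
    LC (O.over V) (HZshRestr.U' U V) ((ModSite.restr O V).obj T) := by
  intro A t
  obtain ⟨S, hS, h⟩ := hT A.left t
  refine ⟨(Sieve.overEquiv A).symm S, ?_, ?_⟩
  · rw [GrothendieckTopology.mem_over_iff]
    have : (Sieve.overEquiv A) ((Sieve.overEquiv A).symm S) = S := (Sieve.overEquiv A).apply_symm_apply S
    rw [this]
    exact hS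
  · intro B g hg
    have hg' : S g.left := (Sieve.overEquiv_symm_iff S g).1 hg
    rcases h g.left hg' with ⟨⟨k⟩⟩ | h0
    · exact Or.inl ⟨Over.homMk (prod.lift k B.hom) (prod.lift_snd _ _)⟩
    · exact Or.inr h0

/-- null on `U` restricts to null on `U × V ⟶ V` -/
lemma isNullOn_restr {Q : ModSite.Mod O} (hQ : ModSite.IsNullOn O U Q) :
    ModSite.IsNullOn (O.over V) (HZshRestr.U' U V) ((ModSite.restr O V).obj Q) := by
  have hQ' := (ExtSupp.isNullOn_iff O U Q).1 hQ
  rw [ExtSupp.isNullOn_iff]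
  intro A k x
  exact hQ' (k.left ≫ prod.fst) x

/-- `(M/M_U)|_V ≅ (M|_V)/(M|_V)_{U×V}` -/
theorem nonempty_restr_quotOn_iso (M : ModSite.Mod O) :
    Nonempty ((ModSite.restr O V).obj ((ModSite.quotOn O U).obj M) ≅
      (ModSite.quotOn (O.over V) (HZshRestr.U' U V)).obj ((ModSite.restr O V).obj M)) := by
  let g := (ModSite.extZeroAdj O U).counit.app M
  let p := (ModSite.quotOnπ O U).app M
  have w : g ≫ p = 0 := cokernel.condition _
  have hc : IsColimit (CokernelCofork.ofπ p w) := cokernelIsCokernel g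
  have hc' := CokernelCofork.mapIsColimit _ hc (ModSite.restr O V)
  refine nonempty_iso_quotOn (O.over V) (HZshRestr.U' U V) ((ModSite.restr O V).map g)
    ((ModSite.restr O V).map p) (by rw [← Functor.map_comp, w, Functor.map_zero]) ?_ ?_ ?_
  · exact hc'
  · exact isTors_of_LC (LC_restr O U V (LC_extZero _))
  · exact isNullOn_restr O U V (isNullOn_quotOn O U M)

end Restr

section Main

variable [HasBinaryProducts C] (U V : C)
  (hV : ∀ X : C, Subsingleton (X ⟶ V)) (hUV : J.CoversTop (fun b : Bool => cond b U V))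

include hV hUV in
/-- a module null on `U` is extended by zero from `V` -/
lemma isIso_counit_of_isNullOn {Q : ModSite.Mod O} (hQ : ModSite.IsNullOn O U Q) :
    IsIso ((ModSite.extZeroAdj O V).counit.app Q) := by
  haveI := SubtermUnit.mono_extZeroAdj_counit_app O V hV Q
  haveI := epi_counit_of_isTors (isTors_of_LC (LC_of_isNullOn O U V hUV hQ))
  exact isIso_of_mono_of_epi _

include hV hUV in
/-- **excision for Ext with supports** -/
theorem nonempty_addEquiv [HasExt.{w} (ModSite.Mod O)] [HasExt.{w'} (ModSite.Mod (O.over V))]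
    (M N : ModSite.Mod O) (i : ℕ) :
    Nonempty (ExtSupp.ExtZ U M N i ≃+
      ExtSupp.ExtZover V (Over.mk (prod.snd : U ⨯ V ⟶ V)) M N i) := by
  haveI : HasExt.{max w w'} (ModSite.Mod O) := ExtChgUniv.hasExt_max.{w, w'}
  haveI : HasExt.{max w w'} (ModSite.Mod (O.over V)) := ExtChgUniv.hasExt_max.{w', w}
  haveI : EnoughInjectives (ModSite.Mod O) :=
    Groth.Agent.Lib.Helper8.SheafModGroth.enoughInjectives J (ModSite.ringSh O)
  let Q := (ModSite.quotOn O U).obj M
  haveI := isIso_counit_of_isNullOn O U V hV hUV (isNullOn_quotOn O U M)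
  let e₁ : (ModSite.extZero O V).obj ((ModSite.restr O V).obj Q) ≅ Q :=
    asIso ((ModSite.extZeroAdj O V).counit.app Q)
  obtain ⟨e₂⟩ := nonempty_restr_quotOn_iso O U V M
  obtain ⟨e⟩ := ExtAdj.nonempty_ext_addEquiv.{max w w'}
    (ModSite.extZeroAdj O V) ((ModSite.restr O V).obj Q) N i
  -- transport along the isomorphisms in the first variable
  let f₁ : Abelian.Ext.{max w w'} Q N i ≃+
      Abelian.Ext.{max w w'} ((ModSite.extZero O V).obj ((ModSite.restr O V).obj Q)) N i :=
    (((Abelian.extFunctor.{max w w'} i).mapIso e₁.op).app N).addCommGroupIsoToAddEquiv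
  let f₂ : Abelian.Ext.{max w w'} ((ModSite.restr O V).obj Q) ((ModSite.restr O V).obj N) i ≃+
      Abelian.Ext.{max w w'} ((ModSite.quotOn (O.over V) (HZshRestr.U' U V)).obj
        ((ModSite.restr O V).obj M)) ((ModSite.restr O V).obj N) i :=
    (((Abelian.extFunctor.{max w w'} i).mapIso e₂.symm.op).app
      ((ModSite.restr O V).obj N)).addCommGroupIsoToAddEquiv
  exact ⟨(ExtChgUniv.chgUnivAddEquiv.{w, max w w'}).trans
    (f₁.trans (e.trans (f₂.trans (ExtChgUniv.chgUnivAddEquiv.{max w w', w'}))))⟩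

end Main

end Groth.Agent.Lib.Helper6.ExtZExcise
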