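import Groth.Agent.Lib.Helper6.TensAQuotB
import Groth.Agent.Lib.Helper6.FibreLinkD
import Groth.Agent.Lib.Helper6.GrothLocalB
import Groth.Agent.Lib.helper11.TFunLocal2
import Mathlib
set_option backward.isDefEq.respectTransparency.types false
set_option autoImplicit false
set_option linter.style.haveILetI false
set_option linter.unusedSectionVars false
universe u
attribute [local instance] HasDerivedCategory.standard
open AlgebraicGeometry CategoryTheory CategoryTheory.Limits

/-!
# Lifting cohomology classes along `F ⟶ F / m^(p+1) F` over a local base (helper6)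
-/

namespace Groth.Agent.Lib.Helper6.TensAQuot

theorem toHHmodPow_surjective (A : Type u) [CommRing A] [IsNoetherianRing A]
    [IsLocalRing A] (X : Scheme.{u}) [X.Over (Spec (CommRingCat.of A))]
    [IsProper (X ↘ Spec (CommRingCat.of A))] (F : X.Modules) (hF : Coh.IsCoh F)
    (hfl : FlatMod.IsFlatOver (X ↘ Spec (CommRingCat.of A)) F) (n : ℕ)
    (hvan : Subsingleton (CohIII.fiberH (X ↘ Spec (CommRingCat.of A)) F (IsLocalRing.closedPoint A) (n + 1)))
    (p : ℕ) :
    Function.Surjective (Formal.toHHmodPow (IsLocalRing.maximalIdeal A) F n p) := by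
  obtain ⟨L, t, hL1, hL2, hL3, hbc⟩ :=
    Groth.Agent.Lib.Helper6.FibreLink.exists_grothendieck_complex_fibre A X F hF hfl
  haveI : F.IsQuasicoherent := hF.1
  have hP : ∀ i, Module.Finite A (L.X i) ∧ Module.Flat A (L.X i) :=
    fun i => ⟨(hL1 i).1, haveI := (hL1 i).2; inferInstance⟩
  have hflat : ∀ i, Module.Flat A (L.X i) := fun i => (hP i).2
  have hk0 := (Groth.Agent.Lib.Helper6.FibreLink.isZero_TFun_residueField_iff F L hbc (n + 1)
    (IsLocalRing.closedPoint A)).2 hvan
  have hcast : ((n + 1 : ℕ) : ℤ) = (n : ℤ) + 1 := by push_cast; rfl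
  rw [hcast] at hk0
  have hk : IsZero ((CohIII.TFun L ((n : ℤ) + 1)).obj
      (ModuleCat.of A (IsLocalRing.ResidueField A))) :=
    ((CohIII.TFun L ((n : ℤ) + 1)).mapIso
      (Groth.Agent.Lib.Helper6.GrothLocal.resFieldIso A)).isZero_iff.2 hk0
  have hq0 := Groth.Agent.Lib.helper11.TFunLocal.isZero_of_isZero_residueField L hP ((n : ℤ) + 1)
    ((n : ℤ) + 1 + 1) rfl hk
  have hqm : (CohIII.TFun L ((n : ℤ) + 1)).PreservesMonomorphisms :=
    ⟨fun {M N} g _ => ⟨fun a b _ => (hq0 M).eq_of_tgt a b⟩⟩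
  have hpe : (CohIII.TFun L (n : ℤ)).PreservesEpimorphisms :=
    (Groth.Agent.Lib.helper11.TFunBasic.preservesEpi_iff_preservesMono L hflat (n : ℤ) ((n : ℤ) + 1)
      rfl).mpr hqm
  have hpe' : (CohIII.tensorAFunctor A F ⋙ CohIII.HAb X n).PreservesEpimorphisms := by
    obtain ⟨α⟩ := hL3 n
    rw [Functor.PreservesEpimorphisms.iso_iff α]
    infer_instance
  obtain ⟨eA, eQ, hcomm⟩ := Groth.Agent.Lib.Helper6.TensAQuot.exists_iso_modPow A F
    (IsLocalRing.maximalIdeal A) (p + 1)
  let q : ModuleCat.of A A ⟶ ModuleCat.of A (A ⧸ IsLocalRing.maximalIdeal A ^ (p + 1)) :=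
    ModuleCat.ofHom (Submodule.mkQ (IsLocalRing.maximalIdeal A ^ (p + 1)))
  haveI : Epi q := (ModuleCat.epi_iff_surjective q).2 (Submodule.mkQ_surjective _)
  have hepi : Epi ((CohIII.tensorAFunctor A F ⋙ CohIII.HAb X n).map q) := inferInstance
  have hsurj : Function.Surjective ((CohIII.tensorAFunctor A F ⋙ CohIII.HAb X n).map q).hom :=
    (AddCommGrpCat.epi_iff_surjective _).1 hepi
  have hπ : Formal.modPowπ (IsLocalRing.maximalIdeal A) (p + 1) F =
      eA.inv ≫ (CohIII.tensorAFunctor A F).map q ≫ eQ.hom := by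
    rw [hcomm, Iso.inv_hom_id_assoc]
  have hmap : (CohIII.HAb X n).map (Formal.modPowπ (IsLocalRing.maximalIdeal A) (p + 1) F) =
      (CohIII.HAb X n).map eA.inv ≫ (CohIII.tensorAFunctor A F ⋙ CohIII.HAb X n).map q ≫
        (CohIII.HAb X n).map eQ.hom := by
    rw [hπ, Functor.map_comp, Functor.map_comp]
    rfl
  have hfin : Function.Surjective
      ((CohIII.HAb X n).map (Formal.modPowπ (IsLocalRing.maximalIdeal A) (p + 1) F)).hom := by
    rw [hmap]
    have b1 : Function.Bijective ((CohIII.HAb X n).map eA.inv).hom :=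
      ConcreteCategory.bijective_of_isIso ((CohIII.HAb X n).map eA.inv)
    have b2 : Function.Bijective ((CohIII.HAb X n).map eQ.hom).hom :=
      ConcreteCategory.bijective_of_isIso ((CohIII.HAb X n).map eQ.hom)
    intro z
    obtain ⟨z1, hz1⟩ := b2.2 z
    obtain ⟨z2, hz2⟩ := hsurj z1
    obtain ⟨z3, hz3⟩ := b1.2 z2
    refine ⟨z3, ?_⟩
    change ((CohIII.HAb X n).map eQ.hom).hom (((CohIII.tensorAFunctor A F ⋙ CohIII.HAb X n).map q).hom
      (((CohIII.HAb X n).map eA.inv).hom z3)) = z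
    rw [hz3, hz2, hz1]
  exact hfin

end Groth.Agent.Lib.Helper6.TensAQuot
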