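import Groth.Agent.Lib.Helper21.ThickDict4
import Groth.Agent.Lib.Helper6.TensAQuotC
import Groth.Agent.Lib.Helper6.FibreGlueB
import Groth.Agent.Lib.Helper4.VanClass
import Groth.Agent.Lib.Helper17.FlatDict
import Mathlib

/-!
# Invertible modules trivial on the closed fibre (helper6)

`X` proper and flat over a noetherian local ring `A`, `H^1(X_0, O_{X_0}) = 0`: an invertible module whose
restriction to the closed fibre `X_0` is trivial is trivial.
-/

set_option backward.isDefEq.respectTransparency.types false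
set_option autoImplicit false
set_option linter.style.haveILetI false
set_option linter.unusedSectionVars false
universe u
open CategoryTheory CategoryTheory.Limits AlgebraicGeometry Opposite TopologicalSpace

noncomputable section
namespace Groth.Agent.Lib.Helper6.PicFibre

open Formal Groth.Agent.Lib.Helper23.FQuot Groth.Agent.Lib.Helper28 Groth.Agent.Lib.Helper28.QCohLoc
  Groth.Agent.Lib.Helper28.GenLocus Groth.Agent.Lib.Helper28.PullbackInv
  Groth.Agent.Lib.Helper21.ThickDict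

/-- an invertible module on a scheme flat over `S` is flat over `S` -/
theorem isFlatOver_of_isInvertible {X S : Scheme.{u}} (f : X ⟶ S) [Flat f] (N : X.Modules)
    (hN : PicF.IsInvertible N) [N.IsQuasicoherent] : FlatMod.IsFlatOver f N := by
  intro x
  obtain ⟨V, hV, hxV, -⟩ := Opens.isBasis_iff_nbhd.mp S.isBasis_affineOpens
    (show f x ∈ (⊤ : S.Opens) from trivial)
  obtain ⟨U₁, g₁, hxU₁, hg₁⟩ := exists_isGen N hN x
  obtain ⟨W, hW, hxW, hWle⟩ := Opens.isBasis_iff_nbhd.mp X.isBasis_affineOpens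
    (show x ∈ f ⁻¹ᵁ V ⊓ U₁ from ⟨hxV, hxU₁⟩)
  have hWV : W ≤ f ⁻¹ᵁ V := hWle.trans inf_le_left
  have hWU : W ≤ U₁ := hWle.trans inf_le_right
  have h1 : (f.appLE V W hWV).hom.Flat :=
    HasRingHomProperty.appLE @Flat f inferInstance ⟨V, hV⟩ ⟨W, hW⟩ hWV
  have hg : IsGen N W (res N hWU g₁) := hg₁.res hWU
  refine (Groth.Agent.Lib.Helper17.FlatDict.flat_sections_iff f N hW hV hWV).1 ?_ x hxW
  letI : Algebra Γ(S, V) Γ(X, W) := (f.appLE V W hWV).hom.toAlgebra
  letI : Module Γ(S, V) Γ(N, W) := Module.compHom Γ(N, W) (f.appLE V W hWV).hom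
  haveI : Module.Flat Γ(S, V) Γ(X, W) := h1
  have hb := hg W le_rfl
  let e : Γ(X, W) ≃ₗ[Γ(S, V)] Γ(N, W) :=
    { Equiv.ofBijective _ hb with
      map_add' := fun a b => add_smul a b _
      map_smul' := fun r a => by
        change (((f.appLE V W hWV).hom r * a) • res N le_rfl (res N hWU g₁) : Γ(N, W)) =
          ((f.appLE V W hWV).hom r • (a • res N le_rfl (res N hWU g₁) : Γ(N, W)) : Γ(N, W))
        rw [mul_smul] }
  exact Module.Flat.of_linearEquiv e.symm

/-- **S11764** (no completeness needed) -/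
theorem nonempty_iso_structureModule (A : Type u) [CommRing A] [IsLocalRing A] [IsNoetherianRing A]
    (X : Scheme.{u}) [X.Over (Spec (CommRingCat.of A))] [IsProper (X ↘ Spec (CommRingCat.of A))]
    [Flat (X ↘ Spec (CommRingCat.of A))]
    (h1 : Subsingleton (Coh.HH (pullback (X ↘ Spec (CommRingCat.of A))
      (Spec.map (CommRingCat.ofHom (Ideal.Quotient.mk (IsLocalRing.maximalIdeal A)))))
      (Coh.structureModule _) 1))
    (N : X.Modules) (hN : PicF.IsInvertible N)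
    (hε : Nonempty ((Scheme.Modules.pullback (tι (Y := X) (IsLocalRing.maximalIdeal A))).obj N ≅
      Coh.structureModule _)) :
    Nonempty (N ≅ Coh.structureModule X) := by
  set 𝔪 := IsLocalRing.maximalIdeal A with h𝔪
  haveI : IsLocallyNoetherian X :=
    LocallyOfFiniteType.isLocallyNoetherian (X ↘ Spec (CommRingCat.of A))
  haveI : CompactSpace X := QuasiCompact.compactSpace_of_compactSpace (X ↘ Spec (CommRingCat.of A))
  haveI : IsNoetherian X := { }
  have hNc : Coh.IsCoh N := Groth.Agent.Lib.Helper6.K0Op.isCoh_of_isInvertible N hN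
  haveI : N.IsQuasicoherent := hNc.1
  have hfl : FlatMod.IsFlatOver (X ↘ Spec (CommRingCat.of A)) N :=
    isFlatOver_of_isInvertible _ N hN
  obtain ⟨ε⟩ := hε
  -- vanishing of `H^1` of the closed fibre
  let K := A ⧸ 𝔪
  letI : Field K := Ideal.Quotient.field 𝔪
  let ψ : Spec (CommRingCat.of K) ⟶ Spec (CommRingCat.of A) :=
    Spec.map (CommRingCat.ofHom (Ideal.Quotient.mk 𝔪))
  letI : (pullback (X ↘ Spec (CommRingCat.of A)) ψ).Over (Spec (CommRingCat.of K)) :=
    ⟨pullback.snd _ _⟩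
  have hsq : IsPullback (tι (Y := X) 𝔪) (pullback (X ↘ Spec (CommRingCat.of A)) ψ ↘ Spec (CommRingCat.of K))
      (X ↘ Spec (CommRingCat.of A)) ψ := IsPullback.of_hasPullback _ _
  have hpt : ψ (IsLocalRing.closedPoint K) = IsLocalRing.closedPoint A := by
    apply PrimeSpectrum.ext
    change Ideal.comap (Ideal.Quotient.mk 𝔪) (IsLocalRing.maximalIdeal K) = 𝔪
    rw [IsLocalRing.maximalIdeal_eq_bot, ← RingHom.ker_eq_comap_bot, Ideal.mk_ker]
  have hvan : Subsingleton (CohIII.fiberH (X ↘ Spec (CommRingCat.of A)) N (IsLocalRing.closedPoint A) 1) := by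
    have h2 := (Groth.Agent.Lib.Helper6.FibreGlue.subsingleton_iff_of_point (X ↘ Spec (CommRingCat.of A)) N 1
      K ψ _ (tι (Y := X) 𝔪) hsq).1
      (Groth.Agent.Lib.Helper4.VanClass.subsingleton_HH_of_iso ε.symm 1 h1)
    rwa [hpt] at h2
  have hsurj := Groth.Agent.Lib.Helper6.TensAQuot.toHHmodPow_surjective A X N hNc hfl 0 hvan 0
  -- the dictionary `N / 𝔪 N ≅ ι_* ι^* N`
  have hq : IsQuot 𝔪 (modPowπ 𝔪 1 N) := by
    have := isQuot_modPowπ 𝔪 1 N
    rwa [pow_one] at this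
  have hfg : 𝔪.FG := Groth.Agent.Lib.Lead.FormalC.fg 𝔪
  have hN₀ : Coh.IsCoh (modPow 𝔪 1 N) :=
    Groth.Agent.Lib.Lead.FormalA.isCoh_of_isQuot hfg _ hNc hq
  haveI : (modPow 𝔪 1 N).IsQuasicoherent := hN₀.1
  obtain ⟨θ, hθ⟩ := exists_unit_fac 𝔪 N _ hq
  haveI : IsIso θ := isIso_of_unit_fac 𝔪 N hN _ hq θ hθ
  have ht := isGen_secOf_inv _ ε
  let t' : Γ((Scheme.Modules.pullback (tι (Y := X) 𝔪)).obj N, (tι (Y := X) 𝔪) ⁻¹ᵁ ⊤) :=
    res _ (le_top : (tι (Y := X) 𝔪) ⁻¹ᵁ ⊤ ≤ ⊤) (secOf ε.inv)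
  have ht' : IsGen _ ((tι (Y := X) 𝔪) ⁻¹ᵁ ⊤) t' := ht.res le_top
  let τ : Γ(modPow 𝔪 1 N, ⊤) := (inv θ).app ⊤ t'
  have hτ : θ.app ⊤ τ = t' := by
    have h1 : (inv θ ≫ θ).app ⊤ t' = t' := by rw [IsIso.inv_hom_id]; rfl
    exact h1
  have hrange : LinearMap.range (Canon.HHlin A (𝟙 (modPow 𝔪 1 N)) 0) ≤
      LinearMap.range (Canon.HHlin A (modPowπ 𝔪 1 N) 0) := by
    intro x _
    obtain ⟨z, hz⟩ := hsurj x
    exact ⟨z, hz⟩
  obtain ⟨σ, hσ⟩ := Groth.Agent.Lib.Helper21.ZarConn.exists_section_of_range_le (A := A)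
    (modPowπ 𝔪 1 N) (𝟙 (modPow 𝔪 1 N)) hrange τ
  have hall : ∀ y : X, 𝔪 ≤ ((X ↘ Spec (CommRingCat.of A)) y).asIdeal →
      y ∈ CohB1.genLocus N (TwistGen.ofSection N σ) := by
    intro y hy
    refine mem_genLocus_of_le 𝔪 𝔪 hfg N hN (modPowπ 𝔪 1 N) hq (modPowπ 𝔪 1 N) hq le_rfl
      (𝟙 (modPow 𝔪 1 N)) (Category.comp_id _) θ hθ τ ?_ σ hσ y hy
    rw [hτ]; exact ht'
  have htop := eq_top_of_preimage_zeroLocus_le (X ↘ Spec (CommRingCat.of A)) 𝔪 le_rfl
    (X ↘ Spec (CommRingCat.of A)).isClosedMap _ hall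
  haveI := isIso_of_genLocus_eq_top _ htop
  exact ⟨(asIso (TwistGen.ofSection N σ)).symm⟩

/-- **S11764**, in the form of the statement -/
theorem picPullbackInjective (A : Type u) [CommRing A] [IsLocalRing A] [IsNoetherianRing A]
    {X : Scheme.{u}} (f : X ⟶ Spec (CommRingCat.of A)) [IsProper f] [Flat f]
    (h1 : Subsingleton (Coh.HH (pullback f (Spec.map (CommRingCat.ofHom (IsLocalRing.residue A))))
      (Coh.structureModule _) 1)) :
    Formal2.PicPullbackInjective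
      (pullback.fst f (Spec.map (CommRingCat.ofHom (IsLocalRing.residue A)))) := by
  intro N hN hε
  letI : X.Over (Spec (CommRingCat.of A)) := ⟨f⟩
  haveI : IsProper (X ↘ Spec (CommRingCat.of A)) := ‹IsProper f›
  haveI : Flat (X ↘ Spec (CommRingCat.of A)) := ‹Flat f›
  exact nonempty_iso_structureModule A X h1 N hN hε

end Groth.Agent.Lib.Helper6.PicFibre
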