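import Groth.Agent.Lib.Helper6.HomBC
import Groth.Agent.Lib.Helper6.PicFibreA
import Groth.Agent.Lib.Helper17.FFLocFree
import Groth.Agent.Lib.Helper17.TowE
import Groth.Agent.Lib.Helper29.FreeIso6
import Mathlib

/-!
# Lifting sections from the closed fibre (helper6)

`X` proper over a noetherian local ring `A`, `N` coherent and flat over `A` with `H^1(X_0, N_0) = 0`: every
section of `N_0` over the closed fibre lifts to a global section of `N`.
-/

set_option backward.isDefEq.respectTransparency.types false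
set_option autoImplicit false
set_option linter.style.haveILetI false
set_option linter.unusedSectionVars false
set_option linter.unusedVariables false
universe u
open CategoryTheory CategoryTheory.Limits AlgebraicGeometry Opposite TopologicalSpace

noncomputable section
namespace Groth.Agent.Lib.Helper6.HomLift

open Formal Groth.Agent.Lib.Helper23.FQuot Groth.Agent.Lib.Helper28 Groth.Agent.Lib.Helper28.QCohLoc
  Groth.Agent.Lib.Helper28.PullbackInv Groth.Agent.Lib.Helper28.HomMod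
  Groth.Agent.Lib.Helper21.ThickDict Groth.Agent.Lib.Helper8.PullBasis
  Groth.Agent.Lib.Helper6.HomBC

/-- a free basis is a basis in the sense of `FreeIso` -/
theorem isBasisOn_of_isFreeBasisOn {Y : Scheme.{u}} {M : Y.Modules} {U : Y.Opens} {n : ℕ}
    {τ : Fin n → Γ(M, U)} (h : IsFreeBasisOn M U τ) :
    Groth.Agent.Lib.Helper29.FreeIso.IsBasisOn M U τ := by
  refine ⟨fun T hT c hc j => ?_, fun T hT t pt hpt => ?_⟩
  · have h0 : (fun c : Fin n → Γ(Y, T) => (∑ j, c j • res M hT (τ j) : Γ(M, T))) c =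
        (fun c : Fin n → Γ(Y, T) => (∑ j, c j • res M hT (τ j) : Γ(M, T))) 0 := by
      simp only [Pi.zero_apply, zero_smul, Finset.sum_const_zero]
      exact hc
    have := (h T hT).1 h0
    rw [this]; rfl
  · obtain ⟨c, hc⟩ := (h T hT).2 t
    refine ⟨T, le_rfl, hpt, c, ?_⟩
    rw [res_self]
    exact hc.symm

/-- modules with local free bases are finite locally free -/
theorem isFinLocFree_of_hasLocBasis {Y : Scheme.{u}} (M : Y.Modules) (hM : HasLocBasis M) :
    FlatMod.IsFinLocFree M := by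
  intro x
  obtain ⟨U, n, τ, hxU, hτ⟩ := hM x
  exact ⟨U, n, hxU, (isBasisOn_of_isFreeBasisOn hτ).nonempty_iso⟩

/-- a module with local free bases on a scheme flat over `S` is flat over `S` -/
theorem isFlatOver_of_hasLocBasis {X S : Scheme.{u}} (f : X ⟶ S) [Flat f] (N : X.Modules)
    (hN : HasLocBasis N) [N.IsQuasicoherent] : FlatMod.IsFlatOver f N := by
  intro x
  obtain ⟨V, hV, hxV, -⟩ := Opens.isBasis_iff_nbhd.mp S.isBasis_affineOpens
    (show f x ∈ (⊤ : S.Opens) from trivial)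
  obtain ⟨U₁, n, τ, hxU₁, hτ⟩ := hN x
  obtain ⟨W, hW, hxW, hWle⟩ := Opens.isBasis_iff_nbhd.mp X.isBasis_affineOpens
    (show x ∈ f ⁻¹ᵁ V ⊓ U₁ from ⟨hxV, hxU₁⟩)
  have hWV : W ≤ f ⁻¹ᵁ V := hWle.trans inf_le_left
  have hWU : W ≤ U₁ := hWle.trans inf_le_right
  have h1 : (f.appLE V W hWV).hom.Flat :=
    HasRingHomProperty.appLE @Flat f inferInstance ⟨V, hV⟩ ⟨W, hW⟩ hWV
  refine (Groth.Agent.Lib.Helper17.FlatDict.flat_sections_iff f N hW hV hWV).1 ?_ x hxW
  letI : Algebra Γ(S, V) Γ(X, W) := (f.appLE V W hWV).hom.toAlgebra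
  letI : Module Γ(S, V) Γ(N, W) := Module.compHom Γ(N, W) (f.appLE V W hWV).hom
  haveI : Module.Flat Γ(S, V) Γ(X, W) := h1
  have hb := hτ W hWU
  let e : (Fin n → Γ(X, W)) ≃ₗ[Γ(S, V)] Γ(N, W) :=
    { Equiv.ofBijective _ hb with
      map_add' := fun a b => by
        show (∑ j, (a + b) j • res N hWU (τ j) : Γ(N, W)) =
          (∑ j, a j • res N hWU (τ j) : Γ(N, W)) + ∑ j, b j • res N hWU (τ j)
        rw [← Finset.sum_add_distrib]
        refine Finset.sum_congr rfl fun j _ => ?_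
        rw [Pi.add_apply, add_smul]
      map_smul' := fun r a => by
        show (∑ j, (r • a) j • res N hWU (τ j) : Γ(N, W)) =
          ((f.appLE V W hWV).hom r • (∑ j, a j • res N hWU (τ j) : Γ(N, W)) : Γ(N, W))
        rw [Finset.smul_sum]
        refine Finset.sum_congr rfl fun j _ => ?_
        change (((f.appLE V W hWV).hom r * a j) • res N hWU (τ j) : Γ(N, W)) = _
        rw [mul_smul] }
  haveI : Module.Flat Γ(S, V) (Fin n → Γ(X, W)) :=
    Module.Flat.of_linearEquiv (DirectSum.linearEquivFunOnFintype Γ(S, V) (Fin n) (fun _ => Γ(X, W))).symm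
  exact Module.Flat.of_linearEquiv e.symm

/-- **lifting sections from the closed fibre**: `X` proper over a noetherian local ring `A`, `N` coherent and flat
over `A` with `H^1(X_y, N_y) = 0`; for any model `i : Z ⟶ X` of the closed fibre, every section of `i^* N` over `Z`
is the pullback of a global section of `N`. -/
theorem exists_section_lift (A : Type u) [CommRing A] [IsLocalRing A] [IsNoetherianRing A]
    (X : Scheme.{u}) [X.Over (Spec (CommRingCat.of A))] [IsProper (X ↘ Spec (CommRingCat.of A))]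
    {Z : Scheme.{u}} (i : Z ⟶ X)
    (p : Z ⟶ Spec (CommRingCat.of (A ⧸ IsLocalRing.maximalIdeal A)))
    (hpb : IsPullback i p (X ↘ Spec (CommRingCat.of A))
      (Spec.map (CommRingCat.ofHom (Ideal.Quotient.mk (IsLocalRing.maximalIdeal A)))))
    (N : X.Modules) (hNc : Coh.IsCoh N)
    (hfl : FlatMod.IsFlatOver (X ↘ Spec (CommRingCat.of A)) N)
    (hvan : Subsingleton (CohIII.fiberH (X ↘ Spec (CommRingCat.of A)) N (IsLocalRing.closedPoint A) 1))
    (τ : Γ((Scheme.Modules.pullback i).obj N, i ⁻¹ᵁ ⊤)) :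
    ∃ σ : Γ(N, ⊤), pbs i N ⊤ σ = τ := by
  haveI : N.IsQuasicoherent := hNc.1
  have hsurj := Groth.Agent.Lib.Helper6.TensAQuot.toHHmodPow_surjective A X N hNc hfl 0 hvan 0
  have hq : IsQuot (IsLocalRing.maximalIdeal A) (modPowπ (IsLocalRing.maximalIdeal A) 1 N) := by
    have := isQuot_modPowπ (IsLocalRing.maximalIdeal A) 1 N
    rwa [pow_one] at this
  have hfg : (IsLocalRing.maximalIdeal A).FG := Groth.Agent.Lib.Lead.FormalC.fg (IsLocalRing.maximalIdeal A)
  letI : Z.Over (Spec (CommRingCat.of A)) :=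
    ⟨p ≫ Spec.map (CommRingCat.ofHom (Ideal.Quotient.mk (IsLocalRing.maximalIdeal A)))⟩
  have hi : i ≫ (X ↘ Spec (CommRingCat.of A)) = (Z ↘ Spec (CommRingCat.of A)) := hpb.w
  haveI hcl : IsClosedImmersion (Spec.map (CommRingCat.ofHom (Ideal.Quotient.mk (IsLocalRing.maximalIdeal A)))) :=
    IsClosedImmersion.spec_of_surjective _ Ideal.Quotient.mk_surjective
  haveI : IsClosedImmersion i :=
    MorphismProperty.of_isPullback (P := @IsClosedImmersion) hpb.flip hcl
  have hker : ∀ (U : X.Opens), IsAffineOpen U → ∀ r : Γ(X, U), (i.app U).hom r = 0 →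
      r ∈ Ideal.map (phiU (X ↘ Spec (CommRingCat.of A)) U) (IsLocalRing.maximalIdeal A) :=
    fun U hU r hr => Groth.Agent.Lib.Helper17.Tow.mem_map_of_isPullback (IsLocalRing.maximalIdeal A) _ i p hpb U hU r hr
  have hzero : ∀ c ∈ (IsLocalRing.maximalIdeal A), ∀ M : Z.Modules, Formal.smulMod A M c = 0 := by
    intro c hc M
    unfold Formal.smulMod
    have h0 : Coh.toGlobal (Z ↘ Spec (CommRingCat.of A)) c = 0 :=
      Groth.Agent.Lib.Helper17.Tow.toGlobal_eq_zero (IsLocalRing.maximalIdeal A) p c hc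
    rw [h0]
    exact KLin.smulModΓ_zero M
  have hQ := Groth.Agent.Lib.Helper17.Tow.isQuot_unit i hi (IsLocalRing.maximalIdeal A) hfg hker hzero N
  obtain ⟨e, he⟩ := hq.exists_iso hQ
  let τ' : Γ(modPow (IsLocalRing.maximalIdeal A) 1 N, ⊤) := e.inv.app ⊤ τ
  have hτ' : e.hom.app ⊤ τ' = τ := by
    have h1 : (e.inv ≫ e.hom).app ⊤ τ = τ := by rw [Iso.inv_hom_id]; rfl
    exact h1
  have hrange : LinearMap.range (Canon.HHlin A (𝟙 (modPow (IsLocalRing.maximalIdeal A) 1 N)) 0) ≤
      LinearMap.range (Canon.HHlin A (modPowπ (IsLocalRing.maximalIdeal A) 1 N) 0) := by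
    intro x _
    obtain ⟨z, hz⟩ := hsurj x
    exact ⟨z, hz⟩
  obtain ⟨σ, hσ⟩ := Groth.Agent.Lib.Helper21.ZarConn.exists_section_of_range_le (A := A)
    (modPowπ (IsLocalRing.maximalIdeal A) 1 N) (𝟙 (modPow (IsLocalRing.maximalIdeal A) 1 N)) hrange τ'
  refine ⟨σ, ?_⟩
  have h2 : ((Scheme.Modules.pullbackPushforwardAdjunction i).unit.app N).app ⊤ σ =
      e.hom.app ⊤ ((modPowπ (IsLocalRing.maximalIdeal A) 1 N).app ⊤ σ) := by
    rw [← he]; rfl
  have h3 : (modPowπ (IsLocalRing.maximalIdeal A) 1 N).app ⊤ σ = τ' := hσ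
  rw [h3, hτ'] at h2
  exact h2

end Groth.Agent.Lib.Helper6.HomLift
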