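import Groth.Agent.Lib.Helper6.HomDualExt
import Groth.Agent.Lib.Helper6.HomLift
import Groth.Agent.Lib.Helper23.ProjF.TensorBasis
import Groth.Agent.Lib.Helper17.FlatDict
import Mathlib

/-!
# Precomposition on sheaf Hom, and flatness of `D ⊗ F` over the base for `D` with local bases (helper6)
-/

set_option autoImplicit false
set_option linter.style.haveILetI false
set_option linter.unusedSectionVars false
set_option linter.unusedVariables false
set_option backward.isDefEq.respectTransparency.types false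
universe u
open CategoryTheory CategoryTheory.Limits AlgebraicGeometry Opposite TopologicalSpace MonoidalCategory
noncomputable section

namespace Groth.Agent.Lib.Helper6.HomDualCorep

open Groth.Agent.Lib.Helper28 Groth.Agent.Lib.Helper28.QCohLoc Groth.Agent.Lib.Helper28.TensorGen
  Groth.Agent.Lib.Helper28.TensorIso Groth.Agent.Lib.Helper28.HomMod Groth.Agent.Lib.Helper23.ProjF
  Groth.Agent.Lib.Helper8.PullBasis Groth.Agent.Lib.Helper6.HomAdj Groth.Agent.Lib.Helper6.HomBasis
  Groth.Agent.Lib.Helper6.HomBC Groth.Agent.Lib.Helper2.GSplit2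

variable {X : Scheme.{u}}

section Pre

variable {E₁ E₀ : X.Modules} (v : E₁ ⟶ E₀)

/-- precomposition with `v` on sections of the sheaf Hom -/
def preSec (T : X.Modules) {V : X.Opens} (s : Γ(homMod E₀ T, V)) : Γ(homMod E₁ T, V) :=
  mkSec (fun W h y => ev s h (v.app W y))
    (fun W h y y' => by rw [app_add', ev_add])
    (fun W h a y => by rw [app_smul', ev_smul])
    (fun W W' h h' y => by rw [app_res, ev_res])

theorem ev_preSec (T : X.Modules) {V : X.Opens} (s : Γ(homMod E₀ T, V)) {W : X.Opens} (h : W ≤ V)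
    (y : Γ(E₁, W)) : ev (preSec v T s) h y = ev s h (v.app W y) := rfl

/-- `Hom(E₀, -) ⟶ Hom(E₁, -)` -/
def homModPre : homModF E₀ ⟶ homModF E₁ where
  app T := mkHom (homMod E₀ T) (homMod E₁ T) (fun V s => preSec v T s)
    (fun V s s' => ext_ev _ _ fun W h y => by rw [add_ev, ev_preSec, ev_preSec, ev_preSec, add_ev])
    (fun V a s => ext_ev _ _ fun W h y => by rw [smul_ev, ev_preSec, ev_preSec, smul_ev])
    (fun V V' h s => ext_ev _ _ fun W h' y => by rw [res_ev, ev_preSec, ev_preSec, res_ev])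
  naturality T T' g := by
    apply Scheme.Modules.hom_ext
    intro V
    ext s
    exact ext_ev _ _ fun W h y => rfl

theorem homModPre_app_app (T : X.Modules) (V : X.Opens) (s : Γ(homMod E₀ T, V)) :
    ((homModPre v).app T).app V s = preSec v T s := rfl

theorem preSec_secOfHom (T : X.Modules) (u : E₀ ⟶ T) (V : X.Opens) :
    preSec v T (secOfHom u V) = secOfHom (v ≫ u) V :=
  ext_ev _ _ fun W h y => rfl

end Pre

section Flat

variable {S : Scheme.{u}} (f : X ⟶ S)

/-- `D ⊗ F` is flat over the base when `F` is and `D` has local bases -/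
theorem isFlatOver_tensorMod (D F : X.Modules) (hD : HasLocBasis D) [F.IsQuasicoherent]
    [(CohB1.tensorMod D F).IsQuasicoherent] (hfl : FlatMod.IsFlatOver f F) :
    FlatMod.IsFlatOver f (CohB1.tensorMod D F) := by
  intro x
  obtain ⟨V, hV, hxV, -⟩ := Opens.isBasis_iff_nbhd.mp S.isBasis_affineOpens
    (show f x ∈ (⊤ : S.Opens) from trivial)
  obtain ⟨U₁, n, τ, hxU₁, hτ⟩ := hD x
  obtain ⟨W, hW, hxW, hWle⟩ := Opens.isBasis_iff_nbhd.mp X.isBasis_affineOpens
    (show x ∈ f ⁻¹ᵁ V ⊓ U₁ from ⟨hxV, hxU₁⟩)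
  have hWV : W ≤ f ⁻¹ᵁ V := hWle.trans inf_le_left
  have hWU : W ≤ U₁ := hWle.trans inf_le_right
  refine (Groth.Agent.Lib.Helper17.FlatDict.flat_sections_iff f (CohB1.tensorMod D F) hW hV hWV).1 ?_ x hxW
  have h1 := (Groth.Agent.Lib.Helper17.FlatDict.flat_sections_iff f F hW hV hWV).2 (fun y _ => hfl y)
  letI m1 : Module Γ(S, V) Γ(F, W) := Module.compHom Γ(F, W) (f.appLE V W hWV).hom
  letI m2 : Module Γ(S, V) Γ(CohB1.tensorMod D F, W) :=
    Module.compHom Γ(CohB1.tensorMod D F, W) (f.appLE V W hWV).hom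
  have hb := tmulSec_sum_bijective (B := F) (hτ.mono hWU)
  let e : (Fin n → Γ(F, W)) ≃ₗ[Γ(S, V)] Γ(CohB1.tensorMod D F, W) :=
    { Equiv.ofBijective _ hb with
      map_add' := fun a b => by
        show (∑ j, tmulSec D F (res D hWU (τ j)) ((a + b) j)) =
          (∑ j, tmulSec D F (res D hWU (τ j)) (a j)) + ∑ j, tmulSec D F (res D hWU (τ j)) (b j)
        rw [← Finset.sum_add_distrib]
        refine Finset.sum_congr rfl fun j _ => ?_
        rw [Pi.add_apply, tmulSec_add_right]
      map_smul' := fun r a => by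
        show (∑ j, tmulSec D F (res D hWU (τ j)) ((r • a) j)) =
          ((f.appLE V W hWV).hom r • (∑ j, tmulSec D F (res D hWU (τ j)) (a j)) :
            Γ(CohB1.tensorMod D F, W))
        rw [Finset.smul_sum]
        refine Finset.sum_congr rfl fun j _ => ?_
        change tmulSec D F (res D hWU (τ j)) ((f.appLE V W hWV).hom r • a j : Γ(F, W)) = _
        rw [tmulSec_smul_right] }
  haveI : Module.Flat Γ(S, V) Γ(F, W) := h1
  haveI : Module.Flat Γ(S, V) (Fin n → Γ(F, W)) :=
    Module.Flat.of_linearEquiv (DirectSum.linearEquivFunOnFintype Γ(S, V) (Fin n) (fun _ => Γ(F, W))).symm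
  exact Module.Flat.of_linearEquiv e.symm

end Flat

end Groth.Agent.Lib.Helper6.HomDualCorep
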