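import Groth.Agent.Lib.Helper6.HomDualExt
import Groth.Agent.Lib.Helper6.HomDualCorepA
import Groth.Agent.Lib.Helper6.SheafHomExact
import Mathlib

/-!
# The abstract internal hom is the concrete sheaf Hom, naturally in the first variable (helper6)
-/

set_option autoImplicit false
set_option linter.style.haveILetI false
set_option linter.unusedSectionVars false
set_option linter.unusedVariables false
set_option backward.isDefEq.respectTransparency.types false
universe u
open CategoryTheory CategoryTheory.Limits AlgebraicGeometry Opposite TopologicalSpace MonoidalCategory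
noncomputable section

namespace Groth.Agent.Lib.Helper6.SheafHomNat

open Groth.Agent.Lib.Helper28 Groth.Agent.Lib.Helper28.QCohLoc Groth.Agent.Lib.Helper28.TensorGen
  Groth.Agent.Lib.Helper28.TensorIso Groth.Agent.Lib.Helper28.HomMod
  Groth.Agent.Lib.Helper6.HomAdj Groth.Agent.Lib.Helper6.HomBC Groth.Agent.Lib.Helper6.HomDualCorep
  Groth.Agent.Lib.Helper2.GSplit2 Groth.Agent.Lib.Helper1.ModFlat Groth.Agent.Lib.Helper23.ProjF

section General

variable {𝒞 𝒟 : Type*} [Category 𝒞] [Category 𝒟]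

lemma conjugateEquiv_rightAdjointUniq {L L' : 𝒞 ⥤ 𝒟} {G G' H H' : 𝒟 ⥤ 𝒞}
    (adj₁ : L ⊣ G) (adj₂ : L ⊣ G') (adj₁' : L' ⊣ H) (adj₂' : L' ⊣ H') (α : L' ⟶ L) :
    conjugateEquiv adj₁ adj₁' α ≫ (adj₁'.rightAdjointUniq adj₂').hom =
      (adj₁.rightAdjointUniq adj₂).hom ≫ conjugateEquiv adj₂ adj₂' α := by
  simp [Adjunction.rightAdjointUniq]

lemma eq_conjugateEquiv_of_counit {L L' : 𝒞 ⥤ 𝒟} {G H : 𝒟 ⥤ 𝒞} (adj : L ⊣ G) (adj' : L' ⊣ H)
    (α : L' ⟶ L) (τ : G ⟶ H)
    (h : ∀ P, (adj'.homEquiv _ _).symm (τ.app P) = α.app _ ≫ adj.counit.app P) :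
    τ = conjugateEquiv adj adj' α := by
  ext P
  apply (adj'.homEquiv _ _).symm.injective
  rw [h]
  have := SheafHomExact.homEquiv_symm_comp_conjugateEquiv adj adj' α (𝟙 (G.obj P))
  rw [Category.id_comp, Adjunction.homEquiv_symm_id] at this
  exact this.symm

lemma ofNatIsoLeft_symm_apply {F F' : 𝒞 ⥤ 𝒟} {G : 𝒟 ⥤ 𝒞} (adj : F ⊣ G) (iso : F ≅ F')
    {X : 𝒞} {Y : 𝒟} (f : X ⟶ G.obj Y) :
    ((adj.ofNatIsoLeft iso).homEquiv X Y).symm f = iso.inv.app X ≫ (adj.homEquiv X Y).symm f :=
  Adjunction.homEquiv_ofNatIsoLeft_symm_apply adj iso f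

lemma ofNatIsoLeft_counit_app {F F' : 𝒞 ⥤ 𝒟} {G : 𝒟 ⥤ 𝒞} (adj : F ⊣ G) (iso : F ≅ F') (Y : 𝒟) :
    (adj.ofNatIsoLeft iso).counit.app Y = iso.inv.app (G.obj Y) ≫ adj.counit.app Y := by
  rw [← Adjunction.homEquiv_symm_id, ofNatIsoLeft_symm_apply, Adjunction.homEquiv_symm_id]

end General

variable {X : Scheme.{u}}

/-- `- ⊗ E ⊣ Hom(E, -)` -/
def adj' (E : X.Modules) : tens X.sheaf E ⊣ homModF E :=
  (adj E).ofNatIsoLeft (tensLIso X.sheaf E)

/-- the abstract internal hom of `ModSite` is the concrete sheaf of homomorphisms -/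
def msIso' (E : X.Modules) [ModSite.HasSheafHom (O := X.sheaf) E] :
    ModSite.sheafHom (O := X.sheaf) E ≅ homModF E :=
  (ModSite.sheafHomAdj (O := X.sheaf) E).rightAdjointUniq (adj' E)

variable {E E' : X.Modules} (v : E' ⟶ E) (P : X.Modules)

theorem adj_homEquiv (E N P : X.Modules) : (adj E).homEquiv N P = HomAdj.homEquiv E N P := by
  unfold adj
  rw [Adjunction.mkOfHomEquiv_homEquiv]

theorem adj_counit_app (E P : X.Modules) :
    (adj E).counit.app P = uncurry (𝟙 (homMod E P)) := by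
  rw [← (adj E).homEquiv_symm_id, adj_homEquiv]
  rfl

/-- the concrete precomposition is the conjugate of `v ⊗ -` -/
theorem uncurry_homModPre :
    ((adj E').homEquiv _ _).symm ((homModPre v).app P) =
      LimSh.tensorModMap v (homMod E P) ≫ (adj E).counit.app P := by
  rw [adj_counit_app, adj_homEquiv]
  change uncurry ((homModPre v).app P) = _
  apply tensorMod_hom_ext
  intro W x ν
  rw [uncurry_tmulSec]
  change ev (preSec v P ν) le_rfl x = (uncurry (𝟙 (homMod E P))).app W
    ((LimSh.tensorModMap v (homMod E P)).app W (tmulSec E' (homMod E P) x ν))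
  rw [ev_preSec, tensorModMap_tmulSec, uncurry_tmulSec]
  rfl

/-- braiding naturality in the parameter -/
theorem tensLIso_inv_naturality (H : X.Modules) :
    (tensLIso X.sheaf E').inv.app H ≫ LimSh.tensorModMap v H =
      (tensL X.sheaf H).map v ≫ (tensLIso X.sheaf E).inv.app H := by
  show (Groth.Agent.Lib.Helper1.TensorAdj.shf X.sheaf).map (β_ (Groth.Agent.Lib.Helper1.TensorAdj.under X.sheaf E') (Groth.Agent.Lib.Helper1.TensorAdj.under X.sheaf H)).inv ≫
      (Groth.Agent.Lib.Helper1.TensorAdj.shf X.sheaf).map (underMap X.sheaf v ▷ Groth.Agent.Lib.Helper1.TensorAdj.under X.sheaf H) =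
    (Groth.Agent.Lib.Helper1.TensorAdj.shf X.sheaf).map (Groth.Agent.Lib.Helper1.TensorAdj.under X.sheaf H ◁ underMap X.sheaf v) ≫
      (Groth.Agent.Lib.Helper1.TensorAdj.shf X.sheaf).map (β_ (Groth.Agent.Lib.Helper1.TensorAdj.under X.sheaf E) (Groth.Agent.Lib.Helper1.TensorAdj.under X.sheaf H)).inv
  rw [← CategoryTheory.Functor.map_comp, ← CategoryTheory.Functor.map_comp,
    BraidedCategory.braiding_inv_naturality_right]

/-- the concrete precomposition is the conjugate of `- ⊗ v` -/
theorem adj'_symm_homModPre :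
    ((adj' E').homEquiv _ _).symm ((homModPre v).app P) =
      ((ModSite.tensorBi X.sheaf).flip.map v).app (homMod E P) ≫ (adj' E).counit.app P := by
  have hc : (adj' E).counit.app P =
      (tensLIso X.sheaf E).inv.app (homMod E P) ≫ (adj E).counit.app P :=
    ofNatIsoLeft_counit_app (adj E) (tensLIso X.sheaf E) P
  have h1 : ((adj' E').homEquiv _ _).symm ((homModPre v).app P) =
      (tensLIso X.sheaf E').inv.app (homMod E P) ≫
        ((adj E').homEquiv _ _).symm ((homModPre v).app P) :=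
    ofNatIsoLeft_symm_apply (adj E') (tensLIso X.sheaf E') _
  rw [h1, hc]
  have h2 := uncurry_homModPre v P
  calc _ = (tensLIso X.sheaf E').inv.app (homMod E P) ≫
        (LimSh.tensorModMap v (homMod E P) ≫ (adj E).counit.app P) :=
        congrArg (fun t => (tensLIso X.sheaf E').inv.app (homMod E P) ≫ t) h2
    _ = ((tensLIso X.sheaf E').inv.app (homMod E P) ≫ LimSh.tensorModMap v (homMod E P)) ≫
        (adj E).counit.app P := (Category.assoc _ _ _).symm
    _ = ((tensL X.sheaf (homMod E P)).map v ≫ (tensLIso X.sheaf E).inv.app (homMod E P)) ≫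
        (adj E).counit.app P :=
        congrArg (fun t => t ≫ (adj E).counit.app P) (tensLIso_inv_naturality v (homMod E P))
    _ = _ := Category.assoc _ _ _

theorem homModPre_eq_conjugateEquiv :
    homModPre v = conjugateEquiv (adj' E) (adj' E') ((ModSite.tensorBi X.sheaf).flip.map v) :=
  eq_conjugateEquiv_of_counit (adj' E) (adj' E') _ _ (fun P => adj'_symm_homModPre v P)

variable [ModSite.HasSheafHom (O := X.sheaf) E] [ModSite.HasSheafHom (O := X.sheaf) E']

/-- **naturality of `msIso'` in the first variable** -/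
theorem msIso'_naturality :
    ExtSupp.sheafHomMap (O := X.sheaf) v ≫ (msIso' E').hom =
      (msIso' E).hom ≫ homModPre v := by
  rw [homModPre_eq_conjugateEquiv]
  exact conjugateEquiv_rightAdjointUniq _ _ _ _ _

theorem msIso'_naturality_app :
    (ExtSupp.sheafHomMap (O := X.sheaf) v).app P ≫ (msIso' E').hom.app P =
      (msIso' E).hom.app P ≫ (homModPre v).app P :=
  congrArg (fun t => t.app P) (msIso'_naturality v)

end Groth.Agent.Lib.Helper6.SheafHomNat
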