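import Groth.Agent.Lib.Helper6.ExtShCoh
import Groth.Agent.Lib.Helper6.SheafHomNat
import Groth.Agent.Lib.Helper6.QuotSect
import Groth.Agent.Lib.Helper6.HZshRestrict
import Groth.Agent.Lib.Helper6.DevFin
import Groth.Agent.Lib.Helper6.GrothSS
import Mathlib

/-!
# Ext sheaves with supports of a module supported in the closed set (helper6)

If `F|_U = 0` then `Γ_Z ℋom(F, -) = ℋom(F, -)`, hence `ℰxt^i_Z(F, -) = ℰxt^i(F, -)`.
-/

set_option autoImplicit false
set_option linter.style.haveILetI false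
set_option linter.unusedSectionVars false
set_option linter.unusedVariables false
set_option backward.isDefEq.respectTransparency.types false

universe u

open CategoryTheory CategoryTheory.Limits AlgebraicGeometry Opposite TopologicalSpace

noncomputable section

namespace Groth.Agent.Lib.Helper6.ExtZShSupp

open Groth.Agent.Lib.Helper28 Groth.Agent.Lib.Helper28.QCohLoc Groth.Agent.Lib.Helper28.HomMod
  Groth.Agent.Lib.Helper6.HomAdj Groth.Agent.Lib.Helper6.SheafHomNat

variable {X : Scheme.{u}} (U : X.Opens) (F : X.Modules)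

/-- sections of `ℋom(F, N)` over `V` vanish when `F` has no sections below `V` -/
theorem subsingleton_homMod (N : X.Modules) (V : X.Opens)
    (h : ∀ W : X.Opens, W ≤ V → Subsingleton Γ(F, W)) : Subsingleton Γ(homMod F N, V) := by
  refine ⟨fun s t => ext_ev _ _ fun W hW x => ?_⟩
  haveI := h W hW
  rw [Subsingleton.elim x 0, ev_zero, ev_zero]

variable [ModSite.HasSheafHom (O := X.sheaf) F]

/-- `ℋom(F, N)|_U = 0` when `F|_U = 0` -/
theorem restr_sheafHom_id_eq_zero (h : ∀ W : X.Opens, W ≤ U → Subsingleton Γ(F, W))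
    (N : X.Modules) :
    (ModSite.restr X.sheaf U).map (𝟙 ((ModSite.sheafHom (O := X.sheaf) F).obj N)) = 0 := by
  rw [HZshRestrict.restr_map_eq_zero_iff]
  intro W k x
  have hW : W ≤ U := leOfHom k
  haveI : Subsingleton Γ(homMod F N, W) := subsingleton_homMod F N W (fun W' hW' => h W' (hW'.trans hW))
  have e := (msIso' F).app N
  haveI : Subsingleton (((ModSite.sheafHom (O := X.sheaf) F).obj N).val.obj (op W)) := by
    refine ⟨fun a b => ?_⟩
    have hinj : Function.Injective (e.hom.val.app (op W)) := by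
      intro a b hab
      have := congrArg (e.inv.val.app (op W)) hab
      have h1 : ∀ c, e.inv.val.app (op W) (e.hom.val.app (op W) c) = c := fun c => by
        have := congrArg (fun φ : (ModSite.sheafHom (O := X.sheaf) F).obj N ⟶ _ =>
          φ.val.app (op W) c) e.hom_inv_id
        exact this
      rwa [h1, h1] at this
    exact hinj (Subsingleton.elim (α := Γ(homMod F N, W)) _ _)
  exact Subsingleton.elim _ _

/-- `Γ_Z ℋom(F, N) ⟶ ℋom(F, N)` is an isomorphism when `F|_U = 0` -/
theorem isIso_sectOnι_sheafHom (h : ∀ W : X.Opens, W ≤ U → Subsingleton Γ(F, W))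
    (N : X.Modules) :
    IsIso ((ModSite.sectOnι X.sheaf U).app ((ModSite.sheafHom (O := X.sheaf) F).obj N)) := by
  have h0 : (ModSite.restrPushOverAdj X.sheaf U).unit.app
      ((ModSite.sheafHom (O := X.sheaf) F).obj N) = 0 := by
    have := (QuotSect.comp_unit_eq_zero_iff X.sheaf U
      (𝟙 ((ModSite.sheafHom (O := X.sheaf) F).obj N))).2 (restr_sheafHom_id_eq_zero U F h N)
    rwa [Category.id_comp] at this
  change IsIso (kernel.ι ((ModSite.restrPushOverAdj X.sheaf U).unit.app
    ((ModSite.sheafHom (O := X.sheaf) F).obj N)))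
  exact KernelFork.IsLimit.isIso_ι _ (limit.isLimit _) h0

/-- `Γ_Z ∘ ℋom(F, -) ≅ ℋom(F, -)` when `F|_U = 0` -/
def sectOnSheafHomIso (h : ∀ W : X.Opens, W ≤ U → Subsingleton Γ(F, W)) :
    ModSite.sheafHom (O := X.sheaf) F ⋙ ModSite.sectOn X.sheaf U ≅
      ModSite.sheafHom (O := X.sheaf) F :=
  haveI : ∀ N, IsIso ((Functor.whiskerLeft (ModSite.sheafHom (O := X.sheaf) F)
      (ModSite.sectOnι X.sheaf U)).app N) := fun N => isIso_sectOnι_sheafHom U F h N
  haveI := NatIso.isIso_of_isIso_app (Functor.whiskerLeft (ModSite.sheafHom (O := X.sheaf) F)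
      (ModSite.sectOnι X.sheaf U))
  asIso (Functor.whiskerLeft (ModSite.sheafHom (O := X.sheaf) F) (ModSite.sectOnι X.sheaf U)) ≪≫
    Functor.rightUnitor _

variable [HasInjectiveResolutions (ModSite.Mod X.sheaf)]

/-- `ℰxt^i_Z(F, -) ≅ ℰxt^i(F, -)` when `F|_U = 0` -/
def extZShIso (h : ∀ W : X.Opens, W ≤ U → Subsingleton Γ(F, W)) (i : ℕ) :
    ModSite.extZSh (O := X.sheaf) U F i ≅ ModSite.extSh (O := X.sheaf) F i :=
  GrothSS.rightDerivedIsoOfIso (sectOnSheafHomIso U F h) i

/-- the same, from the support hypothesis -/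
theorem nonempty_extZSh_iso_of_support (hsupp : ∀ x ∈ CohB1.support F, x ∉ (U : Set X)) (i : ℕ)
    (G : X.Modules) :
    Nonempty ((ModSite.extZSh (O := X.sheaf) U F i).obj G ≅
      (ModSite.extSh (O := X.sheaf) F i).obj G) := by
  have h : ∀ W : X.Opens, W ≤ U → Subsingleton Γ(F, W) := by
    intro W hW
    refine ⟨fun a b => ?_⟩
    have hx : ∀ x ∈ W, x ∉ CohB1.support F := fun x hxW hxs => hsupp x hxs (hW hxW)
    rw [DevFin.section_eq_zero_of_notMem_support F W hx a,
      DevFin.section_eq_zero_of_notMem_support F W hx b]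
  exact ⟨(extZShIso U F h i).app G⟩

end Groth.Agent.Lib.Helper6.ExtZShSupp
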