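import Groth.Agent.Lib.Helper6.QuotExact
import Groth.Agent.Lib.Helper1.ModSiteFree

/-!
# Vanishing on `U` of maps out of an extension by zero (helper6)

A map `ψ : j_{V!} N' ⟶ M` restricts to zero on `C/U` as soon as its adjoint `N' ⟶ M|_V` vanishes
on all objects `W ⟶ V` such that `W` admits a morphism to `U`.
-/

set_option autoImplicit false
universe u
open CategoryTheory CategoryTheory.Limits Opposite

namespace Groth.Agent.Lib.Helper6.ExtZeroVanish

open Groth.Agent.Lib.Helper1 Groth.Agent.Lib.Helper1.Shriek Groth.Agent.Lib.Helper1.ShriekSheaf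
  Groth.Agent.Lib.Helper1.ShriekProj

variable {C : Type u} [SmallCategory C] {J : GrothendieckTopology C} (O : Sheaf J CommRingCat.{u})
  (V U : C)

/-- the presheaf extension by zero of the underlying presheaf of `N'` -/
noncomputable abbrev Q (N' : ModSite.Mod (O.over V)) :
    PresheafOfModules.{u} (ModSite.ringSh O).obj :=
  (shriek (R := (ModSite.ringSh O).obj) (X := V)).obj ((inclX (ModSite.ringSh O) V).obj N')

/-- the sheafification map -/
noncomputable abbrev ηQ (N' : ModSite.Mod (O.over V)) :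
    Q O V N' ⟶ (incl (ModSite.ringSh O)).obj ((ez' O V).obj N') :=
  (adjShf (ModSite.ringSh O)).unit.app (Q O V N')

open Classical in
/-- vanishing on generators implies vanishing on `U`, for the explicit extension by zero -/
lemma ez'_vanish (N' : ModSite.Mod (O.over V)) (M : ModSite.Mod O)
    (ψ' : (ez' O V).obj N' ⟶ M)
    (hψ : ∀ (W : C) (v : W ⟶ V), Nonempty (W ⟶ U) →
      ∀ x : N'.val.obj (op (Over.mk v)),
        ψ'.val.app (op W) ((ηQ O V N').app (op W)
          (DirectSum.of (fun φ : W ⟶ V => summand ((inclX (ModSite.ringSh O) V).obj N') φ) v x)) = 0)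
    (W : C) (hW : Nonempty (W ⟶ U)) (y : ((ez' O V).obj N').val.obj (op W)) :
    ψ'.val.app (op W) y = 0 := by
  have hs : Presheaf.IsLocallySurjective J ((PresheafOfModules.toPresheaf _).map
      (ηQ O V N')) := by
    show Presheaf.IsLocallySurjective J (toSheafify J (Q O V N').presheaf)
    infer_instance
  refine QuotExact.sep O M _ (Presheaf.imageSieve_mem J ((PresheafOfModules.toPresheaf _).map
      (ηQ O V N')) (U := op W) y) _ ?_
  intro W' g hg
  obtain ⟨q, hq⟩ := hg
  have hW' : Nonempty (W' ⟶ U) := ⟨g ≫ hW.some⟩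
  -- `ψ' (y|_{W'}) = ψ' (η q)`
  have h1 : M.val.map g.op (ψ'.val.app (op W) y) =
      ψ'.val.app (op W') (((ez' O V).obj N').val.map g.op y) :=
    (PresheafOfModules.naturality_apply ψ'.val g.op y).symm
  rw [h1]
  have hq' : (ηQ O V N').app (op W') q = ((ez' O V).obj N').val.map g.op y := hq
  rw [← hq']
  -- additivity in `q`
  have key : ((ψ'.val.app (op W')).hom.toAddMonoidHom.comp
      ((ηQ O V N').app (op W')).hom.toAddMonoidHom) = 0 := by
    refine DirectSum.addHom_ext (fun v x => ?_)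
    exact hψ W' v hW' x
  exact DFunLike.congr_fun key q

lemma homEquiv_hom_comp (N' : ModSite.Mod (O.over V)) (M : ModSite.Mod O)
    (ψ' : (ez' O V).obj N' ⟶ M) :
    (ModSite.extZeroAdj O V).homEquiv N' M ((extZeroIso O V).hom.app N' ≫ ψ') =
      (ezAdj' O V).homEquiv N' M ψ' := by
  have h2 : (ModSite.extZeroAdj O V).homEquiv N' _ ((extZeroIso O V).hom.app N') =
      (ezAdj' O V).unit.app N' :=
    Adjunction.homEquiv_leftAdjointUniq_hom_app (ModSite.extZeroAdj O V) (ezAdj' O V) N'
  rw [Adjunction.homEquiv_naturality_right, h2, Adjunction.homEquiv_unit]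

lemma homEquiv_eq (N' : ModSite.Mod (O.over V)) (M : ModSite.Mod O)
    (ψ : (ModSite.extZero O V).obj N' ⟶ M) :
    (ezAdj' O V).homEquiv N' M ((extZeroIso O V).inv.app N' ≫ ψ) =
      (ModSite.extZeroAdj O V).homEquiv N' M ψ := by
  rw [← homEquiv_hom_comp, Iso.hom_inv_id_app_assoc]

open Classical in
lemma ezAdj'_homEquiv_app (N' : ModSite.Mod (O.over V)) (M : ModSite.Mod O)
    (ψ' : (ez' O V).obj N' ⟶ M) (W : C) (v : W ⟶ V) (x : N'.val.obj (op (Over.mk v))) :
    ((ezAdj' O V).homEquiv N' M ψ').val.app (op (Over.mk v)) x =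
      ψ'.val.app (op W) ((ηQ O V N').app (op W)
        (DirectSum.of (fun φ : W ⟶ V => summand ((inclX (ModSite.ringSh O) V).obj N') φ) v x)) := by
  rw [Adjunction.homEquiv_unit]
  have h := inclX_map_unit_app_apply (ModSite.ringSh O) V N' (op (Over.mk v)) x
  change ψ'.val.app (op W) (((inclX (ModSite.ringSh O) V).map
    ((adj' (ModSite.ringSh O) V).unit.app N')).app (op (Over.mk v)) x) = _
  rw [h]
  rfl

/-- vanishing on generators implies vanishing on `U` -/
theorem extZero_vanish (N' : ModSite.Mod (O.over V)) (M : ModSite.Mod O)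
    (ψ : (ModSite.extZero O V).obj N' ⟶ M)
    (hψ : ∀ (W : C) (v : W ⟶ V), Nonempty (W ⟶ U) → ∀ x : N'.val.obj (op (Over.mk v)),
      ((ModSite.extZeroAdj O V).homEquiv N' M ψ).val.app (op (Over.mk v)) x = 0) :
    (ModSite.restr O U).map ψ = 0 := by
  have hz : (ModSite.restr O U).map ((extZeroIso O V).inv.app N' ≫ ψ) = 0 := by
    apply SheafOfModules.hom_ext
    apply PresheafOfModules.hom_ext
    intro Y
    ext y
    refine ez'_vanish O V U N' M ((extZeroIso O V).inv.app N' ≫ ψ) ?_ Y.unop.left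
      ⟨Y.unop.hom⟩ y
    intro W v hW x
    rw [← ezAdj'_homEquiv_app, homEquiv_eq]
    exact hψ W v hW x
  have h1 : ψ = (extZeroIso O V).hom.app N' ≫ (extZeroIso O V).inv.app N' ≫ ψ := by
    rw [Iso.hom_inv_id_app_assoc]
  rw [h1, Functor.map_comp, hz, comp_zero]

end Groth.Agent.Lib.Helper6.ExtZeroVanish
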