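import Groth.Agent.S0034
import Groth.Agent.Lib.Helper4.HHFun
import Groth.Prelude.Def_ega3
import Mathlib
set_option backward.isDefEq.respectTransparency.types false
set_option autoImplicit false
set_option linter.style.haveILetI false
universe u
open AlgebraicGeometry CategoryTheory Opposite TopologicalSpace TensorProduct CategoryTheory.Limits

/-!
# Fibre glue, part A (helper6)

The cohomology of the scheme-theoretic fibre `H^p(X_y, F_y)` (the prelude's `CohIII.fiberH`) compared
with the cohomology of ANY base change of `f` to a field-valued point lying over `y`.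
-/

noncomputable section
namespace Groth.Agent.Lib.Helper6.FibreGlue

open Groth.Agent.Lib.Helper4.HHFun

variable {X Y : Scheme.{u}} (f : X ⟶ Y)
  (F : X.Modules) [F.IsQuasicoherent] (y : Y) (p : ℕ)
  (K : Type u) [Field K] [Algebra (Y.residueField y) K]
  (P : Scheme.{u}) [P.Over (Spec (CommRingCat.of K))] (q : P ⟶ X)
  (hsq : IsPullback q (P ↘ Spec (CommRingCat.of K)) f
    (Spec.map (CommRingCat.ofHom (algebraMap (Y.residueField y) K)) ≫ Y.fromSpecResidueField y))

/-- the induced map to the scheme-theoretic fibre -/
def toFiber : P ⟶ f.fiber y :=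
  pullback.lift q ((P ↘ Spec (CommRingCat.of K)) ≫
    Spec.map (CommRingCat.ofHom (algebraMap (Y.residueField y) K)))
    (by rw [Category.assoc]; exact hsq.w)

@[reassoc]
lemma toFiber_ι : toFiber f y K P q hsq ≫ f.fiberι y = q := pullback.lift_fst _ _ _

@[reassoc]
lemma toFiber_snd : toFiber f y K P q hsq ≫ f.fiberToSpecResidueField y =
    (P ↘ Spec (CommRingCat.of K)) ≫
      Spec.map (CommRingCat.ofHom (algebraMap (Y.residueField y) K)) := pullback.lift_snd _ _ _

lemma isPullback_toFiber :
    IsPullback (toFiber f y K P q hsq) (P ↘ Spec (CommRingCat.of K))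
      (f.fiberToSpecResidueField y)
      (Spec.map (CommRingCat.ofHom (algebraMap (Y.residueField y) K))) := by
  refine IsPullback.of_right (h₁₂ := f.fiberι y) (v₁₃ := f) (h₂₂ := Y.fromSpecResidueField y) ?_
    (toFiber_snd f y K P q hsq) (IsPullback.of_hasPullback f (Y.fromSpecResidueField y))
  rw [toFiber_ι]
  exact hsq

variable [QuasiCompact f] [QuasiSeparated f]

include hsq in
theorem main :
    Nonempty (K ⊗[Y.residueField y] CohIII.fiberH f F y p ≃ₗ[K]
      Coh.HH P ((Scheme.Modules.pullback q).obj F) p) := by
  letI ov : (f.fiber y).Over (Spec (CommRingCat.of (Y.residueField y))) :=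
    f.fiberOverSpecResidueField y
  haveI : QuasiSeparated (f.fiberToSpecResidueField y) :=
    MorphismProperty.pullback_snd (P := @QuasiSeparated) _ _ inferInstance
  haveI : QuasiSeparatedSpace (f.fiber y) :=
    quasiSeparatedSpace_of_quasiSeparated (f.fiberToSpecResidueField y)
  haveI : Module.Flat (Y.residueField y) K := inferInstance
  haveI : Coh.IsQCoh (CohIII.fiberMod f F y) := by
    show ((Scheme.Modules.pullback (f.fiberι y)).obj F).IsQuasicoherent
    infer_instance
  obtain ⟨e3⟩ := Groth.Agent.S0034.result (Y.residueField y) K (f.fiber y) P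
    (toFiber f y K P q hsq) (isPullback_toFiber f y K P q hsq) (CohIII.fiberMod f F y) p
  let i4 : (Scheme.Modules.pullback (toFiber f y K P q hsq)).obj (CohIII.fiberMod f F y) ≅
      (Scheme.Modules.pullback q).obj F :=
    (Scheme.Modules.pullbackComp (toFiber f y K P q hsq) (f.fiberι y)).app F ≪≫
      (Scheme.Modules.pullbackCongr (toFiber_ι f y K P q hsq)).app F
  let e4 : Coh.HH P ((Scheme.Modules.pullback (toFiber f y K P q hsq)).obj (CohIII.fiberMod f F y)) p
      ≃ₗ[K] Coh.HH P ((Scheme.Modules.pullback q).obj F) p :=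
    ((HHfun K p).mapIso i4).toLinearEquiv
  exact ⟨e3 ≪≫ₗ e4⟩

include hsq in
theorem finrank_eq :
    Module.finrank K (Coh.HH P ((Scheme.Modules.pullback q).obj F) p) =
      CohIII.fiberRank f F p y := by
  obtain ⟨e⟩ := main f F y p K P q hsq
  rw [← e.finrank_eq, Module.finrank_baseChange]
  rfl

include hsq in
theorem subsingleton_iff :
    Subsingleton (Coh.HH P ((Scheme.Modules.pullback q).obj F) p) ↔
      Subsingleton (CohIII.fiberH f F y p) := by
  obtain ⟨e⟩ := main f F y p K P q hsq
  rw [← e.toEquiv.subsingleton_congr]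
  haveI : Module.FaithfullyFlat (Y.residueField y) K := inferInstance
  exact Module.FaithfullyFlat.subsingleton_tensorProduct_iff_right (Y.residueField y) K

end Groth.Agent.Lib.Helper6.FibreGlue
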