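import Groth.Agent.Lib.Helper2.BC4
import Groth.Agent.Lib.Helper17.FlatBCH3
import Mathlib

/-!
# Fibre link, part A (helper6): sections of `g'_* g'^* F` over affine opens are `Γ(V, F) ⊗_A B`

For `X` over `Spec A`, `X'` over `Spec B`, `g' : X' ⟶ X` compatible with `A → B`: the `A`-linear map
`tau : Γ(V, F) ⊗_A B → Γ(V, g'_* g'^* F)`, `x ⊗ b ↦ b • g'^*(x)`, natural in `V`, bijective for `V` affine
when the rings of sections form pushout squares (e.g. `X' = X ×_A B`).
-/

set_option backward.isDefEq.respectTransparency.types false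
set_option autoImplicit false
set_option linter.style.haveILetI false
set_option linter.unusedSectionVars false
universe u
open CategoryTheory CategoryTheory.Limits AlgebraicGeometry Opposite TopologicalSpace TensorProduct
noncomputable section

namespace Groth.Agent.Lib.Helper6.FibreLink

open Groth.Agent.Lib.Helper28.QCohLoc Groth.Agent.Lib.Helper28.PullbackInv
  Groth.Agent.Lib.Helper17.FlatBCH1 Groth.Agent.Lib.Helper17.PullbackBC
  Groth.Agent.Lib.Helper2.BC1 Groth.Agent.Lib.Helper2.BC3

variable (A B : Type u) [CommRing A] [CommRing B] [Algebra A B] {X X' : Scheme.{u}}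
  [X.Over (Spec (CommRingCat.of A))] [X'.Over (Spec (CommRingCat.of B))] (g' : X' ⟶ X)
  (F : X.Modules)

/-- compatibility of `g'` with the structure maps, on global functions -/
def Compat : Prop :=
  ∀ a : A, g'.appTop.hom (Coh.toGlobal (X ↘ Spec (CommRingCat.of A)) a) =
    Coh.toGlobal (X' ↘ Spec (CommRingCat.of B)) (algebraMap A B a)

variable {A B g'}

theorem app_algV (hι : Compat (A := A) (B := B) g') (V : X.Opens) (a : A) :
    (g'.app V).hom (algV A V a) = algV B (g' ⁻¹ᵁ V) (algebraMap A B a) := by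
  have h1 := congrArg (fun φ => φ.hom (Coh.toGlobal (X ↘ Spec (CommRingCat.of A)) a))
    (g'.naturality (homOfLE (le_top : V ≤ ⊤)).op)
  refine Eq.trans ?_ (h1.trans ?_)
  · rfl
  · change Coh.resTop X' (op (g' ⁻¹ᵁ V)) (g'.appTop.hom _) = _
    rw [hι a]
    rfl

variable (A B g') in
/-- a section of `g'^* F` over `g'⁻¹ V`, seen as a section of `g'_* g'^* F` over `V` -/
def pmSec (V : X.Opens) (y : Γ((Scheme.Modules.pullback g').obj F, g' ⁻¹ᵁ V)) : Sec A (PM g' F) V := y

theorem pmSec_smul (V : X.Opens) (r : Γ(X, V)) (y : Γ((Scheme.Modules.pullback g').obj F, g' ⁻¹ᵁ V)) :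
    (r • (pmSec A g' F V y).val : Γ(PM g' F, V)) = (pmSec A g' F V ((g'.app V).hom r • y)).val := rfl

variable (A B g') in
/-- the bilinear map `(x, b) ↦ b • g'^*(x)` -/
def tauBil (hι : Compat (A := A) (B := B) g') (V : X.Opens) :
    Sec A F V →ₗ[A] B →ₗ[A] Sec A (PM g' F) V :=
  LinearMap.mk₂ A
    (fun x b => pmSec A g' F V (algV B (g' ⁻¹ᵁ V) b • pbs g' F V x.val))
    (fun x x' b => by
      change pmSec A g' F V (algV B (g' ⁻¹ᵁ V) b • pbs g' F V (x.val + x'.val)) = _
      rw [pbs_add, smul_add]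
      rfl)
    (fun a x b => by
      change pmSec A g' F V (algV B (g' ⁻¹ᵁ V) b • pbs g' F V (algV A V a • x.val)) =
        Sec.mk A (algV A V a • (pmSec A g' F V (algV B (g' ⁻¹ᵁ V) b • pbs g' F V x.val)).val)
      rw [pmSec_smul, pbs_smul, smul_comm]
      rfl)
    (fun x b b' => by
      change pmSec A g' F V (algV B (g' ⁻¹ᵁ V) (b + b') • pbs g' F V x.val) = _
      rw [map_add, add_smul]
      rfl)
    (fun a x b => by
      change pmSec A g' F V (algV B (g' ⁻¹ᵁ V) (a • b) • pbs g' F V x.val) =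
        Sec.mk A (algV A V a • (pmSec A g' F V (algV B (g' ⁻¹ᵁ V) b • pbs g' F V x.val)).val)
      rw [pmSec_smul, Algebra.smul_def, map_mul, mul_smul, app_algV hι]
      rfl)

variable (A B g') in
/-- the canonical map `Γ(V, F) ⊗_A B → Γ(V, g'_* g'^* F)` -/
def tau (hι : Compat (A := A) (B := B) g') (V : X.Opens) : Sec A F V ⊗[A] B →ₗ[A] Sec A (PM g' F) V :=
  TensorProduct.lift (tauBil A B g' F hι V)

theorem tau_tmul (hι : Compat (A := A) (B := B) g') (V : X.Opens) (x : Sec A F V) (b : B) :
    tau A B g' F hι V (x ⊗ₜ[A] b) = pmSec A g' F V (algV B (g' ⁻¹ᵁ V) b • pbs g' F V x.val) := rfl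

/-- naturality of `tau` with respect to restriction -/
theorem tau_res (hι : Compat (A := A) (B := B) g') {V V' : X.Opens} (h : V' ≤ V) (z : Sec A F V ⊗[A] B) :
    resL A (PM g' F) h (tau A B g' F hι V z) = tau A B g' F hι V' ((resL A F h).rTensor B z) := by
  induction z with
  | zero => simp
  | add x y hx hy => rw [map_add, map_add, hx, hy, map_add, map_add]
  | tmul x b =>
    change res ((Scheme.Modules.pullback g').obj F) (g'.preimage_mono h)
        (algV B (g' ⁻¹ᵁ V) b • pbs g' F V x.val) =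
      algV B (g' ⁻¹ᵁ V') b • pbs g' F V' (res F h x.val)
    rw [res_smul, resO_algV, pbs_res]

/-- `tau` is bijective over affine opens whose rings of sections form a pushout square -/
theorem tau_bijective (hι : Compat (A := A) (B := B) g') [F.IsQuasicoherent] {V : X.Opens}
    (hV : IsAffineOpen V) (hV' : IsAffineOpen (g' ⁻¹ᵁ V))
    (hpo : IsPushout (CommRingCat.ofHom (algebraMap A B)) (CommRingCat.ofHom (algV A V))
      (CommRingCat.ofHom (algV B (g' ⁻¹ᵁ V))) (CommRingCat.ofHom (g'.appLE V (g' ⁻¹ᵁ V) le_rfl).hom)) :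
    Function.Bijective (tau A B g' F hι V) := by
  let u : B ⊗[A] Sec A F V →+ Γ((Scheme.Modules.pullback g').obj F, g' ⁻¹ᵁ V) :=
    ((tau A B g' F hι V).toAddMonoidHom.comp
      (TensorProduct.comm A B (Sec A F V)).toLinearMap.toAddMonoidHom)
  have hu_tmul : ∀ (b : B) (x : Sec A F V), u (b ⊗ₜ[A] x) = algV B (g' ⁻¹ᵁ V) b • pbs g' F V x.val :=
    fun b x => rfl
  have hu : ∀ (b : B) (t : B ⊗[A] Sec A F V), u (b • t) = algV B (g' ⁻¹ᵁ V) b • u t := by
    intro b t
    induction t using TensorProduct.induction_on with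
    | zero => rw [smul_zero, map_zero, smul_zero]
    | tmul c x => rw [TensorProduct.smul_tmul', hu_tmul, hu_tmul, smul_eq_mul, map_mul, mul_smul]
    | add s t hs ht => rw [smul_add, map_add, map_add, hs, ht, smul_add]
  have hb : Function.Bijective u := by
    refine bijective_of_isBC_alg (algV A V) (algV B (g' ⁻¹ᵁ V)) (g'.appLE V (g' ⁻¹ᵁ V) le_rfl).hom hpo
      (P := Sec A F V) (T₂ := Γ((Scheme.Modules.pullback g').obj F, g' ⁻¹ᵁ V)) (fun a x => rfl)
      (fun m => res ((Scheme.Modules.pullback g').obj F) le_rfl (pbs g' F V m.val))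
      (isBC_pullback g' hV hV' le_rfl F) u hu ?_
    intro x
    rw [hu_tmul, map_one, one_smul, res_self]
  have : (tau A B g' F hι V : _ → _) = u ∘ (TensorProduct.comm A B (Sec A F V)).symm := by
    funext z
    change _ = tau A B g' F hι V ((TensorProduct.comm A B (Sec A F V))
      ((TensorProduct.comm A B (Sec A F V)).symm z))
    rw [LinearEquiv.apply_symm_apply]
  rw [this]
  exact hb.comp (TensorProduct.comm A B (Sec A F V)).symm.bijective

end Groth.Agent.Lib.Helper6.FibreLink
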