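import Groth.Agent.Lib.Helper6.IntTriv
import Mathlib

/-!
# Triviality of an invertible module descends along a field extension (helper6)

`V` proper and geometrically integral over a field `K`, `L` invertible on `V` with trivial inverse image on
`V ×_K K'`: then `L` is trivial.
-/

set_option backward.isDefEq.respectTransparency.types false
set_option autoImplicit false
set_option linter.style.haveILetI false
set_option linter.unusedSectionVars false
universe u
open CategoryTheory CategoryTheory.Limits AlgebraicGeometry Opposite TopologicalSpace TensorProduct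

noncomputable section
namespace Groth.Agent.Lib.Helper6.FieldDesc

open Groth.Agent.Lib.Helper28 Groth.Agent.Lib.Helper28.QCohLoc Groth.Agent.Lib.Helper28.GenLocus
  Groth.Agent.Lib.Helper28.PullbackInv Groth.Agent.Lib.Helper28.HomMod
  Groth.Agent.Lib.Helper17.FlatMV Groth.Agent.Lib.Helper17.FlatBC
  Groth.Agent.Lib.Helper17.InvDescLoc Groth.Agent.Lib.Helper21.ThickDict Groth.Agent.Lib.Helper6.PicSpread

section Sections

variable {V S S' : Scheme.{u}} (p : V ⟶ S) [QuasiCompact p] [QuasiSeparated p] (g : S' ⟶ S) [Flat g]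
  [IsAffine S] [IsAffine S']

/-- flat base change of global sections detects nonzero sections: if the inverse image of `N` on the (nonempty) base
change along a flat morphism of affine schemes is trivial, then `N` has a nonzero global section -/
theorem exists_section_ne_zero (N : V.Modules) [N.IsQuasicoherent]
    (hne : Nonempty ↥(pullback p g))
    (ε : (Scheme.Modules.pullback (pullback.fst p g)).obj N ≅ Coh.structureModule (pullback p g)) :
    ∃ s : Γ(N, ⊤), s ≠ 0 := by
  by_contra hcon
  have hcon : ∀ s : Γ(N, ⊤), s = 0 := fun s => by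
    by_contra hs
    exact hcon ⟨s, hs⟩
  set g' := pullback.fst p g with hg'
  set f' := pullback.snd p g with hf'
  have h : IsPullback g' f' p g := IsPullback.of_hasPullback p g
  have e : (⊤ : S'.Opens) ≤ g ⁻¹ᵁ (⊤ : S.Opens) := fun _ _ => trivial
  have hW : IsAffineOpen (⊤ : S.Opens) := isAffineOpen_top S
  have hW' : IsAffineOpen (⊤ : S'.Opens) := isAffineOpen_top S'
  have hflat : (g.appLE ⊤ ⊤ e).hom.Flat := Flat.flat_appLE g hW hW' e
  have hUc : IsCompact ((p ⁻¹ᵁ (⊤ : S.Opens) : V.Opens) : Set V) :=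
    QuasiCompact.isCompact_preimage (f := p) _ (⊤ : S.Opens).2 hW.isCompact
  obtain ⟨hc, hbij⟩ := linBij_of_isCompact p g g' f' h e N hW hW' hflat (p ⁻¹ᵁ ⊤) hUc le_rfl
  have hzero : ∀ n : Γ(N, p ⁻¹ᵁ (⊤ : S.Opens)), n = 0 := by
    intro n
    have hle : (⊤ : V.Opens) ≤ p ⁻¹ᵁ (⊤ : S.Opens) := fun _ _ => trivial
    have h1 : n = res N (le_top : p ⁻¹ᵁ (⊤ : S.Opens) ≤ ⊤) (res N hle n) := by
      rw [res_res, res_self]
    rw [h1, hcon (res N hle n), res_zero]
  set D' : (pullback p g).Opens := pr g' f' (⊤ : S'.Opens) (p ⁻¹ᵁ ⊤) with hD'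
  have ht := (isGen_secOf_inv _ ε).res (le_top : D' ≤ ⊤)
  letI := (g.appLE ⊤ ⊤ e).hom.toAlgebra
  have hlin : ∀ z, lin (cU p g' f' (W := (⊤ : S.Opens)) (W' := (⊤ : S'.Opens)) N (p ⁻¹ᵁ ⊤) le_rfl) hc z = 0 := by
    intro z
    induction z using TensorProduct.induction_on with
    | zero => exact map_zero _
    | tmul a' n =>
      rw [lin_tmul]
      have : n = 0 := hzero n
      rw [this, map_zero, smul_zero]
    | add z₁ z₂ h₁ h₂ => rw [map_add, h₁, h₂, add_zero]
  obtain ⟨z, hz⟩ := hbij.2 (show SecOver f' (⊤ : S'.Opens) ((Scheme.Modules.pullback g').obj N) D'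
    (pr_le_right g' f' _) from res _ (le_top : D' ≤ ⊤) (secOf ε.inv))
  have hτ : res ((Scheme.Modules.pullback g').obj N) (le_top : D' ≤ ⊤) (secOf ε.inv) = 0 := by
    exact hz.symm.trans (hlin z)
  have h10 : (1 : Γ(pullback p g, D')) = 0 := by
    apply (ht D' le_rfl).1
    show ((1 : Γ(pullback p g, D')) • res _ le_rfl (res _ (le_top : D' ≤ ⊤) (secOf ε.inv)) :
        Γ((Scheme.Modules.pullback g').obj N, D')) =
      ((0 : Γ(pullback p g, D')) • res _ le_rfl (res _ (le_top : D' ≤ ⊤) (secOf ε.inv)) :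
        Γ((Scheme.Modules.pullback g').obj N, D'))
    rw [hτ, res_zero, smul_zero, smul_zero]
  have hbot : D' = ⊥ := by
    have h1 := (pullback p g).basicOpen_of_isUnit (U := D') (f := 1) isUnit_one
    rw [h10, Scheme.basicOpen_zero] at h1
    exact h1.symm
  obtain ⟨z⟩ := hne
  have hzD : z ∈ D' := ⟨trivial, trivial⟩
  rw [hbot] at hzD
  exact hzD

end Sections

section Main

variable (K : Type u) [Field K] {V : Scheme.{u}} (p : V ⟶ Spec (CommRingCat.of K)) [IsProper p]
  [GeometricallyIntegral p] (K' : Type u) [Field K'] [Algebra K K']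

/-- **S8124** -/
theorem main (L : V.Modules) (hL : PicF.IsInvertible L)
    (h : Nonempty ((Scheme.Modules.pullback
        (pullback.fst p (Spec.map (CommRingCat.ofHom (algebraMap K K'))))).obj L ≅
        Coh.structureModule (pullback p (Spec.map (CommRingCat.ofHom (algebraMap K K')))))) :
    Nonempty (L ≅ Coh.structureModule V) := by
  haveI : IsIntegral V := GeometricallyIntegral.isIntegral_of_subsingleton p
  set g := Spec.map (CommRingCat.ofHom (algebraMap K K')) with hg
  haveI : Flat g := by
    rw [hg, Flat.SpecMap_iff]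
    exact (RingHom.flat_algebraMap_iff).2 inferInstance
  have hK : PicF.IsInvertible (dual L) := isInvertible_dual hL
  haveI : L.IsQuasicoherent := Groth.Agent.Lib.Helper28.InvQC.isQuasicoherent_of_isInvertible L hL
  haveI : (dual L).IsQuasicoherent := Groth.Agent.Lib.Helper28.InvQC.isQuasicoherent_of_isInvertible _ hK
  have hO : PicF.IsInvertible (Coh.structureModule V) :=
    Groth.Agent.Lib.Helper28.GenLocus.isInvertible_of_isGen _ fun x =>
      ⟨⊤, oneSec V ⊤, trivial, isGen_oneSec ⊤⟩
  -- the base change is nonempty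
  have hne : Nonempty ↥(pullback p g) := by
    obtain ⟨x⟩ : Nonempty V := inferInstance
    obtain ⟨y⟩ : Nonempty ↥(Spec (CommRingCat.of K')) := inferInstance
    obtain ⟨z, -, -⟩ := Scheme.Pullback.exists_preimage_pullback (f := p) (g := g) x y
      (Subsingleton.elim _ _)
    exact ⟨z⟩
  obtain ⟨ε⟩ := h
  -- the dual is also trivial on the base change
  obtain ⟨ε'⟩ : Nonempty ((Scheme.Modules.pullback (pullback.fst p g)).obj (dual L) ≅
      Coh.structureModule (pullback p g)) := by
    obtain ⟨ν⟩ := Groth.Agent.Lib.Helper6.InvDual.nonempty_pullback_tensor_dual_iso (pullback.fst p g) L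
      (Coh.structureModule V) hL hO
      ⟨ε ≪≫ (Groth.Agent.Lib.Helper16.RS.pullbackUnitIso (pullback.fst p g)).symm⟩
    obtain ⟨u⟩ := Groth.Agent.Lib.Helper28.InvQC.nonempty_unit_tensor_iso (dual L)
    exact ⟨(Scheme.Modules.pullback (pullback.fst p g)).mapIso u.symm ≪≫ ν⟩
  obtain ⟨s, hs⟩ := exists_section_ne_zero p g L hne ε
  obtain ⟨t, ht⟩ := exists_section_ne_zero p g (dual L) hne ε'
  have hF : IsField Γ(V, ⊤) := isField_of_universallyClosed K p
  refine Groth.Agent.Lib.Helper6.IntTriv.nonempty_iso_of_sections ?_ L hL s hs t ht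
  intro c hc
  obtain ⟨d, hd⟩ := hF.mul_inv_cancel hc
  exact IsUnit.of_mul_eq_one d hd

end Main

end Groth.Agent.Lib.Helper6.FieldDesc
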