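import Groth.Agent.Lib.Helper6.FibreUSC
import Groth.Agent.Lib.Helper6.FieldDesc
import Groth.Agent.Lib.Helper8.DualSec
import Groth.Agent.Lib.Helper4.ProperFinal
import Mathlib

/-!
# The locus where an invertible module is trivial on the fibres is closed (helper6)

`f : X ⟶ Y` proper flat with geometrically integral fibres, `Y` locally noetherian: `L_y ≅ O` iff `h⁰(L_y) ≥ 1` and
`h⁰(L_y^∨) ≥ 1`; conclude by upper semicontinuity.
-/

set_option backward.isDefEq.respectTransparency.types false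
set_option autoImplicit false
set_option linter.style.haveILetI false
set_option linter.unusedSectionVars false
universe u
open CategoryTheory CategoryTheory.Limits AlgebraicGeometry Opposite TopologicalSpace TensorProduct

noncomputable section
namespace Groth.Agent.Lib.Helper6.FibreTriv

open Groth.Agent.Lib.Helper28 Groth.Agent.Lib.Helper28.QCohLoc Groth.Agent.Lib.Helper28.GenLocus
  Groth.Agent.Lib.Helper28.PullbackInv Groth.Agent.Lib.Helper28.HomMod

variable {Z : Scheme.{u}}

/-- `H⁰(Z, M) ≃ Γ(M, ⊤)`, additive. -/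
def eH0 (M : Z.Modules) : Coh.HH Z M 0 ≃+ Γ(M, ⊤) :=
  Sheaf.H.equiv₀ (Coh.toAb M) Limits.isTerminalTop

/-- uniqueness of inverses: if `P ⊗ Q ≅ O` with `P` invertible then `Q ≅ P^∨` -/
theorem nonempty_iso_dual_of_tensor_iso (P Q : Z.Modules) (hP : PicF.IsInvertible P)
    (κ' : CohB1.tensorMod P Q ≅ Coh.structureModule Z) : Nonempty (Q ≅ dual P) := by
  obtain ⟨κ⟩ := Groth.Agent.Lib.Helper6.InvDual.nonempty_tensor_dual_iso P hP
  obtain ⟨u1⟩ := Groth.Agent.Lib.Helper28.InvQC.nonempty_unit_tensor_iso (dual P)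
  obtain ⟨u2⟩ := Groth.Agent.Lib.Helper28.InvQC.nonempty_unit_tensor_iso Q
  have b1 : CohB1.tensorMod (dual P) (Coh.structureModule Z) ≅
      CohB1.tensorMod (Coh.structureModule Z) (dual P) :=
    Groth.Agent.Lib.Helper6.K0Inv.braidIso (dual P) (Coh.structureModule Z)
  have t1 : CohB1.tensorMod (dual P) (CohB1.tensorMod P Q) ≅
      CohB1.tensorMod (dual P) (Coh.structureModule Z) :=
    PicGrp.tensorModIso (Iso.refl (dual P)) κ'
  have a : CohB1.tensorMod (CohB1.tensorMod (dual P) P) Q ≅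
      CohB1.tensorMod (dual P) (CohB1.tensorMod P Q) :=
    Groth.Agent.Lib.Helper16.TA.assocIso (dual P) P Q
  have t2 : CohB1.tensorMod (CohB1.tensorMod (dual P) P) Q ≅
      CohB1.tensorMod (CohB1.tensorMod P (dual P)) Q :=
    PicGrp.tensorModIso (Groth.Agent.Lib.Helper6.K0Inv.braidIso (dual P) P) (Iso.refl Q)
  have t3 : CohB1.tensorMod (CohB1.tensorMod P (dual P)) Q ≅
      CohB1.tensorMod (Coh.structureModule Z) Q :=
    PicGrp.tensorModIso κ (Iso.refl Q)
  exact ⟨u2.symm ≪≫ t3.symm ≪≫ t2.symm ≪≫ a ≪≫ t1 ≪≫ b1 ≪≫ u1⟩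

/-- **pullback commutes with duals** of invertible modules -/
theorem nonempty_pullback_dual_iso {X : Scheme.{u}} (q : Z ⟶ X) (L : X.Modules)
    (hL : PicF.IsInvertible L) :
    Nonempty ((Scheme.Modules.pullback q).obj (dual L) ≅ dual ((Scheme.Modules.pullback q).obj L)) := by
  have hK : PicF.IsInvertible (dual L) := isInvertible_dual hL
  obtain ⟨ψ, -⟩ := exists_pullback_tensorMod_iso q hL hK
  obtain ⟨κ⟩ := Groth.Agent.Lib.Helper6.InvDual.nonempty_tensor_dual_iso L hL
  exact nonempty_iso_dual_of_tensor_iso _ _ (isInvertible_pullback q hL)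
    (ψ.symm ≪≫ (Scheme.Modules.pullback q).mapIso κ ≪≫ Groth.Agent.Lib.Helper16.RS.pullbackUnitIso q)

variable {X Y : Scheme.{u}} (f : X ⟶ Y) (y : Y)

instance [IsProper f] : IsProper (f.fiberToSpecResidueField y) :=
  inferInstanceAs (IsProper (pullback.snd f (Y.fromSpecResidueField y)))

theorem finite_fiberH [IsProper f] (M : X.Modules) (hM : Coh.IsCoh (CohIII.fiberMod f M y)) (p : ℕ) :
    Module.Finite (Y.residueField y) (CohIII.fiberH f M y p) := by
  letI : (f.fiber y).Over (Spec (CommRingCat.of ↑(Y.residueField y))) :=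
    ⟨f.fiberToSpecResidueField y⟩
  haveI : IsProper ((f.fiber y) ↘ Spec (CommRingCat.of ↑(Y.residueField y))) :=
    inferInstanceAs (IsProper (f.fiberToSpecResidueField y))
  exact Groth.Agent.Lib.Helper4.ProperFinal.finite_HH (Y.residueField y) (f.fiber y)
    (CohIII.fiberMod f M y) hM p

theorem exists_section_ne_zero_of_iso [Nontrivial Γ(Z, ⊤)] (M : Z.Modules)
    (ε : M ≅ Coh.structureModule Z) : ∃ s : Γ(M, ⊤), s ≠ 0 := by
  refine ⟨secOf ε.inv, fun h0 => ?_⟩
  have hg := Groth.Agent.Lib.Helper21.ThickDict.isGen_secOf_inv M ε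
  have h1 : (1 : Γ(Z, ⊤)) = 0 := by
    apply (hg ⊤ le_rfl).1
    show ((1 : Γ(Z, ⊤)) • res M le_rfl (secOf ε.inv) : Γ(M, ⊤)) =
      ((0 : Γ(Z, ⊤)) • res M le_rfl (secOf ε.inv) : Γ(M, ⊤))
    rw [h0, res_zero, smul_zero, smul_zero]
  exact one_ne_zero h1

section Char

variable [IsProper f]

theorem one_le_fiberRank_of_section (M : X.Modules) (hM : Coh.IsCoh (CohIII.fiberMod f M y))
    (s : Γ(CohIII.fiberMod f M y, ⊤)) (hs : s ≠ 0) : 1 ≤ CohIII.fiberRank f M 0 y := by
  haveI := finite_fiberH f y M hM 0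
  have : 0 < Module.finrank (Y.residueField y) (CohIII.fiberH f M y 0) := by
    apply Module.finrank_pos_iff_exists_ne_zero.2
    refine ⟨(eH0 (CohIII.fiberMod f M y)).symm s, fun h => hs ?_⟩
    have := congrArg (eH0 (CohIII.fiberMod f M y)) h
    rwa [AddEquiv.apply_symm_apply, map_zero] at this
  exact this

theorem exists_section_of_one_le_fiberRank (M : X.Modules) (h : 1 ≤ CohIII.fiberRank f M 0 y) :
    ∃ s : Γ(CohIII.fiberMod f M y, ⊤), s ≠ 0 := by
  haveI : Nontrivial (CohIII.fiberH f M y 0) :=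
    Module.nontrivial_of_finrank_pos (R := Y.residueField y) h
  obtain ⟨x, hx⟩ := exists_ne (0 : CohIII.fiberH f M y 0)
  refine ⟨eH0 (CohIII.fiberMod f M y) x, fun h0 => hx ?_⟩
  have := congrArg (eH0 (CohIII.fiberMod f M y)).symm h0
  rwa [AddEquiv.symm_apply_apply, map_zero] at this

variable [IsIntegral (f.fiber y)] (L : X.Modules) (hL : PicF.IsInvertible L)

include hL in
theorem trivial_iff : Nonempty (CohIII.fiberMod f L y ≅ Coh.structureModule (f.fiber y)) ↔
    1 ≤ CohIII.fiberRank f L 0 y ∧ 1 ≤ CohIII.fiberRank f (dual L) 0 y := by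
  have hK : PicF.IsInvertible (dual L) := isInvertible_dual hL
  have hP : PicF.IsInvertible (CohIII.fiberMod f L y) := isInvertible_pullback _ hL
  have hQ : PicF.IsInvertible (CohIII.fiberMod f (dual L) y) := isInvertible_pullback _ hK
  haveI : IsDomain Γ(f.fiber y, ⊤) := inferInstance
  constructor
  · rintro ⟨ε⟩
    have hO : PicF.IsInvertible (Coh.structureModule X) :=
      Groth.Agent.Lib.Helper28.GenLocus.isInvertible_of_isGen _ fun x =>
        ⟨⊤, oneSec X ⊤, trivial, isGen_oneSec ⊤⟩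
    obtain ⟨ε'⟩ : Nonempty (CohIII.fiberMod f (dual L) y ≅ Coh.structureModule (f.fiber y)) := by
      obtain ⟨ν⟩ := Groth.Agent.Lib.Helper6.InvDual.nonempty_pullback_tensor_dual_iso (f.fiberι y) L
        (Coh.structureModule X) hL hO
        ⟨ε ≪≫ (Groth.Agent.Lib.Helper16.RS.pullbackUnitIso (f.fiberι y)).symm⟩
      obtain ⟨u⟩ := Groth.Agent.Lib.Helper28.InvQC.nonempty_unit_tensor_iso (dual L)
      exact ⟨(Scheme.Modules.pullback (f.fiberι y)).mapIso u.symm ≪≫ ν⟩
    obtain ⟨s, hs⟩ := exists_section_ne_zero_of_iso _ ε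
    obtain ⟨t, ht⟩ := exists_section_ne_zero_of_iso _ ε'
    exact ⟨one_le_fiberRank_of_section f y L (Groth.Agent.Lib.Helper6.K0Op.isCoh_of_isInvertible _ hP) s hs,
      one_le_fiberRank_of_section f y (dual L)
        (Groth.Agent.Lib.Helper6.K0Op.isCoh_of_isInvertible _ hQ) t ht⟩
  · rintro ⟨h1, h2⟩
    obtain ⟨s, hs⟩ := exists_section_of_one_le_fiberRank f y L h1
    obtain ⟨t', ht'⟩ := exists_section_of_one_le_fiberRank f y (dual L) h2
    obtain ⟨φ⟩ := nonempty_pullback_dual_iso (f.fiberι y) L hL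
    have hF : IsField Γ(f.fiber y, ⊤) :=
      isField_of_universallyClosed (Y.residueField y) (f.fiberToSpecResidueField y)
    refine Groth.Agent.Lib.Helper6.IntTriv.nonempty_iso_of_sections ?_ _ hP s hs (φ.hom.app ⊤ t') ?_
    · intro c hc
      obtain ⟨d, hd⟩ := hF.mul_inv_cancel hc
      exact IsUnit.of_mul_eq_one d hd
    · intro h0
      apply ht'
      have := congrArg (φ.inv.app ⊤) h0
      rwa [Groth.Agent.Lib.Helper8.DualSec.iso_inv_hom_app, map_zero] at this

end Char

section Closed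

variable [IsProper f] [Flat f] [IsLocallyNoetherian Y]

/-- **S16760** -/
theorem isClosed_trivial_locus
    (hgeo : ∀ (K : Type u) [Field K] (x : Spec (CommRingCat.of K) ⟶ Y), IsIntegral (pullback f x))
    (L : X.Modules) (hL : PicF.IsInvertible L) :
    IsClosed {y : Y | Nonempty (CohIII.fiberMod f L y ≅ Coh.structureModule (f.fiber y))} := by
  have hK : PicF.IsInvertible (dual L) := isInvertible_dual hL
  have h1 := (upperSemicontinuous_iff_isClosed_preimage.1
    (Groth.Agent.Lib.Helper6.FibreUSC.upperSemicontinuous_fiberRank f L hL 0)) 1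
  have h2 := (upperSemicontinuous_iff_isClosed_preimage.1
    (Groth.Agent.Lib.Helper6.FibreUSC.upperSemicontinuous_fiberRank f (dual L) hK 0)) 1
  have heq : {y : Y | Nonempty (CohIII.fiberMod f L y ≅ Coh.structureModule (f.fiber y))} =
      ((fun y => CohIII.fiberRank f L 0 y) ⁻¹' Set.Ici 1) ∩
        ((fun y => CohIII.fiberRank f (dual L) 0 y) ⁻¹' Set.Ici 1) := by
    ext y
    haveI : IsIntegral (f.fiber y) := hgeo (Y.residueField y) (Y.fromSpecResidueField y)
    exact trivial_iff f y L hL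
  rw [heq]
  exact h1.inter h2

end Closed

end Groth.Agent.Lib.Helper6.FibreTriv
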