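import Groth.Agent.Lib.Helper6.FibreLinkD
import Groth.Agent.Lib.Helper6.PicFibreA
import Groth.Agent.Lib.helper11.DRank
import Groth.Agent.Lib.Helper28.AmpleIso
import Mathlib

/-!
# Upper semicontinuity of the fibre ranks `y ↦ dim H^p(X_y, L_y)` (helper6)

`f : X ⟶ Y` proper and flat, `Y` locally noetherian, `L` an invertible `O_X`-module.
-/

set_option backward.isDefEq.respectTransparency.types false
set_option autoImplicit false
set_option linter.style.haveILetI false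
set_option linter.unusedSectionVars false
universe u
open CategoryTheory CategoryTheory.Limits AlgebraicGeometry Opposite TopologicalSpace TensorProduct

noncomputable section
namespace Groth.Agent.Lib.Helper6.FibreUSC

open Groth.Agent.Lib.Helper6.FibreLink Groth.Agent.Lib.Helper6.FibreGlue

section Abstract

theorem exists_complex_finrank (A : Type u) [CommRing A] [IsNoetherianRing A]
    (X : Scheme.{u}) [X.Over (Spec (CommRingCat.of A))] [IsProper (X ↘ Spec (CommRingCat.of A))]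
    (F : X.Modules) (hF : Coh.IsCoh F) (hfl : FlatMod.IsFlatOver (X ↘ Spec (CommRingCat.of A)) F) :
    ∃ L : CochainComplex (ModuleCat.{u} A) ℤ,
      (∀ i, Module.Finite A (L.X i) ∧ Module.Flat A (L.X i)) ∧
      ∀ (p : ℕ) (𝔭 : PrimeSpectrum A),
        CohIII.dRank L (p : ℤ) 𝔭 = Module.finrank 𝔭.asIdeal.ResidueField
          (Coh.HH (fibX X 𝔭) ((Scheme.Modules.pullback (pullback.fst (X ↘ Spec (CommRingCat.of A))
            (Spec.map (CommRingCat.ofHom (algebraMap A 𝔭.asIdeal.ResidueField))))).obj F) p) := by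
  obtain ⟨L, t, h1, -, -, hbc⟩ := exists_grothendieck_complex_fibre A X F hF hfl
  refine ⟨L, fun i => ⟨(h1 i).1, haveI := (h1 i).2; inferInstance⟩, fun p 𝔭 => ?_⟩
  obtain ⟨e, he⟩ := hbc 𝔭.asIdeal.ResidueField (fibX X 𝔭) _ (isPullback_fibX (X := X) 𝔭) p
  exact dRank_eq_finrank 𝔭 L (p : ℤ) e he

end Abstract

section Affine

variable {X Y : Scheme.{u}} (f : X ⟶ Y) [IsProper f] [IsLocallyNoetherian Y]
  (F : X.Modules) (V : Y.Opens) [IsAffine (V : Scheme.{u})]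

/-- the structure of `f⁻¹ V` over `Spec Γ(V, ⊤)` -/
@[reducible] def overV : (f ⁻¹ᵁ V : Scheme.{u}).Over (Spec (CommRingCat.of Γ((V : Scheme.{u}), ⊤))) :=
  ⟨(f ∣_ V) ≫ (V : Scheme.{u}).isoSpec.hom⟩

theorem exists_complex_affine [F.IsQuasicoherent]
    (hF : Coh.IsCoh (F.restrict (f ⁻¹ᵁ V).ι))
    (hfl : FlatMod.IsFlatOver ((f ∣_ V) ≫ (V : Scheme.{u}).isoSpec.hom) (F.restrict (f ⁻¹ᵁ V).ι)) :
    ∃ L : CochainComplex (ModuleCat.{u} Γ((V : Scheme.{u}), ⊤)) ℤ,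
      (∀ i, Module.Finite Γ((V : Scheme.{u}), ⊤) (L.X i) ∧ Module.Flat Γ((V : Scheme.{u}), ⊤) (L.X i)) ∧
      ∀ (p : ℕ) (𝔭 : PrimeSpectrum Γ((V : Scheme.{u}), ⊤)),
        CohIII.dRank L (p : ℤ) 𝔭 = CohIII.fiberRank f F p (ptV V 𝔭) := by
  letI := overV f V
  haveI : IsProper ((f ⁻¹ᵁ V : Scheme.{u}) ↘ Spec (CommRingCat.of Γ((V : Scheme.{u}), ⊤))) := by
    change IsProper ((f ∣_ V) ≫ (V : Scheme.{u}).isoSpec.hom)
    infer_instance
  haveI : IsNoetherianRing Γ((V : Scheme.{u}), ⊤) := by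
    haveI : IsLocallyNoetherian (V : Scheme.{u}) := isLocallyNoetherian_of_isOpenImmersion V.ι
    exact IsLocallyNoetherian.component_noetherian ⟨⊤, isAffineOpen_top _⟩
  have hfl' : FlatMod.IsFlatOver ((f ⁻¹ᵁ V : Scheme.{u}) ↘ Spec (CommRingCat.of Γ((V : Scheme.{u}), ⊤)))
      (F.restrict (f ⁻¹ᵁ V).ι) := hfl
  have key := exists_complex_finrank Γ((V : Scheme.{u}), ⊤)
    (f ⁻¹ᵁ V : Scheme.{u}) (F.restrict (f ⁻¹ᵁ V).ι) hF hfl'
  obtain ⟨L, h1, h2⟩ := key
  refine ⟨L, h1, fun p 𝔭 => ?_⟩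
  rw [h2 p 𝔭]
  exact finrank_eq_affine f F p V 𝔭 (fibX (f ⁻¹ᵁ V : Scheme.{u}) 𝔭) _
    (isPullback_fibX (X := (f ⁻¹ᵁ V : Scheme.{u})) 𝔭)

end Affine

section USC

theorem usc_transfer {T : Type*} [TopologicalSpace T] (V : Opens T) {P : Type*}
    [TopologicalSpace P] (φ : V → P) (hφ : Continuous φ) (g : P → ℕ)
    (hg : UpperSemicontinuous g) (r : T → ℕ) (hr : ∀ v : V, g (φ v) = r v.1)
    (y : T) (hy : y ∈ V) : UpperSemicontinuousAt r y := by
  intro c hc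
  have h1 : ∀ᶠ 𝔭 in nhds (φ ⟨y, hy⟩), g 𝔭 < c := hg (φ ⟨y, hy⟩) c (by show g (φ ⟨y, hy⟩) < c; rw [hr]; exact hc)
  have h3 : ∀ᶠ v : V in nhds ⟨y, hy⟩, g (φ v) < c := hφ.continuousAt.eventually h1
  have h2 : ∀ᶠ v : V in nhds ⟨y, hy⟩, r v.1 < c := by
    filter_upwards [h3] with v hv
    rw [hr] at hv
    exact hv
  rw [← V.2.isOpenEmbedding_subtypeVal.map_nhds_eq ⟨y, hy⟩]
  exact Filter.eventually_map.mpr h2

variable {X Y : Scheme.{u}} (f : X ⟶ Y) [IsProper f] [Flat f] [IsLocallyNoetherian Y]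
  (L : X.Modules) (hL : PicF.IsInvertible L)

theorem continuous_primeV (V : Y.Opens) [IsAffine (V : Scheme.{u})] :
    Continuous (fun v : V => primeV V v.1 v.2) :=
  (V : Scheme.{u}).isoSpec.hom.continuous

include hL in
theorem exists_complex_of_isInvertible (V : Y.Opens) [IsAffine (V : Scheme.{u})] :
    ∃ K : CochainComplex (ModuleCat.{u} Γ((V : Scheme.{u}), ⊤)) ℤ,
      (∀ i, Module.Finite Γ((V : Scheme.{u}), ⊤) (K.X i) ∧ Module.Flat Γ((V : Scheme.{u}), ⊤) (K.X i)) ∧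
      ∀ (p : ℕ) (𝔭 : PrimeSpectrum Γ((V : Scheme.{u}), ⊤)),
        CohIII.dRank K (p : ℤ) 𝔭 = CohIII.fiberRank f L p (ptV V 𝔭) := by
  have hLr : PicF.IsInvertible (L.restrict (f ⁻¹ᵁ V).ι) :=
    Groth.Agent.Lib.Helper28.AmpleIso.isInvertible_restrict _ L hL
  haveI : L.IsQuasicoherent :=
    Groth.Agent.Lib.Helper28.InvQC.isQuasicoherent_of_isInvertible L hL
  haveI : (L.restrict (f ⁻¹ᵁ V).ι).IsQuasicoherent :=
    Groth.Agent.Lib.Helper28.InvQC.isQuasicoherent_of_isInvertible _ hLr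
  have hF := Groth.Agent.Lib.Helper6.K0Op.isCoh_of_isInvertible _ hLr
  haveI : Flat ((f ∣_ V) ≫ (V : Scheme.{u}).isoSpec.hom) := inferInstance
  have hfl := Groth.Agent.Lib.Helper6.PicFibre.isFlatOver_of_isInvertible
    ((f ∣_ V) ≫ (V : Scheme.{u}).isoSpec.hom) _ hLr
  exact exists_complex_affine f L V hF hfl

include hL in
theorem upperSemicontinuous_fiberRank (p : ℕ) :
    UpperSemicontinuous (fun y => CohIII.fiberRank f L p y) := by
  intro y
  obtain ⟨V, hV, hyV, -⟩ := Opens.isBasis_iff_nbhd.mp Y.isBasis_affineOpens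
    (show y ∈ (⊤ : Y.Opens) from trivial)
  haveI : IsAffine (V : Scheme.{u}) := hV
  obtain ⟨K, hK, hrank⟩ := exists_complex_of_isInvertible f L hL V
  haveI : IsNoetherianRing Γ((V : Scheme.{u}), ⊤) := by
    haveI : IsLocallyNoetherian (V : Scheme.{u}) :=
      isLocallyNoetherian_of_isOpenImmersion (Scheme.Opens.ι V)
    exact IsLocallyNoetherian.component_noetherian ⟨⊤, isAffineOpen_top _⟩
  have husc := Groth.Agent.Lib.helper11.DRank.dRank_upperSemicontinuous K hK (p : ℤ)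
  refine usc_transfer V (fun v : V => primeV V v.1 v.2) (continuous_primeV V) _ husc _
    (fun v => ?_) y hyV
  rw [hrank, ptV_primeV]

end USC

end Groth.Agent.Lib.Helper6.FibreUSC
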