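import Mathlib
import Groth.Prelude.Def_CohTop

/-!
# Towers of flasque sheaves (helper6)

Sections of a limit of an `ℕᵒᵖ`-tower of abelian sheaves are the compatible families;
left exactness of sections; flasque towers.
-/

universe u

open CategoryTheory Limits Opposite TopologicalSpace

namespace Groth.Agent.Lib.Helper6.FlasqueTower

/-- A family compatible with the successor maps is a section of an `ℕᵒᵖ`-diagram of types. -/
lemma mem_sections_of_succ (G : ℕᵒᵖ ⥤ Type u) (x : ∀ n : ℕ, G.obj (op n))
    (hx : ∀ n, G.map (homOfLE (Nat.le_succ n)).op (x (n + 1)) = x n) :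
    (fun j : ℕᵒᵖ => x j.unop) ∈ G.sections := by
  have key : ∀ (k m : ℕ) (f : (op (m + k) : ℕᵒᵖ) ⟶ op m), G.map f (x (m + k)) = x m := by
    intro k
    induction k with
    | zero =>
      intro m f
      have : f = 𝟙 _ := Quiver.Hom.unop_inj (Subsingleton.elim _ _)
      subst this
      simp
    | succ k ih =>
      intro m f
      have : f = (homOfLE (Nat.le_succ (m + k))).op ≫ (homOfLE (Nat.le_add_right m k)).op :=
        Quiver.Hom.unop_inj (Subsingleton.elim _ _)
      rw [this, G.map_comp]
      change G.map _ (G.map _ (x (m + k + 1))) = _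
      rw [hx, ih]
  intro j j' f
  obtain ⟨n⟩ := j
  obtain ⟨m⟩ := j'
  have hmn : m ≤ n := leOfHom f.unop
  obtain ⟨k, rfl⟩ := Nat.exists_eq_add_of_le hmn
  exact key k m f

variable {X : TopCat.{u}}

/-- sections over `U` -/
noncomputable abbrev sec (U : Opens X) : CohTop.Ab X ⥤ AddCommGrpCat.{u} :=
  sheafToPresheaf _ _ ⋙ (evaluation _ _).obj (op U)

variable (M : ℕᵒᵖ ⥤ CohTop.Ab X)

/-- sections of the limit sheaf are compatible families -/
noncomputable def secEquiv (U : Opens X) :
    ((limit M).obj.obj (op U) : Type u) ≃ (M ⋙ sec U ⋙ forget AddCommGrpCat.{u}).sections :=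
  Types.isLimitEquivSections
    (isLimitOfPreserves (sec U ⋙ forget AddCommGrpCat.{u}) (limit.isLimit M))

lemma secEquiv_apply (U : Opens X) (s : (limit M).obj.obj (op U)) (n : ℕ) :
    (secEquiv M U s).1 (op n) = (limit.π M (op n)).hom.app (op U) s := rfl

lemma sections_ext (U : Opens X) (s s' : (limit M).obj.obj (op U))
    (h : ∀ n : ℕ, (limit.π M (op n)).hom.app (op U) s = (limit.π M (op n)).hom.app (op U) s') :
    s = s' := by
  apply (secEquiv M U).injective
  ext ⟨n⟩
  exact h n

lemma sections_exists (U : Opens X) (x : ∀ n : ℕ, (M.obj (op n)).obj.obj (op U))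
    (hx : ∀ n, (M.map (homOfLE (Nat.le_succ n)).op).hom.app (op U) (x (n + 1)) = x n) :
    ∃ s : (limit M).obj.obj (op U), ∀ n : ℕ, (limit.π M (op n)).hom.app (op U) s = x n := by
  have hmem : (fun j : ℕᵒᵖ => x j.unop) ∈ (M ⋙ sec U ⋙ forget AddCommGrpCat.{u}).sections :=
    mem_sections_of_succ (M ⋙ sec U ⋙ forget AddCommGrpCat.{u}) x hx
  refine ⟨(secEquiv M U).symm ⟨_, hmem⟩, fun n => ?_⟩
  have := congrArg (fun t => t.1 (op n)) ((secEquiv M U).apply_symm_apply ⟨_, hmem⟩)
  exact this

/-- left exactness of sections -/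
lemma exists_of_g_eq_zero {S : ShortComplex (CohTop.Ab X)} (hS : S.ShortExact) (U : Opens X)
    (y : S.X₂.obj.obj (op U)) (hy : S.g.hom.app (op U) y = 0) :
    ∃ x : S.X₁.obj.obj (op U), S.f.hom.app (op U) x = y := by
  have := hS.mono_f
  have h := hS.exact.map_of_mono_of_preservesKernel (sec U) hS.mono_f inferInstance
  rw [ShortComplex.ab_exact_iff] at h
  exact h y hy

/-- the kernel short exact sequence of an epimorphism -/
lemma kernel_shortExact {A B : CohTop.Ab X} (π : A ⟶ B) [Epi π] :
    (ShortComplex.mk (kernel.ι π) π (kernel.condition π)).ShortExact :=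
  ShortComplex.ShortExact.mk' (ShortComplex.exact_of_f_is_kernel _ (kernelIsKernel _))
    equalizer.ι_mono ‹_›

/-- an epi with flasque kernel is onto on sections -/
lemma surjective_of_flasque_kernel {A B : CohTop.Ab X} (π : A ⟶ B) [Epi π]
    (hK : TopCat.Sheaf.IsFlasque (kernel π : CohTop.Ab X)) (U : Opens X) :
    Function.Surjective (π.hom.app (op U)) := by
  rw [← AddCommGrpCat.epi_iff_surjective]
  have : TopCat.Sheaf.IsFlasque (ShortComplex.mk (kernel.ι π) π (kernel.condition π)).X₁ := hK
  exact TopCat.Sheaf.IsFlasque.epi_of_shortExact (kernel_shortExact π)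

/-- the limit of a flasque tower is flasque -/
theorem isFlasque_limit
    (h1 : ∀ n : ℕ, TopCat.Sheaf.IsFlasque (M.obj (op n)))
    (h2 : ∀ n : ℕ, Epi (M.map (homOfLE (Nat.le_succ n)).op))
    (h3 : ∀ n : ℕ, TopCat.Sheaf.IsFlasque
      (kernel (M.map (homOfLE (Nat.le_succ n)).op) : CohTop.Ab X)) :
    TopCat.Sheaf.IsFlasque (limit M : CohTop.Ab X) := by
  refine ⟨fun {U V} i => ?_⟩
  obtain ⟨U⟩ := U
  obtain ⟨V⟩ := V
  rw [AddCommGrpCat.epi_iff_surjective]
  intro s
  let sV : ∀ n : ℕ, (M.obj (op n)).obj.obj (op V) :=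
    fun n => (limit.π M (op n)).hom.app (op V) s
  have hsV : ∀ n, (M.map (homOfLE (Nat.le_succ n)).op).hom.app (op V) (sV (n + 1)) = sV n := by
    intro n
    have hw := limit.w M (homOfLE (Nat.le_succ n)).op
    have := congrArg (fun φ => φ.hom.app (op V) s) hw
    exact this
  have base : ∃ t : (M.obj (op 0)).obj.obj (op U), (M.obj (op 0)).obj.map i t = sV 0 := by
    have := (h1 0).epi i
    rw [AddCommGrpCat.epi_iff_surjective] at this
    exact this _
  have step : ∀ (n : ℕ) (t : (M.obj (op n)).obj.obj (op U)),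
      (M.obj (op n)).obj.map i t = sV n →
      ∃ t' : (M.obj (op (n + 1))).obj.obj (op U),
        (M.obj (op (n + 1))).obj.map i t' = sV (n + 1) ∧
        (M.map (homOfLE (Nat.le_succ n)).op).hom.app (op U) t' = t := by
    intro n t ht
    have := h2 n
    obtain ⟨a, ha⟩ := surjective_of_flasque_kernel (M.map (homOfLE (Nat.le_succ n)).op) (h3 n) U t
    have hd : (M.map (homOfLE (Nat.le_succ n)).op).hom.app (op V)
        ((M.obj (op (n + 1))).obj.map i a - sV (n + 1)) = 0 := by
      rw [map_sub, hsV, ← ht, ← ha]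
      have := NatTrans.naturality_apply (M.map (homOfLE (Nat.le_succ n)).op).hom i a
      rw [this, sub_self]
    obtain ⟨k, hk⟩ := exists_of_g_eq_zero
      (kernel_shortExact (M.map (homOfLE (Nat.le_succ n)).op)) V _ hd
    have hfl := (h3 n).epi i
    rw [AddCommGrpCat.epi_iff_surjective] at hfl
    obtain ⟨k', hk'⟩ := hfl k
    refine ⟨a - (kernel.ι (M.map (homOfLE (Nat.le_succ n)).op)).hom.app (op U) k', ?_, ?_⟩
    · rw [map_sub]
      have := NatTrans.naturality_apply (kernel.ι (M.map (homOfLE (Nat.le_succ n)).op)).hom i k'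
      rw [← this, hk']
      dsimp at hk
      rw [hk]
      abel
    · rw [map_sub, ha]
      have hz := kernel.condition (M.map (homOfLE (Nat.le_succ n)).op)
      have := congrArg (fun φ => φ.hom.app (op U) k') hz
      dsimp at this
      rw [this]
      simp
  let T : ∀ n : ℕ, {t : (M.obj (op n)).obj.obj (op U) // (M.obj (op n)).obj.map i t = sV n} :=
    fun n => Nat.rec ⟨base.choose, base.choose_spec⟩
      (fun n t => ⟨(step n t.1 t.2).choose, (step n t.1 t.2).choose_spec.1⟩) n
  have hT : ∀ n, (M.map (homOfLE (Nat.le_succ n)).op).hom.app (op U) (T (n + 1)).1 = (T n).1 :=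
    fun n => (step n (T n).1 (T n).2).choose_spec.2
  obtain ⟨t, ht⟩ := sections_exists M U (fun n => (T n).1) hT
  refine ⟨t, sections_ext M V _ _ (fun n => ?_)⟩
  have := NatTrans.naturality_apply (limit.π M (op n)).hom i t
  rw [this, ht]
  exact (T n).2

/-- levelwise short exactness of a short exact sequence of towers -/
lemma shortExact_level {S : ShortComplex (ℕᵒᵖ ⥤ CohTop.Ab X)} (hS : S.ShortExact) (n : ℕ) :
    (S.map ((evaluation ℕᵒᵖ (CohTop.Ab X)).obj (op n))).ShortExact :=
  hS.map_of_exact _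

/-- `lim` of a short exact sequence of towers whose first term is a flasque tower is onto -/
theorem epi_limMap (S : ShortComplex (ℕᵒᵖ ⥤ CohTop.Ab X)) (hS : S.ShortExact)
    (h1 : ∀ n : ℕ, TopCat.Sheaf.IsFlasque (S.X₁.obj (op n)))
    (h2 : ∀ n : ℕ, Epi (S.X₁.map (homOfLE (Nat.le_succ n)).op))
    (h3 : ∀ n : ℕ, TopCat.Sheaf.IsFlasque
      (kernel (S.X₁.map (homOfLE (Nat.le_succ n)).op) : CohTop.Ab X)) :
    Epi (limMap S.g) := by
  have hsurj : ∀ U : Opens X, Function.Surjective ((limMap S.g).hom.app (op U)) := by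
    intro U s''
    let x'' : ∀ n : ℕ, (S.X₃.obj (op n)).obj.obj (op U) :=
      fun n => (limit.π S.X₃ (op n)).hom.app (op U) s''
    have hx'' : ∀ n, (S.X₃.map (homOfLE (Nat.le_succ n)).op).hom.app (op U) (x'' (n + 1)) = x'' n := by
      intro n
      have hw := limit.w S.X₃ (homOfLE (Nat.le_succ n)).op
      exact congrArg (fun φ => φ.hom.app (op U) s'') hw
    -- levelwise surjectivity of `g`
    have hg : ∀ n : ℕ, Function.Surjective ((S.g.app (op n)).hom.app (op U)) := by
      intro n
      rw [← AddCommGrpCat.epi_iff_surjective]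
      have : TopCat.Sheaf.IsFlasque
        (S.map ((evaluation ℕᵒᵖ (CohTop.Ab X)).obj (op n))).X₁ := h1 n
      exact TopCat.Sheaf.IsFlasque.epi_of_shortExact (shortExact_level hS n)
    have base : ∃ t : (S.X₂.obj (op 0)).obj.obj (op U), (S.g.app (op 0)).hom.app (op U) t = x'' 0 :=
      hg 0 _
    have step : ∀ (n : ℕ) (t : (S.X₂.obj (op n)).obj.obj (op U)),
        (S.g.app (op n)).hom.app (op U) t = x'' n →
        ∃ t' : (S.X₂.obj (op (n + 1))).obj.obj (op U),
          (S.g.app (op (n + 1))).hom.app (op U) t' = x'' (n + 1) ∧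
          (S.X₂.map (homOfLE (Nat.le_succ n)).op).hom.app (op U) t' = t := by
      intro n t ht
      obtain ⟨a, ha⟩ := hg (n + 1) (x'' (n + 1))
      -- naturality of `g` and `f`
      have hgnat : ∀ y : (S.X₂.obj (op (n + 1))).obj.obj (op U),
          (S.g.app (op n)).hom.app (op U)
            ((S.X₂.map (homOfLE (Nat.le_succ n)).op).hom.app (op U) y) =
          (S.X₃.map (homOfLE (Nat.le_succ n)).op).hom.app (op U)
            ((S.g.app (op (n + 1))).hom.app (op U) y) := by
        intro y
        have := S.g.naturality (homOfLE (Nat.le_succ n)).op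
        exact congrArg (fun φ => φ.hom.app (op U) y) this
      have hfnat : ∀ y : (S.X₁.obj (op (n + 1))).obj.obj (op U),
          (S.f.app (op n)).hom.app (op U)
            ((S.X₁.map (homOfLE (Nat.le_succ n)).op).hom.app (op U) y) =
          (S.X₂.map (homOfLE (Nat.le_succ n)).op).hom.app (op U)
            ((S.f.app (op (n + 1))).hom.app (op U) y) := by
        intro y
        have := S.f.naturality (homOfLE (Nat.le_succ n)).op
        exact congrArg (fun φ => φ.hom.app (op U) y) this
      have hd : (S.g.app (op n)).hom.app (op U)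
          ((S.X₂.map (homOfLE (Nat.le_succ n)).op).hom.app (op U) a - t) = 0 := by
        rw [map_sub, hgnat, ha, hx'', ht, sub_self]
      obtain ⟨b', hb'⟩ : ∃ b' : (S.X₁.obj (op n)).obj.obj (op U),
          (S.f.app (op n)).hom.app (op U) b' =
            (S.X₂.map (homOfLE (Nat.le_succ n)).op).hom.app (op U) a - t :=
        exists_of_g_eq_zero (shortExact_level hS n) U _ hd
      have := h2 n
      obtain ⟨c', hc'⟩ := surjective_of_flasque_kernel
        (S.X₁.map (homOfLE (Nat.le_succ n)).op) (h3 n) U b'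
      have hgf : ∀ y : (S.X₁.obj (op (n + 1))).obj.obj (op U),
          (S.g.app (op (n + 1))).hom.app (op U) ((S.f.app (op (n + 1))).hom.app (op U) y) = 0 := by
        intro y
        have := congrArg (fun φ => φ.app (op (n + 1))) S.zero
        exact congrArg (fun φ => φ.hom.app (op U) y) this
      refine ⟨a - (S.f.app (op (n + 1))).hom.app (op U) c', ?_, ?_⟩
      · rw [map_sub, ha, hgf, sub_zero]
      · rw [map_sub, ← hfnat, hc', hb']
        abel
    let T : ∀ n : ℕ, {t : (S.X₂.obj (op n)).obj.obj (op U) //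
        (S.g.app (op n)).hom.app (op U) t = x'' n} :=
      fun n => Nat.rec ⟨base.choose, base.choose_spec⟩
        (fun n t => ⟨(step n t.1 t.2).choose, (step n t.1 t.2).choose_spec.1⟩) n
    have hT : ∀ n, (S.X₂.map (homOfLE (Nat.le_succ n)).op).hom.app (op U) (T (n + 1)).1 = (T n).1 :=
      fun n => (step n (T n).1 (T n).2).choose_spec.2
    obtain ⟨t, ht⟩ := sections_exists S.X₂ U (fun n => (T n).1) hT
    refine ⟨t, sections_ext S.X₃ U _ _ (fun n => ?_)⟩
    have h := limMap_π (F := S.X₂) (G := S.X₃) S.g (op n)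
    have h' := congrArg (fun φ => φ.hom.app (op U) t) h
    dsimp at h'
    rw [h', ht]
    exact (T n).2
  have : Epi (limMap S.g).hom := by
    have : ∀ U, Epi ((limMap S.g).hom.app U) := by
      intro U
      rw [AddCommGrpCat.epi_iff_surjective]
      exact hsurj U.unop
    exact NatTrans.epi_of_epi_app _
  exact Sheaf.Hom.epi_of_presheaf_epi _ _ _

end Groth.Agent.Lib.Helper6.FlasqueTower
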