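import Groth.Agent.Lib.Helper6.RDAdapted

/-!
# A four term exact sequence with acyclic ends (helper6)

`0 ⟶ X₁ ⟶ X₂ ⟶ X₃ ⟶ X₄ ⟶ 0` exact with `X₁, X₂, X₄` right `G`-acyclic (`G` left exact): then `X₃`
is acyclic and `G X₂ ⟶ G X₃ ⟶ G X₄ ⟶ 0` is exact.
-/

universe w w' v v' u u'

open CategoryTheory Limits

namespace Groth.Agent.Lib.Helper6.FourTerm

open RDAcyc

variable {A : Type u} {B : Type u'} [Category.{v} A] [Category.{v'} B] [Abelian A] [Abelian B]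
  [HasDerivedCategory.{w} A] [HasDerivedCategory.{w'} B] [EnoughInjectives A]
  (G : A ⥤ B) [G.Additive] [PreservesFiniteLimits G]

theorem four_term {X₁ X₂ X₃ X₄ : A} (a : X₁ ⟶ X₂) (b : X₂ ⟶ X₃) (c : X₃ ⟶ X₄)
    [Mono a] [Epi c] (w₁ : a ≫ b = 0) (w₂ : b ≫ c = 0)
    (e₁ : (ShortComplex.mk a b w₁).Exact) (e₂ : (ShortComplex.mk b c w₂).Exact)
    (h₁ : Acyc G X₁) (h₂ : Acyc G X₂) (h₄ : Acyc G X₄) :
    Acyc G X₃ ∧ ∃ (w : G.map b ≫ G.map c = 0), (ShortComplex.mk _ _ w).Exact ∧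
      Epi (G.map c) := by
  let ι := kernel.ι c
  let b' : X₂ ⟶ kernel c := kernel.lift c b w₂
  have hb : b' ≫ ι = b := kernel.lift_ι _ _ _
  have w₁' : a ≫ b' = 0 := by
    rw [← cancel_mono ι, Category.assoc, hb, w₁, zero_comp]
  have hepi : Epi b' := (ShortComplex.exact_iff_epi_kernel_lift (ShortComplex.mk b c w₂)).1 e₂
  -- first short exact sequence
  have hS₁ : (ShortComplex.mk a b' w₁').ShortExact := by
    refine { exact := ?_, mono_f := inferInstanceAs (Mono a), epi_g := hepi }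
    let φ : ShortComplex.mk a b' w₁' ⟶ ShortComplex.mk a b w₁ :=
      { τ₁ := 𝟙 _, τ₂ := 𝟙 _, τ₃ := ι
        comm₁₂ := by simp
        comm₂₃ := by simp [hb] }
    have : Epi φ.τ₁ := inferInstanceAs (Epi (𝟙 _))
    have : IsIso φ.τ₂ := inferInstanceAs (IsIso (𝟙 _))
    have : Mono φ.τ₃ := inferInstanceAs (Mono ι)
    exact (ShortComplex.exact_iff_of_epi_of_isIso_of_mono φ).2 e₁
  -- second short exact sequence
  have hS₂ : (ShortComplex.mk ι c (kernel.condition c)).ShortExact :=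
    { exact := ShortComplex.exact_of_f_is_kernel _ (kernelIsKernel c)
      mono_f := inferInstanceAs (Mono ι)
      epi_g := inferInstanceAs (Epi c) }
  have hM : Acyc G (kernel c) := acyc_X₃ G hS₁ h₁ h₂
  have h₃ : Acyc G X₃ := acyc_X₂ G hS₂ hM h₄
  have hGS₂ := map_shortExact G hS₂ (epi_map_g_of_acyc_X₁ G hS₂ hM)
  have hGb' : Epi (G.map b') := epi_map_g_of_acyc_X₁ G hS₁ h₁
  have w : G.map b ≫ G.map c = 0 := by rw [← G.map_comp, w₂, G.map_zero]
  refine ⟨h₃, w, ?_, hGS₂.epi_g⟩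
  let ψ : ShortComplex.mk (G.map b) (G.map c) w ⟶ (ShortComplex.mk ι c (kernel.condition c)).map G :=
    { τ₁ := G.map b', τ₂ := 𝟙 _, τ₃ := 𝟙 _
      comm₁₂ := by
        change G.map b' ≫ G.map ι = G.map b ≫ 𝟙 _
        rw [Category.comp_id, ← G.map_comp, hb]
      comm₂₃ := by
        change 𝟙 _ ≫ G.map c = G.map c ≫ 𝟙 _
        rw [Category.comp_id, Category.id_comp] }
  have : Epi ψ.τ₁ := hGb'
  have : IsIso ψ.τ₂ := inferInstanceAs (IsIso (𝟙 _))
  have : Mono ψ.τ₃ := inferInstanceAs (Mono (𝟙 _))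
  exact (ShortComplex.exact_iff_of_epi_of_isIso_of_mono ψ).2 hGS₂.exact

end Groth.Agent.Lib.Helper6.FourTerm
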