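import Groth.Agent.Lib.Helper6.FinFreeExt

/-!
# A module with a frame is free

On a ringed site `(D, K, O)`: if sections `s_1, …, s_n` of a module `N` freely generate `N(V)` over `O(V)`
for every object `V`, then `N ≅ O^n`.
-/

set_option autoImplicit false
universe u
open CategoryTheory CategoryTheory.Limits Opposite

namespace Groth.Agent.Lib.Helper6.FramedIso

open Groth.Agent.Lib.Helper6.FinFreeExt

attribute [local instance] Abelian.hasFiniteBiproducts

variable {D : Type u} [SmallCategory D] {K : GrothendieckTopology D} {O : Sheaf K CommRingCat.{u}}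
  {N : ModSite.Mod O} {n : ℕ} (s : Fin n → N.sections)

/-- the value of the section `s j` -/
def sec (j : Fin n) (V : Dᵒᵖ) : N.val.obj V := (s j).val V

/-- the sections `s j` freely generate `N` over every object -/
def IsFramed : Prop :=
  ∀ V : Dᵒᵖ, Function.Bijective
    (fun c : Fin n → (ModSite.ringSh O).obj.obj V => (∑ j, c j • sec s j V : N.val.obj V))

variable {s} (hs : IsFramed s)

/-- coefficients with respect to a frame -/
noncomputable def coef (V : Dᵒᵖ) (x : N.val.obj V) : Fin n → (ModSite.ringSh O).obj.obj V :=
  (Equiv.ofBijective _ (hs V)).symm x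

lemma coef_sum (V : Dᵒᵖ) (x : N.val.obj V) :
    (∑ j, coef hs V x j • sec s j V : N.val.obj V) = x :=
  (Equiv.ofBijective _ (hs V)).apply_symm_apply x

lemma coef_eq (V : Dᵒᵖ) (x : N.val.obj V) (c : Fin n → (ModSite.ringSh O).obj.obj V)
    (hc : (∑ j, c j • sec s j V : N.val.obj V) = x) : coef hs V x = c := by
  apply (hs V).1
  show (∑ j, coef hs V x j • sec s j V : N.val.obj V) = (∑ j, c j • sec s j V : N.val.obj V)
  rw [coef_sum, hc]

lemma coef_add (V : Dᵒᵖ) (x y : N.val.obj V) (j : Fin n) :
    coef hs V (x + y) j = coef hs V x j + coef hs V y j := by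
  have h : coef hs V (x + y) = fun j => coef hs V x j + coef hs V y j := by
    apply coef_eq
    simp only [add_smul, Finset.sum_add_distrib, coef_sum]
  exact congrFun h j

lemma coef_smul (V : Dᵒᵖ) (a : (ModSite.ringSh O).obj.obj V) (x : N.val.obj V) (j : Fin n) :
    coef hs V (a • x) j = a * coef hs V x j := by
  have h : coef hs V (a • x) = fun j => a * coef hs V x j := by
    apply coef_eq
    simp only [mul_smul, ← Finset.smul_sum, coef_sum]
  exact congrFun h j

lemma coef_map {V W : Dᵒᵖ} (f : V ⟶ W) (x : N.val.obj V) (j : Fin n) :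
    coef hs W (N.val.map f x) j = (ModSite.ringSh O).obj.map f (coef hs V x j) := by
  have h : coef hs W (N.val.map f x) =
      fun j => (ModSite.ringSh O).obj.map f (coef hs V x j) := by
    apply coef_eq
    have h1 := congrArg (N.val.map f) (coef_sum hs V x)
    rw [map_sum] at h1
    refine Eq.trans (Finset.sum_congr rfl fun j _ => ?_) h1
    rw [N.val.map_smul]
    congr 1
    exact ((s j).property f).symm
  exact congrFun h j

lemma coef_self (V : Dᵒᵖ) (k j : Fin n) :
    coef hs V (sec s k V) j = if j = k then 1 else 0 := by
  have h : coef hs V (sec s k V) = fun j => if j = k then 1 else 0 := by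
    apply coef_eq
    simp only [ite_smul, one_smul, zero_smul, Finset.sum_ite_eq', Finset.mem_univ, if_true]
  exact congrFun h j

/-- the `j`-th coefficient morphism `N ⟶ O` -/
noncomputable def coefHom (j : Fin n) : N ⟶ ModSite.unit O where
  val :=
    { app := fun V => ModuleCat.ofHom
        (Y := (ModSite.unit O).val.obj V)
        { toFun := fun x => coef hs V x j
          map_add' := fun x y => coef_add hs V x y j
          map_smul' := fun a x => coef_smul hs V a x j }
      naturality := fun {V W} f => by
        ext x
        exact coef_map hs f x j }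

lemma coefHom_app (j : Fin n) (V : Dᵒᵖ) (x : N.val.obj V) :
    (coefHom hs j).val.app V x = coef hs V x j := rfl

variable (s) in
/-- the morphism `O ⟶ N` given by the section `s j` -/
noncomputable def secHom (j : Fin n) : ModSite.unit O ⟶ N := N.unitHomEquiv.symm (s j)

lemma secHom_app (j : Fin n) (V : Dᵒᵖ) (a : (ModSite.ringSh O).obj.obj V) :
    (secHom s j).val.app V a = a • sec s j V := rfl

lemma secHom_coefHom (k j : Fin n) :
    secHom s k ≫ coefHom hs j = if k = j then 𝟙 _ else 0 := by
  apply SheafOfModules.hom_ext
  apply PresheafOfModules.hom_ext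
  intro V
  refine ModuleCat.hom_ext (LinearMap.ext fun (a : (ModSite.ringSh O).obj.obj V) => ?_)
  have h1 : (secHom s k ≫ coefHom hs j).val.app V a = coef hs V (a • sec s k V) j := rfl
  refine h1.trans ?_
  have h2 : coef hs V (a • sec s k V) j = a * (if j = k then 1 else 0) := by
    rw [coef_smul, coef_self]
  refine h2.trans ?_
  by_cases h : k = j
  · subst h
    rw [if_pos rfl, if_pos rfl, mul_one]
    rfl
  · rw [if_neg (Ne.symm h), if_neg h, mul_zero]
    rfl

lemma sum_coefHom_secHom : ∑ j, coefHom hs j ≫ secHom s j = 𝟙 N := by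
  apply SheafOfModules.hom_ext
  apply PresheafOfModules.hom_ext
  intro V
  refine ModuleCat.hom_ext (LinearMap.ext fun x => ?_)
  haveI : (SheafOfModules.evaluation (ModSite.ringSh O) V).Additive :=
    inferInstanceAs (SheafOfModules.forget (ModSite.ringSh O) ⋙
      PresheafOfModules.evaluation (ModSite.ringSh O).obj V).Additive
  have h1 : (∑ j, coefHom hs j ≫ secHom s j).val.app V =
      ∑ j, (coefHom hs j ≫ secHom s j).val.app V :=
    (SheafOfModules.evaluation (ModSite.ringSh O) V).map_sum _ _
  rw [h1, ModuleCat.hom_sum, LinearMap.sum_apply]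
  exact coef_sum hs V x

/-- a framed module is free -/
noncomputable def iso : N ≅ freeN O n where
  hom := biproduct.lift (fun j => coefHom hs j)
  inv := biproduct.desc (fun j => secHom s j)
  hom_inv_id := by
    rw [biproduct.lift_desc]
    exact sum_coefHom_secHom hs
  inv_hom_id := by
    apply biproduct.hom_ext'
    intro k
    apply biproduct.hom_ext
    intro j
    simp only [Category.comp_id, Category.assoc, biproduct.lift_π, biproduct.ι_desc_assoc]
    rw [secHom_coefHom, biproduct.ι_π]
    by_cases h : k = j
    · subst h
      rw [if_pos rfl, dif_pos rfl]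
      rfl
    · rw [if_neg h, dif_neg h]

end Groth.Agent.Lib.Helper6.FramedIso
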