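import Groth.Agent.Lib.Helper6.FibreGlueB
import Mathlib

/-!
# Fibre cohomology is invariant under base change (helper6)

For a cartesian square `g : X₁ ⟶ X`, `f₁ : X₁ ⟶ Y₁`, `f : X ⟶ Y`, `h : Y₁ ⟶ Y` and a point `y₁` of `Y₁`:
`fiberRank f₁ (g^* F) p y₁ = fiberRank f F p (h y₁)` and `H^p` of the two fibres vanish together.
-/

set_option backward.isDefEq.respectTransparency.types false
set_option autoImplicit false
set_option linter.style.haveILetI false
set_option linter.unusedSectionVars false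
universe u
open AlgebraicGeometry CategoryTheory Opposite TopologicalSpace TensorProduct CategoryTheory.Limits

noncomputable section
namespace Groth.Agent.Lib.Helper6.GrothLocal

open Groth.Agent.Lib.Helper4.HHFun Groth.Agent.Lib.Helper6.FibreGlue

variable {X Y X₁ Y₁ : Scheme.{u}} (f : X ⟶ Y) [QuasiCompact f] [QuasiSeparated f]
  (f₁ : X₁ ⟶ Y₁) (g : X₁ ⟶ X) (h : Y₁ ⟶ Y) (hsq : IsPullback g f₁ f h)
  (F : X.Modules) [F.IsQuasicoherent] (p : ℕ) (y₁ : Y₁)

theorem fromSpecResidueField_comp_closedPoint :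
    (Y₁.fromSpecResidueField y₁ ≫ h) (IsLocalRing.closedPoint (Y₁.residueField y₁)) = h y₁ := by
  rw [Scheme.Hom.comp_apply]
  congr 1
  exact Scheme.fromSpecResidueField_apply y₁ _

include hsq in
/-- **the fibre ranks are invariant under base change** -/
theorem fiberRank_baseChange [QuasiCompact f₁] [QuasiSeparated f₁] :
    CohIII.fiberRank f₁ ((Scheme.Modules.pullback g).obj F) p y₁ = CohIII.fiberRank f F p (h y₁) := by
  letI ov : (f₁.fiber y₁).Over (Spec (CommRingCat.of (Y₁.residueField y₁))) :=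
    f₁.fiberOverSpecResidueField y₁
  have hsq₁ : IsPullback (f₁.fiberι y₁) (f₁.fiber y₁ ↘ Spec (CommRingCat.of (Y₁.residueField y₁))) f₁
      (Y₁.fromSpecResidueField y₁) := IsPullback.of_hasPullback f₁ (Y₁.fromSpecResidueField y₁)
  have h1 := finrank_eq_of_point f F p (Y₁.residueField y₁) (Y₁.fromSpecResidueField y₁ ≫ h)
    (f₁.fiber y₁) (f₁.fiberι y₁ ≫ g) (hsq₁.paste_horiz hsq)
  have h2 := finrank_eq_of_point f₁ ((Scheme.Modules.pullback g).obj F) p (Y₁.residueField y₁)
    (Y₁.fromSpecResidueField y₁) (f₁.fiber y₁) (f₁.fiberι y₁) hsq₁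
  rw [fromSpecResidueField_comp_closedPoint] at h1
  rw [Scheme.fromSpecResidueField_apply] at h2
  rw [← h1, ← h2]
  let i4 : (Scheme.Modules.pullback (f₁.fiberι y₁)).obj ((Scheme.Modules.pullback g).obj F) ≅
      (Scheme.Modules.pullback (f₁.fiberι y₁ ≫ g)).obj F :=
    (Scheme.Modules.pullbackComp (f₁.fiberι y₁) g).app F
  exact ((HHfun (Y₁.residueField y₁) p).mapIso i4).toLinearEquiv.finrank_eq

include hsq in
/-- **vanishing of the cohomology of the fibres is invariant under base change** -/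
theorem subsingleton_fiberH_baseChange [QuasiCompact f₁] [QuasiSeparated f₁] :
    Subsingleton (CohIII.fiberH f₁ ((Scheme.Modules.pullback g).obj F) y₁ p) ↔
      Subsingleton (CohIII.fiberH f F (h y₁) p) := by
  letI ov : (f₁.fiber y₁).Over (Spec (CommRingCat.of (Y₁.residueField y₁))) :=
    f₁.fiberOverSpecResidueField y₁
  have hsq₁ : IsPullback (f₁.fiberι y₁) (f₁.fiber y₁ ↘ Spec (CommRingCat.of (Y₁.residueField y₁))) f₁
      (Y₁.fromSpecResidueField y₁) := IsPullback.of_hasPullback f₁ (Y₁.fromSpecResidueField y₁)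
  have h1 := subsingleton_iff_of_point f F p (Y₁.residueField y₁) (Y₁.fromSpecResidueField y₁ ≫ h)
    (f₁.fiber y₁) (f₁.fiberι y₁ ≫ g) (hsq₁.paste_horiz hsq)
  have h2 := subsingleton_iff_of_point f₁ ((Scheme.Modules.pullback g).obj F) p (Y₁.residueField y₁)
    (Y₁.fromSpecResidueField y₁) (f₁.fiber y₁) (f₁.fiberι y₁) hsq₁
  rw [fromSpecResidueField_comp_closedPoint] at h1
  rw [Scheme.fromSpecResidueField_apply] at h2
  rw [← h1, ← h2]
  let i4 : (Scheme.Modules.pullback (f₁.fiberι y₁)).obj ((Scheme.Modules.pullback g).obj F) ≅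
      (Scheme.Modules.pullback (f₁.fiberι y₁ ≫ g)).obj F :=
    (Scheme.Modules.pullbackComp (f₁.fiberι y₁) g).app F
  exact ((HHfun (Y₁.residueField y₁) p).mapIso i4).toLinearEquiv.toEquiv.subsingleton_congr

end Groth.Agent.Lib.Helper6.GrothLocal
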