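import Groth.Agent.Lib.Helper2.FlatCrit
import Mathlib

/-!
# Two algebra lemmas for lifting mono/epi from the closed fibre (helper6)
-/

set_option autoImplicit false
set_option linter.style.haveILetI false
set_option linter.unusedSectionVars false
set_option linter.unusedVariables false
universe u
open TensorProduct

namespace Groth.Agent.Lib.Helper6.HomAlg

open Groth.Agent.Lib.Helper2.FlatCrit

/-- **surjective modulo `I` implies surjective after inverting some `s ≡ 1 mod I`** -/
theorem exists_kill_coker {B : Type u} [CommRing B] (I : Ideal B) {M N : Type u}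
    [AddCommGroup M] [Module B M] [Module.Finite B M] [AddCommGroup N] [Module B N]
    (φ : N →ₗ[B] M) (h : ∀ μ : M, ∃ ν : N, μ - φ ν ∈ I • (⊤ : Submodule B M)) :
    ∃ s : B, s - 1 ∈ I ∧ ∀ μ : M, ∃ ν : N, φ ν = s • μ := by
  set C := M ⧸ LinearMap.range φ with hC
  have hfg : (⊤ : Submodule B C).FG := Module.Finite.fg_top
  have hle : (⊤ : Submodule B C) ≤ I • (⊤ : Submodule B C) := by
    intro c _
    obtain ⟨μ, rfl⟩ := Submodule.mkQ_surjective _ c
    obtain ⟨ν, hν⟩ := h μ
    have h1 : (LinearMap.range φ).mkQ μ = (LinearMap.range φ).mkQ (μ - φ ν) := by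
      rw [map_sub]
      have : (LinearMap.range φ).mkQ (φ ν) = 0 :=
        (Submodule.Quotient.mk_eq_zero _).2 ⟨ν, rfl⟩
      rw [this, sub_zero]
    rw [h1]
    have h2 : (LinearMap.range φ).mkQ (μ - φ ν) ∈ (I • (⊤ : Submodule B M)).map (LinearMap.range φ).mkQ :=
      Submodule.mem_map_of_mem hν
    rw [Submodule.map_smul''] at h2
    exact Submodule.smul_mono le_rfl le_top h2
  obtain ⟨s, hs1, hs2⟩ := Submodule.exists_sub_one_mem_and_smul_eq_zero_of_fg_of_le_smul I _ hfg hle
  refine ⟨s, hs1, fun μ => ?_⟩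
  have h3 := hs2 ((LinearMap.range φ).mkQ μ) trivial
  rw [← map_smul] at h3
  have h4 : s • μ ∈ LinearMap.range φ := (Submodule.Quotient.mk_eq_zero _).1 h3
  obtain ⟨ν, hν⟩ := h4
  exact ⟨ν, hν⟩

/-- **injective modulo `𝔪` implies injective after inverting some `s ≡ 1 mod 𝔪 B`** -/
theorem exists_kill_ker {R B : Type u} [CommRing R] [CommRing B] [Algebra R B] [IsNoetherianRing B]
    (m : Ideal R) [m.IsMaximal] {M N : Type u}
    [AddCommGroup M] [Module R M] [Module B M] [IsScalarTower R B M] [Module.Flat R M]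
    [AddCommGroup N] [Module R N] [Module B N] [IsScalarTower R B N] [Module.Finite B N]
    (φ : N →ₗ[B] M)
    (h : ∀ ν : N, φ ν ∈ (m.map (algebraMap R B)) • (⊤ : Submodule B M) →
      ν ∈ (m.map (algebraMap R B)) • (⊤ : Submodule B N)) :
    ∃ s : B, s - 1 ∈ m.map (algebraMap R B) ∧ ∀ ν : N, φ ν = 0 → s • ν = 0 := by
  set I : Ideal B := m.map (algebraMap R B) with hI
  let u : N →ₗ[R] M := φ.restrictScalars R
  have hinj : Function.Injective (u.lTensor (R ⧸ m)) := by
    rw [injective_iff_map_eq_zero]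
    intro x hx
    obtain ⟨ν, rfl⟩ := exists_eq_one_tmul (N := N) m x
    rw [LinearMap.lTensor_tmul, one_tmul_eq_zero_iff] at hx
    rw [one_tmul_eq_zero_iff]
    exact mem_smul_top_of_mem_map_smul_top (S := B) m
      (h ν (mem_map_smul_top_of_mem_smul_top (S := B) m hx))
  -- the kernel lies in all `I^n N`
  have hker : ∀ ν : N, φ ν = 0 → ∃ r : B, r ∈ I ∧ r • ν = ν := by
    intro ν hν
    have hmem : ν ∈ (⨅ i : ℕ, I ^ i • ⊤ : Submodule B N) := by
      rw [Submodule.mem_iInf]
      intro n
      have hkill : m ^ n • (⊤ : Submodule R (R ⧸ m ^ n)) = ⊥ := by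
        rw [Submodule.eq_bot_iff]
        intro y hy
        refine Submodule.smul_induction_on hy ?_ ?_
        · intro r hr z _
          obtain ⟨a, rfl⟩ := Ideal.Quotient.mk_surjective z
          rw [Algebra.smul_def, Ideal.Quotient.algebraMap_eq, ← map_mul,
            Ideal.Quotient.eq_zero_iff_mem]
          exact Ideal.mul_mem_right _ _ hr
        · intro a b ha hb
          rw [ha, hb, add_zero]
      have h2 := lTensor_injective_of_pow_smul_eq_bot m u hinj n (R ⧸ m ^ n) hkill
      have h1 : u.lTensor (R ⧸ m ^ n) ((1 : R ⧸ m ^ n) ⊗ₜ ν) = 0 := by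
        rw [LinearMap.lTensor_tmul]
        have : u ν = 0 := hν
        rw [this, tmul_zero]
      have h3 : (1 : R ⧸ m ^ n) ⊗ₜ[R] ν = 0 := h2 (by rw [h1, map_zero])
      have h4 := (one_tmul_eq_zero_iff _ ν).mp h3
      have h5 := mem_map_smul_top_of_mem_smul_top (S := B) (m ^ n) h4
      rw [Ideal.map_pow] at h5
      exact h5
    obtain ⟨r, hr⟩ := (Ideal.mem_iInf_smul_pow_eq_bot_iff I ν).mp hmem
    exact ⟨r.1, r.2, hr⟩
  haveI : IsNoetherian B N := isNoetherian_of_isNoetherianRing_of_finite B N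
  have hfg : (LinearMap.ker φ).FG := IsNoetherian.noetherian _
  obtain ⟨S, hS⟩ := hfg
  have hmemS : ∀ ν ∈ S, φ ν = 0 := by
    intro ν hν
    have : ν ∈ LinearMap.ker φ := by rw [← hS]; exact Submodule.subset_span hν
    exact this
  classical
  choose! r hr1 hr2 using fun ν (hν : ν ∈ S) => hker ν (hmemS ν hν)
  refine ⟨∏ ν ∈ S, (1 - r ν), ?_, ?_⟩
  · have key : ∀ T : Finset N, T ⊆ S → (∏ ν ∈ T, (1 - r ν)) - 1 ∈ I := by
      intro T
      induction T using Finset.induction_on with
      | empty => intro _; simp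
      | insert a T ha ih =>
        intro hT
        rw [Finset.prod_insert ha]
        have h1 := ih (fun x hx => hT (Finset.mem_insert_of_mem hx))
        have h2 : r a ∈ I := hr1 a (hT (Finset.mem_insert_self a T))
        have : (1 - r a) * ∏ ν ∈ T, (1 - r ν) - 1 =
            (∏ ν ∈ T, (1 - r ν) - 1) - r a * ∏ ν ∈ T, (1 - r ν) := by ring
        rw [this]
        exact I.sub_mem h1 (I.mul_mem_right _ h2)
    exact key S le_rfl
  · intro ν hν
    have hν' : ν ∈ Submodule.span B (S : Set N) := by rw [hS]; exact hν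
    refine Submodule.span_induction ?_ ?_ ?_ ?_ hν'
    · intro x hx
      have hx' : x ∈ S := hx
      rw [← Finset.mul_prod_erase S _ hx', mul_comm, mul_smul, sub_smul, one_smul, hr2 x hx', sub_self,
        smul_zero]
    · rw [smul_zero]
    · intro x y _ _ hx hy
      rw [smul_add, hx, hy, add_zero]
    · intro a x _ hx
      rw [smul_comm, hx, smul_zero]

end Groth.Agent.Lib.Helper6.HomAlg
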