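import Groth.Agent.Lib.Helper6.HomBasis
import Mathlib

/-!
# Base change of the sheaf Hom of finite locally free modules (helper6)

For `g : X ⟶ Y` and modules `F`, `G` on `Y` with local free bases:
* `pbTensor g A B : g^*(A ⊗ B) ⟶ g^*A ⊗ g^*B` is an isomorphism;
* `bc g F G : g^* Hom(F, G) ⟶ Hom(g^*F, g^*G)` is an isomorphism, compatible with global sections;
* `exists_lift`: if sections of `g^* Hom(F, G)` lift, then homomorphisms `g^*F ⟶ g^*G` lift.
-/

set_option autoImplicit false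
set_option linter.style.haveILetI false
set_option linter.unusedSectionVars false
set_option backward.isDefEq.respectTransparency.types false
set_option linter.unusedVariables false
universe u
open CategoryTheory CategoryTheory.Limits AlgebraicGeometry Opposite TopologicalSpace MonoidalCategory
noncomputable section

namespace Groth.Agent.Lib.Helper6.HomBC

open Groth.Agent.Lib.Helper28 Groth.Agent.Lib.Helper28.QCohLoc Groth.Agent.Lib.Helper28.TensorGen
  Groth.Agent.Lib.Helper28.TensorIso Groth.Agent.Lib.Helper28.HomMod Groth.Agent.Lib.Helper23.ProjF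
  Groth.Agent.Lib.Helper8.PullBasis Groth.Agent.Lib.Helper6.HomAdj Groth.Agent.Lib.Helper6.HomBasis
  Groth.Agent.Lib.Helper28.PullbackInv Groth.Agent.Lib.Helper2.GSplit2

/-- `M` has free bases of sections locally -/
def HasLocBasis {Y : Scheme.{u}} (M : Y.Modules) : Prop :=
  ∀ y : Y, ∃ (U : Y.Opens) (n : ℕ) (τ : Fin n → Γ(M, U)), y ∈ U ∧ IsFreeBasisOn M U τ

theorem hasLocBasis_of_isFinLocFree {Y : Scheme.{u}} (M : Y.Modules) (hM : FlatMod.IsFinLocFree M) :
    HasLocBasis M := by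
  intro y
  obtain ⟨U, n, hyU, ⟨e⟩⟩ := hM y
  obtain ⟨τ, hτ⟩ := exists_isFreeBasisOn_of_iso M U n e
  exact ⟨U, n, τ, hyU, hτ⟩

/-- two modules with local bases have bases over a common neighbourhood -/
theorem exists_common_basis {Y : Scheme.{u}} {M N : Y.Modules} (hM : HasLocBasis M) (hN : HasLocBasis N)
    (y : Y) : ∃ (U : Y.Opens) (a b : ℕ) (f : Fin a → Γ(M, U)) (g : Fin b → Γ(N, U)), y ∈ U ∧
      IsFreeBasisOn M U f ∧ IsFreeBasisOn N U g := by
  obtain ⟨U₁, a, f, hy1, hf⟩ := hM y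
  obtain ⟨U₂, b, g, hy2, hg⟩ := hN y
  exact ⟨U₁ ⊓ U₂, a, b, _, _, ⟨hy1, hy2⟩, hf.mono inf_le_left, hg.mono inf_le_right⟩

variable {X Y : Scheme.{u}} (g : X ⟶ Y)

/-! ### the oplax structure map of the inverse image -/

/-- `A ⊗ B ⟶ g_*(g^*A ⊗ g^*B)` -/
def pbTensorAdj' (A B : Y.Modules) : (TL A).obj B ⟶
    (Scheme.Modules.pushforward g).obj
      (CohB1.tensorMod ((Scheme.Modules.pullback g).obj A) ((Scheme.Modules.pullback g).obj B)) :=
  (TL A).map ((Scheme.Modules.pullbackPushforwardAdjunction g).unit.app B) ≫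
    projMap g A ((Scheme.Modules.pullback g).obj B)

/-- `A ⊗ B ⟶ g_*(g^*A ⊗ g^*B)` -/
def pbTensorAdj (A B : Y.Modules) : CohB1.tensorMod A B ⟶
    (Scheme.Modules.pushforward g).obj
      (CohB1.tensorMod ((Scheme.Modules.pullback g).obj A) ((Scheme.Modules.pullback g).obj B)) :=
  pbTensorAdj' g A B

/-- `g^*(A ⊗ B) ⟶ g^*A ⊗ g^*B` -/
def pbTensor (A B : Y.Modules) : (Scheme.Modules.pullback g).obj (CohB1.tensorMod A B) ⟶
    CohB1.tensorMod ((Scheme.Modules.pullback g).obj A) ((Scheme.Modules.pullback g).obj B) :=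
  pbLift g (pbTensorAdj g A B)

theorem pbTensor_pbs (A B : Y.Modules) (W : Y.Opens) (a : Γ(A, W)) (b : Γ(B, W)) :
    (pbTensor g A B).app (g ⁻¹ᵁ W) (pbs g _ W (tmulSec A B a b)) =
      tmulSec _ _ (pbs g A W a) (pbs g B W b) := by
  unfold pbTensor
  rw [pbLift_pbs]
  have h1 : ((TL A).map ((Scheme.Modules.pullbackPushforwardAdjunction g).unit.app B)).app W
      (tmulSec A B a b) = tmulSec A _ a
        (((Scheme.Modules.pullbackPushforwardAdjunction g).unit.app B).app W b) :=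
    TL_map_tmulSec A _ a b
  have h2 := projMap_tmulSec g A ((Scheme.Modules.pullback g).obj B) a
    (((Scheme.Modules.pullbackPushforwardAdjunction g).unit.app B).app W b)
  have h3 : (pbTensorAdj g A B).app W (tmulSec A B a b) =
      (projMap g A ((Scheme.Modules.pullback g).obj B)).app W
        (((TL A).map ((Scheme.Modules.pullbackPushforwardAdjunction g).unit.app B)).app W
          (tmulSec A B a b)) := rfl
  rw [h3, h1]
  exact h2

theorem isIso_pbTensor (A B : Y.Modules) (hA : HasLocBasis A) (hB : HasLocBasis B) :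
    IsIso (pbTensor g A B) := by
  refine isIso_of_basis _ fun x => ?_
  obtain ⟨U, a, b, f, e, hxU, hf, he⟩ := exists_common_basis hA hB (g x)
  refine ⟨g ⁻¹ᵁ U, a * b, fun k => pbs g _ U (reidx (fun i j => tmulSec A B (f i) (e j)) k), hxU,
    isFreeBasisOn_pbs (isFreeBasisOn_tens hf he), ?_⟩
  have heq : (fun k => (pbTensor g A B).app (g ⁻¹ᵁ U)
      (pbs g _ U (reidx (fun i j => tmulSec A B (f i) (e j)) k))) =
      reidx (fun i j => tmulSec _ _ (pbs g A U (f i)) (pbs g B U (e j))) := by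
    funext k
    unfold reidx
    exact pbTensor_pbs g A B U _ _
  rw [heq]
  exact isFreeBasisOn_tens (isFreeBasisOn_pbs hf) (isFreeBasisOn_pbs he)

/-! ### evaluation -/

/-- the evaluation `F ⊗ Hom(F, G) ⟶ G` -/
def evMap (F G : Y.Modules) : CohB1.tensorMod F (homMod F G) ⟶ G := uncurry (𝟙 _)

theorem evMap_tmulSec (F G : Y.Modules) {W : Y.Opens} (x : Γ(F, W)) (s : Γ(homMod F G, W)) :
    (evMap F G).app W (tmulSec F (homMod F G) x s) = ev s le_rfl x := by
  unfold evMap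
  rw [uncurry_tmulSec]
  rfl

/-! ### homomorphisms and sections -/

section Sec

variable {Z : Scheme.{u}} {F G : Z.Modules}

/-- a homomorphism as a section of the sheaf Hom -/
def secOfHom (u : F ⟶ G) (V : Z.Opens) : Γ(homMod F G, V) :=
  mkSec (fun W _ x => u.app W x) (fun W _ x y => app_add' u x y) (fun W _ a x => app_smul' u a x)
    (fun W W' _ h' x => app_res u h' x)

theorem ev_secOfHom (u : F ⟶ G) (V : Z.Opens) {W : Z.Opens} (h : W ≤ V) (x : Γ(F, W)) :
    ev (secOfHom u V) h x = u.app W x := rfl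

/-- a section of the sheaf Hom over the whole space as a homomorphism -/
def homOfSec {V : Z.Opens} (hV : ∀ W : Z.Opens, W ≤ V) (s : Γ(homMod F G, V)) : F ⟶ G :=
  mkHom F G (fun W x => ev s (hV W) x) (fun W x y => ev_add _ _ _ _) (fun W a x => ev_smul _ _ _ _)
    (fun W W' h x => ev_res s (hV W) h x)

theorem homOfSec_app {V : Z.Opens} (hV : ∀ W : Z.Opens, W ≤ V) (s : Γ(homMod F G, V)) (W : Z.Opens)
    (x : Γ(F, W)) : (homOfSec hV s).app W x = ev s (hV W) x := rfl

theorem homOfSec_secOfHom {V : Z.Opens} (hV : ∀ W : Z.Opens, W ≤ V) (u : F ⟶ G) :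
    homOfSec hV (secOfHom u V) = u := by
  apply Scheme.Modules.hom_ext
  intro W
  ext x
  rfl

theorem secOfHom_homOfSec {V : Z.Opens} (hV : ∀ W : Z.Opens, W ≤ V) (s : Γ(homMod F G, V)) :
    secOfHom (homOfSec hV s) V = s :=
  ext_ev _ _ fun W hW x => rfl

end Sec

/-! ### the base change morphism -/

section BC

variable (F G : Y.Modules) [IsIso (pbTensor g F (homMod F G))]

/-- `g^*F ⊗ g^* Hom(F, G) ⟶ g^*G` -/
def bcPair : CohB1.tensorMod ((Scheme.Modules.pullback g).obj F) ((Scheme.Modules.pullback g).obj (homMod F G)) ⟶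
    (Scheme.Modules.pullback g).obj G :=
  inv (pbTensor g F (homMod F G)) ≫ (Scheme.Modules.pullback g).map (evMap F G)

theorem inv_pbTensor_tmulSec (W : Y.Opens) (x : Γ(F, W)) (s : Γ(homMod F G, W)) :
    (inv (pbTensor g F (homMod F G))).app (g ⁻¹ᵁ W) (tmulSec _ _ (pbs g F W x) (pbs g _ W s)) =
      pbs g _ W (tmulSec F (homMod F G) x s) := by
  rw [← pbTensor_pbs]
  have h : pbTensor g F (homMod F G) ≫ inv (pbTensor g F (homMod F G)) = 𝟙 _ := IsIso.hom_inv_id _
  have h2 := congrArg (fun θ => (Scheme.Modules.Hom.app θ (g ⁻¹ᵁ W))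
    (pbs g _ W (tmulSec F (homMod F G) x s))) h
  exact h2

theorem bcPair_tmulSec (W : Y.Opens) (x : Γ(F, W)) (s : Γ(homMod F G, W)) :
    (bcPair g F G).app (g ⁻¹ᵁ W) (tmulSec _ _ (pbs g F W x) (pbs g _ W s)) = pbs g G W (ev s le_rfl x) := by
  unfold bcPair
  change ((Scheme.Modules.pullback g).map (evMap F G)).app (g ⁻¹ᵁ W)
    ((inv (pbTensor g F (homMod F G))).app (g ⁻¹ᵁ W) _) = _
  rw [inv_pbTensor_tmulSec, pbs_map, evMap_tmulSec]

/-- **the base change morphism** `g^* Hom(F, G) ⟶ Hom(g^*F, g^*G)` -/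
def bc : (Scheme.Modules.pullback g).obj (homMod F G) ⟶
    homMod ((Scheme.Modules.pullback g).obj F) ((Scheme.Modules.pullback g).obj G) :=
  curry (bcPair g F G)

theorem ev_bc_pbs {W W'' : Y.Opens} (h : W'' ≤ W) (s : Γ(homMod F G, W)) (x : Γ(F, W'')) :
    ev ((bc g F G).app (g ⁻¹ᵁ W) (pbs g _ W s)) (g.preimage_mono h) (pbs g F W'' x) =
      pbs g G W'' (ev s h x) := by
  unfold bc
  rw [ev_curry, ← pbs_res g (homMod F G) h s, bcPair_tmulSec, res_ev]

/-- compatibility with global sections -/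
theorem homOfSec_bc_pbs (u : F ⟶ G) :
    homOfSec (V := g ⁻¹ᵁ ⊤) (fun _ => le_top) ((bc g F G).app (g ⁻¹ᵁ ⊤) (pbs g _ ⊤ (secOfHom u ⊤))) =
      (Scheme.Modules.pullback g).map u := by
  apply pb_hom_ext
  intro W x
  rw [homOfSec_app, pbs_map]
  exact ev_bc_pbs g F G (le_top : W ≤ ⊤) (secOfHom u ⊤) x

end BC

/-! ### the base change morphism is an isomorphism -/

theorem pbs_zero (M : Y.Modules) (U : Y.Opens) : pbs g M U 0 = 0 := by
  have h := pbs_add g M U 0 0
  rw [add_zero] at h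
  exact left_eq_add.1 h

theorem isIso_bc (F G : Y.Modules) (hF : HasLocBasis F) (hG : HasLocBasis G)
    [IsIso (pbTensor g F (homMod F G))] : IsIso (bc g F G) := by
  refine isIso_of_basis _ fun x => ?_
  obtain ⟨U, a, b, f, e, hxU, hf, he⟩ := exists_common_basis hF hG (g x)
  have hf' := isFreeBasisOn_pbs (f := g) hf
  have he' := isFreeBasisOn_pbs (f := g) he
  refine ⟨g ⁻¹ᵁ U, a * b, fun k => pbs g _ U (reidx (elem hf e) k), hxU,
    isFreeBasisOn_pbs (isFreeBasisOn_elem hf e he), ?_⟩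
  have heq : (fun k => (bc g F G).app (g ⁻¹ᵁ U) (pbs g _ U (reidx (elem hf e) k))) =
      reidx (elem hf' (fun j => pbs g G U (e j))) := by
    funext k
    unfold reidx
    generalize (finProdFinEquiv.symm k).1 = i
    generalize (finProdFinEquiv.symm k).2 = j
    refine ext_ev _ _ fun W' h x' => ?_
    rw [ev_elem]
    obtain ⟨c, hc⟩ : ∃ c, c = hf'.coef h x' := ⟨_, rfl⟩
    rw [← hc]
    have hx := hf'.coef_spec h x'
    rw [← hc] at hx
    conv_lhs => rw [← hx]
    rw [ev_sum, Finset.sum_eq_single i]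
    · rw [ev_smul]
      congr 1
      have h1 := ev_res ((bc g F G).app (g ⁻¹ᵁ U) (pbs g _ U (elem hf e i j))) le_rfl h (pbs g F U (f i))
      rw [h1]
      congr 1
      have h2 := ev_bc_pbs g F G (le_refl U) (elem hf e i j) (f i)
      rw [h2, ev_elem, hf.coef_self]
      simp only [if_true, one_smul]
      rw [res_self]
    · intro l _ hl
      rw [ev_smul]
      have h1 := ev_res ((bc g F G).app (g ⁻¹ᵁ U) (pbs g _ U (elem hf e i j))) le_rfl h (pbs g F U (f l))
      rw [h1]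
      have h2 := ev_bc_pbs g F G (le_refl U) (elem hf e i j) (f l)
      rw [h2, ev_elem, hf.coef_self]
      simp only [if_neg (Ne.symm hl), zero_smul]
      rw [pbs_zero, res_zero, smul_zero]
    · intro h0; exact absurd (Finset.mem_univ _) h0
  rw [heq]
  exact isFreeBasisOn_elem hf' _ he'

/-! ### lifting homomorphisms -/

/-- **if sections of `g^* Hom(F, G)` lift to `Hom(F, G)`, then homomorphisms `g^*F ⟶ g^*G` lift** -/
theorem exists_lift (F G : Y.Modules) (hF : HasLocBasis F) (hG : HasLocBasis G)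
    (hH : HasLocBasis (homMod F G))
    (hsurj : ∀ τ : Γ((Scheme.Modules.pullback g).obj (homMod F G), g ⁻¹ᵁ ⊤),
      ∃ σ : Γ(homMod F G, ⊤), pbs g _ ⊤ σ = τ)
    (u₀ : (Scheme.Modules.pullback g).obj F ⟶ (Scheme.Modules.pullback g).obj G) :
    ∃ u : F ⟶ G, (Scheme.Modules.pullback g).map u = u₀ := by
  haveI := isIso_pbTensor g F (homMod F G) hF hH
  haveI := isIso_bc g F G hF hG
  obtain ⟨σ, hσ⟩ := hsurj ((inv (bc g F G)).app (g ⁻¹ᵁ ⊤) (secOfHom u₀ (g ⁻¹ᵁ ⊤)))
  refine ⟨homOfSec (V := ⊤) (fun _ => le_top) σ, ?_⟩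
  rw [← homOfSec_bc_pbs g F G, secOfHom_homOfSec, hσ]
  have h : inv (bc g F G) ≫ bc g F G = 𝟙 _ := IsIso.inv_hom_id _
  have h2 := congrArg (fun θ => (Scheme.Modules.Hom.app θ (g ⁻¹ᵁ ⊤)) (secOfHom u₀ (g ⁻¹ᵁ ⊤))) h
  have h3 : (bc g F G).app (g ⁻¹ᵁ ⊤) ((inv (bc g F G)).app (g ⁻¹ᵁ ⊤) (secOfHom u₀ (g ⁻¹ᵁ ⊤))) =
      secOfHom u₀ (g ⁻¹ᵁ ⊤) := h2
  rw [h3]
  exact homOfSec_secOfHom _ u₀

/-- `Hom(F, G)` has local bases when `F` and `G` do -/
theorem hasLocBasis_homMod {Z : Scheme.{u}} (F G : Z.Modules) (hF : HasLocBasis F) (hG : HasLocBasis G) :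
    HasLocBasis (homMod F G) := by
  intro y
  obtain ⟨U, a, b, f, e, hyU, hf, he⟩ := exists_common_basis hF hG y
  exact ⟨U, a * b, _, hyU, isFreeBasisOn_elem hf e he⟩

end Groth.Agent.Lib.Helper6.HomBC
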