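import Groth.Agent.Lib.Helper6.HomAdj
import Groth.Agent.Lib.Helper8.PullBasis
import Mathlib

/-!
# Free bases of sections of `Hom(F, G)` and `F ⊗ G`, and an isomorphism criterion (helper6)
-/

set_option autoImplicit false
set_option linter.style.haveILetI false
set_option linter.unusedSectionVars false
set_option backward.isDefEq.respectTransparency.types false
universe u
open CategoryTheory CategoryTheory.Limits AlgebraicGeometry Opposite TopologicalSpace MonoidalCategory
noncomputable section

namespace Groth.Agent.Lib.Helper6.HomBasis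

open Groth.Agent.Lib.Helper28 Groth.Agent.Lib.Helper28.QCohLoc Groth.Agent.Lib.Helper28.TensorGen
  Groth.Agent.Lib.Helper28.TensorIso Groth.Agent.Lib.Helper28.HomMod Groth.Agent.Lib.Helper23.ProjF
  Groth.Agent.Lib.Helper8.PullBasis Groth.Agent.Lib.Helper6.HomAdj

variable {X : Scheme.{u}}

/-! ### reindexing -/

/-- reindexing a doubly indexed family -/
def reidx {T : Type*} {a b : ℕ} (v : Fin a → Fin b → T) : Fin (a * b) → T :=
  fun k => v (finProdFinEquiv.symm k).1 (finProdFinEquiv.symm k).2

theorem reidx_apply {T : Type*} {a b : ℕ} (v : Fin a → Fin b → T) (i : Fin a) (j : Fin b) :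
    reidx v (finProdFinEquiv (i, j)) = v i j := by
  unfold reidx
  rw [Equiv.symm_apply_apply]

theorem sum_reidx {M : Type*} [AddCommMonoid M] {a b : ℕ} (w : Fin (a * b) → M) :
    ∑ k, w k = ∑ i, ∑ j, w (finProdFinEquiv (i, j)) := by
  rw [← Fintype.sum_prod_type']
  exact (Fintype.sum_equiv finProdFinEquiv _ _ (fun _ => rfl)).symm

/-- the double-sum criterion for a free basis -/
theorem isFreeBasisOn_reidx (M : X.Modules) (U : X.Opens) {a b : ℕ} (v : Fin a → Fin b → Γ(M, U))
    (h : ∀ (W : X.Opens) (hW : W ≤ U), Function.Bijective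
      (fun c : Fin a → Fin b → Γ(X, W) => (∑ i, ∑ j, c i j • res M hW (v i j) : Γ(M, W)))) :
    IsFreeBasisOn M U (reidx v) := by
  intro W hW
  let e : (Fin (a * b) → Γ(X, W)) ≃ (Fin a → Fin b → Γ(X, W)) :=
    { toFun := fun c i j => c (finProdFinEquiv (i, j))
      invFun := fun c => reidx c
      left_inv := fun c => by
        funext k
        unfold reidx
        exact congrArg c (finProdFinEquiv.apply_symm_apply k)
      right_inv := fun c => by
        funext i j
        exact reidx_apply c i j }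
  have heq : (fun c : Fin (a * b) → Γ(X, W) => (∑ k, c k • res M hW (reidx v k) : Γ(M, W))) =
      (fun c : Fin a → Fin b → Γ(X, W) => (∑ i, ∑ j, c i j • res M hW (v i j) : Γ(M, W))) ∘ e := by
    funext c
    rw [sum_reidx]
    simp only [Function.comp_apply, reidx_apply]
    rfl
  rw [heq]
  exact (h W hW).comp e.bijective

/-! ### sums -/

theorem sum_ev {L N : X.Modules} {V : X.Opens} {ι : Type*} (s : Finset ι) (φ : ι → Γ(homMod L N, V))
    {W : X.Opens} (h : W ≤ V) (x : Γ(L, W)) : ev (∑ i ∈ s, φ i) h x = ∑ i ∈ s, ev (φ i) h x := by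
  classical
  induction s using Finset.induction_on with
  | empty =>
    simp only [Finset.sum_empty]
    rfl
  | insert i s hi ih => rw [Finset.sum_insert hi, Finset.sum_insert hi, add_ev, ih]

theorem ev_sum {L N : X.Modules} {V : X.Opens} (φ : Γ(homMod L N, V)) {ι : Type*} (s : Finset ι)
    {W : X.Opens} (h : W ≤ V) (x : ι → Γ(L, W)) : ev φ h (∑ i ∈ s, x i) = ∑ i ∈ s, ev φ h (x i) := by
  classical
  induction s using Finset.induction_on with
  | empty =>
    simp only [Finset.sum_empty]
    exact ev_zero φ h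
  | insert i s hi ih => rw [Finset.sum_insert hi, Finset.sum_insert hi, ev_add, ih]

theorem res_sum' (M : X.Modules) {U V : X.Opens} (h : V ≤ U) {ι : Type*} (s : Finset ι) (x : ι → Γ(M, U)) :
    res M h (∑ i ∈ s, x i) = ∑ i ∈ s, res M h (x i) := map_sum _ _ _

/-! ### the basis of `Hom(F, G)` -/

section HomB

variable {F G : X.Modules} {U : X.Opens} {a b : ℕ} {f : Fin a → Γ(F, U)}
  (hF : IsFreeBasisOn F U f) (g : Fin b → Γ(G, U)) (hG : IsFreeBasisOn G U g)

/-- the elementary homomorphisms `f_i^* ⊗ g_j` -/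
def elem (i : Fin a) (j : Fin b) : Γ(homMod F G, U) :=
  mkSec (fun W h x => (hF.coef h x i • res G h (g j) : Γ(G, W)))
    (fun W h x y => by rw [hF.coef_add]; exact add_smul _ _ _)
    (fun W h c x => by rw [hF.coef_smul]; exact mul_smul _ _ _)
    (fun W W' h h' x => by rw [hF.coef_res h h', res_smul, res_res])

theorem ev_elem (i : Fin a) (j : Fin b) {W : X.Opens} (h : W ≤ U) (x : Γ(F, W)) :
    ev (elem hF g i j) h x = (hF.coef h x i • res G h (g j) : Γ(G, W)) := rfl

theorem coef_res_self {W : X.Opens} (hW : W ≤ U) (i₀ i : Fin a) :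
    hF.coef hW (res F hW (f i₀)) i = if i = i₀ then 1 else 0 := by
  have h1 := hF.coef_res le_rfl hW (f i₀)
  have h2 := congrFun h1 i
  rw [hF.coef_self] at h2
  rw [h2]
  simp only
  split_ifs
  · exact map_one (X.presheaf.map (homOfLE hW).op).hom
  · exact map_zero (X.presheaf.map (homOfLE hW).op).hom

theorem ev_sum_elem {W : X.Opens} (hW : W ≤ U) (c : Fin a → Fin b → Γ(X, W)) {W' : X.Opens} (h' : W' ≤ W)
    (x : Γ(F, W')) :
    ev (∑ i, ∑ j, c i j • res (homMod F G) hW (elem hF g i j) : Γ(homMod F G, W)) h' x =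
      ∑ i, ∑ j, (resO h' (c i j) • (hF.coef (h'.trans hW) x i • res G (h'.trans hW) (g j) : Γ(G, W')) :
        Γ(G, W')) := by
  rw [sum_ev]
  refine Finset.sum_congr rfl fun i _ => ?_
  rw [sum_ev]
  refine Finset.sum_congr rfl fun j _ => ?_
  rw [smul_ev, res_ev, ev_elem]

include hG in
theorem bijective_elem (W : X.Opens) (hW : W ≤ U) : Function.Bijective
    (fun c : Fin a → Fin b → Γ(X, W) =>
      (∑ i, ∑ j, c i j • res (homMod F G) hW (elem hF g i j) : Γ(homMod F G, W))) := by
  constructor
  · intro c c' hcc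
    funext i₀
    apply (hG W hW).1
    have h1 := congrArg (fun s : Γ(homMod F G, W) => ev s le_rfl (res F hW (f i₀))) hcc
    simp only at h1
    rw [ev_sum_elem, ev_sum_elem] at h1
    have key : ∀ d : Fin a → Fin b → Γ(X, W),
        (∑ i, ∑ j, (resO (le_refl W) (d i j) • (hF.coef ((le_refl W).trans hW) (res F hW (f i₀)) i •
          res G ((le_refl W).trans hW) (g j) : Γ(G, W)) : Γ(G, W))) =
        ∑ j, (d i₀ j • res G hW (g j) : Γ(G, W)) := by
      intro d
      rw [Finset.sum_eq_single i₀]
      · refine Finset.sum_congr rfl fun j _ => ?_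
        rw [coef_res_self hF, if_pos rfl, one_smul, resO_self]
      · intro i _ hi
        refine Finset.sum_eq_zero fun j _ => ?_
        rw [coef_res_self hF, if_neg hi, zero_smul, smul_zero]
      · intro h; exact absurd (Finset.mem_univ _) h
    rw [key c, key c'] at h1
    exact h1
  · intro s
    refine ⟨fun i j => hG.coef hW (ev s le_rfl (res F hW (f i))) j, ?_⟩
    refine ext_ev _ _ fun W' h' x => ?_
    rw [ev_sum_elem]
    have hx := hF.coef_spec (h'.trans hW) x
    conv_rhs => rw [← hx]
    rw [ev_sum]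
    refine Finset.sum_congr rfl fun i _ => ?_
    rw [ev_smul]
    have h2 : res F (h'.trans hW) (f i) = res F h' (res F hW (f i)) := (res_res F hW h' (f i)).symm
    rw [h2, ev_res s le_rfl h' (res F hW (f i))]
    have h3 := hG.coef_spec hW (ev s le_rfl (res F hW (f i)))
    conv_rhs => rw [← h3]
    rw [res_sum', Finset.smul_sum]
    refine Finset.sum_congr rfl fun j _ => ?_
    rw [res_smul, res_res, smul_smul, smul_smul, mul_comm]

include hG in
/-- **the elementary homomorphisms form a free basis of `Hom(F, G)`** -/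
theorem isFreeBasisOn_elem : IsFreeBasisOn (homMod F G) U (reidx (elem hF g)) :=
  isFreeBasisOn_reidx _ _ _ (bijective_elem hF g hG)

end HomB

/-! ### the basis of `F ⊗ G` -/

section TensB

variable {F G : X.Modules} {U : X.Opens} {a b : ℕ} {f : Fin a → Γ(F, U)} {g : Fin b → Γ(G, U)}
  (hF : IsFreeBasisOn F U f) (hG : IsFreeBasisOn G U g)

include hF hG in
theorem bijective_tens (W : X.Opens) (hW : W ≤ U) : Function.Bijective
    (fun c : Fin a → Fin b → Γ(X, W) =>
      (∑ i, ∑ j, c i j • res (CohB1.tensorMod F G) hW (tmulSec F G (f i) (g j)) :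
        Γ(CohB1.tensorMod F G, W))) := by
  have hb := tmulSec_sum_bijective (A := F) (B := G) (hF.mono hW)
  have hfun : (fun c : Fin a → Fin b → Γ(X, W) =>
      (∑ i, ∑ j, c i j • res (CohB1.tensorMod F G) hW (tmulSec F G (f i) (g j)) :
        Γ(CohB1.tensorMod F G, W))) =
      (fun β : Fin a → Γ(G, W) => ∑ i, tmulSec F G (res F hW (f i)) (β i)) ∘
        (fun c : Fin a → Fin b → Γ(X, W) => fun i => (∑ j, c i j • res G hW (g j) : Γ(G, W))) := by
    funext c
    simp only [Function.comp_apply]
    refine Finset.sum_congr rfl fun i _ => ?_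
    have : tmulSec F G (res F hW (f i)) (∑ j, c i j • res G hW (g j) : Γ(G, W)) =
        ∑ j, tmulSec F G (res F hW (f i)) (c i j • res G hW (g j) : Γ(G, W)) := by
      classical
      have hgen : ∀ (s : Finset (Fin b)), tmulSec F G (res F hW (f i))
          (∑ j ∈ s, c i j • res G hW (g j) : Γ(G, W)) =
          ∑ j ∈ s, tmulSec F G (res F hW (f i)) (c i j • res G hW (g j) : Γ(G, W)) := by
        intro s
        induction s using Finset.induction_on with
        | empty =>
          simp only [Finset.sum_empty]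
          have h0 := tmulSec_add_right F G (res F hW (f i)) (0 : Γ(G, W)) 0
          rw [add_zero] at h0
          exact left_eq_add.1 h0
        | insert j s hj ih => rw [Finset.sum_insert hj, Finset.sum_insert hj, tmulSec_add_right, ih]
      exact hgen _
    rw [this]
    refine Finset.sum_congr rfl fun j _ => ?_
    rw [tmulSec_smul_right, tmulSec_res]
  rw [hfun]
  refine hb.comp ?_
  constructor
  · intro c c' hcc
    funext i
    exact (hG W hW).1 (congrFun hcc i)
  · intro β
    refine ⟨fun i => hG.coef hW (β i), ?_⟩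
    funext i
    exact hG.coef_spec hW (β i)

include hF hG in
/-- **the products `f_i ⊗ g_j` form a free basis of `F ⊗ G`** -/
theorem isFreeBasisOn_tens :
    IsFreeBasisOn (CohB1.tensorMod F G) U (reidx fun i j => tmulSec F G (f i) (g j)) :=
  isFreeBasisOn_reidx _ _ _ (bijective_tens hF hG)

end TensB

/-! ### the isomorphism criterion -/

/-- a linear map sending a free basis to a free basis is bijective on sections -/
theorem bijective_app_of_basis {M N : X.Modules} (φ : M ⟶ N) {U : X.Opens} {n : ℕ} {τ : Fin n → Γ(M, U)}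
    (hM : IsFreeBasisOn M U τ) (hN : IsFreeBasisOn N U (fun j => φ.app U (τ j)))
    (W : X.Opens) (hW : W ≤ U) : Function.Bijective (φ.app W) := by
  have hcomp : (fun c : Fin n → Γ(X, W) => (∑ j, c j • res N hW (φ.app U (τ j)) : Γ(N, W))) =
      (φ.app W) ∘ (fun c : Fin n → Γ(X, W) => (∑ j, c j • res M hW (τ j) : Γ(M, W))) := by
    funext c
    simp only [Function.comp_apply]
    rw [Groth.Agent.Lib.Helper29.FreeIso.app_sum]
    refine Finset.sum_congr rfl fun j _ => ?_
    rw [app_smul', app_res]
  have h1 := hN W hW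
  rw [hcomp] at h1
  have h2 := hM W hW
  constructor
  · intro x y hxy
    obtain ⟨c, rfl⟩ := h2.2 x
    obtain ⟨c', rfl⟩ := h2.2 y
    exact congrArg (fun c : Fin n → Γ(X, W) => (∑ j, c j • res M hW (τ j) : Γ(M, W))) (h1.1 hxy)
  · intro z
    obtain ⟨c, hc⟩ := h1.2 z
    exact ⟨_, hc⟩

/-- **a morphism sending local free bases to local free bases is an isomorphism** -/
theorem isIso_of_basis {M N : X.Modules} (φ : M ⟶ N)
    (h : ∀ x : X, ∃ (U : X.Opens) (n : ℕ) (τ : Fin n → Γ(M, U)), x ∈ U ∧ IsFreeBasisOn M U τ ∧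
      IsFreeBasisOn N U (fun j => φ.app U (τ j))) : IsIso φ := by
  refine isIso_of_bijective_on_basis φ
    (fun W => ∃ (U : X.Opens) (n : ℕ) (τ : Fin n → Γ(M, U)), W ≤ U ∧ IsFreeBasisOn M U τ ∧
      IsFreeBasisOn N U (fun j => φ.app U (τ j))) ?_ ?_
  · intro V x hx
    obtain ⟨U, n, τ, hxU, hM, hN⟩ := h x
    exact ⟨U ⊓ V, ⟨U, n, τ, inf_le_left, hM, hN⟩, ⟨hxU, hx⟩, inf_le_right⟩
  · rintro W ⟨U, n, τ, hWU, hM, hN⟩
    exact bijective_app_of_basis φ hM hN W hWU

end Groth.Agent.Lib.Helper6.HomBasis
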