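import Groth.Agent.Lib.Helper6.HomBC
import Groth.Agent.Lib.Helper28.DualInv
import Mathlib

/-!
# `E^∨ ⊗ N ≅ Hom(E, N)` naturally in `N`, for `E` with local bases (helper6)

* `HomDual.θ E N : E^∨ ⊗ N ⟶ Hom(E, N)`, `φ ⊗ ν ↦ (x ↦ φ(x) • ν)`.
* `HomDual.isIso_θ`: it is an isomorphism when `E` has local bases (e.g. finite locally free).
* `HomDual.dualNatIso : TL (dual E) ≅ homModF E`.
-/

set_option autoImplicit false
set_option linter.style.haveILetI false
set_option linter.unusedSectionVars false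
set_option linter.unusedVariables false
set_option backward.isDefEq.respectTransparency.types false
universe u
open CategoryTheory CategoryTheory.Limits AlgebraicGeometry Opposite TopologicalSpace MonoidalCategory
noncomputable section

namespace Groth.Agent.Lib.Helper6.HomDual

open Groth.Agent.Lib.Helper28 Groth.Agent.Lib.Helper28.QCohLoc Groth.Agent.Lib.Helper28.TensorGen
  Groth.Agent.Lib.Helper28.TensorIso Groth.Agent.Lib.Helper28.HomMod Groth.Agent.Lib.Helper23.ProjF
  Groth.Agent.Lib.Helper8.PullBasis Groth.Agent.Lib.Helper6.HomAdj Groth.Agent.Lib.Helper6.HomBasis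
  Groth.Agent.Lib.Helper6.HomBC Groth.Agent.Lib.Helper2.GSplit2

/-! ### algebra -/

open TensorProduct in
theorem lift_bijective_of_left_basis {R D M H : Type*} [CommRing R] [AddCommGroup D] [AddCommGroup M]
    [AddCommGroup H] [Module R D] [Module R M] [Module R H]
    (β : D →ₗ[R] M →ₗ[R] H) {n : ℕ} (d : Fin n → D) (c : D → Fin n → R)
    (hc : ∀ δ : D, δ = ∑ j, c δ j • d j)
    (hbij : Function.Bijective (fun m : Fin n → M => ∑ j, β (d j) (m j))) :
    Function.Bijective (TensorProduct.lift β) := by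
  have hform : ∀ z : D ⊗[R] M, ∃ m : Fin n → M, z = ∑ j, d j ⊗ₜ[R] m j := by
    intro z
    induction z using TensorProduct.induction_on with
    | zero => exact ⟨0, by simp⟩
    | tmul δ μ =>
      refine ⟨fun j => c δ j • μ, ?_⟩
      conv_lhs => rw [hc δ]
      rw [TensorProduct.sum_tmul]
      refine Finset.sum_congr rfl fun j _ => ?_
      rw [TensorProduct.smul_tmul]
    | add z z' hz hz' =>
      obtain ⟨m, rfl⟩ := hz
      obtain ⟨m', rfl⟩ := hz'
      refine ⟨m + m', ?_⟩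
      rw [← Finset.sum_add_distrib]
      refine Finset.sum_congr rfl fun j _ => ?_
      rw [Pi.add_apply, TensorProduct.tmul_add]
  have hlift : ∀ m : Fin n → M, TensorProduct.lift β (∑ j, d j ⊗ₜ[R] m j) = ∑ j, β (d j) (m j) := by
    intro m
    rw [map_sum]
    refine Finset.sum_congr rfl fun j _ => ?_
    rw [TensorProduct.lift.tmul]
  constructor
  · intro z z' h
    obtain ⟨m, rfl⟩ := hform z
    obtain ⟨m', rfl⟩ := hform z'
    rw [hlift, hlift] at h
    rw [hbij.1 h]
  · intro f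
    obtain ⟨m, hm⟩ := hbij.2 f
    exact ⟨∑ j, d j ⊗ₜ[R] m j, by rw [hlift]; exact hm⟩

variable {X : Scheme.{u}} (E N : X.Modules)

/-! ### the pairing -/

/-- `(φ, ν) ↦ (x ↦ φ(x) • ν)` -/
def pair (W : X.Opens) (φ : Γ(dual E, W)) (ν : Γ(N, W)) : Γ(homMod E N, W) :=
  mkSec (fun W' h x => (evO φ h x • res N h ν : Γ(N, W')))
    (fun W' h x y => by rw [evO_add, add_smul])
    (fun W' h a x => by rw [evO_smul, mul_smul])
    (fun W' W'' h h' x => by rw [evO_res, res_smul, res_res])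

theorem ev_pair (W : X.Opens) (φ : Γ(dual E, W)) (ν : Γ(N, W)) {W' : X.Opens} (h : W' ≤ W)
    (x : Γ(E, W')) : ev (pair E N W φ ν) h x = (evO φ h x • res N h ν : Γ(N, W')) := rfl

theorem pair_add₁ (W : X.Opens) (φ φ' : Γ(dual E, W)) (ν : Γ(N, W)) :
    pair E N W (φ + φ') ν = pair E N W φ ν + pair E N W φ' ν := by
  refine ext_ev _ _ fun W' h x => ?_
  rw [add_ev, ev_pair, ev_pair, ev_pair, add_evO, add_smul]

theorem pair_add₂ (W : X.Opens) (φ : Γ(dual E, W)) (ν ν' : Γ(N, W)) :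
    pair E N W φ (ν + ν') = pair E N W φ ν + pair E N W φ ν' := by
  refine ext_ev _ _ fun W' h x => ?_
  rw [add_ev, ev_pair, ev_pair, ev_pair, res_add, smul_add]

theorem pair_smul₁ (W : X.Opens) (a : Γ(X, W)) (φ : Γ(dual E, W)) (ν : Γ(N, W)) :
    pair E N W (a • φ : Γ(dual E, W)) ν = (a • pair E N W φ ν : Γ(homMod E N, W)) := by
  refine ext_ev _ _ fun W' h x => ?_
  rw [smul_ev, ev_pair, ev_pair, smul_evO, mul_smul]

theorem pair_smul₂ (W : X.Opens) (a : Γ(X, W)) (φ : Γ(dual E, W)) (ν : Γ(N, W)) :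
    pair E N W φ (a • ν : Γ(N, W)) = (a • pair E N W φ ν : Γ(homMod E N, W)) := by
  refine ext_ev _ _ fun W' h x => ?_
  rw [smul_ev, ev_pair, ev_pair, res_smul, smul_comm]

theorem pair_res (W W' : X.Opens) (h : W' ≤ W) (φ : Γ(dual E, W)) (ν : Γ(N, W)) :
    pair E N W' (res (dual E) h φ) (res N h ν) = res (homMod E N) h (pair E N W φ ν) := by
  refine ext_ev _ _ fun W'' h' x => ?_
  rw [res_ev, ev_pair, ev_pair, res_evO, res_res]

/-- the presheaf-level morphism -/
def θpre : (show X.PresheafOfModules from CohB1.tensorPre (dual E) N) ⟶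
    (PresheafOfModules.restrictScalars (𝟙 X.ringCatSheaf.obj)).obj (homMod E N).val :=
  tensorDesc (dual E) N (homMod E N) (pair E N) (pair_add₁ E N) (pair_add₂ E N) (pair_smul₁ E N)
    (pair_smul₂ E N) (pair_res E N)

/-- **the canonical morphism `E^∨ ⊗ N ⟶ Hom(E, N)`** -/
def θ : CohB1.tensorMod (dual E) N ⟶ homMod E N := TensorIso.lift _ _ (θpre E N)

theorem θ_tmulSec {W : X.Opens} (φ : Γ(dual E, W)) (ν : Γ(N, W)) :
    (θ E N).app W (tmulSec (dual E) N φ ν) = pair E N W φ ν := by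
  unfold θ tmulSec ηT
  exact AmpleH1.lift_app_unit _ _ _ W (ptmul (dual E) N φ ν)

/-! ### the dual basis -/

section Basis

variable {E} {U : X.Opens} {n : ℕ} {τ : Fin n → Γ(E, U)} (hτ : IsFreeBasisOn E U τ)

/-- the dual basis -/
def dualB (j : Fin n) : Γ(dual E, U) :=
  mkSec (N := Coh.structureModule X)
    (fun W h x => (show Γ(Coh.structureModule X, W) from hτ.coef h x j))
    (fun W h x y => by rw [hτ.coef_add]; rfl)
    (fun W h a x => by rw [hτ.coef_smul]; rfl)
    (fun W W' h h' x => by rw [hτ.coef_res h h']; rfl)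

theorem evO_dualB (j : Fin n) {W : X.Opens} (h : W ≤ U) (x : Γ(E, W)) :
    evO (dualB hτ j) h x = hτ.coef h x j := rfl

theorem dual_eq_sum (φ : Γ(dual E, U)) :
    φ = (∑ j, evO φ le_rfl (τ j) • dualB hτ j : Γ(dual E, U)) := by
  refine ext_evO _ _ fun W h x => ?_
  have h1 : evO (∑ j, evO φ le_rfl (τ j) • dualB hτ j : Γ(dual E, U)) h x =
      ∑ j, resO h (evO φ le_rfl (τ j)) * hτ.coef h x j := by
    unfold evO
    rw [sum_ev]
    refine Finset.sum_congr rfl fun j _ => ?_
    exact smul_evO (evO φ le_rfl (τ j)) (dualB hτ j) h x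
  rw [h1]
  have h2 : evO φ h x = evO φ h (∑ j, hτ.coef h x j • res E h (τ j) : Γ(E, W)) := by
    rw [hτ.coef_spec]
  rw [h2]
  unfold evO
  rw [ev_sum]
  refine Finset.sum_congr rfl fun j _ => ?_
  have h3 := evO_smul φ h (hτ.coef h x j) (res E h (τ j))
  have h4 := evO_res φ (le_refl U) h (τ j)
  unfold evO at h3 h4
  rw [h3, h4, mul_comm]

theorem ev_sum_pair (m : Fin n → Γ(N, U)) {W : X.Opens} (h : W ≤ U) (x : Γ(E, W)) :
    ev (∑ j, pair E N U (dualB hτ j) (m j)) h x = ∑ j, (hτ.coef h x j • res N h (m j) : Γ(N, W)) := by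
  rw [sum_ev]
  refine Finset.sum_congr rfl fun j _ => ?_
  rw [ev_pair, evO_dualB]

theorem pair_sum_bijective :
    Function.Bijective (fun m : Fin n → Γ(N, U) => ∑ j, pair E N U (dualB hτ j) (m j)) := by
  constructor
  · intro m m' hmm
    funext k
    have h1 := congrArg (fun s : Γ(homMod E N, U) => ev s le_rfl (τ k)) hmm
    simp only at h1
    rw [ev_sum_pair, ev_sum_pair, hτ.coef_self] at h1
    simp only [ite_smul, one_smul, zero_smul, Finset.sum_ite_eq', Finset.mem_univ, if_true] at h1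
    rw [res_self, res_self] at h1
    exact h1
  · intro ψ
    refine ⟨fun j => ev ψ le_rfl (τ j), ?_⟩
    refine ext_ev _ _ fun W h x => ?_
    rw [ev_sum_pair]
    have h2 : ev ψ h x = ev ψ h (∑ j, hτ.coef h x j • res E h (τ j) : Γ(E, W)) := by
      rw [hτ.coef_spec]
    rw [h2, ev_sum]
    refine Finset.sum_congr rfl fun j _ => ?_
    rw [ev_smul]
    congr 1
    exact (ev_res ψ (le_refl U) h (τ j)).symm

include hτ in
theorem θpre_app_bijective : Function.Bijective ((θpre E N).app (op U)) :=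
  lift_bijective_of_left_basis
    (LinearMap.mk₂ _ (pair E N U) (pair_add₁ E N U) (pair_smul₁ E N U) (pair_add₂ E N U)
      (pair_smul₂ E N U))
    (dualB hτ) (fun φ j => evO φ le_rfl (τ j)) (dual_eq_sum hτ) (pair_sum_bijective N hτ)

end Basis

/-- **`E^∨ ⊗ N ⟶ Hom(E, N)` is an isomorphism when `E` has local bases** -/
theorem isIso_θ (hE : HasLocBasis E) : IsIso (θ E N) := by
  refine isIso_lift _ _ (θpre E N) (fun W => ∃ (n : ℕ) (τ : Fin n → Γ(E, W)), IsFreeBasisOn E W τ) ?_ ?_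
  · intro U x hx
    obtain ⟨U₁, n, τ, hx1, hτ⟩ := hE x
    exact ⟨U₁ ⊓ U, ⟨n, _, hτ.mono inf_le_left⟩, ⟨hx1, hx⟩, inf_le_right⟩
  · rintro W ⟨n, τ, hτ⟩
    exact θpre_app_bijective N hτ

/-! ### naturality -/

theorem θ_naturality {N N' : X.Modules} (g : N ⟶ N') :
    (TL (dual E)).map g ≫ θ E N' = θ E N ≫ homModMap E g := by
  apply tensorMod_hom_ext
  intro W φ ν
  change (θ E N').app W (((TL (dual E)).map g).app W _) = (homModMap E g).app W ((θ E N).app W _)
  rw [TL_map_tmulSec, θ_tmulSec, θ_tmulSec]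
  refine ext_ev _ _ fun W' h x => ?_
  rw [ev_homModMap, ev_pair, ev_pair, app_smul', app_res]

/-- **the natural isomorphism `E^∨ ⊗ - ≅ Hom(E, -)`** -/
def dualNatIso (hE : HasLocBasis E) : TL (dual E) ≅ homModF E :=
  NatIso.ofComponents (fun N => @asIso _ _ _ _ (θ E N) (isIso_θ E N hE)) (fun g => θ_naturality E g)

theorem dualNatIso_hom_app (hE : HasLocBasis E) (N : X.Modules) : (dualNatIso E hE).hom.app N = θ E N := rfl

end Groth.Agent.Lib.Helper6.HomDual
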