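import Groth.Agent.Lib.Helper6.HomDualCorepA
import Groth.Agent.Lib.Helper6.CorepC
import Groth.Agent.Lib.Helper6.K0Op
import Groth.Agent.Lib.Helper17.FFLocFree
import Mathlib

/-!
# `M ↦ Hom(G, f^*M~ ⊗ F)` is corepresentable for `G` with a finite locally free presentation (helper6)
-/

set_option autoImplicit false
set_option linter.style.haveILetI false
set_option linter.unusedSectionVars false
set_option linter.unusedVariables false
set_option backward.isDefEq.respectTransparency.types false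
universe u
open CategoryTheory CategoryTheory.Limits AlgebraicGeometry Opposite TopologicalSpace MonoidalCategory
noncomputable section

namespace Groth.Agent.Lib.Helper6.HomDualCorep

open Groth.Agent.Lib.Helper28 Groth.Agent.Lib.Helper28.QCohLoc Groth.Agent.Lib.Helper28.TensorGen
  Groth.Agent.Lib.Helper28.TensorIso Groth.Agent.Lib.Helper28.HomMod Groth.Agent.Lib.Helper23.ProjF
  Groth.Agent.Lib.Helper8.PullBasis Groth.Agent.Lib.Helper6.HomAdj Groth.Agent.Lib.Helper6.HomBasis
  Groth.Agent.Lib.Helper6.HomBC Groth.Agent.Lib.Helper2.GSplit2 Groth.Agent.Lib.Helper6.HomDual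
  Groth.Agent.Lib.Helper1.ModFlat Groth.Agent.Lib.Helper1.TensorAssoc Groth.Agent.Lib.Helper6.Corep

variable {X : Scheme.{u}}

/-- `D ⊗ (- ⊗ F) ≅ - ⊗ (D ⊗ F)` -/
def tensSwapIso (F D : X.Modules) :
    DCoh.tensorRightMod F ⋙ TL D ≅ DCoh.tensorRightMod (CohB1.tensorMod D F) :=
  (show tens X.sheaf F ⋙ tensL X.sheaf D ≅ tens X.sheaf (CohB1.tensorMod D F) from
    Functor.isoWhiskerLeft (tens X.sheaf F) (tensLIso X.sheaf D) ≪≫ tensAssoc X.sheaf F D ≪≫
      (ModSite.tensorBi X.sheaf).flip.mapIso ((tensLIso X.sheaf F).app D))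

variable (A : Type u) [CommRing A] [X.Over (Spec (CommRingCat.of A))]

/-- `M ↦ Γ(X, Hom(E, f^*M~ ⊗ F))` -/
abbrev HF (F E : X.Modules) : ModuleCat.{u} A ⥤ ModuleCat.{u} A :=
  CohIII.tensorAFunctor A F ⋙ homModF E ⋙ CohIII.globalSectionsA A

/-- `Γ(X, Hom(E, f^*M~ ⊗ F)) ≅ Γ(X, f^*M~ ⊗ (E^∨ ⊗ F))` -/
def HFIso (F E : X.Modules) (hE : HasLocBasis E) :
    HF A F E ≅ CohIII.tensorAFunctor A (CohB1.tensorMod (dual E) F) ⋙ CohIII.globalSectionsA A :=
  Functor.isoWhiskerLeft (CohIII.tensorAFunctor A F)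
      (Functor.isoWhiskerRight (dualNatIso E hE).symm (CohIII.globalSectionsA A)) ≪≫
    (show CohIII.tensorAFunctor A F ⋙ TL (dual E) ⋙ CohIII.globalSectionsA A ≅
        (tilde.functor (CommRingCat.of A) ⋙ Scheme.Modules.pullback (X ↘ Spec (CommRingCat.of A)) ⋙
          (DCoh.tensorRightMod F ⋙ TL (dual E))) ⋙ CohIII.globalSectionsA A from Iso.refl _) ≪≫
    Functor.isoWhiskerRight
      (Functor.isoWhiskerLeft (tilde.functor (CommRingCat.of A))
        (Functor.isoWhiskerLeft (Scheme.Modules.pullback (X ↘ Spec (CommRingCat.of A)))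
          (tensSwapIso F (dual E)))) (CohIII.globalSectionsA A)

omit [X.Over (Spec (CommRingCat.of A))] in
theorem hasLocBasis_structureModule (X : Scheme.{u}) : HasLocBasis (Coh.structureModule X) := by
  intro y
  refine ⟨⊤, 1, fun _ => (show Γ(Coh.structureModule X, ⊤) from (1 : Γ(X, ⊤))), trivial, ?_⟩
  intro W hW
  have h2 : res (Coh.structureModule X) hW (show Γ(Coh.structureModule X, ⊤) from (1 : Γ(X, ⊤))) =
      (show Γ(Coh.structureModule X, W) from (1 : Γ(X, W))) :=
    map_one (X.presheaf.map (homOfLE hW).op).hom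
  have key : ∀ c : Fin 1 → Γ(X, W),
      (∑ j, c j • res (Coh.structureModule X) hW
        (show Γ(Coh.structureModule X, ⊤) from (1 : Γ(X, ⊤))) : Γ(Coh.structureModule X, W)) =
      (show Γ(Coh.structureModule X, W) from c 0) := by
    intro c
    rw [Fin.sum_univ_one, h2]
    exact mul_one (c 0)
  constructor
  · intro c c' h
    simp only at h
    rw [key, key] at h
    funext j
    obtain rfl : j = 0 := Subsingleton.elim _ _
    exact h
  · intro t
    refine ⟨fun _ => (show Γ(X, W) from t), ?_⟩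
    simp only
    rw [key]

variable [IsNoetherianRing A] [IsProper (X ↘ Spec (CommRingCat.of A))]

/-- `M ↦ Γ(X, Hom(E, f^*M~ ⊗ F))` is corepresentable by a finite module -/
theorem exists_HF_corep (F E : X.Modules) (hF : Coh.IsCoh F)
    (hfl : FlatMod.IsFlatOver (X ↘ Spec (CommRingCat.of A)) F) (hE : FlatMod.IsFinLocFree E) :
    ∃ Q : ModuleCat.{u} A, Module.Finite A Q ∧
      Nonempty (HF A F E ≅ (linearCoyoneda A (ModuleCat.{u} A)).obj (op Q)) := by
  have hE' : HasLocBasis E := hasLocBasis_of_isFinLocFree E hE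
  have hD : HasLocBasis (dual E) := hasLocBasis_homMod E _ hE' (hasLocBasis_structureModule X)
  have hDc : Coh.IsCoh (dual E) :=
    Groth.Agent.Lib.Helper17.FFLocFree.isCoh_of_isFinLocFree _
      (Groth.Agent.Lib.Helper6.HomLift.isFinLocFree_of_hasLocBasis _ hD)
  have hTc : Coh.IsCoh (CohB1.tensorMod (dual E) F) :=
    Groth.Agent.Lib.Helper6.K0Op.isCoh_tensorMod _ _ hDc hF
  haveI : F.IsQuasicoherent := hF.1
  haveI : (CohB1.tensorMod (dual E) F).IsQuasicoherent := hTc.1
  have hTfl := isFlatOver_tensorMod (X ↘ Spec (CommRingCat.of A)) (dual E) F hD hfl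
  obtain ⟨Q, hQ, ⟨δ⟩⟩ := exists_corep A (CohB1.tensorMod (dual E) F) hTc hTfl
  exact ⟨Q, hQ, ⟨HFIso A F E hE' ≪≫ δ⟩⟩

end Groth.Agent.Lib.Helper6.HomDualCorep
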