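import Groth.Agent.Lib.Helper6.HomDualCorepB
import Mathlib

/-!
# `M ↦ Hom(G, f^*M~ ⊗ F)` is corepresentable for `G` with a finite locally free presentation (helper6)
-/

set_option autoImplicit false
set_option linter.style.haveILetI false
set_option linter.unusedSectionVars false
set_option linter.unusedVariables false
set_option backward.isDefEq.respectTransparency.types false
universe u
open CategoryTheory CategoryTheory.Limits AlgebraicGeometry Opposite TopologicalSpace MonoidalCategory
noncomputable section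

namespace Groth.Agent.Lib.Helper6.HomDualCorep

open Groth.Agent.Lib.Helper28 Groth.Agent.Lib.Helper28.QCohLoc Groth.Agent.Lib.Helper28.TensorGen
  Groth.Agent.Lib.Helper28.TensorIso Groth.Agent.Lib.Helper28.HomMod Groth.Agent.Lib.Helper23.ProjF
  Groth.Agent.Lib.Helper8.PullBasis Groth.Agent.Lib.Helper6.HomAdj Groth.Agent.Lib.Helper6.HomBasis
  Groth.Agent.Lib.Helper6.HomBC Groth.Agent.Lib.Helper2.GSplit2 Groth.Agent.Lib.Helper6.HomDual
  Groth.Agent.Lib.Helper1.ModFlat Groth.Agent.Lib.Helper1.TensorAssoc Groth.Agent.Lib.Helper6.Corep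

variable {X : Scheme.{u}}

theorem secOfHom_zero {E T : X.Modules} (V : X.Opens) : secOfHom (0 : E ⟶ T) V = 0 :=
  ext_ev _ _ fun W h x => rfl

theorem secOfHom_add {E T : X.Modules} (u u' : E ⟶ T) (V : X.Opens) :
    secOfHom (u + u') V = secOfHom u V + secOfHom u' V :=
  ext_ev _ _ fun W h x => rfl

theorem secOfHom_injective {E T : X.Modules} : Function.Injective (fun u : E ⟶ T => secOfHom u ⊤) := by
  intro u u' h
  have := congrArg (homOfSec (V := ⊤) (fun _ => le_top)) h
  simpa only [homOfSec_secOfHom] using this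

variable (A : Type u) [CommRing A] [X.Over (Spec (CommRingCat.of A))]
  [IsNoetherianRing A] [IsProper (X ↘ Spec (CommRingCat.of A))]

theorem exists_corep_hom (F : X.Modules) (hF : Coh.IsCoh F)
    (hfl : FlatMod.IsFlatOver (X ↘ Spec (CommRingCat.of A)) F)
    (G E₀ E₁ : X.Modules) (h₀ : FlatMod.IsFinLocFree E₀) (h₁ : FlatMod.IsFinLocFree E₁)
    (v : E₁ ⟶ E₀) (π : E₀ ⟶ G) [Epi π] (w : v ≫ π = 0) (hex : (ShortComplex.mk v π w).Exact) :
    ∃ N : ModuleCat.{u} A, Module.Finite A N ∧
      Nonempty (CohIII.tensorAFunctor A F ⋙ preadditiveCoyoneda.obj (op G) ≅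
        (linearCoyoneda A (ModuleCat.{u} A)).obj (op N) ⋙ forget₂ (ModuleCat.{u} A) AddCommGrpCat.{u}) := by
  obtain ⟨Q₀, hQ₀, ⟨ε₀⟩⟩ := exists_HF_corep A F E₀ hF hfl h₀
  obtain ⟨Q₁, hQ₁, ⟨ε₁⟩⟩ := exists_HF_corep A F E₁ hF hfl h₁
  haveI := hQ₀
  let η : HF A F E₀ ⟶ HF A F E₁ :=
    Functor.whiskerLeft (CohIII.tensorAFunctor A F)
      (Functor.whiskerRight (homModPre v) (CohIII.globalSectionsA A))
  let j : CohIII.tensorAFunctor A F ⋙ preadditiveCoyoneda.obj (op G) ⟶
      HF A F E₀ ⋙ forget₂ (ModuleCat.{u} A) AddCommGrpCat.{u} :=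
    { app := fun M => AddCommGrpCat.ofHom
        { toFun := fun u => (show ↑((HF A F E₀).obj M) from
            secOfHom (π ≫ (show G ⟶ (CohIII.tensorAFunctor A F).obj M from u)) ⊤)
          map_zero' := by
            show secOfHom (π ≫ (0 : G ⟶ (CohIII.tensorAFunctor A F).obj M)) ⊤ = 0
            rw [comp_zero, secOfHom_zero]
          map_add' := fun u u' => by
            show secOfHom (π ≫ ((show G ⟶ (CohIII.tensorAFunctor A F).obj M from u) +
              (show G ⟶ (CohIII.tensorAFunctor A F).obj M from u'))) ⊤ =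
              secOfHom (π ≫ (show G ⟶ (CohIII.tensorAFunctor A F).obj M from u)) ⊤ +
              secOfHom (π ≫ (show G ⟶ (CohIII.tensorAFunctor A F).obj M from u')) ⊤
            rw [Preadditive.comp_add, secOfHom_add] }
      naturality := fun M M' φ => by
        ext u
        exact ext_ev _ _ fun W h x => rfl }
  refine exists_corep_of_kernel ε₀ ε₁ η j ?_ ?_
  · intro M u u' h
    have h1 : secOfHom (π ≫ (show G ⟶ (CohIII.tensorAFunctor A F).obj M from u)) ⊤ =
        secOfHom (π ≫ (show G ⟶ (CohIII.tensorAFunctor A F).obj M from u')) ⊤ := h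
    have h2 := secOfHom_injective h1
    exact (cancel_epi π).1 h2
  · intro M x
    let T : X.Modules := (CohIII.tensorAFunctor A F).obj M
    let x' : Γ(homMod E₀ T, ⊤) := x
    have hη : (η.app M).hom x = (show ↑((HF A F E₁).obj M) from preSec v T x') := rfl
    constructor
    · intro h0
      have h0' : preSec v T x' = 0 := by rw [hη] at h0; exact h0
      let u₀ : E₀ ⟶ T := homOfSec (V := ⊤) (fun _ => le_top) x'
      have hx : secOfHom u₀ ⊤ = x' := secOfHom_homOfSec _ _
      have hv : v ≫ u₀ = 0 := by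
        apply secOfHom_injective
        show secOfHom (v ≫ u₀) ⊤ = secOfHom 0 ⊤
        rw [← preSec_secOfHom, hx, h0', secOfHom_zero]
      refine ⟨hex.desc u₀ hv, ?_⟩
      show secOfHom (π ≫ hex.desc u₀ hv) ⊤ = x'
      have := hex.g_desc u₀ hv
      simp only at this
      rw [this, hx]
    · rintro ⟨u, rfl⟩
      rw [hη]
      show preSec v T (secOfHom (π ≫ (show G ⟶ T from u)) ⊤) = 0
      rw [preSec_secOfHom, ← Category.assoc, w, zero_comp, secOfHom_zero]

end Groth.Agent.Lib.Helper6.HomDualCorep
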