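import Groth.Agent.Lib.Helper6.HomDualExt
import Groth.Agent.Lib.Helper6.ExtAdj
import Groth.Agent.Lib.Helper16.RS7
import Groth.Agent.Lib.Helper8.SheafModGroth
import Mathlib

/-!
# `Ext^i(F ⊗ E, G) ≃ Ext^i(F, G ⊗ E^∨)` for `E` finite locally free (helper6)
-/

set_option autoImplicit false
set_option linter.style.haveILetI false
set_option linter.unusedSectionVars false
set_option linter.unusedVariables false
set_option backward.isDefEq.respectTransparency.types false
universe u
open CategoryTheory CategoryTheory.Limits AlgebraicGeometry Opposite TopologicalSpace MonoidalCategory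
noncomputable section

namespace Groth.Agent.Lib.Helper6.HomDualExtG

open Groth.Agent.Lib.Helper28 Groth.Agent.Lib.Helper28.HomMod
  Groth.Agent.Lib.Helper6.HomAdj Groth.Agent.Lib.Helper6.HomBC Groth.Agent.Lib.Helper6.HomDual
  Groth.Agent.Lib.Helper6.HomDualExt
  Groth.Agent.Lib.Helper2.GSplit2 Groth.Agent.Lib.Helper1.ModFlat Groth.Agent.Lib.Helper1.TensorAssoc
  Groth.Agent.Lib.Helper6

variable {X : Scheme.{u}}

/-- `- ⊗ E` preserves monomorphisms for `E` finite locally free -/
theorem preservesMonomorphisms_tens (E : X.Modules) (hE : FlatMod.IsFinLocFree E) :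
    (tens X.sheaf E).PreservesMonomorphisms := by
  have hfl := Groth.Agent.Lib.Helper16.RS.isFlat_of_isFinLocFree E hE
  have h1 : (tensL X.sheaf E).PreservesMonomorphisms := ⟨fun {N N'} f hf => @mono_TL_map X E hfl N N' f hf⟩
  exact @Functor.PreservesMonomorphisms.of_iso _ _ _ _ (tensL X.sheaf E) (tens X.sheaf E) h1
    (tensLIso X.sheaf E)

/-- the adjunction `- ⊗ E ⊣ - ⊗ E^∨` -/
def tensDualAdj (E : X.Modules) (hE : HasLocBasis E) [ModSite.HasSheafHom (O := X.sheaf) E] :
    tens X.sheaf E ⊣
      tens X.sheaf ((ModSite.sheafHom (O := X.sheaf) E).obj (Coh.structureModule X)) :=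
  (ModSite.sheafHomAdj (O := X.sheaf) E).ofNatIsoRight (dualIso E hE)

theorem nonempty_ext_addEquiv (E : X.Modules) (hE : FlatMod.IsFinLocFree E) (F G : X.Modules)
    [ModSite.HasSheafHom (O := X.sheaf) E] [HasExt.{u} X.Modules] (i : ℕ) :
    Nonempty (Abelian.Ext (CohB1.tensorMod F E) G i ≃+
      Abelian.Ext F (CohB1.tensorMod G
        ((ModSite.sheafHom (O := X.sheaf) E).obj (Coh.structureModule X))) i) := by
  have hE' : HasLocBasis E := hasLocBasis_of_isFinLocFree E hE
  let D : X.Modules := (ModSite.sheafHom (O := X.sheaf) E).obj (Coh.structureModule X)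
  let L : X.Modules ⥤ X.Modules := tens X.sheaf E
  let R : X.Modules ⥤ X.Modules := tens X.sheaf D
  let adj : L ⊣ R := tensDualAdj E hE'
  haveI : EnoughInjectives X.Modules :=
    Groth.Agent.Lib.Helper8.SheafModGroth.enoughInjectives _ (ModSite.ringSh X.sheaf)
  haveI : L.PreservesMonomorphisms := preservesMonomorphisms_tens E hE
  haveI : L.Additive := (ModSite.sheafHomAdj (O := X.sheaf) E).left_adjoint_additive
  haveI : R.Additive := adj.right_adjoint_additive
  haveI : R.IsLeftAdjoint := inferInstanceAs (tens X.sheaf D).IsLeftAdjoint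
  haveI : PreservesFiniteColimits R :=
    (Adjunction.ofIsLeftAdjoint R).leftAdjoint_preservesColimits.{0, 0}.preservesFiniteColimits
  haveI : PreservesFiniteLimits R :=
    adj.rightAdjoint_preservesLimits.{0, 0}.preservesFiniteLimits
  exact ExtAdj.nonempty_ext_addEquiv adj F G i

end Groth.Agent.Lib.Helper6.HomDualExtG
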