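import Groth.Agent.Lib.Helper6.HomLift
import Mathlib

/-!
# Lifting homomorphisms from the closed fibre (helper6)
-/

set_option backward.isDefEq.respectTransparency.types false
set_option autoImplicit false
set_option linter.style.haveILetI false
set_option linter.unusedSectionVars false
set_option linter.unusedVariables false
universe u
open CategoryTheory CategoryTheory.Limits AlgebraicGeometry Opposite TopologicalSpace

noncomputable section
namespace Groth.Agent.Lib.Helper6.HomFib

open Groth.Agent.Lib.Helper28 Groth.Agent.Lib.Helper28.QCohLoc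
  Groth.Agent.Lib.Helper28.PullbackInv Groth.Agent.Lib.Helper28.HomMod
  Groth.Agent.Lib.Helper8.PullBasis
  Groth.Agent.Lib.Helper6.HomBC Groth.Agent.Lib.Helper6.HomLift Groth.Agent.Lib.Helper6.HomAdj

section closedPoint

variable (A : Type u) [CommRing A] [IsLocalRing A]

/-- `Spec κ(y) ⟶ Spec (A/𝔪)` for the closed point `y` of `Spec A` -/
def resToQuot : Spec ((Spec (CommRingCat.of A)).residueField (IsLocalRing.closedPoint A)) ⟶
    Spec (CommRingCat.of (A ⧸ IsLocalRing.maximalIdeal A)) :=
  Spec.map (Scheme.Spec.residueFieldIso (CommRingCat.of A) (IsLocalRing.closedPoint A)).inv ≫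
    Spec.map (CommRingCat.ofHom (algebraMap (A ⧸ IsLocalRing.maximalIdeal A)
      (IsLocalRing.maximalIdeal A).ResidueField))

instance isIso_resToQuot : IsIso (resToQuot A) := by
  unfold resToQuot
  have hb := (IsLocalRing.maximalIdeal A).bijective_algebraMap_quotient_residueField
  haveI : IsIso (CommRingCat.ofHom (algebraMap (A ⧸ IsLocalRing.maximalIdeal A)
      (IsLocalRing.maximalIdeal A).ResidueField)) :=
    (RingEquiv.ofBijective _ hb).toCommRingCatIso.isIso_hom
  haveI h1 : IsIso (Spec.map (CommRingCat.ofHom (algebraMap (A ⧸ IsLocalRing.maximalIdeal A)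
      (IsLocalRing.maximalIdeal A).ResidueField))) :=
    inferInstanceAs (IsIso (Scheme.Spec.map (CommRingCat.ofHom (algebraMap (A ⧸ IsLocalRing.maximalIdeal A)
      (IsLocalRing.maximalIdeal A).ResidueField)).op))
  haveI h2 : IsIso (Spec.map (Scheme.Spec.residueFieldIso (CommRingCat.of A) (IsLocalRing.closedPoint A)).inv) :=
    inferInstanceAs (IsIso (Scheme.Spec.map
      (Scheme.Spec.residueFieldIso (CommRingCat.of A) (IsLocalRing.closedPoint A)).inv.op))
  exact @IsIso.comp_isIso _ _ _ _ _ _ _ h2 h1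

theorem resToQuot_comp : resToQuot A ≫
    Spec.map (CommRingCat.ofHom (Ideal.Quotient.mk (IsLocalRing.maximalIdeal A))) =
    (Spec (CommRingCat.of A)).fromSpecResidueField (IsLocalRing.closedPoint A) := by
  unfold resToQuot
  rw [Category.assoc, ← Spec.map_comp]
  exact Scheme.Spec.map_residueFieldIso_inv_eq_fromSpecResidueField (CommRingCat.of A)
    (IsLocalRing.closedPoint A)

end closedPoint

section lift

variable (A : Type u) [CommRing A] [IsLocalRing A]
  (X : Scheme.{u}) [X.Over (Spec (CommRingCat.of A))]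

/-- the structure map of the closed fibre to `Spec (A/𝔪)` -/
def fibP : (X ↘ Spec (CommRingCat.of A)).fiber (IsLocalRing.closedPoint A) ⟶
    Spec (CommRingCat.of (A ⧸ IsLocalRing.maximalIdeal A)) :=
  (X ↘ Spec (CommRingCat.of A)).fiberToSpecResidueField (IsLocalRing.closedPoint A) ≫ resToQuot A

/-- the closed fibre is the base change to `A/𝔪` -/
theorem isPullback_fib :
    IsPullback ((X ↘ Spec (CommRingCat.of A)).fiberι (IsLocalRing.closedPoint A)) (fibP A X)
      (X ↘ Spec (CommRingCat.of A))
      (Spec.map (CommRingCat.ofHom (Ideal.Quotient.mk (IsLocalRing.maximalIdeal A)))) := by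
  have h0 : IsPullback ((X ↘ Spec (CommRingCat.of A)).fiberι (IsLocalRing.closedPoint A))
      ((X ↘ Spec (CommRingCat.of A)).fiberToSpecResidueField (IsLocalRing.closedPoint A))
      (X ↘ Spec (CommRingCat.of A))
      ((Spec (CommRingCat.of A)).fromSpecResidueField (IsLocalRing.closedPoint A)) :=
    IsPullback.of_hasPullback _ _
  refine IsPullback.of_iso h0 (Iso.refl _) (Iso.refl _) (asIso (resToQuot A)) (Iso.refl _) ?_ ?_ ?_ ?_
  · simp
  · simp [fibP]
  · simp
  · rw [Iso.refl_hom, Category.comp_id, asIso_hom, resToQuot_comp]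

variable [IsNoetherianRing A] [IsProper (X ↘ Spec (CommRingCat.of A))] [Flat (X ↘ Spec (CommRingCat.of A))]

/-- **S4476, existence part** -/
theorem exists_hom_lift (F G : X.Modules) (hF : FlatMod.IsFinLocFree F) (hG : FlatMod.IsFinLocFree G)
    [DCoh.HasSheafHom (CohIII.fiberMod (X ↘ Spec (CommRingCat.of A)) F (IsLocalRing.closedPoint A))]
    (h1 : Subsingleton (Coh.HH ((X ↘ Spec (CommRingCat.of A)).fiber (IsLocalRing.closedPoint A))
      ((DCoh.sheafHom (CohIII.fiberMod (X ↘ Spec (CommRingCat.of A)) F (IsLocalRing.closedPoint A))).obj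
        (CohIII.fiberMod (X ↘ Spec (CommRingCat.of A)) G (IsLocalRing.closedPoint A))) 1))
    (u₀ : CohIII.fiberMod (X ↘ Spec (CommRingCat.of A)) F (IsLocalRing.closedPoint A) ⟶
      CohIII.fiberMod (X ↘ Spec (CommRingCat.of A)) G (IsLocalRing.closedPoint A)) :
    ∃ u : F ⟶ G,
      (Scheme.Modules.pullback ((X ↘ Spec (CommRingCat.of A)).fiberι (IsLocalRing.closedPoint A))).map u = u₀ := by
  have hFb := hasLocBasis_of_isFinLocFree F hF
  have hGb := hasLocBasis_of_isFinLocFree G hG
  have hHb := hasLocBasis_homMod F G hFb hGb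
  have hH : FlatMod.IsFinLocFree (homMod F G) := isFinLocFree_of_hasLocBasis _ hHb
  have hNc : Coh.IsCoh (homMod F G) := Groth.Agent.Lib.Helper17.FFLocFree.isCoh_of_isFinLocFree _ hH
  haveI : (homMod F G).IsQuasicoherent := hNc.1
  have hfl := isFlatOver_of_hasLocBasis (X ↘ Spec (CommRingCat.of A)) (homMod F G) hHb
  haveI := isIso_pbTensor ((X ↘ Spec (CommRingCat.of A)).fiberι (IsLocalRing.closedPoint A)) F (homMod F G) hFb hHb
  haveI := isIso_bc ((X ↘ Spec (CommRingCat.of A)).fiberι (IsLocalRing.closedPoint A)) F G hFb hGb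
  obtain ⟨e2⟩ := nonempty_sheafHom_iso
    (CohIII.fiberMod (X ↘ Spec (CommRingCat.of A)) F (IsLocalRing.closedPoint A))
    (CohIII.fiberMod (X ↘ Spec (CommRingCat.of A)) G (IsLocalRing.closedPoint A))
  have hvan : Subsingleton (CohIII.fiberH (X ↘ Spec (CommRingCat.of A)) (homMod F G)
      (IsLocalRing.closedPoint A) 1) :=
    Groth.Agent.Lib.Helper4.VanClass.subsingleton_HH_of_iso
      (e2 ≪≫ (asIso (bc ((X ↘ Spec (CommRingCat.of A)).fiberι (IsLocalRing.closedPoint A)) F G)).symm) 1 h1
  exact exists_lift _ F G hFb hGb hHb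
    (fun τ => exists_section_lift A X _ (fibP A X) (isPullback_fib A X) (homMod F G) hNc hfl hvan τ) u₀

end lift

end Groth.Agent.Lib.Helper6.HomFib
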