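import Groth.Agent.Lib.Helper6.HomMonoEpi
import Mathlib

/-!
# Lifting homomorphisms / isomorphisms from any model of the closed fibre (helper6)
-/

set_option backward.isDefEq.respectTransparency.types false
set_option autoImplicit false
set_option linter.style.haveILetI false
set_option linter.unusedSectionVars false
set_option linter.unusedVariables false
universe u
open CategoryTheory CategoryTheory.Limits AlgebraicGeometry Opposite TopologicalSpace

noncomputable section
namespace Groth.Agent.Lib.Helper6.HomFib2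

open Groth.Agent.Lib.Helper28 Groth.Agent.Lib.Helper28.QCohLoc
  Groth.Agent.Lib.Helper28.PullbackInv Groth.Agent.Lib.Helper28.HomMod
  Groth.Agent.Lib.Helper8.PullBasis
  Groth.Agent.Lib.Helper6.HomBC Groth.Agent.Lib.Helper6.HomLift Groth.Agent.Lib.Helper6.HomAdj
  Groth.Agent.Lib.Helper6.HomMonoEpi

variable (A : Type u) [CommRing A] [IsLocalRing A] [IsNoetherianRing A]
  (X : Scheme.{u}) [X.Over (Spec (CommRingCat.of A))]
  [IsProper (X ↘ Spec (CommRingCat.of A))] [Flat (X ↘ Spec (CommRingCat.of A))]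
  {Z : Scheme.{u}} (i : Z ⟶ X)
  (p : Z ⟶ Spec (CommRingCat.of (A ⧸ IsLocalRing.maximalIdeal A)))
  (hpb : IsPullback i p (X ↘ Spec (CommRingCat.of A))
    (Spec.map (CommRingCat.ofHom (Ideal.Quotient.mk (IsLocalRing.maximalIdeal A)))))

include hpb in
/-- lifting homomorphisms from any model of the closed fibre -/
theorem exists_hom_lift_of_model (F G : X.Modules) (hF : FlatMod.IsFinLocFree F) (hG : FlatMod.IsFinLocFree G)
    (hvan : Subsingleton (Coh.HH Z ((Scheme.Modules.pullback i).obj (homMod F G)) 1))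
    (u₀ : (Scheme.Modules.pullback i).obj F ⟶ (Scheme.Modules.pullback i).obj G) :
    ∃ u : F ⟶ G, (Scheme.Modules.pullback i).map u = u₀ := by
  have hFb := hasLocBasis_of_isFinLocFree F hF
  have hGb := hasLocBasis_of_isFinLocFree G hG
  have hHb := hasLocBasis_homMod F G hFb hGb
  have hH : FlatMod.IsFinLocFree (homMod F G) := isFinLocFree_of_hasLocBasis _ hHb
  have hNc : Coh.IsCoh (homMod F G) := Groth.Agent.Lib.Helper17.FFLocFree.isCoh_of_isFinLocFree _ hH
  haveI : (homMod F G).IsQuasicoherent := hNc.1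
  have hfl := isFlatOver_of_hasLocBasis (X ↘ Spec (CommRingCat.of A)) (homMod F G) hHb
  let K := A ⧸ IsLocalRing.maximalIdeal A
  letI : Field K := Ideal.Quotient.field (IsLocalRing.maximalIdeal A)
  let ψ : Spec (CommRingCat.of K) ⟶ Spec (CommRingCat.of A) :=
    Spec.map (CommRingCat.ofHom (Ideal.Quotient.mk (IsLocalRing.maximalIdeal A)))
  letI : Z.Over (Spec (CommRingCat.of K)) := ⟨p⟩
  have hsq : IsPullback i (Z ↘ Spec (CommRingCat.of K)) (X ↘ Spec (CommRingCat.of A)) ψ := hpb
  have hpt : ψ (IsLocalRing.closedPoint K) = IsLocalRing.closedPoint A := by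
    apply PrimeSpectrum.ext
    change Ideal.comap (Ideal.Quotient.mk (IsLocalRing.maximalIdeal A)) (IsLocalRing.maximalIdeal K) =
      IsLocalRing.maximalIdeal A
    rw [IsLocalRing.maximalIdeal_eq_bot, ← RingHom.ker_eq_comap_bot, Ideal.mk_ker]
  have hvan' : Subsingleton (CohIII.fiberH (X ↘ Spec (CommRingCat.of A)) (homMod F G)
      (IsLocalRing.closedPoint A) 1) := by
    have h2 := (Groth.Agent.Lib.Helper6.FibreGlue.subsingleton_iff_of_point (X ↘ Spec (CommRingCat.of A))
      (homMod F G) 1 K ψ Z i hsq).1 hvan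
    rwa [hpt] at h2
  exact exists_lift _ F G hFb hGb hHb
    (fun τ => exists_section_lift A X i p hpb (homMod F G) hNc hfl hvan' τ) u₀

include hpb in
/-- lifting isomorphisms from any model of the closed fibre -/
theorem nonempty_iso_of_model (F G : X.Modules) (hF : FlatMod.IsFinLocFree F) (hG : FlatMod.IsFinLocFree G)
    (hvan : Subsingleton (Coh.HH Z ((Scheme.Modules.pullback i).obj (homMod F G)) 1))
    (u₀ : (Scheme.Modules.pullback i).obj F ≅ (Scheme.Modules.pullback i).obj G) :
    Nonempty (F ≅ G) := by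
  obtain ⟨u, hu⟩ := exists_hom_lift_of_model A X i p hpb F G hF hG hvan u₀.hom
  haveI : IsLocallyNoetherian X :=
    LocallyOfFiniteType.isLocallyNoetherian (X ↘ Spec (CommRingCat.of A))
  haveI : F.IsQuasicoherent := Groth.Agent.Lib.Helper29.FreeIso.isQuasicoherent_of_isFinLocFree F hF
  haveI : G.IsQuasicoherent := Groth.Agent.Lib.Helper29.FreeIso.isQuasicoherent_of_isFinLocFree G hG
  have hFb := hasLocBasis_of_isFinLocFree F hF
  have hGb := hasLocBasis_of_isFinLocFree G hG
  have hiso : IsIso ((Scheme.Modules.pullback i).map u) := by rw [hu]; infer_instance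
  haveI : Mono u := mono_of_mono_fibre i p hpb hFb hGb u inferInstance
  haveI : Epi u := epi_of_epi_fibre i p hpb hFb hGb u inferInstance
  haveI : IsIso u := isIso_of_mono_of_epi u
  exact ⟨asIso u⟩

end Groth.Agent.Lib.Helper6.HomFib2
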