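import Groth.Agent.Lib.Helper6.HomFib
import Groth.Agent.Lib.Helper6.HomAlg
import Groth.Agent.Lib.Helper28.ModIsoCover
import Groth.Agent.Lib.Helper28.ModExact
import Mathlib

/-!
# Mono / epi on the closed fibre implies mono / epi (helper6)
-/

set_option backward.isDefEq.respectTransparency.types false
set_option autoImplicit false
set_option linter.style.haveILetI false
set_option linter.unusedSectionVars false
set_option linter.unusedVariables false
universe u
open CategoryTheory CategoryTheory.Limits AlgebraicGeometry Opposite TopologicalSpace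

noncomputable section
namespace Groth.Agent.Lib.Helper6.HomMonoEpi

open Groth.Agent.Lib.Helper28 Groth.Agent.Lib.Helper28.QCohLoc
  Groth.Agent.Lib.Helper28.PullbackInv Groth.Agent.Lib.Helper28.HomMod
  Groth.Agent.Lib.Helper8.PullBasis Groth.Agent.Lib.Helper21.ThickDict
  Groth.Agent.Lib.Helper6.HomBC Groth.Agent.Lib.Helper6.HomLift Groth.Agent.Lib.Helper6.HomAdj

section basicOpen

variable {X : Scheme.{u}} {F G : X.Modules} (u : F ⟶ G) {W : X.Opens}

/-- if `s` kills the kernel of `u` over `W`, then `u` is injective over `D(s)` -/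
theorem injective_app_basicOpen (hF : IsLocOn F W) (hG : IsLocOn G W) (s : Γ(X, W))
    (hs : ∀ ν : Γ(F, W), u.app W ν = 0 → (s • ν : Γ(F, W)) = 0) :
    Function.Injective (u.app (X.basicOpen s)) := by
  have key : ∀ y : Γ(F, X.basicOpen s), u.app (X.basicOpen s) y = 0 → y = 0 := by
    intro y hy
    obtain ⟨k, m, hkm⟩ := hF.surj s y
    have h1 : res G (X.basicOpen_le s) (u.app W m) = 0 := by
      rw [← app_res, ← hkm, Scheme.Modules.Hom.app_smul, hy, smul_zero]
    obtain ⟨n, hn⟩ := hG.inj s _ h1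
    have h2 : u.app W (s ^ n • m : Γ(F, W)) = 0 := by
      rw [Scheme.Modules.Hom.app_smul, hn]
    have h3 := hs _ h2
    have h4 := congrArg (res F (X.basicOpen_le s)) h3
    rw [res_smul, res_smul, res_zero, ← hkm, resO_pow] at h4
    have hu := isUnit_ur s
    have h5 := hu.smul_eq_zero.1 h4
    have h6 := (hu.pow n).smul_eq_zero.1 h5
    exact (hu.pow k).smul_eq_zero.1 h6
  intro x x' hxx'
  have h0 : u.app (X.basicOpen s) (x - x') = 0 := by
    have : u.app (X.basicOpen s) (x - x') = u.app (X.basicOpen s) x - u.app (X.basicOpen s) x' :=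
      map_sub _ _ _
    rw [this, hxx', sub_self]
  exact sub_eq_zero.1 (key _ h0)

/-- if `s` times every section of `G` over `W` is in the image of `u`, then `u` is surjective over `D(s)` -/
theorem surjective_app_basicOpen (hG : IsLocOn G W) (s : Γ(X, W))
    (hs : ∀ μ : Γ(G, W), ∃ ν : Γ(F, W), u.app W ν = (s • μ : Γ(G, W))) :
    Function.Surjective (u.app (X.basicOpen s)) := by
  intro z
  obtain ⟨k, m', hkm⟩ := hG.surj s z
  obtain ⟨m, hm⟩ := hs m'
  have hu := isUnit_ur s
  refine ⟨(((hu.pow (k + 1)).unit⁻¹ : (Γ(X, X.basicOpen s))ˣ) : Γ(X, X.basicOpen s)) •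
    res F (X.basicOpen_le s) m, ?_⟩
  rw [Scheme.Modules.Hom.app_smul, app_res, hm, res_smul, ← hkm, smul_smul, smul_smul, mul_assoc,
    ← pow_succ']
  have h1 : (((hu.pow (k + 1)).unit⁻¹ : (Γ(X, X.basicOpen s))ˣ) : Γ(X, X.basicOpen s)) *
      resO (X.basicOpen_le s) s ^ (k + 1) = 1 := IsUnit.val_inv_mul _
  rw [h1, one_smul]

end basicOpen

section basis

variable {Y : Scheme.{u}} {M : Y.Modules} {U : Y.Opens} {n : ℕ} {τ : Fin n → Γ(M, U)}

/-- the sections over a sub-open of the domain of a free basis form a free module -/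
def basisEquiv (h : IsFreeBasisOn M U τ) {W : Y.Opens} (hW : W ≤ U) :
    (Fin n → Γ(Y, W)) ≃ₗ[Γ(Y, W)] Γ(M, W) :=
  { Equiv.ofBijective _ (h W hW) with
    map_add' := fun a b => by
      show (∑ j, (a + b) j • res M hW (τ j) : Γ(M, W)) =
        (∑ j, a j • res M hW (τ j) : Γ(M, W)) + ∑ j, b j • res M hW (τ j)
      rw [← Finset.sum_add_distrib]
      refine Finset.sum_congr rfl fun j _ => ?_
      rw [Pi.add_apply, add_smul]
    map_smul' := fun r a => by
      show (∑ j, (r • a) j • res M hW (τ j) : Γ(M, W)) =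
        (r • (∑ j, a j • res M hW (τ j) : Γ(M, W)) : Γ(M, W))
      rw [Finset.smul_sum]
      refine Finset.sum_congr rfl fun j _ => ?_
      rw [Pi.smul_apply, smul_eq_mul, mul_smul] }

theorem finite_sections (h : IsFreeBasisOn M U τ) {W : Y.Opens} (hW : W ≤ U) :
    Module.Finite Γ(Y, W) Γ(M, W) :=
  Module.Finite.equiv (basisEquiv h hW)

end basis

section flat

variable {A : Type u} [CommRing A] {X : Scheme.{u}} [X.Over (Spec (CommRingCat.of A))]
  [Flat (X ↘ Spec (CommRingCat.of A))]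

theorem flat_phiU {W : X.Opens} (hW : IsAffineOpen W) :
    (phiU (X ↘ Spec (CommRingCat.of A)) W).Flat := by
  have h1 : ((X ↘ Spec (CommRingCat.of A)).appLE ⊤ W le_top).hom.Flat :=
    HasRingHomProperty.appLE @Flat (X ↘ Spec (CommRingCat.of A)) inferInstance
      ⟨⊤, isAffineOpen_top _⟩ ⟨W, hW⟩ le_top
  have h2 : ((Scheme.ΓSpecIso (CommRingCat.of A)).inv).hom.Flat :=
    RingHom.Flat.of_bijective (ConcreteCategory.bijective_of_isIso _)
  exact RingHom.Flat.comp h2 h1

end flat

section fibre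

open Groth.Agent.Lib.Helper17.PullbackBC Groth.Agent.Lib.Helper17.Tow

variable {A : Type u} [CommRing A] [IsLocalRing A]
  {X : Scheme.{u}} [X.Over (Spec (CommRingCat.of A))]
  {Z : Scheme.{u}} (i : Z ⟶ X)
  (p : Z ⟶ Spec (CommRingCat.of (A ⧸ IsLocalRing.maximalIdeal A)))
  (hpb : IsPullback i p (X ↘ Spec (CommRingCat.of A))
    (Spec.map (CommRingCat.ofHom (Ideal.Quotient.mk (IsLocalRing.maximalIdeal A)))))

include hpb in
theorem isClosedImmersion_of_isPullback : IsClosedImmersion i := by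
  haveI hcl : IsClosedImmersion (Spec.map (CommRingCat.ofHom (Ideal.Quotient.mk (IsLocalRing.maximalIdeal A)))) :=
    IsClosedImmersion.spec_of_surjective _ Ideal.Quotient.mk_surjective
  exact MorphismProperty.of_isPullback (P := @IsClosedImmersion) hpb.flip hcl

include hpb in
/-- functions coming from the maximal ideal vanish on the closed fibre -/
theorem app_phiU_eq_zero (U : X.Opens) (a : A) (ha : a ∈ IsLocalRing.maximalIdeal A) :
    (i.app U).hom (phiU (X ↘ Spec (CommRingCat.of A)) U a) = 0 := by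
  obtain ⟨e, he⟩ : ∃ e : Z ⟶ pullback (X ↘ Spec (CommRingCat.of A))
      (Spec.map (CommRingCat.ofHom (Ideal.Quotient.mk (IsLocalRing.maximalIdeal A)))),
      e ≫ thickι (IsLocalRing.maximalIdeal A) (X ↘ Spec (CommRingCat.of A)) = i :=
    ⟨_, hpb.isoPullback_hom_fst⟩
  subst he
  have h3 := thickι_app_phiU (IsLocalRing.maximalIdeal A) (X ↘ Spec (CommRingCat.of A)) U a ha
  have h4 : ((e ≫ thickι (IsLocalRing.maximalIdeal A) (X ↘ Spec (CommRingCat.of A))).app U).hom
      (phiU (X ↘ Spec (CommRingCat.of A)) U a) =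
      (e.app _).hom (((thickι (IsLocalRing.maximalIdeal A) (X ↘ Spec (CommRingCat.of A))).app U).hom
        (phiU (X ↘ Spec (CommRingCat.of A)) U a)) := rfl
  rw [h4]
  have h5 : ((thickι (IsLocalRing.maximalIdeal A) (X ↘ Spec (CommRingCat.of A))).app U).hom
        (phiU (X ↘ Spec (CommRingCat.of A)) U a) = 0 := h3
  rw [h5]
  exact map_zero _

include hpb in
/-- the closed fibre maps onto the points over the closed point -/
theorem exists_eq_of_le (x : X)
    (hx : IsLocalRing.maximalIdeal A ≤ ((X ↘ Spec (CommRingCat.of A)) x).asIdeal) : ∃ z, i z = x := by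
  obtain ⟨z', hz'⟩ := exists_thickι_eq (IsLocalRing.maximalIdeal A) (X ↘ Spec (CommRingCat.of A)) x hx
  refine ⟨hpb.isoPullback.inv z', ?_⟩
  have h1 : hpb.isoPullback.inv ≫ i = thickι (IsLocalRing.maximalIdeal A) (X ↘ Spec (CommRingCat.of A)) :=
    hpb.isoPullback_inv_fst
  rw [← hz', ← h1]
  rfl

include hpb in
theorem pbs_surjective (M : X.Modules) [M.IsQuasicoherent] {W : X.Opens} (hW : IsAffineOpen W) :
    Function.Surjective (pbs i M W) := by
  haveI := isClosedImmersion_of_isPullback i p hpb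
  have hW' : IsAffineOpen (i ⁻¹ᵁ W) := hW.preimage i
  have hbc := isBC_pullback i hW hW' le_rfl M
  have hsurj : Function.Surjective (i.appLE W (i ⁻¹ᵁ W) le_rfl).hom := by
    rw [← Scheme.Hom.app_eq_appLE]
    exact i.app_surjective W hW
  have := surjective_of_isBC _ hsurj _ hbc
  have heq : (fun m : Γ(M, W) => res ((Scheme.Modules.pullback i).obj M) (le_refl (i ⁻¹ᵁ W)) (pbs i M W m)) =
      fun m => pbs i M W m := by
    funext m
    exact res_self _ _
  rw [heq] at this
  exact this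

include hpb in
theorem mem_smul_top_of_pbs_eq_zero (M : X.Modules) [M.IsQuasicoherent] {W : X.Opens} (hW : IsAffineOpen W)
    (μ : Γ(M, W)) (h : pbs i M W μ = 0) :
    μ ∈ (Ideal.map (phiU (X ↘ Spec (CommRingCat.of A)) W) (IsLocalRing.maximalIdeal A)) •
      (⊤ : Submodule Γ(X, W) Γ(M, W)) := by
  haveI := isClosedImmersion_of_isPullback i p hpb
  have hW' : IsAffineOpen (i ⁻¹ᵁ W) := hW.preimage i
  have hbc := isBC_pullback i hW hW' le_rfl M
  have hsurj : Function.Surjective (i.appLE W (i ⁻¹ᵁ W) le_rfl).hom := by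
    rw [← Scheme.Hom.app_eq_appLE]
    exact i.app_surjective W hW
  have hmem := mem_smul_top_of_isBC _ hsurj _ hbc μ (by rw [res_self]; exact h)
  refine Submodule.smul_mono ?_ le_rfl hmem
  intro r hr
  have hr' : (i.app W).hom r = 0 := by
    rw [RingHom.mem_ker] at hr
    rw [Scheme.Hom.app_eq_appLE]
    exact hr
  exact mem_map_of_isPullback (IsLocalRing.maximalIdeal A) _ i p hpb W hW r hr'

include hpb in
theorem pbs_eq_zero_of_mem (M : X.Modules) (W : X.Opens) (μ : Γ(M, W))
    (h : μ ∈ (Ideal.map (phiU (X ↘ Spec (CommRingCat.of A)) W) (IsLocalRing.maximalIdeal A)) •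
      (⊤ : Submodule Γ(X, W) Γ(M, W))) : pbs i M W μ = 0 := by
  have hI : ∀ r ∈ Ideal.map (phiU (X ↘ Spec (CommRingCat.of A)) W) (IsLocalRing.maximalIdeal A),
      (i.app W).hom r = 0 := by
    intro r hr
    induction hr using Submodule.span_induction with
    | mem x hx =>
      obtain ⟨a, ha, rfl⟩ := hx
      exact app_phiU_eq_zero i p hpb W a ha
    | zero => exact map_zero _
    | add x z _ _ hx hz => rw [map_add, hx, hz, add_zero]
    | smul c x _ hx => rw [smul_eq_mul, map_mul, hx, mul_zero]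
  refine Submodule.smul_induction_on h ?_ ?_
  · intro r hr m _
    rw [pbs_smul]
    have : (i.app W) r = 0 := hI r hr
    rw [this, zero_smul]
  · intro x y hx hy
    rw [pbs_add, hx, hy, add_zero]

section local_

variable [IsNoetherianRing A] [IsLocallyNoetherian X]
  {F G : X.Modules} (hF : HasLocBasis F) (hG : HasLocBasis G) [F.IsQuasicoherent] [G.IsQuasicoherent]
  (u : F ⟶ G)

/-- `u` over `W` as a linear map -/
def appLin (W : X.Opens) : Γ(F, W) →ₗ[Γ(X, W)] Γ(G, W) where
  toFun := u.app W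
  map_add' := fun a b => map_add _ a b
  map_smul' := fun r a => Scheme.Modules.Hom.app_smul u r a

include hpb in
theorem mem_basicOpen_of_sub_one_mem {W : X.Opens} (s : Γ(X, W))
    (hs : s - 1 ∈ Ideal.map (phiU (X ↘ Spec (CommRingCat.of A)) W) (IsLocalRing.maximalIdeal A))
    (x : X) (hxW : x ∈ W)
    (hx : IsLocalRing.maximalIdeal A ≤ ((X ↘ Spec (CommRingCat.of A)) x).asIdeal) :
    x ∈ X.basicOpen s := by
  obtain ⟨z, rfl⟩ := exists_eq_of_le i p hpb x hx
  have hI : ∀ r ∈ Ideal.map (phiU (X ↘ Spec (CommRingCat.of A)) W) (IsLocalRing.maximalIdeal A),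
      (i.app W).hom r = 0 := by
    intro r hr
    induction hr using Submodule.span_induction with
    | mem x hx =>
      obtain ⟨a, ha, rfl⟩ := hx
      exact app_phiU_eq_zero i p hpb W a ha
    | zero => exact map_zero _
    | add x z _ _ hx hz => rw [map_add, hx, hz, add_zero]
    | smul c x _ hx => rw [smul_eq_mul, map_mul, hx, mul_zero]
  have h1 : (i.app W).hom s = 1 := by
    have := hI _ hs
    rw [map_sub, map_one, sub_eq_zero] at this
    exact this
  have h2 : i ⁻¹ᵁ X.basicOpen s = i ⁻¹ᵁ W := by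
    rw [Scheme.preimage_basicOpen]
    have : (i.app W) s = 1 := h1
    rw [this]
    exact Scheme.basicOpen_one _
  have h3 : z ∈ i ⁻¹ᵁ X.basicOpen s := by rw [h2]; exact hxW
  exact h3

include hpb hF hG in
/-- **mono on the closed fibre implies injective near the closed fibre** -/
theorem exists_affine_injective [Flat (X ↘ Spec (CommRingCat.of A))]
    (hmono : Mono ((Scheme.Modules.pullback i).map u)) (x : X)
    (hx : IsLocalRing.maximalIdeal A ≤ ((X ↘ Spec (CommRingCat.of A)) x).asIdeal) :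
    ∃ V : X.Opens, IsAffineOpen V ∧ x ∈ V ∧ Function.Injective (u.app V) := by
  obtain ⟨U, a, b, f, g, hxU, hf, hg⟩ := exists_common_basis hF hG x
  obtain ⟨W, hW, hxW, hWU⟩ := Opens.isBasis_iff_nbhd.mp X.isBasis_affineOpens hxU
  haveI : IsNoetherianRing Γ(X, W) := IsLocallyNoetherian.component_noetherian ⟨W, hW⟩
  letI : Algebra A Γ(X, W) := (phiU (X ↘ Spec (CommRingCat.of A)) W).toAlgebra
  letI : Module A Γ(F, W) := Module.compHom Γ(F, W) (algebraMap A Γ(X, W))
  haveI : IsScalarTower A Γ(X, W) Γ(F, W) := IsScalarTower.of_compHom _ _ _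
  letI : Module A Γ(G, W) := Module.compHom Γ(G, W) (algebraMap A Γ(X, W))
  haveI : IsScalarTower A Γ(X, W) Γ(G, W) := IsScalarTower.of_compHom _ _ _
  haveI : Module.Finite Γ(X, W) Γ(F, W) := finite_sections hf hWU
  haveI : Module.Flat A Γ(X, W) := flat_phiU hW
  haveI : Module.Flat A (Fin b → Γ(X, W)) :=
    Module.Flat.of_linearEquiv (DirectSum.linearEquivFunOnFintype A (Fin b) (fun _ => Γ(X, W))).symm
  haveI : Module.Flat A Γ(G, W) :=
    Module.Flat.of_linearEquiv ((basisEquiv hg hWU).restrictScalars A).symm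
  have hinj := injective_of_mono _ hmono (i ⁻¹ᵁ W)
  have h : ∀ ν : Γ(F, W), appLin u W ν ∈
      ((IsLocalRing.maximalIdeal A).map (algebraMap A Γ(X, W))) • (⊤ : Submodule Γ(X, W) Γ(G, W)) →
      ν ∈ ((IsLocalRing.maximalIdeal A).map (algebraMap A Γ(X, W))) • (⊤ : Submodule Γ(X, W) Γ(F, W)) := by
    intro ν hν
    have h1 := pbs_eq_zero_of_mem i p hpb G W _ hν
    have h2 : ((Scheme.Modules.pullback i).map u).app (i ⁻¹ᵁ W) (pbs i F W ν) = 0 := by
      rw [pbs_map]; exact h1
    have h3 : pbs i F W ν = 0 := hinj (h2.trans (map_zero _).symm)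
    exact mem_smul_top_of_pbs_eq_zero i p hpb F hW ν h3
  obtain ⟨s, hs1, hs2⟩ := Groth.Agent.Lib.Helper6.HomAlg.exists_kill_ker (IsLocalRing.maximalIdeal A)
    (appLin u W) h
  refine ⟨X.basicOpen s, hW.basicOpen s, mem_basicOpen_of_sub_one_mem i p hpb s hs1 x hxW hx, ?_⟩
  exact injective_app_basicOpen u (isLocOn_of_isQuasicoherent F hW) (isLocOn_of_isQuasicoherent G hW) s hs2

include hpb hF hG in
/-- **epi on the closed fibre implies surjective near the closed fibre** -/
theorem exists_affine_surjective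
    (hepi : Epi ((Scheme.Modules.pullback i).map u)) (x : X)
    (hx : IsLocalRing.maximalIdeal A ≤ ((X ↘ Spec (CommRingCat.of A)) x).asIdeal) :
    ∃ V : X.Opens, IsAffineOpen V ∧ x ∈ V ∧ Function.Surjective (u.app V) := by
  obtain ⟨U, a, b, f, g, hxU, hf, hg⟩ := exists_common_basis hF hG x
  obtain ⟨W, hW, hxW, hWU⟩ := Opens.isBasis_iff_nbhd.mp X.isBasis_affineOpens hxU
  haveI : Module.Finite Γ(X, W) Γ(G, W) := finite_sections hg hWU
  haveI := isClosedImmersion_of_isPullback i p hpb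
  have hW' : IsAffineOpen (i ⁻¹ᵁ W) := hW.preimage i
  have hsurj := Groth.Agent.Lib.Helper23.Tower.surj_sections_of_epi ((Scheme.Modules.pullback i).map u) hW'
  have h : ∀ μ : Γ(G, W), ∃ ν : Γ(F, W), μ - appLin u W ν ∈
      (Ideal.map (phiU (X ↘ Spec (CommRingCat.of A)) W) (IsLocalRing.maximalIdeal A)) •
        (⊤ : Submodule Γ(X, W) Γ(G, W)) := by
    intro μ
    obtain ⟨τ, hτ⟩ := hsurj (pbs i G W μ)
    obtain ⟨ν, rfl⟩ := pbs_surjective i p hpb F hW τ
    refine ⟨ν, mem_smul_top_of_pbs_eq_zero i p hpb G hW _ ?_⟩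
    have h1 : ((Scheme.Modules.pullback i).map u).app (i ⁻¹ᵁ W) (pbs i F W ν) = pbs i G W μ := hτ
    rw [pbs_map] at h1
    have h2 : pbs i G W (μ - appLin u W ν) = pbs i G W μ - pbs i G W (u.app W ν) := map_sub _ _ _
    rw [h2, h1, sub_self]
  obtain ⟨s, hs1, hs2⟩ := Groth.Agent.Lib.Helper6.HomAlg.exists_kill_coker _ (appLin u W) h
  refine ⟨X.basicOpen s, hW.basicOpen s, mem_basicOpen_of_sub_one_mem i p hpb s hs1 x hxW hx, ?_⟩
  exact surjective_app_basicOpen u (isLocOn_of_isQuasicoherent G hW) s hs2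

variable [IsProper (X ↘ Spec (CommRingCat.of A))]

include hpb hF hG in
/-- **S4476, mono part** -/
theorem mono_of_mono_fibre [Flat (X ↘ Spec (CommRingCat.of A))]
    (hmono : Mono ((Scheme.Modules.pullback i).map u)) : Mono u := by
  let 𝒱 : Type u := {V : X.Opens // IsAffineOpen V ∧ Function.Injective (u.app V)}
  let Ω : X.Opens := ⨆ V : 𝒱, V.1
  have hall : ∀ x : X, IsLocalRing.maximalIdeal A ≤ ((X ↘ Spec (CommRingCat.of A)) x).asIdeal → x ∈ Ω := by
    intro x hx
    obtain ⟨V, hV, hxV, hinj⟩ := exists_affine_injective i p hpb hF hG u hmono x hx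
    exact Opens.mem_iSup.mpr ⟨⟨V, hV, hinj⟩, hxV⟩
  have htop := eq_top_of_preimage_zeroLocus_le (X ↘ Spec (CommRingCat.of A)) (IsLocalRing.maximalIdeal A)
    le_rfl (X ↘ Spec (CommRingCat.of A)).isClosedMap Ω hall
  refine mono_of_affine_cover u (fun V : 𝒱 => V.1) (fun V => V.2.1) ?_
    (fun V => isLocOn_of_isQuasicoherent F V.2.1) (fun V => isLocOn_of_isQuasicoherent G V.2.1)
    (fun V => V.2.2)
  intro x
  have hx : x ∈ Ω := by rw [htop]; trivial
  exact Opens.mem_iSup.mp hx

include hpb hF hG in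
/-- **S4476, epi part** -/
theorem epi_of_epi_fibre
    (hepi : Epi ((Scheme.Modules.pullback i).map u)) : Epi u := by
  let 𝒱 : Type u := {V : X.Opens // IsAffineOpen V ∧ Function.Surjective (u.app V)}
  let Ω : X.Opens := ⨆ V : 𝒱, V.1
  have hall : ∀ x : X, IsLocalRing.maximalIdeal A ≤ ((X ↘ Spec (CommRingCat.of A)) x).asIdeal → x ∈ Ω := by
    intro x hx
    obtain ⟨V, hV, hxV, hsurj⟩ := exists_affine_surjective i p hpb hF hG u hepi x hx
    exact Opens.mem_iSup.mpr ⟨⟨V, hV, hsurj⟩, hxV⟩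
  have htop := eq_top_of_preimage_zeroLocus_le (X ↘ Spec (CommRingCat.of A)) (IsLocalRing.maximalIdeal A)
    le_rfl (X ↘ Spec (CommRingCat.of A)).isClosedMap Ω hall
  refine epi_of_affine_cover u (fun V : 𝒱 => V.1) (fun V => V.2.1) ?_
    (fun V => isLocOn_of_isQuasicoherent G V.2.1) (fun V => V.2.2)
  intro x
  have hx : x ∈ Ω := by rw [htop]; trivial
  exact Opens.mem_iSup.mp hx

end local_

end fibre

section main

open Groth.Agent.Lib.Helper6.HomFib

/-- **S4476** -/
theorem main (A : Type u) [CommRing A] [IsNoetherianRing A]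
    [IsLocalRing A] (X : Scheme.{u}) [X.Over (Spec (CommRingCat.of A))]
    [IsProper (X ↘ Spec (CommRingCat.of A))] [Flat (X ↘ Spec (CommRingCat.of A))]
    (F G : X.Modules) (hF : FlatMod.IsFinLocFree F) (hG : FlatMod.IsFinLocFree G)
    [DCoh.HasSheafHom (CohIII.fiberMod (X ↘ Spec (CommRingCat.of A)) F (IsLocalRing.closedPoint A))]
    (h1 : Subsingleton (Coh.HH ((X ↘ Spec (CommRingCat.of A)).fiber (IsLocalRing.closedPoint A))
      ((DCoh.sheafHom (CohIII.fiberMod (X ↘ Spec (CommRingCat.of A)) F (IsLocalRing.closedPoint A))).obj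
        (CohIII.fiberMod (X ↘ Spec (CommRingCat.of A)) G (IsLocalRing.closedPoint A))) 1))
    (u₀ : CohIII.fiberMod (X ↘ Spec (CommRingCat.of A)) F (IsLocalRing.closedPoint A) ⟶
      CohIII.fiberMod (X ↘ Spec (CommRingCat.of A)) G (IsLocalRing.closedPoint A)) :
    (∃ u : F ⟶ G,
      (Scheme.Modules.pullback ((X ↘ Spec (CommRingCat.of A)).fiberι (IsLocalRing.closedPoint A))).map u = u₀) ∧
    ∀ u : F ⟶ G,
      (Scheme.Modules.pullback ((X ↘ Spec (CommRingCat.of A)).fiberι (IsLocalRing.closedPoint A))).map u = u₀ →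
        (Mono u₀ → Mono u) ∧ (Epi u₀ → Epi u) := by
  refine ⟨exists_hom_lift A X F G hF hG h1 u₀, fun u hu => ?_⟩
  haveI : IsLocallyNoetherian X :=
    LocallyOfFiniteType.isLocallyNoetherian (X ↘ Spec (CommRingCat.of A))
  haveI : F.IsQuasicoherent := Groth.Agent.Lib.Helper29.FreeIso.isQuasicoherent_of_isFinLocFree F hF
  haveI : G.IsQuasicoherent := Groth.Agent.Lib.Helper29.FreeIso.isQuasicoherent_of_isFinLocFree G hG
  have hFb := hasLocBasis_of_isFinLocFree F hF
  have hGb := hasLocBasis_of_isFinLocFree G hG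
  subst hu
  exact ⟨fun hm => mono_of_mono_fibre _ (fibP A X) (isPullback_fib A X) hFb hGb u hm,
    fun he => epi_of_epi_fibre _ (fibP A X) (isPullback_fib A X) hFb hGb u he⟩

end main

end Groth.Agent.Lib.Helper6.HomMonoEpi
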