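import Groth.Agent.Lib.Helper6.HomFib2
import Groth.Agent.Lib.Helper16.RS6
import Mathlib

/-!
# S4477, the part over the local ring of the point (helper6)
-/

set_option backward.isDefEq.respectTransparency.types false
set_option autoImplicit false
set_option linter.style.haveILetI false
set_option linter.unusedSectionVars false
set_option linter.unusedVariables false
universe u
open CategoryTheory CategoryTheory.Limits AlgebraicGeometry Opposite TopologicalSpace

noncomputable section
namespace Groth.Agent.Lib.Helper6.HomStalk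

open Groth.Agent.Lib.Helper28 Groth.Agent.Lib.Helper28.QCohLoc
  Groth.Agent.Lib.Helper28.PullbackInv Groth.Agent.Lib.Helper28.HomMod
  Groth.Agent.Lib.Helper8.PullBasis Groth.Agent.Lib.Helper2.GSplit2
  Groth.Agent.Lib.Helper6.HomBC Groth.Agent.Lib.Helper6.HomLift Groth.Agent.Lib.Helper6.HomAdj
  Groth.Agent.Lib.Helper6.HomMonoEpi Groth.Agent.Lib.Helper6.HomFib2

section left

variable {X : Scheme.{u}}

/-- `Hom(E, -)` only depends on the isomorphism class of `E` -/
def homModIsoLeft {E E' : X.Modules} (e : E ≅ E') : homModF E ≅ homModF E' :=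
  ((adj E).ofNatIsoLeft (DCoh.tensorBi.mapIso e)).rightAdjointUniq (adj E')

end left

variable {X Y : Scheme.{u}} (f : X ⟶ Y) [IsProper f] [Flat f] [IsLocallyNoetherian Y] (y : Y)

/-- the fibre as a closed subscheme of `X ×_Y Spec O_{Y,y}` -/
def fibToStalk : f.fiber y ⟶ pullback f (Y.fromSpecStalk y) :=
  pullback.lift (f.fiberι y) (f.fiberToSpecResidueField y ≫ Spec.map (Y.residue y))
    (by rw [Category.assoc]; exact f.fiber_fac y)

theorem fibToStalk_fst : fibToStalk f y ≫ pullback.fst f (Y.fromSpecStalk y) = f.fiberι y :=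
  pullback.lift_fst _ _ _

theorem isPullback_fibToStalk :
    IsPullback (fibToStalk f y) (f.fiberToSpecResidueField y) (pullback.snd f (Y.fromSpecStalk y))
      (Spec.map (Y.residue y)) := by
  have h1 : IsPullback (fibToStalk f y ≫ pullback.fst f (Y.fromSpecStalk y)) (f.fiberToSpecResidueField y) f
      (Spec.map (Y.residue y) ≫ Y.fromSpecStalk y) := by
    rw [fibToStalk_fst]
    exact IsPullback.of_hasPullback f (Y.fromSpecResidueField y)
  exact IsPullback.of_right h1 (pullback.lift_snd _ _ _) (IsPullback.of_hasPullback f (Y.fromSpecStalk y))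

/-- **S4477 over the local ring of the point** -/
theorem nonempty_iso_over_stalk (F G : X.Modules) (hF : FlatMod.IsFinLocFree F) (hG : FlatMod.IsFinLocFree G)
    [DCoh.HasSheafHom (CohIII.fiberMod f F y)]
    (h1 : Subsingleton (Coh.HH (f.fiber y) ((DCoh.sheafHom (CohIII.fiberMod f F y)).obj (CohIII.fiberMod f F y)) 1))
    (hy : Nonempty (CohIII.fiberMod f F y ≅ CohIII.fiberMod f G y)) :
    Nonempty ((Scheme.Modules.pullback (pullback.fst f (Y.fromSpecStalk y))).obj F ≅
      (Scheme.Modules.pullback (pullback.fst f (Y.fromSpecStalk y))).obj G) := by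
  obtain ⟨ε⟩ := hy
  set g' := pullback.fst f (Y.fromSpecStalk y) with hg'
  letI : (pullback f (Y.fromSpecStalk y)).Over (Spec (CommRingCat.of (Y.presheaf.stalk y))) :=
    ⟨pullback.snd f (Y.fromSpecStalk y)⟩
  haveI : IsProper ((pullback f (Y.fromSpecStalk y)) ↘ Spec (CommRingCat.of (Y.presheaf.stalk y))) :=
    inferInstanceAs (IsProper (pullback.snd f (Y.fromSpecStalk y)))
  haveI : Flat ((pullback f (Y.fromSpecStalk y)) ↘ Spec (CommRingCat.of (Y.presheaf.stalk y))) :=
    inferInstanceAs (Flat (pullback.snd f (Y.fromSpecStalk y)))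
  haveI : IsNoetherianRing (Y.presheaf.stalk y) := inferInstance
  have hF₁ := Groth.Agent.Lib.Helper16.RS.isFinLocFree_pullback g' F hF
  have hG₁ := Groth.Agent.Lib.Helper16.RS.isFinLocFree_pullback g' G hG
  have hpb : IsPullback (fibToStalk f y) (f.fiberToSpecResidueField y)
      ((pullback f (Y.fromSpecStalk y)) ↘ Spec (CommRingCat.of (Y.presheaf.stalk y)))
      (Spec.map (CommRingCat.ofHom (Ideal.Quotient.mk (IsLocalRing.maximalIdeal (Y.presheaf.stalk y))))) :=
    isPullback_fibToStalk f y
  -- the restrictions to the fibre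
  let eF : (Scheme.Modules.pullback (fibToStalk f y)).obj ((Scheme.Modules.pullback g').obj F) ≅
      CohIII.fiberMod f F y :=
    (Scheme.Modules.pullbackComp (fibToStalk f y) g').app F ≪≫
      (Scheme.Modules.pullbackCongr (fibToStalk_fst f y)).app F
  let eG : (Scheme.Modules.pullback (fibToStalk f y)).obj ((Scheme.Modules.pullback g').obj G) ≅
      CohIII.fiberMod f G y :=
    (Scheme.Modules.pullbackComp (fibToStalk f y) g').app G ≪≫
      (Scheme.Modules.pullbackCongr (fibToStalk_fst f y)).app G
  have hFb := hasLocBasis_of_isFinLocFree _ hF₁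
  have hGb := hasLocBasis_of_isFinLocFree _ hG₁
  have hHb := hasLocBasis_homMod _ _ hFb hGb
  haveI := isIso_pbTensor (fibToStalk f y) _ (homMod ((Scheme.Modules.pullback g').obj F)
    ((Scheme.Modules.pullback g').obj G)) hFb hHb
  haveI := isIso_bc (fibToStalk f y) _ _ hFb hGb
  obtain ⟨e2⟩ := nonempty_sheafHom_iso (CohIII.fiberMod f F y) (CohIII.fiberMod f F y)
  have hvan : Subsingleton (Coh.HH (f.fiber y) ((Scheme.Modules.pullback (fibToStalk f y)).obj
      (homMod ((Scheme.Modules.pullback g').obj F) ((Scheme.Modules.pullback g').obj G))) 1) :=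
    Groth.Agent.Lib.Helper4.VanClass.subsingleton_HH_of_iso
      (e2 ≪≫ (homModF (CohIII.fiberMod f F y)).mapIso (ε ≪≫ eG.symm) ≪≫
        (homModIsoLeft eF.symm).app _ ≪≫
        (asIso (bc (fibToStalk f y) ((Scheme.Modules.pullback g').obj F)
          ((Scheme.Modules.pullback g').obj G))).symm) 1 h1
  exact nonempty_iso_of_model (Y.presheaf.stalk y) (pullback f (Y.fromSpecStalk y)) (fibToStalk f y)
    (f.fiberToSpecResidueField y) hpb _ _ hF₁ hG₁ hvan (eF ≪≫ ε ≪≫ eG.symm)

end Groth.Agent.Lib.Helper6.HomStalk
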