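import Groth.Agent.Lib.Helper6.HomSpreadC
import Groth.Agent.Lib.Helper6.HomStalk
import Mathlib

/-!
# S4477: locally free modules isomorphic on a fibre are isomorphic near the fibre (helper6)
-/

set_option backward.isDefEq.respectTransparency.types false
set_option autoImplicit false
set_option linter.style.haveILetI false
set_option linter.unusedSectionVars false
universe u
open CategoryTheory CategoryTheory.Limits AlgebraicGeometry Opposite TopologicalSpace

noncomputable section
namespace Groth.Agent.Lib.Helper6.HomNear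

open Groth.Agent.Lib.Helper6.HomBC

/-- **S4477** -/
theorem main {X Y : Scheme.{u}} (f : X ⟶ Y) [IsProper f] [Flat f]
    [IsLocallyNoetherian Y] (y : Y) (F G : X.Modules) (hF : FlatMod.IsFinLocFree F) (hG : FlatMod.IsFinLocFree G)
    [DCoh.HasSheafHom (CohIII.fiberMod f F y)]
    (h1 : Subsingleton (Coh.HH (f.fiber y) ((DCoh.sheafHom (CohIII.fiberMod f F y)).obj (CohIII.fiberMod f F y)) 1))
    (hy : Nonempty (CohIII.fiberMod f F y ≅ CohIII.fiberMod f G y)) :
    ∃ U : Y.Opens, y ∈ U ∧ Nonempty (F.restrict (f ⁻¹ᵁ U).ι ≅ G.restrict (f ⁻¹ᵁ U).ι) := by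
  obtain ⟨ε⟩ := Groth.Agent.Lib.Helper6.HomStalk.nonempty_iso_over_stalk f y F G hF hG h1 hy
  exact Groth.Agent.Lib.Helper6.HomSpread.exists_open_iso f y (pullback.fst f (Y.fromSpecStalk y))
    (pullback.snd f (Y.fromSpecStalk y)) (IsPullback.of_hasPullback f (Y.fromSpecStalk y)) F G
    (hasLocBasis_of_isFinLocFree F hF) (hasLocBasis_of_isFinLocFree G hG) ε

end Groth.Agent.Lib.Helper6.HomNear
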