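import Groth.Agent.Lib.Helper6.HomBC
import Groth.Agent.Lib.Helper29.FreeIso2
import Mathlib

/-!
# The sheaf Hom commutes with restriction to an open subscheme (helper6)

`restrIso U F G : (Hom(F, G))|_U ≅ Hom(F|_U, G|_U)`, natural in `G`.
-/

set_option autoImplicit false
set_option linter.style.haveILetI false
set_option linter.unusedSectionVars false
set_option linter.unusedVariables false
set_option backward.isDefEq.respectTransparency.types false
universe u
open CategoryTheory CategoryTheory.Limits AlgebraicGeometry Opposite TopologicalSpace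
noncomputable section

namespace Groth.Agent.Lib.Helper6.HomRestr

open Groth.Agent.Lib.Helper28 Groth.Agent.Lib.Helper28.QCohLoc Groth.Agent.Lib.Helper28.HomMod
  Groth.Agent.Lib.Helper6.HomAdj Groth.Agent.Lib.Helper6.HomBC Groth.Agent.Lib.Helper29.FreeIso

variable {X : Scheme.{u}} (U : X.Opens) (F G : X.Modules)

/-- restriction of a section of `Hom(F, G)` over `ι(W)` to a section of `Hom(F|_U, G|_U)` over `W` -/
def toRes {W : U.toScheme.Opens} (s : Γ(homMod F G, U.ι ''ᵁ W)) :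
    Γ(homMod (F.restrict U.ι) (G.restrict U.ι), W) :=
  mkSec (fun W'' h x => (show Γ(G.restrict U.ι, W'') from
      ev s (U.ι.image_mono h) (show Γ(F, U.ι ''ᵁ W'') from x)))
    (fun W'' h x y => ev_add s (U.ι.image_mono h) _ _)
    (fun W'' h a x => by
      rw [restrict_smul_eq, restrict_smul_eq]
      exact ev_smul s (U.ι.image_mono h) _ _)
    (fun W'' W''' h h' x => by
      rw [res_restrict_eq, res_restrict_eq]
      exact ev_res s (U.ι.image_mono h) _ _)

theorem ev_toRes {W : U.toScheme.Opens} (s : Γ(homMod F G, U.ι ''ᵁ W)) {W'' : U.toScheme.Opens}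
    (h : W'' ≤ W) (x : Γ(F.restrict U.ι, W'')) :
    ev (toRes U F G s) h x = (show Γ(G.restrict U.ι, W'') from
      ev s (U.ι.image_mono h) (show Γ(F, U.ι ''ᵁ W'') from x)) := rfl

/-! ### the inverse on sections -/

section Inv

variable {U} {W : U.toScheme.Opens}

theorem le2 {W' : X.Opens} (h : W' ≤ U.ι ''ᵁ W) : U.ι ⁻¹ᵁ W' ≤ W := by
  intro z hz
  obtain ⟨z', hz', hzz⟩ := h hz
  have : z' = z := U.ι.isOpenEmbedding.injective hzz
  exact this ▸ hz'

theorem le3 (U : X.Opens) (W' : X.Opens) : U.ι ''ᵁ (U.ι ⁻¹ᵁ W') ≤ W' := image_preimage_le U W'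

theorem le1 {W' : X.Opens} (h : W' ≤ U.ι ''ᵁ W) : W' ≤ U.ι ''ᵁ (U.ι ⁻¹ᵁ W') := by
  intro y hy
  obtain ⟨z, hz, rfl⟩ := h hy
  exact ⟨z, hy, rfl⟩

variable {F G}

/-- the value at `W'` of the extension of a section of `Hom(F|_U, G|_U)` -/
def ofResFun (t : Γ(homMod (F.restrict U.ι) (G.restrict U.ι), W)) (W' : X.Opens)
    (h : W' ≤ U.ι ''ᵁ W) (x : Γ(F, W')) : Γ(G, W') :=
  res G (le1 h) (show Γ(G, U.ι ''ᵁ (U.ι ⁻¹ᵁ W')) from
    ev t (le2 h) (show Γ(F.restrict U.ι, U.ι ⁻¹ᵁ W') from res F (le3 U W') x))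

/-- extension of a section of `Hom(F|_U, G|_U)` over `W` to a section of `Hom(F, G)` over `ι(W)` -/
def ofRes (t : Γ(homMod (F.restrict U.ι) (G.restrict U.ι), W)) : Γ(homMod F G, U.ι ''ᵁ W) :=
  mkSec (ofResFun t)
    (fun W' h x y => by
      unfold ofResFun
      rw [res_add, ← res_add G]
      congr 1
      exact ev_add t (le2 h) _ _)
    (fun W' h a x => by
      unfold ofResFun
      rw [res_smul]
      let r : Γ(X, U.ι ''ᵁ (U.ι ⁻¹ᵁ W')) := resO (le3 U W') a
      have h1 : (show Γ(F.restrict U.ι, U.ι ⁻¹ᵁ W') from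
          (r • res F (le3 U W') x : Γ(F, U.ι ''ᵁ (U.ι ⁻¹ᵁ W')))) =
          ((show Γ((U : Scheme.{u}), U.ι ⁻¹ᵁ W') from r) •
            (show Γ(F.restrict U.ι, U.ι ⁻¹ᵁ W') from res F (le3 U W') x) :
              Γ(F.restrict U.ι, U.ι ⁻¹ᵁ W')) :=
        (restrict_smul_eq F U _ _ _).symm
      change res G (le1 h) (show Γ(G, U.ι ''ᵁ (U.ι ⁻¹ᵁ W')) from ev t (le2 h)
        (show Γ(F.restrict U.ι, U.ι ⁻¹ᵁ W') from
          (r • res F (le3 U W') x : Γ(F, U.ι ''ᵁ (U.ι ⁻¹ᵁ W'))))) = _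
      rw [h1, ev_smul, restrict_smul_eq]
      change res G (le1 h) (r • _ : Γ(G, U.ι ''ᵁ (U.ι ⁻¹ᵁ W'))) = _
      rw [res_smul, resO_resO]
      congr 1
      exact resO_self a)
    (fun W' W'' h h' x => by
      unfold ofResFun
      have h'' : U.ι ⁻¹ᵁ W'' ≤ U.ι ⁻¹ᵁ W' := fun z hz => h' hz
      have e1 : (show Γ(F.restrict U.ι, U.ι ⁻¹ᵁ W'') from res F (le3 U W'') (res F h' x)) =
          res (F.restrict U.ι) h'' (show Γ(F.restrict U.ι, U.ι ⁻¹ᵁ W') from res F (le3 U W') x) := by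
        rw [res_restrict_eq]
        change res F (le3 U W'') (res F h' x) = res F _ (res F (le3 U W') x)
        rw [res_res, res_res]
      rw [e1, ev_res t (le2 h) h'', res_restrict_eq]
      change res G (le1 (h'.trans h)) (res G _ _) = _
      rw [res_res, res_res])

theorem ev_ofRes (t : Γ(homMod (F.restrict U.ι) (G.restrict U.ι), W)) {W' : X.Opens}
    (h : W' ≤ U.ι ''ᵁ W) (x : Γ(F, W')) : ev (ofRes t) h x = ofResFun t W' h x := rfl

theorem toRes_ofRes (t : Γ(homMod (F.restrict U.ι) (G.restrict U.ι), W)) :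
    toRes U F G (ofRes t) = t := by
  refine ext_ev _ _ fun W'' h x => ?_
  rw [ev_toRes, ev_ofRes]
  unfold ofResFun
  have h3 : W'' ≤ U.ι ⁻¹ᵁ (U.ι ''ᵁ W'') := le_of_eq (U.ι.preimage_image_eq W'').symm
  have e := ev_res t (le2 (U.ι.image_mono h)) h3
    (show Γ(F.restrict U.ι, U.ι ⁻¹ᵁ (U.ι ''ᵁ W'')) from
      res F (le3 U (U.ι ''ᵁ W'')) (show Γ(F, U.ι ''ᵁ W'') from x))
  have e2 : res (F.restrict U.ι) h3 (show Γ(F.restrict U.ι, U.ι ⁻¹ᵁ (U.ι ''ᵁ W'')) from
      res F (le3 U (U.ι ''ᵁ W'')) (show Γ(F, U.ι ''ᵁ W'') from x)) = x := by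
    rw [res_restrict_eq]
    change res F _ (res F (le3 U (U.ι ''ᵁ W'')) (show Γ(F, U.ι ''ᵁ W'') from x)) = _
    rw [res_res]
    exact res_self F _
  rw [e2] at e
  rw [e, res_restrict_eq]
  rfl

theorem ofRes_toRes (s : Γ(homMod F G, U.ι ''ᵁ W)) : ofRes (toRes U F G s) = s := by
  refine ext_ev _ _ fun W' h x => ?_
  rw [ev_ofRes]
  unfold ofResFun
  rw [ev_toRes]
  change res G (le1 h) (ev s _ (res F (le3 U W') x)) = _
  have e := ev_res s h (le3 U W') x
  rw [e, res_res]
  exact res_self G _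

end Inv

/-! ### the isomorphism of modules -/

/-- `(Hom(F, G))|_U ⟶ Hom(F|_U, G|_U)` -/
def restrHom : (homMod F G).restrict U.ι ⟶ homMod (F.restrict U.ι) (G.restrict U.ι) :=
  mkHom ((homMod F G).restrict U.ι) (homMod (F.restrict U.ι) (G.restrict U.ι))
    (fun W s => toRes U F G (show Γ(homMod F G, U.ι ''ᵁ W) from s))
    (fun W s s' => ext_ev _ _ fun W'' h x => rfl)
    (fun W a s => by
      refine ext_ev _ _ fun W'' h x => ?_
      rw [restrict_smul_eq, smul_ev, ev_toRes, ev_toRes, restrict_smul_eq]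
      rfl)
    (fun W W' h s => ext_ev _ _ fun W'' h' x => rfl)

theorem restrHom_app (W : U.toScheme.Opens) (s : Γ((homMod F G).restrict U.ι, W)) :
    (restrHom U F G).app W s = toRes U F G (show Γ(homMod F G, U.ι ''ᵁ W) from s) := rfl

instance isIso_restrHom : IsIso (restrHom U F G) := by
  refine Groth.Agent.Lib.Helper28.TensorIso.isIso_of_bijective_on_basis _ (fun _ => True)
    (fun V x hx => ⟨V, trivial, hx, le_rfl⟩) ?_
  intro W _
  constructor
  · intro s s' h
    have h' : toRes U F G (show Γ(homMod F G, U.ι ''ᵁ W) from s) =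
        toRes U F G (show Γ(homMod F G, U.ι ''ᵁ W) from s') := h
    have := congrArg ofRes h'
    rwa [ofRes_toRes, ofRes_toRes] at this
  · intro t
    exact ⟨(show Γ((homMod F G).restrict U.ι, W) from ofRes t), toRes_ofRes t⟩

theorem restrHom_naturality {G G' : X.Modules} (g : G ⟶ G') :
    (Scheme.Modules.restrictFunctor U.ι).map ((homModF F).map g) ≫ restrHom U F G' =
      restrHom U F G ≫ (homModF (F.restrict U.ι)).map ((Scheme.Modules.restrictFunctor U.ι).map g) := by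
  apply Scheme.Modules.hom_ext
  intro W
  ext s
  exact ext_ev _ _ fun W'' h x => rfl

/-- **the sheaf Hom commutes with restriction to an open subscheme** -/
def restrNatIso : homModF F ⋙ Scheme.Modules.restrictFunctor U.ι ≅
    Scheme.Modules.restrictFunctor U.ι ⋙ homModF (F.restrict U.ι) :=
  NatIso.ofComponents (fun G => @asIso _ _ _ _ (restrHom U F G) (isIso_restrHom U F G))
    (fun g => restrHom_naturality U F g)

end Groth.Agent.Lib.Helper6.HomRestr
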