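import Groth.Agent.Lib.Helper6.HomBC
import Groth.Agent.Lib.Helper29.FreeIso2
import Mathlib

/-!
# Sections of the sheaf Hom over an open as homomorphisms of the restrictions (helper6)
-/

set_option backward.isDefEq.respectTransparency.types false
set_option autoImplicit false
set_option linter.style.haveILetI false
set_option linter.unusedSectionVars false
set_option linter.unusedVariables false
universe u
open CategoryTheory CategoryTheory.Limits AlgebraicGeometry Opposite TopologicalSpace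

noncomputable section
namespace Groth.Agent.Lib.Helper6.HomSpread

open Groth.Agent.Lib.Helper28 Groth.Agent.Lib.Helper28.QCohLoc
  Groth.Agent.Lib.Helper28.PullbackInv Groth.Agent.Lib.Helper28.HomMod
  Groth.Agent.Lib.Helper8.PullBasis
  Groth.Agent.Lib.Helper6.HomBC Groth.Agent.Lib.Helper6.HomAdj Groth.Agent.Lib.Helper6.HomBasis
  Groth.Agent.Lib.Helper29.FreeIso

section comp

variable {X : Scheme.{u}} {F G H : X.Modules}

/-- composition of sections of sheaves of homomorphisms -/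
def compSec {W : X.Opens} (n' : Γ(homMod G H, W)) (n : Γ(homMod F G, W)) : Γ(homMod F H, W) :=
  mkSec (fun W' h x => ev n' h (ev n h x))
    (fun W' h x y => by rw [ev_add, ev_add])
    (fun W' h a x => by rw [ev_smul, ev_smul])
    (fun W' W'' h h' x => by rw [ev_res, ev_res])

theorem ev_compSec {W : X.Opens} (n' : Γ(homMod G H, W)) (n : Γ(homMod F G, W)) {W' : X.Opens} (h : W' ≤ W)
    (x : Γ(F, W')) : ev (compSec n' n) h x = ev n' h (ev n h x) := rfl

end comp

section restrict

variable {X : Scheme.{u}} {F G : X.Modules} (W : X.Opens)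

/-- a section of the sheaf Hom over `W` as a homomorphism of the restrictions to `W` -/
def restrictHom (n : Γ(homMod F G, W)) : F.restrict W.ι ⟶ G.restrict W.ι :=
  mkHom _ _ (fun W'' x => (show Γ(G, W.ι ''ᵁ W'') from ev n (ι_image_le W W'') (show Γ(F, W.ι ''ᵁ W'') from x)))
    (fun W'' x y => ev_add n (ι_image_le W W'') _ _)
    (fun W'' a x => by
      rw [restrict_smul_eq, restrict_smul_eq]
      exact ev_smul n (ι_image_le W W'') _ _)
    (fun W'' W''' h x => by
      rw [res_restrict_eq, res_restrict_eq]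
      exact ev_res n (ι_image_le W W'') _ _)

theorem restrictHom_app (n : Γ(homMod F G, W)) (W'' : W.toScheme.Opens) (x : Γ(F.restrict W.ι, W'')) :
    (restrictHom W n).app W'' x =
      (show Γ(G, W.ι ''ᵁ W'') from ev n (ι_image_le W W'') (show Γ(F, W.ι ''ᵁ W'') from x)) := rfl

/-- if a section of the sheaf Hom is bijective on all sections, it is an isomorphism of the restrictions -/
theorem isIso_restrictHom (n : Γ(homMod F G, W))
    (h : ∀ (W' : X.Opens) (hW' : W' ≤ W), Function.Bijective (ev n hW' : Γ(F, W') → Γ(G, W'))) :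
    IsIso (restrictHom W n) := by
  refine Groth.Agent.Lib.Helper28.TensorIso.isIso_of_bijective_on_basis _ (fun _ => True)
    (fun U x hx => ⟨U, trivial, hx, le_rfl⟩) ?_
  intro W'' _
  exact h (W.ι ''ᵁ W'') (ι_image_le W W'')

end restrict

section ext

variable {X Y : Scheme.{u}} (g : X ⟶ Y)

/-- sections of `Hom(g^*F, P)` are determined by their values on inverse images of sections of `F` -/
theorem ext_ev_pbs {F : Y.Modules} (hF : HasLocBasis F) {P : X.Modules} {V' : X.Opens}
    (s t : Γ(homMod ((Scheme.Modules.pullback g).obj F) P, V'))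
    (h : ∀ (W : Y.Opens) (x : Γ(F, W)) (V'' : X.Opens) (h1 : V'' ≤ V') (h2 : V'' ≤ g ⁻¹ᵁ W),
      ev s h1 (res _ h2 (pbs g F W x)) = ev t h1 (res _ h2 (pbs g F W x))) : s = t := by
  refine ext_ev _ _ fun V₁ hV₁ z => ?_
  choose U n τ hU hτ using fun q : X => hF (g q)
  refine eq_of_locally_eq P (fun q : V₁ => V₁ ⊓ g ⁻¹ᵁ (U q.1)) V₁ (fun q => inf_le_left) ?_ _ _ (fun q => ?_)
  · intro q hq
    exact Opens.mem_iSup.mpr ⟨⟨q, hq⟩, ⟨hq, hU q⟩⟩
  · rw [← ev_res s hV₁ inf_le_left z, ← ev_res t hV₁ inf_le_left z]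
    have hb := isFreeBasisOn_pbs (f := g) (hτ q.1)
    obtain ⟨c, hc⟩ := (hb (V₁ ⊓ g ⁻¹ᵁ (U q.1)) inf_le_right).2
      (res ((Scheme.Modules.pullback g).obj F) (inf_le_left : V₁ ⊓ g ⁻¹ᵁ (U q.1) ≤ V₁) z)
    have hc' : res ((Scheme.Modules.pullback g).obj F) (inf_le_left : V₁ ⊓ g ⁻¹ᵁ (U q.1) ≤ V₁) z =
        ∑ j, (c j • res ((Scheme.Modules.pullback g).obj F) (inf_le_right : V₁ ⊓ g ⁻¹ᵁ (U q.1) ≤ g ⁻¹ᵁ (U q.1))
          (pbs g F (U q.1) (τ q.1 j)) : Γ((Scheme.Modules.pullback g).obj F, V₁ ⊓ g ⁻¹ᵁ (U q.1))) := hc.symm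
    rw [hc', ev_sum, ev_sum]
    refine Finset.sum_congr rfl fun j _ => ?_
    rw [ev_smul, ev_smul, h (U q.1) (τ q.1 j) _ (inf_le_left.trans hV₁) inf_le_right]

end ext

section evbc

variable {X Y : Scheme.{u}} (g : X ⟶ Y) (F G : Y.Modules) [IsIso (pbTensor g F (homMod F G))]

/-- evaluation of the base change of a section of the sheaf Hom on inverse images of sections -/
theorem ev_bc_res_pbs {U W : Y.Opens} (hW : W ≤ U) (n : Γ(homMod F G, U)) (x : Γ(F, W))
    {D' V'' : X.Opens} (hD : D' ≤ g ⁻¹ᵁ U) (h1 : V'' ≤ D') (h2 : V'' ≤ g ⁻¹ᵁ W) :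
    ev ((bc g F G).app D' (res _ hD (pbs g _ U n))) h1 (res _ h2 (pbs g F W x)) =
      res _ h2 (pbs g G W (ev n hW x)) := by
  have e1 := ev_bc_pbs g F G hW n x
  have e2 := congrArg (res ((Scheme.Modules.pullback g).obj G) h2) e1
  rw [← e2, ← ev_res _ (g.preimage_mono hW) h2 (pbs g F W x), app_res]
  rfl

end evbc

end Groth.Agent.Lib.Helper6.HomSpread
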