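import Groth.Agent.Lib.Helper17.InvDescLoc
import Groth.Agent.Lib.Helper17.FlatBC
import Groth.Agent.Lib.Helper21.ThickDict3
import Groth.Agent.Lib.Helper5.StalkBCA
import Groth.Agent.Lib.Helper6.InvDual
import Mathlib

/-!
# Spreading out a trivialization of an invertible module from the local ring of a point (helper6)

`f : X ⟶ Y` proper, `y : Y`, `N` an invertible `O_X`-module whose inverse image on
`X ×_Y Spec O_{Y,y}` is trivial: then `N` is trivial over `f⁻¹ U` for an open neighbourhood `U` of `y`.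
-/

set_option backward.isDefEq.respectTransparency.types false
set_option autoImplicit false
set_option linter.style.haveILetI false
set_option linter.unusedSectionVars false
universe u
open CategoryTheory CategoryTheory.Limits AlgebraicGeometry Opposite TopologicalSpace TensorProduct

noncomputable section
namespace Groth.Agent.Lib.Helper6.PicSpread

open Groth.Agent.Lib.Helper28 Groth.Agent.Lib.Helper28.QCohLoc Groth.Agent.Lib.Helper28.GenLocus
  Groth.Agent.Lib.Helper28.PullbackInv Groth.Agent.Lib.Helper17.FlatMV Groth.Agent.Lib.Helper17.FlatBC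
  Groth.Agent.Lib.Helper17.InvDescLoc Groth.Agent.Lib.Helper21.ThickDict

section General

variable {X : Scheme.{u}}

/-- a global generator is a trivialization -/
theorem nonempty_iso_of_isGen_top (K : X.Modules) (σ : Γ(K, ⊤)) (h : IsGen K ⊤ σ) :
    Nonempty (K ≅ Coh.structureModule X) := by
  haveI : IsIso (TwistGen.ofSection K σ) := by
    refine Groth.Agent.Lib.Helper28.TensorIso.isIso_of_bijective_on_basis _ (fun _ => True)
      (fun U x hx => ⟨U, trivial, hx, le_rfl⟩) ?_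
    intro W _
    have hfun : ((TwistGen.ofSection K σ).app W : Γ(Coh.structureModule X, W) → Γ(K, W)) =
        fun c : Γ(X, W) => (c • res K (le_top : W ≤ ⊤) σ : Γ(K, W)) := by
      funext c
      have := app_eq_smul (TwistGen.ofSection K σ) W c
      rw [secOf_ofSection] at this
      exact this
    rw [hfun]
    exact h W le_top
  exact ⟨(asIso (TwistGen.ofSection K σ)).symm⟩

/-- a generator over an open `W` trivializes the inverse image on the open subscheme `W` -/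
theorem nonempty_pullback_iso_of_isGen (N : X.Modules) (W : X.Opens) (n : Γ(N, W)) (hn : IsGen N W n) :
    Nonempty ((Scheme.Modules.pullback W.ι).obj N ≅ Coh.structureModule W) := by
  have h1 : IsGen ((Scheme.Modules.pullback W.ι).obj N) (W.ι ⁻¹ᵁ W) (pbs W.ι N W n) := isGen_pbs hn
  have hle : (⊤ : W.toScheme.Opens) ≤ W.ι ⁻¹ᵁ W := by
    rw [Scheme.Opens.ι_preimage_self]
  exact nonempty_iso_of_isGen_top _ _ (h1.res hle)

variable {X' : Scheme.{u}}

/-- pointwise descent of generators: if the inverse image of a section `x` of an invertible module generates near `p'`,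
then `x` generates near the image of `p'` -/
theorem exists_isGen_nbhd_of_isGen_pbs (g' : X' ⟶ X) (L : X.Modules) (hL : PicF.IsInvertible L)
    (D : X.Opens) (x : Γ(L, D)) (D' : X'.Opens) (hD' : D' ≤ g' ⁻¹ᵁ D)
    (hu : IsGen ((Scheme.Modules.pullback g').obj L) D' (res _ hD' (pbs g' L D x)))
    (p' : X') (hp' : p' ∈ D') :
    ∃ (O : X.Opens) (hO : O ≤ D), g' p' ∈ O ∧ IsGen L O (res L hO x) := by
  obtain ⟨U, gU, hpU, hgU⟩ := exists_isGen L hL (g' p')
  have hpD : g' p' ∈ D := hD' hp'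
  set Q : X.Opens := U ⊓ D with hQdef
  have hQD : Q ≤ D := inf_le_right
  have hpQ : g' p' ∈ Q := ⟨hpU, hpD⟩
  set l : Γ(L, Q) := res L (inf_le_left : Q ≤ U) gU with hldef
  have hl : IsGen L Q l := hgU.res inf_le_left
  set r := hl.coef le_rfl (res L hQD x) with hr
  have hrl : (r • l : Γ(L, Q)) = res L hQD x := by
    have := hl.coef_smul le_rfl (res L hQD x)
    rw [res_self] at this
    exact this
  -- on `Q' = g'⁻¹ Q ⊓ D'`, the inverse image of `r` is a unit
  set Q' : X'.Opens := g' ⁻¹ᵁ Q ⊓ D' with hQ'def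
  have hQ'1 : Q' ≤ g' ⁻¹ᵁ Q := inf_le_left
  have hQ'2 : Q' ≤ D' := inf_le_right
  have e1 : pbs g' L Q (res L hQD x) = ((g'.app Q).hom r • pbs g' L Q l :
      Γ((Scheme.Modules.pullback g').obj L, g' ⁻¹ᵁ Q)) := by
    rw [← hrl, pbs_smul]
  have e2 : IsGen ((Scheme.Modules.pullback g').obj L) Q' (res _ hQ'1 (pbs g' L Q (res L hQD x))) := by
    rw [pbs_res, res_res]
    have := hu.res hQ'2
    rw [res_res] at this
    exact this
  rw [e1, res_smul] at e2
  have h1 : IsUnit (resO hQ'1 ((g'.app Q).hom r)) :=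
    isUnit_of_isGen_smul ((isGen_pbs (f := g') hl).res hQ'1) _ e2
  have h2 : Q' ≤ X'.basicOpen ((g'.app Q).hom r) := le_basicOpen_of_isUnit_resO _ hQ'1 h1
  have hp'Q' : p' ∈ Q' := ⟨hpQ, hp'⟩
  have h3 := h2 hp'Q'
  rw [← Scheme.preimage_basicOpen] at h3
  have hpO : g' p' ∈ X.basicOpen r := h3
  refine ⟨X.basicOpen r, (X.basicOpen_le r).trans hQD, hpO, ?_⟩
  have hres : res L ((X.basicOpen_le r).trans hQD) x =
      (resO (X.basicOpen_le r) r • res L (X.basicOpen_le r) l : Γ(L, X.basicOpen r)) := by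
    rw [← res_smul, hrl, res_res]
  rw [hres]
  refine IsGen.smul_unit (hl.res (X.basicOpen_le r)) _ ?_
  have := isUnit_resO_of_le_basicOpen r (le_refl (X.basicOpen r))
  exact this

end General

section Alg

variable {A A' : Type u} [CommRing A] [CommRing A'] (φ : A →+* A')
  {N T : Type u} [AddCommGroup N] [Module A N] [AddCommGroup T] [Module A' T]

/-- if `A'` is a ring of fractions of `A` and `A' ⊗ N ≅ T` then every element of `T` is, up to a unit of `A`
becoming invertible in `A'`, the image of an element of `N` -/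
theorem exists_of_linBij (c : N →+ T) (hb : LinBij φ c)
    (hloc : ∀ a' : A', ∃ s a : A, IsUnit (φ s) ∧ φ s * a' = φ a) (t : T) :
    ∃ (s : A) (n : N), IsUnit (φ s) ∧ c n = φ s • t := by
  letI := φ.toAlgebra
  obtain ⟨hc, hbij⟩ := hb
  obtain ⟨z, rfl⟩ := hbij.2 t
  induction z using TensorProduct.induction_on with
  | zero => exact ⟨1, 0, by rw [map_one]; exact isUnit_one, by rw [map_zero, map_zero, smul_zero]⟩
  | tmul a' n =>
    obtain ⟨s, a, hs, hsa⟩ := hloc a'
    refine ⟨s, a • n, hs, ?_⟩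
    rw [hc, lin_tmul, ← mul_smul, hsa]
    rfl
  | add z₁ z₂ h₁ h₂ =>
    obtain ⟨s₁, n₁, hs₁, e₁⟩ := h₁
    obtain ⟨s₂, n₂, hs₂, e₂⟩ := h₂
    refine ⟨s₁ * s₂, s₂ • n₁ + s₁ • n₂, by rw [map_mul]; exact hs₁.mul hs₂, ?_⟩
    have a1 : algebraMap A A' s₁ = φ s₁ := rfl
    have a2 : algebraMap A A' s₂ = φ s₂ := rfl
    rw [map_add, hc, hc, e₁, e₂, a1, a2, map_add, smul_add, map_mul, mul_smul, mul_smul,
      smul_comm (φ s₂) (φ s₁)]

end Alg

section Stalk

variable {Y : Scheme.{u}} (y : Y)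

theorem top_le_preimage_fromSpecStalk (V : Y.Opens) (hyV : y ∈ V) :
    (⊤ : (Spec (Y.presheaf.stalk y)).Opens) ≤ (Y.fromSpecStalk y) ⁻¹ᵁ V := by
  intro z _
  have hz : (Y.fromSpecStalk y) z ⤳ y := by
    have : (Y.fromSpecStalk y) z ∈ Set.range (Y.fromSpecStalk y) := ⟨z, rfl⟩
    rw [Scheme.range_fromSpecStalk] at this
    exact this
  exact hz.mem_open V.2 hyV

theorem appLE_fromSpecStalk {V : Y.Opens} (hyV : y ∈ V)
    (e : (⊤ : (Spec (Y.presheaf.stalk y)).Opens) ≤ (Y.fromSpecStalk y) ⁻¹ᵁ V) :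
    (Y.fromSpecStalk y).appLE V ⊤ e =
      Y.presheaf.germ V y hyV ≫ (Scheme.ΓSpecIso (Y.presheaf.stalk y)).inv := by
  rw [Scheme.Hom.appLE, Scheme.fromSpecStalk_app hyV, Category.assoc, Category.assoc, ← Functor.map_comp]
  have : ((homOfLE (le_top : (Y.fromSpecStalk y) ⁻¹ᵁ V ≤ ⊤)).op ≫ (homOfLE e).op) = 𝟙 _ := rfl
  rw [this, CategoryTheory.Functor.map_id, Category.comp_id]

/-- `Γ(Spec O_{Y,y}, ⊤)` is a ring of fractions of `Γ(Y, V)` for `V` an affine open neighbourhood of `y` -/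
theorem exists_unit_mul_eq {V : Y.Opens} (hV : IsAffineOpen V) (hyV : y ∈ V)
    (e : (⊤ : (Spec (Y.presheaf.stalk y)).Opens) ≤ (Y.fromSpecStalk y) ⁻¹ᵁ V)
    (a' : Γ(Spec (Y.presheaf.stalk y), ⊤)) :
    ∃ s a : Γ(Y, V), IsUnit (((Y.fromSpecStalk y).appLE V ⊤ e).hom s) ∧
      ((Y.fromSpecStalk y).appLE V ⊤ e).hom s * a' = ((Y.fromSpecStalk y).appLE V ⊤ e).hom a := by
  rw [appLE_fromSpecStalk y hyV e]
  letI : Algebra Γ(Y, V) (Y.presheaf.stalk y) := (Y.presheaf.germ V y hyV).hom.toAlgebra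
  haveI := hV.isLocalization_stalk ⟨y, hyV⟩
  set r := (Scheme.ΓSpecIso (Y.presheaf.stalk y)).hom.hom a' with hr
  obtain ⟨⟨a, s⟩, hsa⟩ := IsLocalization.surj (hV.primeIdealOf ⟨y, hyV⟩).asIdeal.primeCompl r
  have hs : IsUnit (algebraMap Γ(Y, V) (Y.presheaf.stalk y) s) :=
    IsLocalization.map_units (Y.presheaf.stalk y) s
  have ha' : a' = (Scheme.ΓSpecIso (Y.presheaf.stalk y)).inv.hom r := by
    rw [hr]
    change a' = ((Scheme.ΓSpecIso (Y.presheaf.stalk y)).hom ≫ (Scheme.ΓSpecIso (Y.presheaf.stalk y)).inv).hom a'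
    rw [Iso.hom_inv_id]
    rfl
  refine ⟨s, a, ?_, ?_⟩
  · change IsUnit ((Scheme.ΓSpecIso (Y.presheaf.stalk y)).inv.hom
      (algebraMap Γ(Y, V) (Y.presheaf.stalk y) s))
    exact hs.map _
  · change (Scheme.ΓSpecIso (Y.presheaf.stalk y)).inv.hom (algebraMap Γ(Y, V) (Y.presheaf.stalk y) s) * a' =
      (Scheme.ΓSpecIso (Y.presheaf.stalk y)).inv.hom (algebraMap Γ(Y, V) (Y.presheaf.stalk y) a)
    rw [ha', ← map_mul, mul_comm, hsa]

end Stalk

section Spread

variable {X Y : Scheme.{u}} (f : X ⟶ Y) [IsProper f] (y : Y)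

/-- **spreading out**: a trivialization over `X ×_Y Spec O_{Y,y}` gives a generator over `f⁻¹ U`, `U ∋ y` open -/
theorem exists_open_isGen (N : X.Modules) (hN : PicF.IsInvertible N)
    (ε : (Scheme.Modules.pullback (pullback.fst f (Y.fromSpecStalk y))).obj N ≅
      Coh.structureModule (pullback f (Y.fromSpecStalk y))) :
    ∃ (U : Y.Opens) (n : Γ(N, f ⁻¹ᵁ U)), y ∈ U ∧ IsGen N (f ⁻¹ᵁ U) n := by
  haveI : N.IsQuasicoherent := Groth.Agent.Lib.Helper28.InvQC.isQuasicoherent_of_isInvertible N hN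
  set g := Y.fromSpecStalk y with hg
  set g' := pullback.fst f g with hg'
  set f' := pullback.snd f g with hf'
  have h : IsPullback g' f' f g := IsPullback.of_hasPullback f g
  obtain ⟨V, hV, hyV, -⟩ := Opens.isBasis_iff_nbhd.mp Y.isBasis_affineOpens
    (show y ∈ (⊤ : Y.Opens) from trivial)
  have e : (⊤ : (Spec (Y.presheaf.stalk y)).Opens) ≤ g ⁻¹ᵁ V := top_le_preimage_fromSpecStalk y V hyV
  have hW' : IsAffineOpen (⊤ : (Spec (Y.presheaf.stalk y)).Opens) := isAffineOpen_top _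
  haveI : Flat g := Groth.Agent.Lib.Helper5.StalkBC.flat_fromSpecStalk Y y
  have hflat : (g.appLE V ⊤ e).hom.Flat := Flat.flat_appLE g hV hW' e
  have hUc : IsCompact ((f ⁻¹ᵁ V : X.Opens) : Set X) :=
    QuasiCompact.isCompact_preimage (f := f) _ V.2 hV.isCompact
  have hbij := linBij_of_isCompact f g g' f' h e N hV hW' hflat (f ⁻¹ᵁ V) hUc le_rfl
  -- the generator of the inverse image
  have ht := isGen_secOf_inv _ ε
  set D' : (pullback f g).Opens := pr g' f' (⊤ : (Spec (Y.presheaf.stalk y)).Opens) (f ⁻¹ᵁ V) with hD'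
  have ht' : IsGen ((Scheme.Modules.pullback g').obj N) D' (res _ (le_top : D' ≤ ⊤) (secOf ε.inv)) :=
    ht.res le_top
  obtain ⟨s, n, hs, hsn⟩ := exists_of_linBij (g.appLE V ⊤ e).hom _ hbij (exists_unit_mul_eq y hV hyV e)
    (show SecOver f' (⊤ : (Spec (Y.presheaf.stalk y)).Opens) ((Scheme.Modules.pullback g').obj N) D'
      (pr_le_right g' f' _) from res _ (le_top : D' ≤ ⊤) (secOf ε.inv))
  -- `c n` is a generator
  have hgen : IsGen ((Scheme.Modules.pullback g').obj N) D'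
      (res _ (pr_le_left g' f' (f ⁻¹ᵁ V)) (pbs g' N (f ⁻¹ᵁ V) n)) := by
    have h1 : res ((Scheme.Modules.pullback g').obj N) (pr_le_left g' f' (f ⁻¹ᵁ V)) (pbs g' N (f ⁻¹ᵁ V) n) =
        (((f'.appLE ⊤ D' (pr_le_right g' f' _)).hom ((g.appLE V ⊤ e).hom s)) •
          res _ (le_top : D' ≤ ⊤) (secOf ε.inv) : Γ((Scheme.Modules.pullback g').obj N, D')) := hsn
    rw [h1]
    exact IsGen.smul_unit ht' _ (hs.map _)
  -- the open locus where `n` generates
  let G : X.Opens := sSup {O : X.Opens | ∃ hO : O ≤ f ⁻¹ᵁ V, IsGen N O (res N hO n)}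
  have hGV : G ≤ f ⁻¹ᵁ V := sSup_le (fun O hO => hO.1)
  have hGgen : IsGen N G (res N hGV n) := by
    refine isGen_of_locally _ ?_
    intro p hp
    obtain ⟨O, ⟨hO, hOgen⟩, hpO⟩ := Opens.mem_sSup.1 hp
    have hOG : O ≤ G := le_sSup ⟨hO, hOgen⟩
    refine ⟨O, hOG, hpO, ?_⟩
    rw [res_res]
    exact hOgen
  have hfib : ∀ x : X, f x = y → x ∈ G := by
    intro x hx
    have hgy : g (IsLocalRing.closedPoint (Y.presheaf.stalk y)) = y := Scheme.fromSpecStalk_closedPoint
    obtain ⟨p', hp'1, hp'2⟩ := Scheme.Pullback.exists_preimage_pullback (f := f) (g := g) x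
      (IsLocalRing.closedPoint (Y.presheaf.stalk y)) (hx.trans hgy.symm)
    have hp'D : p' ∈ D' := by
      refine ⟨?_, trivial⟩
      show f (g' p') ∈ V
      rw [hp'1, hx]
      exact hyV
    obtain ⟨O, hO, hpO, hOgen⟩ := exists_isGen_nbhd_of_isGen_pbs g' N hN (f ⁻¹ᵁ V) n D'
      (pr_le_left g' f' (f ⁻¹ᵁ V)) hgen p' hp'D
    rw [hp'1] at hpO
    exact (le_sSup (show O ∈ {O : X.Opens | ∃ hO : O ≤ f ⁻¹ᵁ V, IsGen N O (res N hO n)} from ⟨hO, hOgen⟩)) hpO
  -- properness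
  have hclosed : IsClosed (f '' ((G : Set X)ᶜ)) := f.isClosedMap _ G.2.isClosed_compl
  let U₀ : Y.Opens := ⟨(f '' ((G : Set X)ᶜ))ᶜ, hclosed.isOpen_compl⟩
  have hyU₀ : y ∈ U₀ := by
    rintro ⟨x, hxG, hxy⟩
    exact hxG (hfib x hxy)
  refine ⟨V ⊓ U₀, res N (f.preimage_mono inf_le_left) n, ⟨hyV, hyU₀⟩, ?_⟩
  have hle : f ⁻¹ᵁ (V ⊓ U₀) ≤ G := by
    intro x hx
    by_contra hxG
    exact hx.2 ⟨x, hxG, rfl⟩
  have := hGgen.res hle
  rw [res_res] at this
  exact this

end Spread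

end Groth.Agent.Lib.Helper6.PicSpread
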