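import Groth.Agent.Lib.Helper6.HomSpreadA
import Groth.Agent.Lib.Helper6.PicSpread
import Mathlib

/-!
# Spreading out an isomorphism of locally free modules from the local ring of a point (helper6)
-/

set_option backward.isDefEq.respectTransparency.types false
set_option autoImplicit false
set_option linter.style.haveILetI false
set_option linter.unusedSectionVars false
set_option linter.unusedVariables false
universe u
open CategoryTheory CategoryTheory.Limits AlgebraicGeometry Opposite TopologicalSpace TensorProduct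

noncomputable section
namespace Groth.Agent.Lib.Helper6.HomSpread

open Groth.Agent.Lib.Helper28 Groth.Agent.Lib.Helper28.QCohLoc
  Groth.Agent.Lib.Helper28.PullbackInv Groth.Agent.Lib.Helper28.HomMod
  Groth.Agent.Lib.Helper8.PullBasis
  Groth.Agent.Lib.Helper6.HomBC Groth.Agent.Lib.Helper6.HomAdj Groth.Agent.Lib.Helper6.HomBasis
  Groth.Agent.Lib.Helper17.FlatMV Groth.Agent.Lib.Helper17.FlatBC Groth.Agent.Lib.Helper6.PicSpread

section Alg

variable {A A' : Type u} [CommRing A] [CommRing A'] (φ : A →+* A')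
  {N T : Type u} [AddCommGroup N] [Module A N] [AddCommGroup T] [Module A' T]

/-- if `A'` is a localization of `A` and `A' ⊗ N ≅ T`, an element of `N` dying in `T` is killed by an element of
the multiplicative set -/
theorem exists_smul_eq_zero_of_linBij (S : Submonoid A)
    (hS : @IsLocalization A _ S A' _ φ.toAlgebra)
    (c : N →+ T) (hb : LinBij φ c) (m : N) (hm : c m = 0) : ∃ t ∈ S, t • m = 0 := by
  letI := φ.toAlgebra
  haveI := hS
  obtain ⟨hc, hbij⟩ := hb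
  have h1 : lin c hc ((1 : A') ⊗ₜ[A] m) = 0 := by rw [lin_tmul, hm, smul_zero]
  have h2 : (1 : A') ⊗ₜ[A] m = 0 := hbij.1 (h1.trans (map_zero _).symm)
  haveI hloc : IsLocalizedModule S (TensorProduct.mk A A' N 1) :=
    (isLocalizedModule_iff_isBaseChange S A' _).2 (TensorProduct.isBaseChange A N A')
  obtain ⟨t, ht⟩ := (IsLocalizedModule.eq_zero_iff S (TensorProduct.mk A A' N 1)).1 h2
  exact ⟨t.1, t.2, ht⟩

end Alg

section Stalk

variable {Y : Scheme.{u}} (y : Y)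

/-- `Γ(Spec O_{Y,y}, ⊤)` is the localization of `Γ(Y, V)` at the prime of `y` -/
theorem isLocalization_appLE {V : Y.Opens} (hV : IsAffineOpen V) (hyV : y ∈ V)
    (e : (⊤ : (Spec (Y.presheaf.stalk y)).Opens) ≤ (Y.fromSpecStalk y) ⁻¹ᵁ V) :
    @IsLocalization Γ(Y, V) _ (hV.primeIdealOf ⟨y, hyV⟩).asIdeal.primeCompl
      Γ(Spec (Y.presheaf.stalk y), ⊤) _ ((Y.fromSpecStalk y).appLE V ⊤ e).hom.toAlgebra := by
  letI : Algebra Γ(Y, V) (Y.presheaf.stalk y) := (Y.presheaf.germ V y hyV).hom.toAlgebra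
  haveI := hV.isLocalization_stalk ⟨y, hyV⟩
  have h1 := (IsLocalization.isLocalization_iff_of_ringEquiv
    (hV.primeIdealOf ⟨y, hyV⟩).asIdeal.primeCompl
    (Scheme.ΓSpecIso (Y.presheaf.stalk y)).symm.commRingCatIsoToRingEquiv).1 inferInstance
  have h2 : ((Y.fromSpecStalk y).appLE V ⊤ e).hom =
      ((Scheme.ΓSpecIso (Y.presheaf.stalk y)).symm.commRingCatIsoToRingEquiv.toRingHom.comp
        (algebraMap Γ(Y, V) (Y.presheaf.stalk y))) := by
    rw [appLE_fromSpecStalk y hyV e]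
    rfl
  rw [h2]
  exact h1

end Stalk

section Spread

variable {X Y X' : Scheme.{u}} (f : X ⟶ Y) [IsProper f] (y : Y)
  (g' : X' ⟶ X) (f' : X' ⟶ Spec (Y.presheaf.stalk y)) (h : IsPullback g' f' f (Y.fromSpecStalk y))

include h in
/-- semilinearity of the inverse image of sections, in terms of plain sections -/
theorem res_pbs_smul {V : Y.Opens}
    (e : (⊤ : (Spec (Y.presheaf.stalk y)).Opens) ≤ (Y.fromSpecStalk y) ⁻¹ᵁ V)
    (M : X.Modules) {W : X.Opens} (hW : W ≤ f ⁻¹ᵁ V) (r : Γ(Y, V)) (x : Γ(M, W))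
    {V'' : X'.Opens} (h1 : V'' ≤ f' ⁻¹ᵁ ⊤) (h2 : V'' ≤ g' ⁻¹ᵁ W) :
    res ((Scheme.Modules.pullback g').obj M) h2 (pbs g' M W ((f.appLE V W hW).hom r • x : Γ(M, W))) =
    ((f'.appLE ⊤ V'' h1).hom (((Y.fromSpecStalk y).appLE V ⊤ e).hom r) •
      res ((Scheme.Modules.pullback g').obj M) h2 (pbs g' M W x) :
      Γ((Scheme.Modules.pullback g').obj M, V'')) :=
  cmap_smul f (Y.fromSpecStalk y) g' f' h e M W hW V'' h1 h2 r x

include h in
/-- **spreading out a homomorphism**: a homomorphism `θ : g'^*F ⟶ g'^*G` over `X ×_Y Spec O_{Y,y}` is, up to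
a unit of `O_{Y,y}`, the inverse image of a section of `Hom(F, G)` over `f⁻¹ V` -/
theorem exists_spread_hom {V : Y.Opens} (hV : IsAffineOpen V) (hyV : y ∈ V)
    (e : (⊤ : (Spec (Y.presheaf.stalk y)).Opens) ≤ (Y.fromSpecStalk y) ⁻¹ᵁ V)
    (F G : X.Modules) (hF : HasLocBasis F) (hG : HasLocBasis G) [(homMod F G).IsQuasicoherent]
    (θ : (Scheme.Modules.pullback g').obj F ⟶ (Scheme.Modules.pullback g').obj G) :
    ∃ (s : Γ(Y, V)) (n : Γ(homMod F G, f ⁻¹ᵁ V)), IsUnit (((Y.fromSpecStalk y).appLE V ⊤ e).hom s) ∧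
      ∀ (W : X.Opens) (hW : W ≤ f ⁻¹ᵁ V) (x : Γ(F, W)) (V'' : X'.Opens)
        (h1 : V'' ≤ f' ⁻¹ᵁ ⊤) (h2 : V'' ≤ g' ⁻¹ᵁ W),
        res ((Scheme.Modules.pullback g').obj G) h2 (pbs g' G W (ev n hW x)) =
        ((f'.appLE ⊤ V'' h1).hom (((Y.fromSpecStalk y).appLE V ⊤ e).hom s) •
          θ.app V'' (res ((Scheme.Modules.pullback g').obj F) h2 (pbs g' F W x)) :
          Γ((Scheme.Modules.pullback g').obj G, V'')) := by
  have hW' : IsAffineOpen (⊤ : (Spec (Y.presheaf.stalk y)).Opens) := isAffineOpen_top _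
  haveI : Flat (Y.fromSpecStalk y) := Groth.Agent.Lib.Helper5.StalkBC.flat_fromSpecStalk Y y
  have hflat : ((Y.fromSpecStalk y).appLE V ⊤ e).hom.Flat := Flat.flat_appLE (Y.fromSpecStalk y) hV hW' e
  have hUc : IsCompact ((f ⁻¹ᵁ V : X.Opens) : Set X) :=
    QuasiCompact.isCompact_preimage (f := f) _ V.2 hV.isCompact
  have hbij := linBij_of_isCompact f (Y.fromSpecStalk y) g' f' h e (homMod F G) hV hW' hflat (f ⁻¹ᵁ V) hUc le_rfl
  have hHb := hasLocBasis_homMod F G hF hG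
  haveI := isIso_pbTensor g' F (homMod F G) hF hHb
  haveI := isIso_bc g' F G hF hG
  set D' : X'.Opens := pr g' f' (⊤ : (Spec (Y.presheaf.stalk y)).Opens) (f ⁻¹ᵁ V) with hD'
  let σ : Γ((Scheme.Modules.pullback g').obj (homMod F G), D') :=
    (inv (bc g' F G)).app D' (secOfHom θ D')
  have hσ : (bc g' F G).app D' σ = secOfHom θ D' := by
    have h0 : inv (bc g' F G) ≫ bc g' F G = 𝟙 _ := IsIso.inv_hom_id _
    exact congrArg (fun ψ => (Scheme.Modules.Hom.app ψ D') (secOfHom θ D')) h0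
  obtain ⟨s, n, hs, hsn⟩ := exists_of_linBij ((Y.fromSpecStalk y).appLE V ⊤ e).hom _ hbij
    (exists_unit_mul_eq y hV hyV e)
    (show SecOver f' (⊤ : (Spec (Y.presheaf.stalk y)).Opens) ((Scheme.Modules.pullback g').obj (homMod F G))
      D' (pr_le_right g' f' _) from σ)
  refine ⟨s, n, hs, ?_⟩
  intro W hW x V'' h1 h2
  have hsn' : res ((Scheme.Modules.pullback g').obj (homMod F G)) (pr_le_left g' f' (f ⁻¹ᵁ V))
      (pbs g' (homMod F G) (f ⁻¹ᵁ V) n) =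
      (((f'.appLE ⊤ D' (pr_le_right g' f' (f ⁻¹ᵁ V))).hom (((Y.fromSpecStalk y).appLE V ⊤ e).hom s)) • σ :
        Γ((Scheme.Modules.pullback g').obj (homMod F G), D')) := hsn
  have hV''D : V'' ≤ D' :=
    le_inf (h2.trans (g'.preimage_mono hW)) h1
  have e1 := ev_bc_pbs g' F G hW n x
  have e2 := congrArg (res ((Scheme.Modules.pullback g').obj G) h2) e1
  rw [← e2, ← ev_res _ (g'.preimage_mono hW) h2 (pbs g' F W x)]
  have e3 : ev ((bc g' F G).app (g' ⁻¹ᵁ (f ⁻¹ᵁ V)) (pbs g' (homMod F G) (f ⁻¹ᵁ V) n))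
      (h2.trans (g'.preimage_mono hW)) (res _ h2 (pbs g' F W x)) =
      ev (res _ (pr_le_left g' f' (f ⁻¹ᵁ V))
        ((bc g' F G).app (g' ⁻¹ᵁ (f ⁻¹ᵁ V)) (pbs g' (homMod F G) (f ⁻¹ᵁ V) n))) hV''D
        (res _ h2 (pbs g' F W x)) := rfl
  rw [e3, ← app_res, hsn', app_smul', hσ, smul_ev, ev_secOfHom]
  have hcoef : resO hV''D ((f'.appLE ⊤ D' (pr_le_right g' f' (f ⁻¹ᵁ V))).hom
      (((Y.fromSpecStalk y).appLE V ⊤ e).hom s)) =
      (f'.appLE ⊤ V'' h1).hom (((Y.fromSpecStalk y).appLE V ⊤ e).hom s) := by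
    have := Scheme.Hom.appLE_map f' (pr_le_right g' f' (f ⁻¹ᵁ V)) (homOfLE hV''D).op
    exact congrArg (fun ψ => ψ.hom (((Y.fromSpecStalk y).appLE V ⊤ e).hom s)) this
  rw [hcoef]

include h in
/-- **uniqueness in spreading out**: two sections of `Hom(F, G)` over `f⁻¹ V` with the same inverse image over
`X ×_Y Spec O_{Y,y}` agree after multiplication by a function on `V` invertible at `y` -/
theorem exists_smul_eq_of_pbs_eq {V : Y.Opens} (hV : IsAffineOpen V) (hyV : y ∈ V)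
    (e : (⊤ : (Spec (Y.presheaf.stalk y)).Opens) ≤ (Y.fromSpecStalk y) ⁻¹ᵁ V)
    (F G : X.Modules) (hF : HasLocBasis F) (hG : HasLocBasis G) [(homMod F G).IsQuasicoherent]
    (n₁ n₂ : Γ(homMod F G, f ⁻¹ᵁ V))
    (hn : ∀ (W : X.Opens) (hW : W ≤ f ⁻¹ᵁ V) (x : Γ(F, W)) (V'' : X'.Opens)
      (h1 : V'' ≤ f' ⁻¹ᵁ ⊤) (h2 : V'' ≤ g' ⁻¹ᵁ W),
      res ((Scheme.Modules.pullback g').obj G) h2 (pbs g' G W (ev n₁ hW x)) =
        res ((Scheme.Modules.pullback g').obj G) h2 (pbs g' G W (ev n₂ hW x))) :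
    ∃ t : Γ(Y, V), IsUnit (((Y.fromSpecStalk y).appLE V ⊤ e).hom t) ∧
      ((f.appLE V (f ⁻¹ᵁ V) le_rfl).hom t • n₁ : Γ(homMod F G, f ⁻¹ᵁ V)) =
        ((f.appLE V (f ⁻¹ᵁ V) le_rfl).hom t • n₂ : Γ(homMod F G, f ⁻¹ᵁ V)) := by
  have hW' : IsAffineOpen (⊤ : (Spec (Y.presheaf.stalk y)).Opens) := isAffineOpen_top _
  haveI : Flat (Y.fromSpecStalk y) := Groth.Agent.Lib.Helper5.StalkBC.flat_fromSpecStalk Y y
  have hflat : ((Y.fromSpecStalk y).appLE V ⊤ e).hom.Flat := Flat.flat_appLE (Y.fromSpecStalk y) hV hW' e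
  have hUc : IsCompact ((f ⁻¹ᵁ V : X.Opens) : Set X) :=
    QuasiCompact.isCompact_preimage (f := f) _ V.2 hV.isCompact
  have hbij := linBij_of_isCompact f (Y.fromSpecStalk y) g' f' h e (homMod F G) hV hW' hflat (f ⁻¹ᵁ V) hUc le_rfl
  have hHb := hasLocBasis_homMod F G hF hG
  haveI := isIso_pbTensor g' F (homMod F G) hF hHb
  haveI := isIso_bc g' F G hF hG
  set D' : X'.Opens := pr g' f' (⊤ : (Spec (Y.presheaf.stalk y)).Opens) (f ⁻¹ᵁ V) with hD'
  have hD : D' ≤ g' ⁻¹ᵁ (f ⁻¹ᵁ V) := pr_le_left g' f' (f ⁻¹ᵁ V)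
  -- the two inverse images agree
  have hpb : res ((Scheme.Modules.pullback g').obj (homMod F G)) hD (pbs g' (homMod F G) (f ⁻¹ᵁ V) n₁) =
      res ((Scheme.Modules.pullback g').obj (homMod F G)) hD (pbs g' (homMod F G) (f ⁻¹ᵁ V) n₂) := by
    have hinj : Function.Injective ((bc g' F G).app D') :=
      (app_bijective_of_isIso (bc g' F G) D').1
    apply hinj
    refine ext_ev_pbs g' hF _ _ ?_
    intro W x V'' h1 h2
    have h2' : V'' ≤ g' ⁻¹ᵁ (W ⊓ f ⁻¹ᵁ V) := le_inf h2 (h1.trans hD)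
    have hx : res ((Scheme.Modules.pullback g').obj F) h2 (pbs g' F W x) =
        res ((Scheme.Modules.pullback g').obj F) h2' (pbs g' F (W ⊓ f ⁻¹ᵁ V) (res F inf_le_left x)) := by
      rw [pbs_res, res_res]
    rw [hx, ev_bc_res_pbs g' F G (inf_le_right : W ⊓ f ⁻¹ᵁ V ≤ f ⁻¹ᵁ V) n₁ _ hD h1 h2',
      ev_bc_res_pbs g' F G (inf_le_right : W ⊓ f ⁻¹ᵁ V ≤ f ⁻¹ᵁ V) n₂ _ hD h1 h2']
    exact hn _ inf_le_right _ V'' (h1.trans (pr_le_right g' f' (f ⁻¹ᵁ V))) h2'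
  -- injectivity of the flat base change
  have hm : cU f g' f' (W' := (⊤ : (Spec (Y.presheaf.stalk y)).Opens)) (homMod F G) (f ⁻¹ᵁ V) le_rfl
      ((show SecOver f V (homMod F G) (f ⁻¹ᵁ V) le_rfl from n₁) -
        (show SecOver f V (homMod F G) (f ⁻¹ᵁ V) le_rfl from n₂)) = 0 := by
    rw [map_sub, sub_eq_zero]
    exact hpb
  obtain ⟨t, ht, htm⟩ := exists_smul_eq_zero_of_linBij ((Y.fromSpecStalk y).appLE V ⊤ e).hom
    (hV.primeIdealOf ⟨y, hyV⟩).asIdeal.primeCompl (isLocalization_appLE y hV hyV e) _ hbij _ hm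
  refine ⟨t, ?_, ?_⟩
  · exact @IsLocalization.map_units _ _ (hV.primeIdealOf ⟨y, hyV⟩).asIdeal.primeCompl _ _
      ((Y.fromSpecStalk y).appLE V ⊤ e).hom.toAlgebra (isLocalization_appLE y hV hyV e) ⟨t, ht⟩
  · have h3 : ((f.appLE V (f ⁻¹ᵁ V) le_rfl).hom t • (n₁ - n₂) : Γ(homMod F G, f ⁻¹ᵁ V)) = 0 := htm
    rw [smul_sub, sub_eq_zero] at h3
    exact h3

end Spread

end Groth.Agent.Lib.Helper6.HomSpread
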