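import Groth.Agent.Lib.Helper6.HomSpreadB
import Groth.Agent.Lib.Helper6.HomLift
import Groth.Agent.Lib.Helper29.FreeIso4
import Mathlib

/-!
# Spreading out an isomorphism of locally free modules, main theorem (helper6)
-/

set_option backward.isDefEq.respectTransparency.types false
set_option autoImplicit false
set_option linter.style.haveILetI false
set_option linter.unusedSectionVars false
set_option linter.unusedVariables false
universe u
open CategoryTheory CategoryTheory.Limits AlgebraicGeometry Opposite TopologicalSpace TensorProduct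

noncomputable section
namespace Groth.Agent.Lib.Helper6.HomSpread

open Groth.Agent.Lib.Helper28 Groth.Agent.Lib.Helper28.QCohLoc
  Groth.Agent.Lib.Helper28.PullbackInv Groth.Agent.Lib.Helper28.HomMod
  Groth.Agent.Lib.Helper8.PullBasis Groth.Agent.Lib.Helper28.GenLocus
  Groth.Agent.Lib.Helper6.HomBC Groth.Agent.Lib.Helper6.HomAdj Groth.Agent.Lib.Helper6.HomBasis
  Groth.Agent.Lib.Helper17.FlatMV Groth.Agent.Lib.Helper17.FlatBC Groth.Agent.Lib.Helper6.PicSpread

theorem isQuasicoherent_homMod {X : Scheme.{u}} (F G : X.Modules) (hF : HasLocBasis F) (hG : HasLocBasis G) :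
    (homMod F G).IsQuasicoherent :=
  Groth.Agent.Lib.Helper29.FreeIso.isQuasicoherent_of_isFinLocFree _
    (Groth.Agent.Lib.Helper6.HomLift.isFinLocFree_of_hasLocBasis _ (hasLocBasis_homMod F G hF hG))

section Spread

variable {X Y X' : Scheme.{u}} (f : X ⟶ Y) [IsProper f] (y : Y)
  (g' : X' ⟶ X) (f' : X' ⟶ Spec (Y.presheaf.stalk y)) (h : IsPullback g' f' f (Y.fromSpecStalk y))

include h in
/-- the composite of the spread-out homomorphisms is a unit multiple of the identity -/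
theorem exists_comp_eq {V : Y.Opens} (hV : IsAffineOpen V) (hyV : y ∈ V)
    (e : (⊤ : (Spec (Y.presheaf.stalk y)).Opens) ≤ (Y.fromSpecStalk y) ⁻¹ᵁ V)
    (F G : X.Modules) (hF : HasLocBasis F) (hG : HasLocBasis G)
    (θ : (Scheme.Modules.pullback g').obj F ⟶ (Scheme.Modules.pullback g').obj G)
    (θ' : (Scheme.Modules.pullback g').obj G ⟶ (Scheme.Modules.pullback g').obj F)
    (hθ : θ ≫ θ' = 𝟙 _)
    (s s' : Γ(Y, V)) (n : Γ(homMod F G, f ⁻¹ᵁ V)) (n' : Γ(homMod G F, f ⁻¹ᵁ V))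
    (hn : ∀ (W : X.Opens) (hW : W ≤ f ⁻¹ᵁ V) (x : Γ(F, W)) (V'' : X'.Opens)
        (h1 : V'' ≤ f' ⁻¹ᵁ ⊤) (h2 : V'' ≤ g' ⁻¹ᵁ W),
        res ((Scheme.Modules.pullback g').obj G) h2 (pbs g' G W (ev n hW x)) =
        ((f'.appLE ⊤ V'' h1).hom (((Y.fromSpecStalk y).appLE V ⊤ e).hom s) •
          θ.app V'' (res ((Scheme.Modules.pullback g').obj F) h2 (pbs g' F W x)) :
          Γ((Scheme.Modules.pullback g').obj G, V'')))
    (hn' : ∀ (W : X.Opens) (hW : W ≤ f ⁻¹ᵁ V) (x : Γ(G, W)) (V'' : X'.Opens)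
        (h1 : V'' ≤ f' ⁻¹ᵁ ⊤) (h2 : V'' ≤ g' ⁻¹ᵁ W),
        res ((Scheme.Modules.pullback g').obj F) h2 (pbs g' F W (ev n' hW x)) =
        ((f'.appLE ⊤ V'' h1).hom (((Y.fromSpecStalk y).appLE V ⊤ e).hom s') •
          θ'.app V'' (res ((Scheme.Modules.pullback g').obj G) h2 (pbs g' G W x)) :
          Γ((Scheme.Modules.pullback g').obj F, V''))) :
    ∃ t : Γ(Y, V), IsUnit (((Y.fromSpecStalk y).appLE V ⊤ e).hom t) ∧
      ∀ (W : X.Opens) (hW : W ≤ f ⁻¹ᵁ V) (x : Γ(F, W)),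
        ((f.appLE V W hW).hom t • ev n' hW (ev n hW x) : Γ(F, W)) =
          ((f.appLE V W hW).hom t • ((f.appLE V W hW).hom (s * s') • x : Γ(F, W)) : Γ(F, W)) := by
  haveI := isQuasicoherent_homMod F F hF hF
  have key : ∀ (W : X.Opens) (hW : W ≤ f ⁻¹ᵁ V) (x : Γ(F, W)) (V'' : X'.Opens)
      (h1 : V'' ≤ f' ⁻¹ᵁ ⊤) (h2 : V'' ≤ g' ⁻¹ᵁ W),
      res ((Scheme.Modules.pullback g').obj F) h2 (pbs g' F W (ev (compSec n' n) hW x)) =
        res ((Scheme.Modules.pullback g').obj F) h2 (pbs g' F W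
          (ev ((f.appLE V (f ⁻¹ᵁ V) le_rfl).hom (s * s') • secOfHom (𝟙 F) (f ⁻¹ᵁ V) :
            Γ(homMod F F, f ⁻¹ᵁ V)) hW x)) := by
    intro W hW x V'' h1 h2
    rw [ev_compSec, hn' W hW (ev n hW x) V'' h1 h2, hn W hW x V'' h1 h2, smul_ev, ev_secOfHom]
    have hres : resO hW ((f.appLE V (f ⁻¹ᵁ V) le_rfl).hom (s * s')) = (f.appLE V W hW).hom (s * s') := by
      have := Scheme.Hom.appLE_map f (le_refl (f ⁻¹ᵁ V)) (homOfLE hW).op
      exact congrArg (fun ψ => ψ.hom (s * s')) this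
    rw [hres]
    have hid : (𝟙 F : F ⟶ F).app W x = x := rfl
    rw [hid, res_pbs_smul f y g' f' h e F hW (s * s') x h1 h2, app_smul', smul_smul]
    have hθx : θ'.app V'' (θ.app V'' (res ((Scheme.Modules.pullback g').obj F) h2 (pbs g' F W x))) =
        res ((Scheme.Modules.pullback g').obj F) h2 (pbs g' F W x) := by
      have := congrArg (fun ψ => (Scheme.Modules.Hom.app ψ V'')
        (res ((Scheme.Modules.pullback g').obj F) h2 (pbs g' F W x))) hθ
      exact this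
    rw [hθx, map_mul, map_mul, mul_comm]
  obtain ⟨t, ht, hteq⟩ := exists_smul_eq_of_pbs_eq f y g' f' h hV hyV e F F hF hF
    (compSec n' n) ((f.appLE V (f ⁻¹ᵁ V) le_rfl).hom (s * s') • secOfHom (𝟙 F) (f ⁻¹ᵁ V)) key
  refine ⟨t, ht, fun W hW x => ?_⟩
  have h1 := congrArg (fun m => ev m hW x) hteq
  simp only [smul_ev, ev_compSec, ev_secOfHom] at h1
  have hres : ∀ r : Γ(Y, V), resO hW ((f.appLE V (f ⁻¹ᵁ V) le_rfl).hom r) = (f.appLE V W hW).hom r := by
    intro r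
    have := Scheme.Hom.appLE_map f (le_refl (f ⁻¹ᵁ V)) (homOfLE hW).op
    exact congrArg (fun ψ => ψ.hom r) this
  rw [hres, hres] at h1
  exact h1

include h in
/-- **spreading out an isomorphism**: locally free modules that become isomorphic over `X ×_Y Spec O_{Y,y}` are
isomorphic over `f⁻¹ U` for an open neighbourhood `U` of `y` -/
theorem exists_open_iso (F G : X.Modules) (hF : HasLocBasis F) (hG : HasLocBasis G)
    (ε : (Scheme.Modules.pullback g').obj F ≅ (Scheme.Modules.pullback g').obj G) :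
    ∃ U : Y.Opens, y ∈ U ∧ Nonempty (F.restrict (f ⁻¹ᵁ U).ι ≅ G.restrict (f ⁻¹ᵁ U).ι) := by
  obtain ⟨V, hV, hyV, -⟩ := Opens.isBasis_iff_nbhd.mp Y.isBasis_affineOpens
    (show y ∈ (⊤ : Y.Opens) from trivial)
  have e : (⊤ : (Spec (Y.presheaf.stalk y)).Opens) ≤ (Y.fromSpecStalk y) ⁻¹ᵁ V :=
    top_le_preimage_fromSpecStalk y V hyV
  haveI := isQuasicoherent_homMod F G hF hG
  haveI := isQuasicoherent_homMod G F hG hF
  obtain ⟨s, n, hs, hn⟩ := exists_spread_hom f y g' f' h hV hyV e F G hF hG ε.hom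
  obtain ⟨s', n', hs', hn'⟩ := exists_spread_hom f y g' f' h hV hyV e G F hG hF ε.inv
  obtain ⟨t, ht, hteq⟩ := exists_comp_eq f y g' f' h hV hyV e F G hF hG ε.hom ε.inv ε.hom_inv_id s s' n n' hn hn'
  obtain ⟨t', ht', hteq'⟩ := exists_comp_eq f y g' f' h hV hyV e G F hG hF ε.inv ε.hom ε.inv_hom_id s' s n' n hn' hn
  set φ := ((Y.fromSpecStalk y).appLE V ⊤ e).hom with hφ
  set r : Γ(Y, V) := t * t' * (s * s') with hr
  have hrU : IsUnit (φ r) := by
    rw [hr, map_mul, map_mul, map_mul]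
    exact ((ht.mul ht').mul (hs.mul hs'))
  -- `y` lies in the basic open of `r`
  have hyU : y ∈ Y.basicOpen r := by
    rw [Scheme.mem_basicOpen Y r y hyV]
    have h1 : φ r = (Scheme.ΓSpecIso (Y.presheaf.stalk y)).inv.hom ((Y.presheaf.germ V y hyV).hom r) := by
      rw [hφ, appLE_fromSpecStalk y hyV e]
      rfl
    rw [h1] at hrU
    have h2 := hrU.map (Scheme.ΓSpecIso (Y.presheaf.stalk y)).hom.hom
    have h3 : (Scheme.ΓSpecIso (Y.presheaf.stalk y)).hom.hom
        ((Scheme.ΓSpecIso (Y.presheaf.stalk y)).inv.hom ((Y.presheaf.germ V y hyV).hom r)) =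
        (Y.presheaf.germ V y hyV).hom r := by
      change ((Scheme.ΓSpecIso (Y.presheaf.stalk y)).inv ≫ (Scheme.ΓSpecIso (Y.presheaf.stalk y)).hom).hom _ = _
      rw [Iso.inv_hom_id]
      rfl
    rw [h3] at h2
    exact h2
  have hUV : Y.basicOpen r ≤ V := Y.basicOpen_le r
  have hfUV : f ⁻¹ᵁ (Y.basicOpen r) ≤ f ⁻¹ᵁ V := f.preimage_mono hUV
  refine ⟨Y.basicOpen r, hyU, ?_⟩
  -- units on the opens of `f⁻¹ U`
  have hunit : ∀ (W : X.Opens) (hW : W ≤ f ⁻¹ᵁ (Y.basicOpen r)),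
      IsUnit ((f.appLE V W (hW.trans hfUV)).hom r) := by
    intro W hW
    have h1 : W ≤ X.basicOpen ((f.app V).hom r) := by
      rw [← Scheme.preimage_basicOpen]
      exact hW
    have h2 := isUnit_resO_of_le_basicOpen ((f.app V).hom r) h1
    have h3 : resO (h1.trans (X.basicOpen_le _)) ((f.app V).hom r) = (f.appLE V W (hW.trans hfUV)).hom r := by
      rw [Scheme.Hom.appLE]
      rfl
    rw [h3] at h2
    exact h2
  have hbij : ∀ (W : X.Opens) (hW : W ≤ f ⁻¹ᵁ (Y.basicOpen r)),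
      Function.Bijective (ev n (hW.trans hfUV) : Γ(F, W) → Γ(G, W)) := by
    intro W hW
    have hu : IsUnit ((f.appLE V W (hW.trans hfUV)).hom (t * t' * (s * s'))) := hunit W hW
    rw [map_mul, map_mul] at hu
    have hu1 : IsUnit ((f.appLE V W (hW.trans hfUV)).hom t) :=
      isUnit_of_mul_isUnit_left (isUnit_of_mul_isUnit_left hu)
    have hu2 : IsUnit ((f.appLE V W (hW.trans hfUV)).hom t') :=
      isUnit_of_mul_isUnit_right (isUnit_of_mul_isUnit_left hu)
    have hu3 : IsUnit ((f.appLE V W (hW.trans hfUV)).hom (s * s')) := isUnit_of_mul_isUnit_right hu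
    have hu3' : IsUnit ((f.appLE V W (hW.trans hfUV)).hom (s' * s)) := by rw [mul_comm]; exact hu3
    have e1 : ∀ x : Γ(F, W), ev n' (hW.trans hfUV) (ev n (hW.trans hfUV) x) =
        ((f.appLE V W (hW.trans hfUV)).hom (s * s') • x : Γ(F, W)) := fun x =>
      hu1.smul_left_cancel.1 (hteq W (hW.trans hfUV) x)
    have e2 : ∀ z : Γ(G, W), ev n (hW.trans hfUV) (ev n' (hW.trans hfUV) z) =
        ((f.appLE V W (hW.trans hfUV)).hom (s' * s) • z : Γ(G, W)) := fun z =>
      hu2.smul_left_cancel.1 (hteq' W (hW.trans hfUV) z)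
    constructor
    · intro x x' hxx'
      have h1 := congrArg (ev n' (hW.trans hfUV)) hxx'
      rw [e1, e1] at h1
      exact hu3.smul_left_cancel.1 h1
    · intro z
      refine ⟨((hu3'.unit⁻¹ : (Γ(X, W))ˣ) : Γ(X, W)) • ev n' (hW.trans hfUV) z, ?_⟩
      rw [ev_smul, e2, smul_smul, IsUnit.val_inv_mul, one_smul]
  haveI := isIso_restrictHom (f ⁻¹ᵁ (Y.basicOpen r)) (res (homMod F G) hfUV n) (fun W hW => hbij W hW)
  exact ⟨asIso (restrictHom (f ⁻¹ᵁ (Y.basicOpen r)) (res (homMod F G) hfUV n))⟩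

end Spread

end Groth.Agent.Lib.Helper6.HomSpread
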