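import Groth.Agent.Lib.Helper6.PicSpread
import Mathlib

/-!
# Invertible modules on integral schemes with nonzero sections of `L` and of its dual (helper6)

`Z` integral with every nonzero global function invertible (e.g. proper over a field): an invertible module `L` with a
nonzero global section and a nonzero global section of its dual is trivial.
-/

set_option backward.isDefEq.respectTransparency.types false
set_option autoImplicit false
set_option linter.style.haveILetI false
set_option linter.unusedSectionVars false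
universe u
open CategoryTheory CategoryTheory.Limits AlgebraicGeometry Opposite TopologicalSpace TensorProduct

noncomputable section
namespace Groth.Agent.Lib.Helper6.IntTriv

open Groth.Agent.Lib.Helper28 Groth.Agent.Lib.Helper28.QCohLoc Groth.Agent.Lib.Helper28.GenLocus
  Groth.Agent.Lib.Helper28.HomMod Groth.Agent.Lib.Helper17.InvDescLoc Groth.Agent.Lib.Helper6.PicSpread

variable {Z : Scheme.{u}} [IsIntegral Z]

theorem nonempty_inf {U U' : Z.Opens} (hU : Nonempty U) (hU' : Nonempty U') : Nonempty ↥(U ⊓ U') := by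
  obtain ⟨⟨x, hx⟩⟩ := hU
  obtain ⟨⟨x', hx'⟩⟩ := hU'
  obtain ⟨z, hz1, hz2⟩ := nonempty_preirreducible_inter U.2 U'.2 ⟨x, hx⟩ ⟨x', hx'⟩
  exact ⟨⟨z, hz1, hz2⟩⟩

theorem resO_injective {U U' : Z.Opens} (h : U' ≤ U) (hU' : Nonempty U') :
    Function.Injective (fun a : Γ(Z, U) => resO h a) :=
  map_injective_of_isIntegral (X := Z) (homOfLE h)

/-- a nonzero global section of an invertible module on an integral scheme is nonzero on every nonempty open -/
theorem res_ne_zero (L : Z.Modules) (hL : PicF.IsInvertible L) (s : Γ(L, ⊤)) (hs : s ≠ 0)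
    (U : Z.Opens) (hU : Nonempty U) : res L (le_top : U ≤ ⊤) s ≠ 0 := by
  intro h0
  apply hs
  -- cover by opens with generators
  have hloc : ∀ x : Z, ∃ (O : Z.Opens), x ∈ O ∧ res L (le_top : O ≤ ⊤) s = 0 := by
    intro x
    obtain ⟨O, g, hxO, hg⟩ := exists_isGen L hL x
    refine ⟨O, hxO, ?_⟩
    have hO : Nonempty O := ⟨⟨x, hxO⟩⟩
    have hne := nonempty_inf hU hO
    set a := hg.coef le_rfl (res L (le_top : O ≤ ⊤) s) with ha
    have hag : (a • g : Γ(L, O)) = res L (le_top : O ≤ ⊤) s := by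
      have := hg.coef_smul le_rfl (res L (le_top : O ≤ ⊤) s)
      rw [res_self] at this
      exact this
    have h1 : res L (inf_le_right : U ⊓ O ≤ O) (res L (le_top : O ≤ ⊤) s) = 0 := by
      rw [res_res, ← res_res L (le_top : U ≤ ⊤) (inf_le_left : U ⊓ O ≤ U), h0, res_zero]
    rw [← hag, res_smul] at h1
    have h2 : resO (inf_le_right : U ⊓ O ≤ O) a = 0 := by
      apply (hg _ inf_le_right).1
      show (resO (inf_le_right : U ⊓ O ≤ O) a • res L (inf_le_right : U ⊓ O ≤ O) g : Γ(L, U ⊓ O)) =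
        ((0 : Γ(Z, U ⊓ O)) • res L (inf_le_right : U ⊓ O ≤ O) g : Γ(L, U ⊓ O))
      rw [h1, zero_smul]
    have h3 : a = 0 := by
      apply resO_injective (inf_le_right : U ⊓ O ≤ O) hne
      show resO (inf_le_right : U ⊓ O ≤ O) a = resO (inf_le_right : U ⊓ O ≤ O) 0
      rw [h2]
      exact (map_zero _).symm
    rw [← hag, h3, zero_smul]
  choose O hxO hO using hloc
  refine eq_of_locally_eq L O ⊤ (fun x => le_top) ?_ s 0 ?_
  · intro x _
    exact Opens.mem_iSup.2 ⟨x, hxO x⟩
  · intro x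
    rw [hO x, res_zero]

theorem zero_evO {L : Z.Modules} {V W : Z.Opens} (h : W ≤ V) (x : Γ(L, W)) :
    evO (0 : Γ(dual L, V)) h x = 0 := by
  have := add_evO (0 : Γ(dual L, V)) 0 h x
  rw [add_zero] at this
  exact left_eq_add.1 this

/-- **trivialization from sections of `L` and of its dual** -/
theorem isGen_top_of_sections (hfield : ∀ c : Γ(Z, ⊤), c ≠ 0 → IsUnit c)
    (L : Z.Modules) (hL : PicF.IsInvertible L) (s : Γ(L, ⊤)) (hs : s ≠ 0)
    (t : Γ(dual L, ⊤)) (ht : t ≠ 0) : IsGen L ⊤ s := by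
  have hK : PicF.IsInvertible (dual L) := isInvertible_dual hL
  set h : Γ(Z, ⊤) := evO t le_rfl s with hh
  -- local description
  have key : ∀ (U : Z.Opens) (g : Γ(L, U)) (hg : IsGen L U g), Nonempty U →
      resO (le_top : U ≤ ⊤) h = hg.coef le_rfl (res L (le_top : U ≤ ⊤) s) * evO t (le_top : U ≤ ⊤) g ∧
      hg.coef le_rfl (res L (le_top : U ≤ ⊤) s) ≠ 0 ∧ evO t (le_top : U ≤ ⊤) g ≠ 0 := by
    intro U g hg hU
    set a := hg.coef le_rfl (res L (le_top : U ≤ ⊤) s) with ha
    have hag : (a • g : Γ(L, U)) = res L (le_top : U ≤ ⊤) s := by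
      have := hg.coef_smul le_rfl (res L (le_top : U ≤ ⊤) s)
      rw [res_self] at this
      exact this
    refine ⟨?_, ?_, ?_⟩
    · rw [hh, ← evO_res t le_rfl (le_top : U ≤ ⊤) s, ← hag, evO_smul]
    · intro ha0
      apply res_ne_zero L hL s hs U hU
      rw [← hag, ha0, zero_smul]
    · intro hb0
      apply res_ne_zero (dual L) hK t ht U hU
      apply ext_evO
      intro W hW x
      rw [evO_eq_coef_mul hg (le_refl U) (res (dual L) (le_top : U ≤ ⊤) t) hW x, res_evO, res_self]
      have e1 : evO t ((le_refl U).trans (le_top : U ≤ ⊤)) g = 0 := hb0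
      rw [e1]
      have e2 : resO hW (0 : Γ(Z, U)) = 0 := map_zero _
      rw [e2, mul_zero]
      exact (zero_evO hW x).symm
  -- `h` is nonzero, hence a unit
  have hne : h ≠ 0 := by
    intro h0
    obtain ⟨x⟩ : Nonempty Z := inferInstance
    obtain ⟨U, g, hxU, hg⟩ := exists_isGen L hL x
    have hU : Nonempty U := ⟨⟨x, hxU⟩⟩
    obtain ⟨k1, k2, k3⟩ := key U g hg hU
    haveI : IsDomain Γ(Z, U) := IsIntegral.component_integral U
    rw [h0] at k1
    have e2 : resO (le_top : U ≤ ⊤) (0 : Γ(Z, ⊤)) = 0 := map_zero _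
    rw [e2] at k1
    exact mul_ne_zero k2 k3 k1.symm
  have hunit : IsUnit h := hfield h hne
  refine isGen_of_locally s ?_
  intro x _
  obtain ⟨U, g, hxU, hg⟩ := exists_isGen L hL x
  have hU : Nonempty U := ⟨⟨x, hxU⟩⟩
  obtain ⟨k1, -, -⟩ := key U g hg hU
  refine ⟨U, le_top, hxU, ?_⟩
  have hag : (hg.coef le_rfl (res L (le_top : U ≤ ⊤) s) • g : Γ(L, U)) = res L (le_top : U ≤ ⊤) s := by
    have := hg.coef_smul le_rfl (res L (le_top : U ≤ ⊤) s)
    rw [res_self] at this
    exact this
  rw [← hag]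
  refine IsGen.smul_unit hg _ ?_
  have hu : IsUnit (resO (le_top : U ≤ ⊤) h) := hunit.map _
  rw [k1] at hu
  exact isUnit_of_mul_isUnit_left hu

/-- `L ≅ O` from nonzero sections of `L` and of its dual -/
theorem nonempty_iso_of_sections (hfield : ∀ c : Γ(Z, ⊤), c ≠ 0 → IsUnit c)
    (L : Z.Modules) (hL : PicF.IsInvertible L) (s : Γ(L, ⊤)) (hs : s ≠ 0)
    (t : Γ(dual L, ⊤)) (ht : t ≠ 0) : Nonempty (L ≅ Coh.structureModule Z) :=
  nonempty_iso_of_isGen_top L s (isGen_top_of_sections hfield L hL s hs t ht)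

end Groth.Agent.Lib.Helper6.IntTriv
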