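import Groth.Agent.Lib.Helper6.K0Tensor
import Groth.Prelude.Def_ChowK
import Groth.Prelude.Def_SGA6
import Mathlib
set_option backward.isDefEq.respectTransparency.types false
set_option autoImplicit false

/-!
# The cycle formula for a dimension function `δ`, and the filtration of `K'_0` by `δ`-dimension of the support
-/

universe u
open CategoryTheory CategoryTheory.Limits AlgebraicGeometry Opposite TopologicalSpace

namespace Groth.Agent.Lib.Helper6.K0Delta
open Groth.Agent.Lib.Helper6.K0Filt Groth.Agent.Lib.Helper6.K0Len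

variable {X : Scheme.{u}}

/-- the subgroup of `K'_0(X)` generated by the classes of the coherent modules of `δ`-dimension `≤ k` -/
noncomputable def Hle (δ : X → ℤ) (k : ℤ) : AddSubgroup (KZero.K0sub (fun M : X.Modules => Coh.IsCoh M)) :=
  AddSubgroup.closure {c | ∃ G : X.Modules, Cyc.CohLe δ k G ∧ c = cls G}

theorem cohLe_iff (δ : X → ℤ) (k : ℤ) (G : X.Modules) :
    Cyc.CohLe δ k G ↔ Coh.IsCoh G ∧ ∀ x ∈ CohB1.support G, δ x ≤ k := by
  unfold Cyc.CohLe CohB1.support
  refine and_congr Iff.rfl (forall_congr' fun x => ?_)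
  simp only [Set.mem_setOf_eq, not_subsingleton_iff_nontrivial]

theorem cls_mem_Hle (δ : X → ℤ) (k : ℤ) (G : X.Modules) (hG : Cyc.CohLe δ k G) : cls G ∈ Hle δ k :=
  AddSubgroup.subset_closure ⟨G, hG, rfl⟩

theorem Hle_mono (δ : X → ℤ) {k l : ℤ} (h : k ≤ l) : Hle δ k ≤ Hle δ l := by
  unfold Hle
  apply AddSubgroup.closure_mono
  rintro c ⟨G, hG, rfl⟩
  exact ⟨G, ⟨hG.1, fun x hx => (hG.2 x hx).trans h⟩, rfl⟩

/-- **the cycle formula for a dimension function**: a coherent module `M` of `δ`-dimension `≤ m` has finite length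
at the points with `δ = m`, almost all zero, and `[M] ≡ Σ_{δ x = m} length(M_x) [O_{Z(x)}]` modulo classes of
modules of `δ`-dimension `≤ m - 1`. -/
theorem cycle_formula_delta [IsNoetherian X] (δ : X → ℤ) (hδ : Cyc.IsDimFun X δ) (m : ℤ)
    (M : X.Modules) (hM : Cyc.CohLe δ m M) :
    Fin (fun x => δ x = m) M ∧ cls M - finsum (term (fun x => δ x = m) M) ∈ Hle δ (m - 1) := by
  rw [cohLe_iff] at hM
  refine cycle_formula (fun x => δ x = m) (CohB1.support M) (DevCore.isClosed_support M hM.1) ?_ (Hle δ (m - 1))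
    ?_ M hM.1 subset_rfl
  · intro x y hx hy hxy
    by_contra hne
    have hsp : y ⤳ x := specializes_iff_mem_closure.2 hxy
    have h1 := (hδ y x hsp (Ne.symm hne)).1
    have h2 := hM.2 y (hy (subset_closure rfl))
    omega
  · intro y hy hDy
    apply cls_mem_Hle
    rw [cohLe_iff]
    refine ⟨isCoh_OZ y, ?_⟩
    intro z hz
    rw [support_OZ] at hz
    have h2 := hM.2 y (hy (subset_closure rfl))
    by_cases hzy : z = y
    · subst hzy
      omega
    · have hsp : y ⤳ z := specializes_iff_mem_closure.2 hz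
      have h1 := (hδ y z hsp (Ne.symm hzy)).1
      omega

section integral

variable [IsIntegral X] (δ : X → ℤ) (hδ : Cyc.IsDimFun X δ)
include hδ

theorem delta_lt_of_ne_generic (x : X) (hx : x ≠ genericPoint X) : δ x < δ (genericPoint X) :=
  (hδ (genericPoint X) x (genericPoint_specializes x) (Ne.symm hx)).1

theorem delta_le_generic (x : X) : δ x ≤ δ (genericPoint X) := by
  by_cases hx : x = genericPoint X
  · rw [hx]
  · exact (delta_lt_of_ne_generic δ hδ x hx).le

theorem cohLe_of_isCoh (M : X.Modules) (hM : Coh.IsCoh M) : Cyc.CohLe δ (δ (genericPoint X)) M :=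
  ⟨hM, fun x _ => delta_le_generic δ hδ x⟩

/-- on an integral scheme, two coherent modules with the same length at the generic point have the same class
modulo modules of smaller `δ`-dimension -/
theorem cls_sub_mem_Hle_of_len_eq [IsNoetherian X] (M N : X.Modules) (hM : Coh.IsCoh M) (hN : Coh.IsCoh N)
    (hlen : len M (genericPoint X) = len N (genericPoint X)) :
    cls M - cls N ∈ Hle δ (δ (genericPoint X) - 1) := by
  obtain ⟨-, h1⟩ := cycle_formula_delta δ hδ _ M (cohLe_of_isCoh δ hδ M hM)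
  obtain ⟨-, h2⟩ := cycle_formula_delta δ hδ _ N (cohLe_of_isCoh δ hδ N hN)
  have hterm : term (fun x => δ x = δ (genericPoint X)) M = term (fun x => δ x = δ (genericPoint X)) N := by
    funext x
    unfold term
    by_cases hx : x = genericPoint X
    · subst hx
      rw [hlen]
    · have := delta_lt_of_ne_generic δ hδ x hx
      rw [if_neg (by omega), if_neg (by omega)]
  rw [hterm] at h1
  have := AddSubgroup.sub_mem _ h1 h2
  simpa using this

end integral

section toLe

/-- the comparison `K'_0(X) ⟶ K_0(Coh_{≤ a}(X))` when all points have `δ ≤ a` -/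
noncomputable def toLe (δ : X → ℤ) (a : ℤ) (h : ∀ x : X, δ x ≤ a) :
    KZero.K0sub (fun M : X.Modules => Coh.IsCoh M) →+ KZero.K0sub (Cyc.CohLe δ a) :=
  SGA6.mapSub (𝟭 X.Modules) (fun M : X.Modules => Coh.IsCoh M) (Cyc.CohLe δ a)
    (fun M hM => ⟨hM, fun x _ => h x⟩)

theorem toLe_cls (δ : X → ℤ) (a : ℤ) (h : ∀ x : X, δ x ≤ a) (M : X.Modules) :
    toLe δ a h (cls M) = KZero.clSub (Cyc.CohLe δ a) M := by
  classical
  unfold cls KZero.clSub
  by_cases hM : Coh.IsCoh M
  · have hM' : Cyc.CohLe δ a M := ⟨hM, fun x _ => h x⟩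
    rw [dif_pos hM, dif_pos hM']
    unfold toLe SGA6.mapSub
    rw [QuotientAddGroup.map_mk, FreeAbelianGroup.map_of_apply]
    rfl
  · have hM' : ¬ Cyc.CohLe δ a M := fun h' => hM h'.1
    rw [dif_neg hM, dif_neg hM', map_zero]

theorem toLe_mem (δ : X → ℤ) (a b : ℤ) (h : ∀ x : X, δ x ≤ a) (c : KZero.K0sub (fun M : X.Modules => Coh.IsCoh M))
    (hc : c ∈ Hle δ b) :
    toLe δ a h c ∈ AddSubgroup.closure {c : KZero.K0sub (Cyc.CohLe δ a) |
      ∃ F : X.Modules, Cyc.CohLe δ b F ∧ c = KZero.clSub (Cyc.CohLe δ a) F} := by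
  have : Hle δ b ≤ (AddSubgroup.closure {c : KZero.K0sub (Cyc.CohLe δ a) |
      ∃ F : X.Modules, Cyc.CohLe δ b F ∧ c = KZero.clSub (Cyc.CohLe δ a) F}).comap (toLe δ a h) := by
    unfold Hle
    rw [AddSubgroup.closure_le]
    rintro c ⟨G, hG, rfl⟩
    rw [SetLike.mem_coe, AddSubgroup.mem_comap, toLe_cls]
    exact AddSubgroup.subset_closure ⟨G, hG, rfl⟩
  exact this hc

/-- two modules whose classes in `K'_0` differ by an element of `Hle δ b` have the same class in
`K_0(Coh_{≤ a}/Coh_{≤ b})` -/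
theorem toK0CohQuot_eq (δ : X → ℤ) (a b : ℤ) (h : ∀ x : X, δ x ≤ a) (M N : X.Modules)
    (hMN : cls M - cls N ∈ Hle δ b) : Cyc.toK0CohQuot δ a b M = Cyc.toK0CohQuot δ a b N := by
  unfold Cyc.toK0CohQuot
  rw [QuotientAddGroup.eq_iff_sub_mem]
  have := toLe_mem δ a b h _ hMN
  rw [map_sub, toLe_cls, toLe_cls] at this
  exact this

end toLe

end Groth.Agent.Lib.Helper6.K0Delta
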