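import Groth.Agent.Lib.Helper6.Leray
import Groth.Agent.Lib.Helper16.K0Db1
import Groth.Prelude.Def_KZero
import Mathlib

/-!
# Euler characteristic of a bounded acyclic complex in `K₀` (helper6)
-/

set_option autoImplicit false
set_option linter.style.haveILetI false
set_option linter.unusedSectionVars false
set_option linter.unusedVariables false

universe v u

open CategoryTheory Limits HomologicalComplex KZero

namespace Groth.Agent.Lib.Helper6.K0Euler

open Groth.Agent.Lib.Helper16.K0Db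

variable {𝒜 : Type u} [Category.{v} 𝒜] [Abelian 𝒜] (P : ObjectProperty 𝒜)

/-- the alternating sum of the classes of the terms of a bounded acyclic complex vanishes -/
theorem euler_acyclic (hzero : ∀ X : 𝒜, IsZero X → P X)
    (hker : ∀ S : ShortComplex 𝒜, S.ShortExact → P S.X₂ → P S.X₃ → P S.X₁)
    (C : CochainComplex 𝒜 ℤ) (hC : C.Acyclic) (N : ℕ)
    (hlow : IsZero (C.X (-((N + 1 : ℕ) : ℤ)))) (hhigh : IsZero (C.X 1))
    (hP : ∀ j : ℕ, j ≤ N → P (C.X (-(j : ℤ)))) :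
    ∑ j ∈ Finset.range (N + 1), (-1 : ℤ) ^ j • clSub P (C.X (-(j : ℤ))) = 0 := by
  -- `Z^1 = 0`
  have hZ1 : IsZero (C.cycles (0 + 1)) := IsZero.of_mono (C.iCycles _) (by simpa using hhigh)
  -- the short exact sequences, reindexed
  have hses : ∀ j : ℕ, P (C.X (-((j + 1 : ℕ) : ℤ))) → P (C.cycles (-(j : ℤ))) →
      P (C.cycles (-((j + 1 : ℕ) : ℤ))) ∧
      clSub P (C.X (-((j + 1 : ℕ) : ℤ))) =
        clSub P (C.cycles (-((j + 1 : ℕ) : ℤ))) + clSub P (C.cycles (-(j : ℤ))) := by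
    intro j h2 h3
    have hS := Leray.cyclesSC_shortExact C hC (-((j + 1 : ℕ) : ℤ))
    have e : (-((j + 1 : ℕ) : ℤ)) + 1 = -(j : ℤ) := by push_cast; ring
    have h3' : P (C.cycles ((-((j + 1 : ℕ) : ℤ)) + 1)) := by rw [e]; exact h3
    have h1 : P (C.cycles (-((j + 1 : ℕ) : ℤ))) := hker _ hS h2 h3'
    refine ⟨h1, ?_⟩
    have := clSub_shortExact P _ hS h1 h2 h3'
    have this' : clSub P (C.X (-((j + 1 : ℕ) : ℤ))) =
        clSub P (C.cycles (-((j + 1 : ℕ) : ℤ))) + clSub P (C.cycles ((-((j + 1 : ℕ) : ℤ)) + 1)) := this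
    rw [e] at this'
    exact this'
  -- degree zero
  have h0 : P (C.cycles (-((0 : ℕ) : ℤ))) ∧
      clSub P (C.X (-((0 : ℕ) : ℤ))) = clSub P (C.cycles (-((0 : ℕ) : ℤ))) := by
    have hS := Leray.cyclesSC_shortExact C hC 0
    have h2 : P (C.X 0) := by simpa using hP 0 (Nat.zero_le _)
    have h1 : P (C.cycles 0) := hker _ hS h2 (hzero _ hZ1)
    have := clSub_shortExact P _ hS h1 h2 (hzero _ hZ1)
    have this' : clSub P (C.X 0) = clSub P (C.cycles 0) + clSub P (C.cycles (0 + 1)) := this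
    rw [clSub_isZero P _ hZ1, add_zero] at this'
    simpa using ⟨h1, this'⟩
  -- all cycles
  have key : ∀ M : ℕ, M ≤ N → P (C.cycles (-(M : ℤ))) ∧
      ∑ j ∈ Finset.range (M + 1), (-1 : ℤ) ^ j • clSub P (C.X (-(j : ℤ))) =
        (-1 : ℤ) ^ M • clSub P (C.cycles (-(M : ℤ))) := by
    intro M
    induction M with
    | zero =>
      intro _
      refine ⟨h0.1, ?_⟩
      rw [Finset.sum_range_one, pow_zero, one_smul, one_smul]
      exact h0.2
    | succ M ih =>
      intro hM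
      obtain ⟨hPM, hsum⟩ := ih (by omega)
      obtain ⟨h1, h2⟩ := hses M (hP (M + 1) hM) hPM
      refine ⟨h1, ?_⟩
      rw [Finset.sum_range_succ, hsum, h2, smul_add, pow_succ, mul_neg_one, neg_smul, neg_smul]
      generalize ((-1 : ℤ) ^ M • clSub P (C.cycles (-(M : ℤ)))) = x
      generalize ((-1 : ℤ) ^ M • clSub P (C.cycles (-((M + 1 : ℕ) : ℤ)))) = y
      abel
  -- the last cycle object vanishes
  have hZN : IsZero (C.cycles (-(N : ℤ))) := by
    have hS := Leray.cyclesSC_shortExact C hC (-((N + 1 : ℕ) : ℤ))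
    have e : (-((N + 1 : ℕ) : ℤ)) + 1 = -(N : ℤ) := by push_cast; ring
    haveI : Epi (C.toCycles (-((N + 1 : ℕ) : ℤ)) ((-((N + 1 : ℕ) : ℤ)) + 1)) := hS.epi_g
    have h : IsZero (C.cycles ((-((N + 1 : ℕ) : ℤ)) + 1)) :=
      IsZero.of_epi (C.toCycles (-((N + 1 : ℕ) : ℤ)) ((-((N + 1 : ℕ) : ℤ)) + 1)) hlow
    rwa [e] at h
  rw [(key N le_rfl).2, clSub_isZero P _ hZN, smul_zero]

end Groth.Agent.Lib.Helper6.K0Euler
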