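import Groth.Prelude.Def_KZero
import Groth.Agent.Lib.Helper16.K0Db1
import Mathlib
set_option backward.isDefEq.respectTransparency.types false
set_option autoImplicit false

/-!
# API for `KZero.K0` (full Grothendieck group of an abelian category) and an abstract localization lemma
-/

universe v v' u u'
open CategoryTheory CategoryTheory.Limits KZero ZeroObject

namespace Groth.Agent.Lib.Helper6.K0Full
open Groth.Agent.Lib.Helper16.K0Db

variable {A : Type u} [Category.{v} A] [Abelian A] {B : Type u'} [Category.{v'} B] [Abelian B]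

theorem cl_shortExact (S : ShortComplex A) (hS : S.ShortExact) : cl S.X₂ = cl S.X₁ + cl S.X₃ := by
  have h : FreeAbelianGroup.of S.X₂ - FreeAbelianGroup.of S.X₁ - FreeAbelianGroup.of S.X₃ ∈ relAb A :=
    AddSubgroup.subset_closure ⟨S, hS, rfl⟩
  have h2 := (QuotientAddGroup.eq_zero_iff _).2 h
  rw [QuotientAddGroup.mk_sub, QuotientAddGroup.mk_sub] at h2
  unfold cl
  rw [sub_sub, sub_eq_zero] at h2
  exact h2

theorem cl_isZero (X : A) (hX : IsZero X) : cl X = 0 := by
  have hS : (ShortComplex.mk (0 : X ⟶ X) (0 : X ⟶ X) zero_comp).ShortExact :=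
    { exact := ShortComplex.exact_of_isZero_X₂ _ hX
      mono_f := ⟨fun _ _ _ => hX.eq_of_tgt _ _⟩
      epi_g := ⟨fun _ _ _ => hX.eq_of_src _ _⟩ }
  have := cl_shortExact _ hS
  simpa using this

theorem cl_iso {X Y : A} (e : X ≅ Y) : cl X = cl Y := by
  have hS : (ShortComplex.mk (0 : (0 : A) ⟶ X) e.hom zero_comp).ShortExact :=
    { exact := by
        rw [ShortComplex.exact_iff_mono _ (by rfl)]
        dsimp
        infer_instance
      mono_f := ⟨fun _ _ _ => (isZero_zero A).eq_of_tgt _ _⟩
      epi_g := by dsimp; infer_instance }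
  have := cl_shortExact _ hS
  dsimp at this
  rw [this, cl_isZero _ (isZero_zero A), zero_add]

/-- induction principle for `K0` -/
theorem K0_induction {motive : K0 A → Prop} (h0 : motive 0)
    (hof : ∀ F : A, motive (cl F)) (hneg : ∀ c, motive c → motive (-c))
    (hadd : ∀ c d, motive c → motive d → motive (c + d)) (c : K0 A) : motive c := by
  induction c using QuotientAddGroup.induction_on with
  | H z =>
    induction z using FreeAbelianGroup.induction_on with
    | zero => exact h0
    | of x => exact hof x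
    | neg x ih => exact hneg _ ih
    | add x y ihx ihy => exact hadd _ _ ihx ihy

/-- additive functions induce homomorphisms from `K0` -/
noncomputable def lift {G : Type*} [AddCommGroup G] (f : A → G)
    (hf : ∀ S : ShortComplex A, S.ShortExact → f S.X₂ = f S.X₁ + f S.X₃) : K0 A →+ G :=
  QuotientAddGroup.lift _ (FreeAbelianGroup.lift f) (by
    rw [relAb, AddSubgroup.closure_le]
    rintro x ⟨S, hS, rfl⟩
    rw [SetLike.mem_coe, AddMonoidHom.mem_ker, map_sub, map_sub]
    simp only [FreeAbelianGroup.lift_apply_of]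
    rw [hf S hS]; abel)

@[simp]
theorem lift_cl {G : Type*} [AddCommGroup G] (f : A → G)
    (hf : ∀ S : ShortComplex A, S.ShortExact → f S.X₂ = f S.X₁ + f S.X₃) (X : A) :
    lift f hf (cl X) = f X := by
  unfold lift cl
  rw [QuotientAddGroup.lift_mk, FreeAbelianGroup.lift_apply_of]

/-- additive functions on the objects satisfying `P` induce homomorphisms from `K0sub P` -/
noncomputable def liftSub (P : ObjectProperty A) {G : Type*} [AddCommGroup G] (f : A → G)
    (hf : ∀ S : ShortComplex A, S.ShortExact → P S.X₁ → P S.X₂ → P S.X₃ → f S.X₂ = f S.X₁ + f S.X₃) :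
    K0sub P →+ G :=
  QuotientAddGroup.lift _ (FreeAbelianGroup.lift (fun X : Subtype P => f X.1)) (by
    rw [relSub, AddSubgroup.closure_le]
    rintro x ⟨S, h1, h2, h3, hS, rfl⟩
    rw [SetLike.mem_coe, AddMonoidHom.mem_ker, map_sub, map_sub]
    simp only [FreeAbelianGroup.lift_apply_of]
    rw [hf S hS h1 h2 h3]; abel)

theorem liftSub_clSub (P : ObjectProperty A) {G : Type*} [AddCommGroup G] (f : A → G)
    (hf : ∀ S : ShortComplex A, S.ShortExact → P S.X₁ → P S.X₂ → P S.X₃ → f S.X₂ = f S.X₁ + f S.X₃)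
    (X : A) (hX : P X) : liftSub P f hf (clSub P X) = f X := by
  rw [clSub_of P X hX]
  unfold liftSub
  rw [QuotientAddGroup.lift_mk, FreeAbelianGroup.lift_apply_of]

/-- the kernel-cokernel formula in `K0` -/
theorem cl_sub_eq {X Y : A} (q : X ⟶ Y) : cl X - cl Y = cl (kernel q) - cl (cokernel q) := by
  have hS1 : (ShortComplex.mk (kernel.ι q) (cokernel.π (kernel.ι q)) (cokernel.condition _)).ShortExact :=
    { exact := ShortComplex.exact_cokernel _
      mono_f := inferInstanceAs (Mono (kernel.ι q))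
      epi_g := inferInstanceAs (Epi (cokernel.π (kernel.ι q))) }
  have hS2 : (ShortComplex.mk (kernel.ι (cokernel.π q)) (cokernel.π q) (kernel.condition _)).ShortExact :=
    { exact := ShortComplex.exact_kernel _
      mono_f := inferInstanceAs (Mono (kernel.ι (cokernel.π q)))
      epi_g := inferInstanceAs (Epi (cokernel.π q)) }
  have e1 := cl_shortExact _ hS1
  have e2 := cl_shortExact _ hS2
  have e3 : cl (Abelian.coimage q) = cl (Abelian.image q) := cl_iso (Abelian.coimageIsoImage q)
  dsimp only at e1 e2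
  change cl X = cl (kernel q) + cl (Abelian.coimage q) at e1
  change cl Y = cl (Abelian.image q) + cl (cokernel q) at e2
  rw [e1, e2, e3]
  abel

/-- the class of the homology of a short complex -/
theorem cl_homology (S : ShortComplex A) :
    cl S.homology = cl (kernel S.f) - cl S.X₁ + cl (kernel S.g) := by
  have h := cl_sub_eq S.toCycles
  have e1 : cl (kernel S.toCycles) = cl (kernel S.f) := by
    have : S.toCycles ≫ S.iCycles = S.f := S.toCycles_i
    have e : kernel (S.toCycles ≫ S.iCycles) ≅ kernel S.toCycles := kernelCompMono _ _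
    rw [← cl_iso e]
    exact cl_iso (kernel.mapIso _ _ (Iso.refl _) (Iso.refl _) (by simp))
  have e2 : cl (cokernel S.toCycles) = cl S.homology :=
    cl_iso (IsColimit.coconePointUniqueUpToIso (colimit.isColimit _) S.homologyIsCokernel)
  have e3 : cl S.cycles = cl (kernel S.g) :=
    cl_iso (IsLimit.conePointUniqueUpToIso S.cyclesIsKernel (limit.isLimit _))
  rw [e1, e2, e3] at h
  rw [← sub_eq_zero]
  have : cl S.homology - (cl (kernel S.f) - cl S.X₁ + cl (kernel S.g)) =
      (cl S.X₁ - cl (kernel S.g)) - (cl (kernel S.f) - cl S.homology) := by abel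
  rw [this, h, sub_self]

/-- **abstract localization** for full Grothendieck groups -/
theorem localization (J : A ⥤ B) (lam : K0 A →+ K0 B) (hlam : ∀ X, lam (cl X) = cl (J.obj X))
    (H : AddSubgroup (K0 A))
    (h1 : ∀ G : B, ∃ F : A, Nonempty (J.obj F ≅ G))
    (h2 : ∀ F F' : A, Nonempty (J.obj F ≅ J.obj F') → cl F - cl F' ∈ H)
    (h3 : ∀ S : ShortComplex B, S.ShortExact →
      ∃ T : ShortComplex A, T.ShortExact ∧ Nonempty (J.obj T.X₁ ≅ S.X₁) ∧
        Nonempty (J.obj T.X₂ ≅ S.X₂) ∧ Nonempty (J.obj T.X₃ ≅ S.X₃))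
    (h4 : H ≤ lam.ker) :
    Function.Surjective lam ∧ lam.ker = H := by
  classical
  choose lft hliftIso using h1
  have hadd : ∀ S : ShortComplex B, S.ShortExact →
      (QuotientAddGroup.mk (cl (lft S.X₂)) : K0 A ⧸ H) =
        QuotientAddGroup.mk (cl (lft S.X₁)) + QuotientAddGroup.mk (cl (lft S.X₃)) := by
    intro S hS
    obtain ⟨T, hT, ⟨e₁⟩, ⟨e₂⟩, ⟨e₃⟩⟩ := h3 S hS
    have k₁ := h2 _ _ ⟨(hliftIso S.X₁).some ≪≫ e₁.symm⟩
    have k₂ := h2 _ _ ⟨(hliftIso S.X₂).some ≪≫ e₂.symm⟩
    have k₃ := h2 _ _ ⟨(hliftIso S.X₃).some ≪≫ e₃.symm⟩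
    have hT' := cl_shortExact T hT
    rw [← QuotientAddGroup.mk_add, QuotientAddGroup.eq_iff_sub_mem]
    have : cl (lft S.X₂) - (cl (lft S.X₁) + cl (lft S.X₃)) =
        (cl (lft S.X₂) - cl T.X₂) - (cl (lft S.X₁) - cl T.X₁) - (cl (lft S.X₃) - cl T.X₃) := by
      rw [hT']; abel
    rw [this]
    exact H.sub_mem (H.sub_mem k₂ k₁) k₃
  let ψ : K0 B →+ K0 A ⧸ H := lift (fun G => QuotientAddGroup.mk (cl (lft G))) hadd
  have key : ∀ c : K0 A, ψ (lam c) = QuotientAddGroup.mk c := by
    intro c
    induction c using K0_induction with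
    | h0 => simp
    | hof F =>
      rw [hlam, lift_cl, QuotientAddGroup.eq_iff_sub_mem]
      exact h2 _ _ ⟨(hliftIso _).some⟩
    | hneg c ih => rw [map_neg, map_neg, ih, QuotientAddGroup.mk_neg]
    | hadd c d ihc ihd => rw [map_add, map_add, ihc, ihd, QuotientAddGroup.mk_add]
  constructor
  · intro d
    induction d using K0_induction with
    | h0 => exact ⟨0, map_zero _⟩
    | hof G =>
      refine ⟨cl (lft G), ?_⟩
      rw [hlam]
      exact cl_iso (hliftIso G).some
    | hneg c ih =>
      obtain ⟨a, ha⟩ := ih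
      exact ⟨-a, by rw [map_neg, ha]⟩
    | hadd c d ihc ihd =>
      obtain ⟨a, ha⟩ := ihc
      obtain ⟨b, hb⟩ := ihd
      exact ⟨a + b, by rw [map_add, ha, hb]⟩
  · apply le_antisymm
    · intro c hc
      rw [AddMonoidHom.mem_ker] at hc
      have := key c
      rw [hc, map_zero] at this
      exact (QuotientAddGroup.eq_zero_iff c).1 this.symm
    · exact h4

end Groth.Agent.Lib.Helper6.K0Full
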