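import Groth.Agent.Lib.Helper6.K0Full
import Mathlib
set_option backward.isDefEq.respectTransparency.types false
set_option autoImplicit false
set_option linter.style.haveILetI false

/-!
# Heller's criterion for equality in `K₀` of an abelian category
-/

universe v u
open CategoryTheory CategoryTheory.Limits KZero ZeroObject

namespace Groth.Agent.Lib.Helper6.K0Heller
open Groth.Agent.Lib.Helper6.K0Full

variable (A : Type u) [Category.{v} A] [Abelian A]

/-- the monoid of isomorphism classes of objects under direct sum -/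
def Mon : Type u := Quotient (isIsomorphicSetoid A)

variable {A}

/-- the isomorphism class of an object -/
def mk (X : A) : Mon A := Quotient.mk (isIsomorphicSetoid A) X

theorem mk_eq_iff {X Y : A} : mk X = mk Y ↔ Nonempty (X ≅ Y) := Quotient.eq

theorem mk_surjective (m : Mon A) : ∃ X : A, mk X = m := Quotient.exists_rep m

noncomputable instance : Add (Mon A) where
  add := Quotient.map₂ (fun X Y => X ⊞ Y) (by
    rintro X X' ⟨e⟩ Y Y' ⟨e'⟩
    exact ⟨biprod.mapIso e e'⟩)

noncomputable instance : Zero (Mon A) where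
  zero := mk 0

noncomputable instance : AddCommMonoid (Mon A) where
  add_assoc := by
    rintro ⟨X⟩ ⟨Y⟩ ⟨Z⟩
    exact Quotient.sound ⟨biprod.associator X Y Z⟩
  zero_add := by
    rintro ⟨X⟩
    exact Quotient.sound ⟨(isoZeroBiprod (isZero_zero A)).symm⟩
  add_zero := by
    rintro ⟨X⟩
    exact Quotient.sound ⟨(isoBiprodZero (isZero_zero A)).symm⟩
  add_comm := by
    rintro ⟨X⟩ ⟨Y⟩
    exact Quotient.sound ⟨biprod.braiding X Y⟩
  nsmul := nsmulRec

theorem mk_biprod (X Y : A) : mk (X ⊞ Y) = mk X + mk Y := rfl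

theorem mk_of_isZero {X : A} (h : IsZero X) : mk X = 0 :=
  mk_eq_iff.2 ⟨h.iso (isZero_zero A)⟩

/-- the direct sum of two short complexes -/
noncomputable def sumSC (S S' : ShortComplex A) : ShortComplex A :=
  ShortComplex.mk (biprod.map S.f S'.f) (biprod.map S.g S'.g) (by
    ext <;> simp)

/-- the bicone exhibiting `sumSC` as a biproduct in the category of short complexes -/
noncomputable def sumBicone (S S' : ShortComplex A) : BinaryBicone S S' where
  pt := sumSC S S'
  fst := ShortComplex.homMk biprod.fst biprod.fst biprod.fst (by simp [sumSC]) (by simp [sumSC])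
  snd := ShortComplex.homMk biprod.snd biprod.snd biprod.snd (by simp [sumSC]) (by simp [sumSC])
  inl := ShortComplex.homMk biprod.inl biprod.inl biprod.inl (by simp [sumSC]) (by simp [sumSC])
  inr := ShortComplex.homMk biprod.inr biprod.inr biprod.inr (by simp [sumSC]) (by simp [sumSC])
  inl_fst := by ext <;> exact biprod.inl_fst
  inl_snd := by ext <;> exact biprod.inl_snd
  inr_fst := by ext <;> exact biprod.inr_fst
  inr_snd := by ext <;> exact biprod.inr_snd

noncomputable def sumBicone_isBilimit (S S' : ShortComplex A) : (sumBicone S S').IsBilimit :=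
  isBinaryBilimitOfTotal _ (by ext <;> exact biprod.total)

theorem sumBicone_total (S S' : ShortComplex A) :
    (sumBicone S S').fst ≫ (sumBicone S S').inl + (sumBicone S S').snd ≫ (sumBicone S S').inr =
      𝟙 (sumBicone S S').pt := by
  ext <;> exact biprod.total

noncomputable def homologySumIso (S S' : ShortComplex A) :
    (sumSC S S').homology ≅ S.homology ⊞ S'.homology :=
  biprod.uniqueUpToIso _ _ (isBinaryBilimitOfTotal
    ((ShortComplex.homologyFunctor A).mapBinaryBicone (sumBicone S S')) (by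
      have := congrArg (fun k => (ShortComplex.homologyFunctor A).map k) (sumBicone_total S S')
      simp only [Functor.map_add, Functor.map_comp] at this
      rw [CategoryTheory.Functor.map_id] at this
      exact this))

theorem sumSC_exact (S S' : ShortComplex A) (h : S.Exact) (h' : S'.Exact) : (sumSC S S').Exact := by
  rw [ShortComplex.exact_iff_isZero_homology] at h h' ⊢
  refine IsZero.of_iso ?_ (homologySumIso S S')
  rw [IsZero.iff_id_eq_zero]
  apply biprod.hom_ext'
  · exact h.eq_of_src _ _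
  · exact h'.eq_of_src _ _

theorem sumSC_shortExact (S S' : ShortComplex A) (h : S.ShortExact) (h' : S'.ShortExact) :
    (sumSC S S').ShortExact := by
  haveI := h.mono_f
  haveI := h'.mono_f
  haveI := h.epi_g
  haveI := h'.epi_g
  exact
    { exact := sumSC_exact S S' h.exact h'.exact
      mono_f := inferInstanceAs (Mono (biprod.map S.f S'.f))
      epi_g := inferInstanceAs (Epi (biprod.map S.g S'.g)) }

theorem mk_homology_sumSC (S S' : ShortComplex A) :
    mk (sumSC S S').homology = mk S.homology + mk S'.homology :=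
  mk_eq_iff.2 ⟨homologySumIso S S'⟩

/-- the short exact sequence `0 → T = T → 0 → 0` -/
noncomputable def idSC (T : A) : ShortComplex A := ShortComplex.mk (𝟙 T) (0 : T ⟶ (0 : A)) comp_zero

theorem idSC_shortExact (T : A) : (idSC T).ShortExact :=
  { exact := by
      rw [ShortComplex.exact_iff_epi _ ((isZero_zero A).eq_of_tgt _ _)]
      exact inferInstanceAs (Epi (𝟙 T))
    mono_f := inferInstanceAs (Mono (𝟙 T))
    epi_g := ⟨fun _ _ _ => (isZero_zero A).eq_of_src _ _⟩ }

/-- Heller's relation on isomorphism classes -/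
def Rel (m m' : Mon A) : Prop :=
  ∃ (P N : ShortComplex A), P.ShortExact ∧ N.ShortExact ∧
    m + mk P.X₁ + mk P.X₃ + mk N.X₂ = m' + mk P.X₂ + mk N.X₁ + mk N.X₃

theorem rel_of_add {m m' : Mon A} (t : Mon A) (P N : ShortComplex A) (hP : P.ShortExact) (hN : N.ShortExact)
    (h : m + mk P.X₁ + mk P.X₃ + mk N.X₂ + t = m' + mk P.X₂ + mk N.X₁ + mk N.X₃ + t) : Rel m m' := by
  obtain ⟨T, rfl⟩ := mk_surjective t
  refine ⟨P, sumSC N (idSC T), hP, sumSC_shortExact _ _ hN (idSC_shortExact T), ?_⟩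
  change m + mk P.X₁ + mk P.X₃ + (mk N.X₂ + mk T) = m' + mk P.X₂ + (mk N.X₁ + mk T) + (mk N.X₃ + mk (0 : A))
  rw [mk_of_isZero (isZero_zero A), add_zero]
  calc m + mk P.X₁ + mk P.X₃ + (mk N.X₂ + mk T) = m + mk P.X₁ + mk P.X₃ + mk N.X₂ + mk T := by abel
    _ = m' + mk P.X₂ + mk N.X₁ + mk N.X₃ + mk T := h
    _ = m' + mk P.X₂ + (mk N.X₁ + mk T) + mk N.X₃ := by abel

theorem rel_refl (m : Mon A) : Rel m m :=
  ⟨idSC 0, idSC 0, idSC_shortExact 0, idSC_shortExact 0, by
    change m + mk (0 : A) + mk (0 : A) + mk (0 : A) = m + mk (0 : A) + mk (0 : A) + mk (0 : A)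
    rfl⟩

theorem rel_symm {m m' : Mon A} (h : Rel m m') : Rel m' m := by
  obtain ⟨P, N, hP, hN, h⟩ := h
  refine ⟨N, P, hN, hP, ?_⟩
  calc m' + mk N.X₁ + mk N.X₃ + mk P.X₂ = m' + mk P.X₂ + mk N.X₁ + mk N.X₃ := by abel
    _ = m + mk P.X₁ + mk P.X₃ + mk N.X₂ := h.symm
    _ = m + mk N.X₂ + mk P.X₁ + mk P.X₃ := by abel

theorem rel_trans {m m' m'' : Mon A} (h : Rel m m') (h' : Rel m' m'') : Rel m m'' := by
  obtain ⟨P, N, hP, hN, h⟩ := h
  obtain ⟨P', N', hP', hN', h'⟩ := h'
  refine rel_of_add m' (sumSC P P') (sumSC N N') (sumSC_shortExact _ _ hP hP') (sumSC_shortExact _ _ hN hN') ?_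
  change m + (mk P.X₁ + mk P'.X₁) + (mk P.X₃ + mk P'.X₃) + (mk N.X₂ + mk N'.X₂) + m' =
    m'' + (mk P.X₂ + mk P'.X₂) + (mk N.X₁ + mk N'.X₁) + (mk N.X₃ + mk N'.X₃) + m'
  calc m + (mk P.X₁ + mk P'.X₁) + (mk P.X₃ + mk P'.X₃) + (mk N.X₂ + mk N'.X₂) + m'
      = (m + mk P.X₁ + mk P.X₃ + mk N.X₂) + (m' + mk P'.X₁ + mk P'.X₃ + mk N'.X₂) := by abel
    _ = (m' + mk P.X₂ + mk N.X₁ + mk N.X₃) + (m'' + mk P'.X₂ + mk N'.X₁ + mk N'.X₃) := by rw [h, h']
    _ = m'' + (mk P.X₂ + mk P'.X₂) + (mk N.X₁ + mk N'.X₁) + (mk N.X₃ + mk N'.X₃) + m' := by abel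

theorem rel_add {m₁ m₁' m₂ m₂' : Mon A} (h : Rel m₁ m₁') (h' : Rel m₂ m₂') : Rel (m₁ + m₂) (m₁' + m₂') := by
  obtain ⟨P, N, hP, hN, h⟩ := h
  obtain ⟨P', N', hP', hN', h'⟩ := h'
  refine ⟨sumSC P P', sumSC N N', sumSC_shortExact _ _ hP hP', sumSC_shortExact _ _ hN hN', ?_⟩
  change m₁ + m₂ + (mk P.X₁ + mk P'.X₁) + (mk P.X₃ + mk P'.X₃) + (mk N.X₂ + mk N'.X₂) =
    m₁' + m₂' + (mk P.X₂ + mk P'.X₂) + (mk N.X₁ + mk N'.X₁) + (mk N.X₃ + mk N'.X₃)
  calc m₁ + m₂ + (mk P.X₁ + mk P'.X₁) + (mk P.X₃ + mk P'.X₃) + (mk N.X₂ + mk N'.X₂)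
      = (m₁ + mk P.X₁ + mk P.X₃ + mk N.X₂) + (m₂ + mk P'.X₁ + mk P'.X₃ + mk N'.X₂) := by abel
    _ = (m₁' + mk P.X₂ + mk N.X₁ + mk N.X₃) + (m₂' + mk P'.X₂ + mk N'.X₁ + mk N'.X₃) := by rw [h, h']
    _ = m₁' + m₂' + (mk P.X₂ + mk P'.X₂) + (mk N.X₁ + mk N'.X₁) + (mk N.X₃ + mk N'.X₃) := by abel

theorem rel_cancel {m m' k : Mon A} (h : Rel (m + k) (m' + k)) : Rel m m' := by
  obtain ⟨P, N, hP, hN, h⟩ := h
  refine rel_of_add k P N hP hN ?_
  calc m + mk P.X₁ + mk P.X₃ + mk N.X₂ + k = m + k + mk P.X₁ + mk P.X₃ + mk N.X₂ := by abel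
    _ = m' + k + mk P.X₂ + mk N.X₁ + mk N.X₃ := h
    _ = m' + mk P.X₂ + mk N.X₁ + mk N.X₃ + k := by abel

theorem rel_ses (S : ShortComplex A) (hS : S.ShortExact) : Rel (mk S.X₂) (mk S.X₁ + mk S.X₃) := by
  refine ⟨S, idSC 0, hS, idSC_shortExact 0, ?_⟩
  change mk S.X₂ + mk S.X₁ + mk S.X₃ + mk (0 : A) = mk S.X₁ + mk S.X₃ + mk S.X₂ + mk (0 : A) + mk (0 : A)
  rw [mk_of_isZero (isZero_zero A)]
  abel

variable (A) in
/-- Heller's relation as an additive congruence -/
def con : AddCon (Mon A) where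
  r := Rel
  iseqv := ⟨rel_refl, rel_symm, rel_trans⟩
  add' := rel_add

instance : IsLeftCancelAdd (con A).Quotient where
  add_left_cancel := by
    intro a b c h
    induction a using AddCon.induction_on with
    | H a =>
    induction b using AddCon.induction_on with
    | H b =>
    induction c using AddCon.induction_on with
    | H c =>
    have h1 : ((a + b : Mon A) : (con A).Quotient) = ((a + c : Mon A) : (con A).Quotient) := h
    rw [AddCon.eq] at h1
    rw [AddCon.eq]
    have h' : Rel (b + a) (c + a) := by rw [add_comm b a, add_comm c a]; exact h1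
    exact rel_cancel h'

instance : IsCancelAdd (con A).Quotient := AddCommMagma.IsLeftCancelAdd.toIsCancelAdd _

/-- **Heller's criterion**: two objects with the same class in `K₀` are related -/
theorem heller {X Y : A} (h : cl X = cl Y) : Rel (mk X) (mk Y) := by
  let f : A → Algebra.GrothendieckAddGroup (con A).Quotient :=
    fun X => Algebra.GrothendieckAddGroup.of ((mk X : Mon A) : (con A).Quotient)
  have hf : ∀ S : ShortComplex A, S.ShortExact → f S.X₂ = f S.X₁ + f S.X₃ := by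
    intro S hS
    simp only [f]
    rw [← map_add, ← AddCon.coe_add]
    congr 1
    exact (AddCon.eq _).2 (rel_ses S hS)
  have h2 := congrArg (lift f hf) h
  rw [lift_cl, lift_cl] at h2
  have h3 := Algebra.GrothendieckAddGroup.of_injective h2
  exact (AddCon.eq _).1 h3

end Groth.Agent.Lib.Helper6.K0Heller
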