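import Groth.Agent.Lib.Helper6.K0Loc
import Groth.Agent.Lib.Helper6.K0Abs
import Groth.Agent.Lib.Helper6.DevChev
import Mathlib
set_option backward.isDefEq.respectTransparency.types false
set_option autoImplicit false
set_option linter.style.haveILetI false

/-!
# Classes of coherent modules supported in a closed subscheme come from the subscheme
-/

universe u
open CategoryTheory CategoryTheory.Limits AlgebraicGeometry Opposite TopologicalSpace

namespace Groth.Agent.Lib.Helper6.K0LocA
open Groth.Agent.Lib.Helper6.K0Filt Groth.Agent.Lib.Helper6.K0Len Groth.Agent.Lib.Helper6.K0Loc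
  Groth.Agent.Lib.Helper6.DevCore Groth.Agent.Lib.Helper6.K0Abs

variable {X X' : Scheme.{u}}

/-- **Lemma A**: the classes of the coherent modules supported in the image of a closed immersion `i` lie in the
image of `i_*`. -/
theorem FY_range_le [IsNoetherian X] (i : X' ⟶ X) [IsClosedImmersion i]
    [(Scheme.Modules.pushforward i).Additive] [PreservesFiniteLimits (Scheme.Modules.pushforward i)]
    [PreservesFiniteColimits (Scheme.Modules.pushforward i)]
    (hi : ∀ M : X'.Modules, Coh.IsCoh M → Coh.IsCoh ((Scheme.Modules.pushforward i).obj M)) :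
    FY (Set.range i) ≤ (SGA6.mapSub (Scheme.Modules.pushforward i) (fun M : X'.Modules => Coh.IsCoh M)
      (fun M : X.Modules => Coh.IsCoh M) hi).range := by
  haveI : IsLocallyNoetherian X' := LocallyOfFiniteType.isLocallyNoetherian i
  haveI : CompactSpace X' := QuasiCompact.compactSpace_of_compactSpace i
  haveI : IsNoetherian X' := {}
  unfold FY
  rw [AddSubgroup.closure_le]
  rintro c ⟨G, hG, hs, rfl⟩
  rw [SetLike.mem_coe]
  refine additive_devissage (fun M => cls M)
    (fun S hS h1 h2 h3 => Groth.Agent.Lib.Helper16.K0Db.clSub_shortExact _ S hS h1 h2 h3) _ (Set.range i)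
    i.isClosedEmbedding.isClosed_range ?_ G hG hs
  intro y hy _
  -- the reduced closure of `y` factors through `X'`
  have hker : i.ker ≤ (IntMult.ptIdeal y).subschemeι.ker := by
    rw [Scheme.IdealSheafData.ker_subschemeι]
    unfold IntMult.ptIdeal
    rw [← Scheme.IdealSheafData.le_support_iff_le_vanishingIdeal, ← SetLike.coe_subset_coe,
      Scheme.Hom.support_ker, i.isClosedEmbedding.isClosed_range.closure_eq]
    exact hy
  let k := IsClosedImmersion.lift i (IntMult.ptIdeal y).subschemeι hker
  have hk : k ≫ i = (IntMult.ptIdeal y).subschemeι := IsClosedImmersion.lift_fac _ _ _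
  haveI : IsClosedImmersion (k ≫ i) := by rw [hk]; infer_instance
  haveI : IsClosedImmersion k := IsClosedImmersion.of_comp k i
  have hO : Coh.IsCoh (Coh.structureModule (IntMult.ptIdeal y).subscheme) :=
    Groth.Agent.Lib.Helper6.DevRed.isCoh_structureModule
  have hkO : Coh.IsCoh ((Coh.push k).obj (Coh.structureModule _)) :=
    Groth.Agent.Lib.Helper6.DevChev.isCoh_push_of_isFinite k _ hO
  have e : (Scheme.Modules.pushforward i).obj ((Coh.push k).obj (Coh.structureModule _)) ≅ OZ y :=
    (Scheme.Modules.pushforwardComp k i).app _ ≪≫ (Scheme.Modules.pushforwardCongr hk).app _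
  refine ⟨cls ((Coh.push k).obj (Coh.structureModule _)), ?_⟩
  rw [cls, mapSub_clSub _ _ _ hi _ hkO]
  exact K0Op.cls_iso e (hi _ hkO)

end Groth.Agent.Lib.Helper6.K0LocA
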