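import Groth.Agent.Lib.Helper6.K0LocC
import Groth.Agent.Lib.Helper6.DevLift
import Mathlib
set_option backward.isDefEq.respectTransparency.types false
set_option autoImplicit false
set_option linter.style.haveILetI false

/-!
# The localization sequence for `K₀` of coherent modules: lifting along a general open immersion
-/

universe u
open CategoryTheory CategoryTheory.Limits AlgebraicGeometry Opposite TopologicalSpace

namespace Groth.Agent.Lib.Helper6.K0LocD
open Groth.Agent.Lib.Helper6.K0Filt Groth.Agent.Lib.Helper6.K0Len Groth.Agent.Lib.Helper6.K0Loc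
  Groth.Agent.Lib.Helper6.DevCore Groth.Agent.Lib.Helper6.K0Abs Groth.Agent.Lib.Helper6.K0LocC

variable {X : Scheme.{u}}

/-- two coherent modules with isomorphic restrictions to an open `U` have the same class modulo the classes
supported off `U` -/
theorem cls_sub_mem_FY_of_restrict_iso [IsNoetherian X] (Uo : X.Opens) (F F' : X.Modules) (hF : Coh.IsCoh F)
    (hF' : Coh.IsCoh F')
    (φ : (Scheme.Modules.restrictFunctor Uo.ι).obj F ≅ (Scheme.Modules.restrictFunctor Uo.ι).obj F') :
    cls F - cls F' ∈ FY ((Uo : Set X)ᶜ) := by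
  obtain ⟨H, p₁, p₂, hH, h1, h2⟩ := Groth.Agent.Lib.Helper6.DevLift.exists_graph_extension F F' hF hF'.1 Uo φ.hom
  haveI := h1
  have h2' : IsIso ((Scheme.Modules.restrictFunctor Uo.ι).map p₂) := by rw [h2]; infer_instance
  have k1 := cls_sub_mem_FY_of_isoAt p₁ hH hF (Uo : Set X) (fun x hx => isoAt_of_isIso_restrict Uo p₁ h1 x hx)
    Set.univ (Set.subset_univ _) (Set.subset_univ _)
  have k2 := cls_sub_mem_FY_of_isoAt p₂ hH hF' (Uo : Set X) (fun x hx => isoAt_of_isIso_restrict Uo p₂ h2' x hx)
    Set.univ (Set.subset_univ _) (Set.subset_univ _)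
  have e : (Set.univ : Set X) \ (Uo : Set X) = (Uo : Set X)ᶜ := by
    ext x; simp
  rw [e] at k1 k2
  have : cls F - cls F' = (cls H - cls F') - (cls H - cls F) := by abel
  rw [this]
  exact AddSubgroup.sub_mem _ k2 k1

section transfer

variable {U : Scheme.{u}} (j : U ⟶ X) [IsOpenImmersion j]

/-- `j^*` is `Uo.ι^*` followed by the transport along `U ≅ Uo` -/
noncomputable def alpha : Scheme.Modules.restrictFunctor j ≅
    Scheme.Modules.restrictFunctor j.opensRange.ι ⋙ Scheme.Modules.restrictFunctor j.isoOpensRange.hom :=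
  Scheme.Modules.restrictFunctorCongr (j.isoOpensRange_hom_ι).symm ≪≫
    Scheme.Modules.restrictFunctorComp j.isoOpensRange.hom j.opensRange.ι

/-- `Uo.ι^*` is `j^*` followed by the transport along `Uo ≅ U` -/
noncomputable def alpha' : Scheme.Modules.restrictFunctor j.opensRange.ι ≅
    Scheme.Modules.restrictFunctor j ⋙ Scheme.Modules.restrictFunctor j.isoOpensRange.inv :=
  Scheme.Modules.restrictFunctorCongr (j.isoOpensRange_inv_comp).symm ≪≫
    Scheme.Modules.restrictFunctorComp j.isoOpensRange.inv j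

end transfer

section iso

variable {U V : Scheme.{u}} (e : U ≅ V)

noncomputable def gam : Scheme.Modules.restrictFunctor e.inv ⋙ Scheme.Modules.restrictFunctor e.hom ≅ 𝟭 U.Modules :=
  (Scheme.Modules.restrictFunctorComp e.hom e.inv).symm ≪≫ Scheme.Modules.restrictFunctorCongr e.hom_inv_id ≪≫
    Scheme.Modules.restrictFunctorId

noncomputable def restrictEquiv : U.Modules ≌ V.Modules :=
  CategoryTheory.Equivalence.mk (Scheme.Modules.restrictFunctor e.inv) (Scheme.Modules.restrictFunctor e.hom)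
    (gam e).symm (gam e.symm)

instance : (Scheme.Modules.restrictFunctor e.inv).IsEquivalence :=
  (restrictEquiv e).isEquivalence_functor

end iso

section main

variable [IsNoetherian X] {U : Scheme.{u}} (j : U ⟶ X) [IsOpenImmersion j]

/-- a coherent module on an open subscheme extends (general open immersion) -/
theorem exists_extension' (G : U.Modules) (hG : Coh.IsCoh G) :
    ∃ F : X.Modules, Coh.IsCoh F ∧ Nonempty ((Scheme.Modules.restrictFunctor j).obj F ≅ G) := by
  obtain ⟨F, hF, ⟨ε⟩⟩ := exists_extension j.opensRange ((Scheme.Modules.restrictFunctor j.isoOpensRange.inv).obj G)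
    (isCoh_restrict _ _ hG)
  exact ⟨F, hF, ⟨(alpha j).app F ≪≫ (Scheme.Modules.restrictFunctor j.isoOpensRange.hom).mapIso ε ≪≫
    (gam j.isoOpensRange).app G⟩⟩

/-- uniqueness of extensions modulo the classes supported off the image -/
theorem cls_sub_mem_FY_of_restrict_iso' (F F' : X.Modules) (hF : Coh.IsCoh F) (hF' : Coh.IsCoh F')
    (φ : (Scheme.Modules.restrictFunctor j).obj F ≅ (Scheme.Modules.restrictFunctor j).obj F') :
    cls F - cls F' ∈ FY ((Set.range j)ᶜ) := by
  have := cls_sub_mem_FY_of_restrict_iso j.opensRange F F' hF hF'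
    ((alpha' j).app F ≪≫ (Scheme.Modules.restrictFunctor j.isoOpensRange.inv).mapIso φ ≪≫ ((alpha' j).app F').symm)
  rwa [Scheme.Hom.coe_opensRange] at this

/-- short exact sequences of coherent modules extend (general open immersion) -/
theorem exists_ses_extension' (S : ShortComplex U.Modules) (hS : S.ShortExact)
    (h1 : Coh.IsCoh S.X₁) (h2 : Coh.IsCoh S.X₂) :
    ∃ T : ShortComplex X.Modules, T.ShortExact ∧ Coh.IsCoh T.X₁ ∧ Coh.IsCoh T.X₂ ∧ Coh.IsCoh T.X₃ ∧
      Nonempty ((Scheme.Modules.restrictFunctor j).obj T.X₁ ≅ S.X₁) ∧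
      Nonempty ((Scheme.Modules.restrictFunctor j).obj T.X₂ ≅ S.X₂) ∧
      Nonempty ((Scheme.Modules.restrictFunctor j).obj T.X₃ ≅ S.X₃) := by
  have hS' : (S.map (Scheme.Modules.restrictFunctor j.isoOpensRange.inv)).ShortExact :=
    hS.map_of_exact (Scheme.Modules.restrictFunctor j.isoOpensRange.inv)
  obtain ⟨T, hT, p1, p2, p3, ⟨ε₁⟩, ⟨ε₂⟩, ⟨ε₃⟩⟩ := exists_ses_extension j.opensRange _ hS'
    (isCoh_restrict _ _ h1) (isCoh_restrict _ _ h2)
  refine ⟨T, hT, p1, p2, p3, ⟨?_⟩, ⟨?_⟩, ⟨?_⟩⟩
  · exact (alpha j).app _ ≪≫ (Scheme.Modules.restrictFunctor j.isoOpensRange.hom).mapIso ε₁ ≪≫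
      (gam j.isoOpensRange).app _
  · exact (alpha j).app _ ≪≫ (Scheme.Modules.restrictFunctor j.isoOpensRange.hom).mapIso ε₂ ≪≫
      (gam j.isoOpensRange).app _
  · exact (alpha j).app _ ≪≫ (Scheme.Modules.restrictFunctor j.isoOpensRange.hom).mapIso ε₃ ≪≫
      (gam j.isoOpensRange).app _

end main

end Groth.Agent.Lib.Helper6.K0LocD
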