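import Groth.Agent.Lib.Helper6.K0Full
import Groth.Agent.Lib.Helper6.K0Abs
import Mathlib
set_option backward.isDefEq.respectTransparency.types false
set_option autoImplicit false
set_option linter.style.haveILetI false

/-!
# `K₀` of finitely generated modules over a ring with two principal-ideal-domain axes
-/

universe u
open CategoryTheory CategoryTheory.Limits KZero

namespace Groth.Agent.Lib.Helper6.K0Node
open Groth.Agent.Lib.Helper16.K0Db Groth.Agent.Lib.Helper6.K0Full

variable (A : Type u) [CommRing A]

/-- the property 'finitely generated' -/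
abbrev Pf : ObjectProperty (ModuleCat.{u} A) := fun M => Module.Finite A M

instance : (Pf A).IsClosedUnderIsomorphisms where
  of_iso {X Y} e hX := by
    haveI : Module.Finite A X := hX
    exact Module.Finite.equiv e.toLinearEquiv

instance : (Pf A).ContainsZero where
  exists_zero := ⟨ModuleCat.of A PUnit.{u + 1}, ModuleCat.isZero_of_subsingleton _,
    inferInstanceAs (Module.Finite A PUnit.{u + 1})⟩

variable {A}

/-- the class of a finitely generated module -/
noncomputable def cm (M : Type u) [AddCommGroup M] [Module A M] : K0sub (Pf A) :=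
  clSub (Pf A) (ModuleCat.of A M)

theorem cm_exact (N₁ N₂ N₃ : Type u) [AddCommGroup N₁] [Module A N₁] [Module.Finite A N₁]
    [AddCommGroup N₂] [Module A N₂] [Module.Finite A N₂] [AddCommGroup N₃] [Module A N₃] [Module.Finite A N₃]
    (f : N₁ →ₗ[A] N₂) (g : N₂ →ₗ[A] N₃) (hf : Function.Injective f) (hg : Function.Surjective g)
    (h : Function.Exact f g) : cm (A := A) N₂ = cm N₁ + cm N₃ := by
  have hzero : ModuleCat.ofHom f ≫ ModuleCat.ofHom g = 0 := by
    ext a
    exact h.apply_apply_eq_zero a
  have hS : (ShortComplex.mk (ModuleCat.ofHom f) (ModuleCat.ofHom g) hzero).ShortExact :=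
    { exact := by
        rw [ShortComplex.ShortExact.moduleCat_exact_iff_function_exact]
        exact h
      mono_f := (ModuleCat.mono_iff_injective _).2 hf
      epi_g := (ModuleCat.epi_iff_surjective _).2 hg }
  exact clSub_shortExact (Pf A) _ hS (inferInstanceAs (Module.Finite A N₁))
    (inferInstanceAs (Module.Finite A N₂)) (inferInstanceAs (Module.Finite A N₃))

theorem cm_equiv (N₁ N₂ : Type u) [AddCommGroup N₁] [Module A N₁]
    [AddCommGroup N₂] [Module A N₂] (e : N₁ ≃ₗ[A] N₂) : cm (A := A) N₁ = cm N₂ :=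
  clSub_iso (Pf A) e.toModuleIso

theorem cm_subsingleton (N : Type u) [AddCommGroup N] [Module A N] [Subsingleton N] : cm (A := A) N = 0 :=
  clSub_isZero (Pf A) _ (ModuleCat.isZero_of_subsingleton _)

/-- the classes of the `A ⧸ q`, `q` prime, generate `K₀` -/
theorem mem_of_primes [IsNoetherianRing A] (H : AddSubgroup (K0sub (Pf A)))
    (hq : ∀ q : PrimeSpectrum A, cm (A ⧸ q.1) ∈ H) (c : K0sub (Pf A)) : c ∈ H := by
  have key : ∀ (M : Type u) [AddCommGroup M] [Module A M] (_ : Module.Finite A M), cm (A := A) M ∈ H := by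
    intro M _ _ hM
    induction hM using IsNoetherianRing.induction_on_isQuotientEquivQuotientPrime A with
    | subsingleton N =>
      rw [cm_subsingleton]
      exact H.zero_mem
    | quotient N p e =>
      rw [cm_equiv N _ e]
      exact hq p
    | exact N₁ N₂ N₃ f g hf hg h ih₁ ih₃ =>
      rw [cm_exact N₁ N₂ N₃ f g hf hg h]
      exact H.add_mem ih₁ ih₃
  induction c using Groth.Agent.Lib.Helper6.K0Abs.K0sub_induction with
  | h0 => exact H.zero_mem
  | hof F hF => exact key F hF
  | hneg c ih => exact H.neg_mem ih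
  | hadd c d ihc ihd => exact H.add_mem ihc ihd

/-- if `A ⧸ (x)` is a principal ideal domain, then the class of `A ⧸ q` for a prime `q ∋ x` is a multiple of the
class of `A ⧸ (x)` -/
theorem cm_quot_prime_mem (x : A) [IsDomain (A ⧸ Ideal.span {x})] [IsPrincipalIdealRing (A ⧸ Ideal.span {x})]
    (q : Ideal A) [hq : q.IsPrime] (hx : x ∈ q) :
    cm (A := A) (A ⧸ q) ∈ AddSubgroup.zmultiples (cm (A := A) (A ⧸ Ideal.span {x})) := by
  have hle : Ideal.span {x} ≤ q := (Ideal.span_singleton_le_iff_mem q).2 hx
  by_cases hqI : q = Ideal.span {x}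
  · subst hqI
    exact AddSubgroup.mem_zmultiples _
  · -- the image of `q` in the principal ideal domain `B = A ⧸ (x)` is generated by a nonzero element
    let B := A ⧸ Ideal.span {x}
    let qb : Ideal B := q.map (Ideal.Quotient.mk (Ideal.span {x}))
    obtain ⟨g, hg⟩ : ∃ g : B, qb = Ideal.span {g} := ⟨_, (Submodule.IsPrincipal.span_singleton_generator qb).symm⟩
    have hg0 : g ≠ 0 := by
      rintro rfl
      apply hqI
      apply le_antisymm _ hle
      intro a ha
      have : Ideal.Quotient.mk (Ideal.span {x}) a ∈ qb := Ideal.mem_map_of_mem _ ha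
      rw [hg, Ideal.span_singleton_eq_bot.2 rfl, Ideal.mem_bot, Ideal.Quotient.eq_zero_iff_mem] at this
      exact this
    let f : B →ₗ[A] B := LinearMap.mulLeft A g
    let p : B →ₗ[A] B ⧸ Ideal.span {g} := (Submodule.mkQ (Ideal.span {g})).restrictScalars A
    have hf : Function.Injective f := by
      intro a b hab
      exact mul_left_cancel₀ hg0 hab
    have hp : Function.Surjective p := Submodule.mkQ_surjective _
    have hex : Function.Exact f p := by
      intro b
      constructor
      · intro hb
        have : b ∈ Ideal.span {g} := (Submodule.Quotient.mk_eq_zero _).1 hb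
        obtain ⟨c, rfl⟩ := Ideal.mem_span_singleton'.1 this
        exact ⟨c, mul_comm g c⟩
      · rintro ⟨c, rfl⟩
        refine (Submodule.Quotient.mk_eq_zero _).2 ?_
        exact Ideal.mem_span_singleton'.2 ⟨c, mul_comm c g⟩
    have h1 := cm_exact (A := A) B B (B ⧸ Ideal.span {g}) f p hf hp hex
    have h2 : cm (A := A) (B ⧸ Ideal.span {g}) = 0 := by
      have : cm (A := A) B + 0 = cm (A := A) B + cm (A := A) (B ⧸ Ideal.span {g}) := by rw [add_zero]; exact h1
      exact (add_left_cancel this).symm
    have e : (B ⧸ qb) ≃ₗ[A] A ⧸ q := (DoubleQuot.quotQuotEquivQuotOfLEₐ A hle).toLinearEquiv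
    have h3 : cm (A := A) (A ⧸ q) = cm (A := A) (B ⧸ Ideal.span {g}) := by
      rw [← cm_equiv _ _ e]
      rw [hg]
    rw [h3, h2]
    exact AddSubgroup.zero_mem _

section rank

variable {A : Type u} [CommRing A] (p : Ideal A) [p.IsPrime]

/-- the length of the localization at `p` -/
noncomputable def rho (M : Type u) [AddCommGroup M] [Module A M] : ℕ∞ :=
  Module.length (Localization.AtPrime p) (LocalizedModule p.primeCompl M)

theorem rho_exact (N₁ N₂ N₃ : Type u) [AddCommGroup N₁] [Module A N₁]
    [AddCommGroup N₂] [Module A N₂] [AddCommGroup N₃] [Module A N₃]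
    (f : N₁ →ₗ[A] N₂) (g : N₂ →ₗ[A] N₃) (hf : Function.Injective f) (hg : Function.Surjective g)
    (h : Function.Exact f g) : rho p N₂ = rho p N₁ + rho p N₃ :=
  Module.length_eq_add_of_exact (LocalizedModule.map p.primeCompl f) (LocalizedModule.map p.primeCompl g)
    (LocalizedModule.map_injective _ f hf) (LocalizedModule.map_surjective _ g hg)
    (LocalizedModule.map_exact p.primeCompl f g h)

theorem rho_eq_zero (N : Type u) [AddCommGroup N] [Module A N] (y : A) (hy : y ∉ p) (h : ∀ n : N, y • n = 0) :
    rho p N = 0 := by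
  unfold rho
  rw [Module.length_eq_zero_iff]
  rw [LocalizedModule.subsingleton_iff]
  intro n
  exact ⟨y, hy, h n⟩

section field

variable {x y : A} (hxy : x * y = 0) (hp : p = Ideal.span {x}) (hy : y ∉ p)

include hxy hp hy in
theorem isField_localization : IsField (Localization.AtPrime p) := by
  have h0 : algebraMap A (Localization.AtPrime p) x = 0 := by
    rw [IsLocalization.map_eq_zero_iff p.primeCompl]
    exact ⟨⟨y, hy⟩, by rw [mul_comm]; exact hxy⟩
  rw [IsLocalRing.isField_iff_maximalIdeal_eq, ← Localization.AtPrime.map_eq_maximalIdeal]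
  have h1 : Ideal.map (algebraMap A (Localization.AtPrime p)) (Ideal.span {x}) = ⊥ := by
    rw [Ideal.map_span, Set.image_singleton, h0]
    exact Ideal.span_singleton_eq_bot.2 rfl
  rw [← h1]
  congr 1

include hxy hp hy in
theorem rho_self : rho p A = 1 := by
  have hF := isField_localization p hxy hp hy
  unfold rho
  have e : LocalizedModule p.primeCompl A ≃ₗ[Localization.AtPrime p] Localization.AtPrime p :=
    (LocalizedModule.equivTensorProduct p.primeCompl A).trans
      (TensorProduct.AlgebraTensorModule.rid A (Localization.AtPrime p) (Localization.AtPrime p))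
  rw [e.length_eq, Module.length_eq_one_iff, isSimpleModule_self_iff_isUnit]
  refine ⟨inferInstance, fun a ha => ?_⟩
  obtain ⟨b, hb⟩ := hF.mul_inv_cancel ha
  exact IsUnit.of_mul_eq_one b hb

include hxy hp hy in
theorem rho_ne_top (M : Type u) [AddCommGroup M] [Module A M] [Module.Finite A M] : rho p M ≠ ⊤ := by
  have hF := isField_localization p hxy hp hy
  letI : Field (Localization.AtPrime p) := hF.toField
  unfold rho
  exact Module.length_ne_top

end field

section rk

variable {x y : A} (hxy : x * y = 0) (hp : p = Ideal.span {x}) (hy : y ∉ p)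

/-- the rank at the minimal prime `p = (x)` as a homomorphism on `K₀` -/
noncomputable def rk : K0sub (Pf A) →+ ℤ :=
  liftSub (Pf A) (fun M => ((rho p M).toNat : ℤ)) (by
    intro S hS h1 h2 h3
    haveI : Module.Finite A S.X₁ := h1
    haveI : Module.Finite A S.X₂ := h2
    haveI : Module.Finite A S.X₃ := h3
    have := rho_exact p S.X₁ S.X₂ S.X₃ S.f.hom S.g.hom hS.moduleCat_injective_f hS.moduleCat_surjective_g
      ((ShortComplex.ShortExact.moduleCat_exact_iff_function_exact S).1 hS.exact)
    change ((rho p S.X₂).toNat : ℤ) = ((rho p S.X₁).toNat : ℤ) + ((rho p S.X₃).toNat : ℤ)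
    rw [this, ENat.toNat_add (rho_ne_top p hxy hp hy _) (rho_ne_top p hxy hp hy _)]
    push_cast
    rfl)

theorem rk_cm (M : Type u) [AddCommGroup M] [Module A M] [Module.Finite A M] :
    rk p hxy hp hy (cm M) = ((rho p M).toNat : ℤ) :=
  liftSub_clSub (Pf A) _ _ (ModuleCat.of A M) (inferInstanceAs (Module.Finite A M))

theorem rk_cm_eq_zero (N : Type u) [AddCommGroup N] [Module A N] [Module.Finite A N] (h : ∀ n : N, y • n = 0) :
    rk p hxy hp hy (cm N) = 0 := by
  rw [rk_cm, rho_eq_zero p N y hy h]
  rfl

theorem rk_cm_quot : rk p hxy hp hy (cm (A ⧸ Ideal.span {x})) = 1 := by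
  rw [rk_cm]
  have h1 := rho_exact p (Ideal.span {x} : Ideal A) A (A ⧸ Ideal.span {x}) (Submodule.subtype _)
    (Submodule.mkQ _) (Submodule.subtype_injective _) (Submodule.mkQ_surjective _)
    (LinearMap.exact_subtype_mkQ _)
  have h2 : rho p (Ideal.span {x} : Ideal A) = 0 := by
    apply rho_eq_zero p _ y hy
    rintro ⟨n, hn⟩
    obtain ⟨c, rfl⟩ := Ideal.mem_span_singleton'.1 hn
    apply Subtype.ext
    change y * (c * x) = 0
    rw [mul_comm c x, ← mul_assoc, mul_comm y x, hxy, zero_mul]
  rw [rho_self p hxy hp hy, h2, zero_add] at h1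
  rw [← h1]
  rfl

end rk

/-- **abstract form**: if `xy = 0` and both `A ⧸ (x)` and `A ⧸ (y)` are principal ideal domains (and neither of
`x`, `y` divides the other), then `K₀` of the finitely generated `A`-modules is free on `[A ⧸ (x)]`, `[A ⧸ (y)]` -/
theorem node_bijective [IsNoetherianRing A] (x y : A) (hxy : x * y = 0)
    [IsDomain (A ⧸ Ideal.span {x})] [IsPrincipalIdealRing (A ⧸ Ideal.span {x})]
    [IsDomain (A ⧸ Ideal.span {y})] [IsPrincipalIdealRing (A ⧸ Ideal.span {y})]
    (hyx : y ∉ Ideal.span {x}) (hxy' : x ∉ Ideal.span {y}) :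
    Function.Bijective (fun p : ℤ × ℤ =>
      p.1 • cm (A := A) (A ⧸ Ideal.span {x}) + p.2 • cm (A := A) (A ⧸ Ideal.span {y})) := by
  haveI hpx : (Ideal.span {x}).IsPrime := (Ideal.Quotient.isDomain_iff_prime _).1 inferInstance
  haveI hpy : (Ideal.span {y}).IsPrime := (Ideal.Quotient.isDomain_iff_prime _).1 inferInstance
  have hyx0 : y * x = 0 := by rw [mul_comm]; exact hxy
  have kx : ∀ n : A ⧸ Ideal.span {x}, x • n = 0 := by
    intro n
    obtain ⟨a, rfl⟩ := Ideal.Quotient.mk_surjective n
    change Ideal.Quotient.mk _ (x * a) = 0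
    rw [Ideal.Quotient.eq_zero_iff_mem]
    exact Ideal.mul_mem_right _ _ (Ideal.mem_span_singleton_self x)
  have ky : ∀ n : A ⧸ Ideal.span {y}, y • n = 0 := by
    intro n
    obtain ⟨a, rfl⟩ := Ideal.Quotient.mk_surjective n
    change Ideal.Quotient.mk _ (y * a) = 0
    rw [Ideal.Quotient.eq_zero_iff_mem]
    exact Ideal.mul_mem_right _ _ (Ideal.mem_span_singleton_self y)
  constructor
  · rintro ⟨a, b⟩ ⟨a', b'⟩ h
    simp only at h
    have h1 := congrArg (rk (Ideal.span {x}) hxy rfl hyx) h
    have h2 := congrArg (rk (Ideal.span {y}) hyx0 rfl hxy') h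
    simp only [map_add, map_zsmul, rk_cm_quot, rk_cm_eq_zero _ hxy rfl hyx _ ky,
      rk_cm_eq_zero _ hyx0 rfl hxy' _ kx, smul_eq_mul, mul_one, mul_zero, add_zero, zero_add] at h1 h2
    rw [h1, h2]
  · intro c
    have hc : c ∈ AddSubgroup.closure {cm (A := A) (A ⧸ Ideal.span {x}), cm (A := A) (A ⧸ Ideal.span {y})} := by
      apply mem_of_primes
      intro q
      have hq : x * y ∈ q.asIdeal := by rw [hxy]; exact Ideal.zero_mem _
      rcases q.isPrime.mem_or_mem hq with h | h
      · have := cm_quot_prime_mem x q.asIdeal h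
        rw [AddSubgroup.zmultiples_eq_closure] at this
        exact AddSubgroup.closure_mono (by simp) this
      · have := cm_quot_prime_mem y q.asIdeal h
        rw [AddSubgroup.zmultiples_eq_closure] at this
        exact AddSubgroup.closure_mono (by simp) this
    obtain ⟨m, n, h⟩ := AddSubgroup.mem_closure_pair.1 hc
    exact ⟨(m, n), h⟩


end rank

end Groth.Agent.Lib.Helper6.K0Node
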