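import Groth.Agent.Lib.Helper6.K0Node
import Mathlib
set_option backward.isDefEq.respectTransparency.types false
set_option autoImplicit false
set_option linter.style.haveILetI false

/-!
# The ring `k[x, y]/(xy)`: its two axes are polynomial rings
-/

universe u
open CategoryTheory CategoryTheory.Limits KZero

namespace Groth.Agent.Lib.Helper6.K0NodeRing

variable (k : Type u) [Field k]

/-- the node ideal -/
noncomputable abbrev J : Ideal (MvPolynomial (Fin 2) k) :=
  Ideal.span {(MvPolynomial.X 0 * MvPolynomial.X 1 : MvPolynomial (Fin 2) k)}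

/-- the coordinate ring of the node -/
abbrev R : Type u := MvPolynomial (Fin 2) k ⧸ J k

variable {k}

/-- the coordinate functions -/
noncomputable abbrev xx (i : Fin 2) : R k := Ideal.Quotient.mk (J k) (MvPolynomial.X i)

theorem xx_mul : xx (k := k) 0 * xx 1 = 0 := by
  change Ideal.Quotient.mk (J k) (MvPolynomial.X 0 * MvPolynomial.X 1) = 0
  rw [Ideal.Quotient.eq_zero_iff_mem]
  exact Ideal.mem_span_singleton_self _

/-- evaluation killing the `i`-th coordinate -/
noncomputable def phi (i : Fin 2) : MvPolynomial (Fin 2) k →ₐ[k] Polynomial k :=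
  MvPolynomial.aeval (fun l => if l = i then 0 else Polynomial.X)

theorem phi_J (i : Fin 2) (a : MvPolynomial (Fin 2) k) (ha : a ∈ J k) : phi i a = 0 := by
  obtain ⟨c, rfl⟩ := Ideal.mem_span_singleton'.1 ha
  rw [map_mul, map_mul]
  fin_cases i
  · simp [phi]
  · simp [phi]

/-- evaluation on the node ring -/
noncomputable def phiB (i : Fin 2) : R k →+* Polynomial k :=
  Ideal.Quotient.lift (J k) (phi i).toRingHom (phi_J i)

theorem phiB_xx (i l : Fin 2) : phiB (k := k) i (xx l) = if l = i then 0 else Polynomial.X := by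
  change (phi i) (MvPolynomial.X l) = _
  simp [phi]

/-- the `i`-th axis ring -/
abbrev Bq (i : Fin 2) : Type u := R k ⧸ Ideal.span {xx (k := k) i}

variable (k) in
/-- evaluation on the axis ring -/
noncomputable def phiBB (i : Fin 2) : Bq (k := k) i →+* Polynomial k :=
  Ideal.Quotient.lift (Ideal.span {xx (k := k) i}) (phiB i) (by
    intro a ha
    obtain ⟨c, rfl⟩ := Ideal.mem_span_singleton'.1 ha
    rw [map_mul, phiB_xx, if_pos rfl, mul_zero])

variable (k) in
/-- the parametrization of the axis -/
noncomputable def psi (i j : Fin 2) : Polynomial k →+* Bq (k := k) i :=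
  (Polynomial.aeval (Ideal.Quotient.mk (Ideal.span {xx (k := k) i}) (xx j))).toRingHom

theorem phiBB_psi (i j : Fin 2) (hij : j ≠ i) : (phiBB k i).comp (psi k i j) = RingHom.id _ := by
  apply Polynomial.ringHom_ext
  · intro a
    change phiBB k i (Polynomial.aeval _ (Polynomial.C a)) = Polynomial.C a
    rw [Polynomial.aeval_C]
    change (phi i) (MvPolynomial.C a) = Polynomial.C a
    simp [phi]
  · change phiBB k i (Polynomial.aeval _ Polynomial.X) = Polynomial.X
    rw [Polynomial.aeval_X]
    change phiB i (xx j) = Polynomial.X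
    rw [phiB_xx, if_neg hij]

theorem psi_phiBB (i j : Fin 2) (hij : j ≠ i) : (psi k i j).comp (phiBB k i) = RingHom.id _ := by
  apply Ideal.Quotient.ringHom_ext
  apply Ideal.Quotient.ringHom_ext
  apply MvPolynomial.ringHom_ext
  · intro a
    change psi k i j ((phi i) (MvPolynomial.C a)) = _
    have : (phi (k := k) i) (MvPolynomial.C a) = Polynomial.C a := by simp [phi]
    rw [this]
    change Polynomial.aeval _ (Polynomial.C a) = _
    rw [Polynomial.aeval_C]
    rfl
  · intro l
    change psi k i j (phiB i (xx l)) = Ideal.Quotient.mk _ (xx l)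
    rw [phiB_xx]
    by_cases hl : l = i
    · subst hl
      rw [if_pos rfl, map_zero]
      symm
      rw [Ideal.Quotient.eq_zero_iff_mem]
      exact Ideal.mem_span_singleton_self _
    · rw [if_neg hl]
      have hlj : l = j := by
        fin_cases i <;> fin_cases j <;> fin_cases l <;> simp_all
      subst hlj
      change Polynomial.aeval _ Polynomial.X = _
      rw [Polynomial.aeval_X]

/-- the axis ring is a polynomial ring in one variable -/
noncomputable def axisEquiv (i j : Fin 2) (hij : j ≠ i) : Bq (k := k) i ≃+* Polynomial k :=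
  RingEquiv.ofRingHom (phiBB k i) (psi k i j) (phiBB_psi i j hij) (psi_phiBB i j hij)

theorem isDomain_Bq (i j : Fin 2) (hij : j ≠ i) : IsDomain (Bq (k := k) i) :=
  MulEquiv.isDomain (Polynomial k) (axisEquiv i j hij).toMulEquiv

theorem isPrincipalIdealRing_Bq (i j : Fin 2) (hij : j ≠ i) : IsPrincipalIdealRing (Bq (k := k) i) :=
  IsPrincipalIdealRing.of_surjective ((axisEquiv (k := k) i j hij).symm : Polynomial k →+* Bq (k := k) i)
    (axisEquiv (k := k) i j hij).symm.surjective

theorem xx_notMem (i j : Fin 2) (hij : j ≠ i) : xx (k := k) j ∉ Ideal.span {xx (k := k) i} := by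
  intro h
  have h1 := Ideal.mem_map_of_mem (phiB (k := k) i) h
  rw [Ideal.map_span, Set.image_singleton, phiB_xx, phiB_xx, if_pos rfl, if_neg hij,
    Ideal.span_singleton_eq_bot.2 rfl, Ideal.mem_bot] at h1
  exact Polynomial.X_ne_zero h1

end Groth.Agent.Lib.Helper6.K0NodeRing
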