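import Groth.Agent.Lib.Helper6.K0Heller
import Mathlib
set_option backward.isDefEq.respectTransparency.types false
set_option autoImplicit false
set_option linter.style.haveILetI false

/-!
# Two-periodic complexes realizing relations in `K₀`
-/

universe v u
open CategoryTheory CategoryTheory.Limits KZero ZeroObject

namespace Groth.Agent.Lib.Helper6.K0Periodic
open Groth.Agent.Lib.Helper6.K0Full Groth.Agent.Lib.Helper6.K0Heller

variable {A : Type u} [Category.{v} A] [Abelian A]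

/-- the complex `X₂ → X₁ ⊞ X₃ → X₂` attached to a short complex -/
noncomputable def E₁ (S : ShortComplex A) : ShortComplex A :=
  ShortComplex.mk (biprod.lift 0 S.g : S.X₂ ⟶ S.X₁ ⊞ S.X₃) (biprod.desc S.f 0 : S.X₁ ⊞ S.X₃ ⟶ S.X₂) (by
    rw [biprod.lift_desc]; simp)

/-- the complex `X₁ ⊞ X₃ → X₂ → X₁ ⊞ X₃` attached to a short complex -/
noncomputable def E₂ (S : ShortComplex A) : ShortComplex A :=
  ShortComplex.mk (biprod.desc S.f 0 : S.X₁ ⊞ S.X₃ ⟶ S.X₂) (biprod.lift 0 S.g : S.X₂ ⟶ S.X₁ ⊞ S.X₃) (by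
    ext <;> simp)

theorem E₁_exact (S : ShortComplex A) (hS : S.ShortExact) : (E₁ S).Exact := by
  haveI := hS.mono_f
  haveI := hS.epi_g
  rw [ShortComplex.exact_iff_exact_up_to_refinements]
  intro T x hx
  have key : ∀ (x : T ⟶ S.X₁ ⊞ S.X₃), x ≫ biprod.desc S.f 0 = 0 →
      ∃ (T' : A) (π : T' ⟶ T) (_ : Epi π) (y : T' ⟶ S.X₂), π ≫ x = y ≫ biprod.lift 0 S.g := by
    intro x hx
    have h1 : (x ≫ biprod.fst) ≫ S.f = 0 := by
      have : x = biprod.lift (x ≫ biprod.fst) (x ≫ biprod.snd) := by ext <;> simp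
      rw [this, biprod.lift_desc] at hx
      simpa using hx
    have h2 : x ≫ biprod.fst = 0 := by rw [← cancel_mono S.f, h1, zero_comp]
    obtain ⟨T', π, hπ, y, hy⟩ := surjective_up_to_refinements_of_epi S.g (x ≫ biprod.snd)
    refine ⟨T', π, hπ, y, ?_⟩
    ext
    · simp [h2]
    · simp [hy]
  exact key x hx

theorem E₂_exact (S : ShortComplex A) (hS : S.ShortExact) : (E₂ S).Exact := by
  rw [ShortComplex.exact_iff_exact_up_to_refinements]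
  intro T x hx
  have key : ∀ (x : T ⟶ S.X₂), x ≫ (biprod.lift 0 S.g : S.X₂ ⟶ S.X₁ ⊞ S.X₃) = 0 →
      ∃ (T' : A) (π : T' ⟶ T) (_ : Epi π) (y : T' ⟶ S.X₁ ⊞ S.X₃), π ≫ x = y ≫ biprod.desc S.f 0 := by
    intro x hx
    have h1 : x ≫ S.g = 0 := by
      have := congrArg (fun k => k ≫ biprod.snd) hx
      simpa using this
    obtain ⟨T', π, hπ, y, hy⟩ := hS.exact.exact_up_to_refinements x h1
    refine ⟨T', π, hπ, y ≫ biprod.inl, ?_⟩
    rw [Category.assoc, biprod.inl_desc]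
    exact hy
  exact key x hx

/-- the complex with zero differentials -/
noncomputable def Z (X Y : A) : ShortComplex A := ShortComplex.mk (0 : X ⟶ Y) (0 : Y ⟶ X) zero_comp

theorem mk_homology_Z (X Y : A) : mk (Z X Y).homology = mk Y :=
  mk_eq_iff.2 ⟨(ShortComplex.HomologyData.ofZeros (Z X Y) rfl rfl).left.homologyIso⟩

theorem mk_homology_of_exact (S : ShortComplex A) (h : S.Exact) : mk S.homology = 0 :=
  mk_of_isZero ((ShortComplex.exact_iff_isZero_homology S).1 h)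

/-- gluing a pair of opposite maps with vanishing composites along an isomorphism into a 2-periodic complex -/
theorem glue {M₁ M₂ : A} (a : M₁ ⟶ M₂) (b : M₂ ⟶ M₁) (hab : a ≫ b = 0) (hba : b ≫ a = 0) (θ : M₁ ≅ M₂) :
    ∃ (φ ψ : M₁ ⟶ M₁) (h₁ : φ ≫ ψ = 0) (h₂ : ψ ≫ φ = 0),
      Nonempty ((ShortComplex.mk φ ψ h₁).homology ≅ (ShortComplex.mk b a hba).homology) ∧
        Nonempty ((ShortComplex.mk ψ φ h₂).homology ≅ (ShortComplex.mk a b hab).homology) := by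
  have h₁ : (θ.hom ≫ b) ≫ (a ≫ θ.inv) = 0 := by
    rw [Category.assoc, ← Category.assoc b, hba, zero_comp, comp_zero]
  have h₂ : (a ≫ θ.inv) ≫ (θ.hom ≫ b) = 0 := by
    rw [Category.assoc, Iso.inv_hom_id_assoc, hab]
  refine ⟨θ.hom ≫ b, a ≫ θ.inv, h₁, h₂, ⟨?_⟩, ⟨?_⟩⟩
  · exact ShortComplex.homologyMapIso
      (ShortComplex.isoMk θ (Iso.refl _) θ (by simp) (by simp) :
        ShortComplex.mk (θ.hom ≫ b) (a ≫ θ.inv) h₁ ≅ ShortComplex.mk b a hba)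
  · exact ShortComplex.homologyMapIso
      (ShortComplex.isoMk (Iso.refl _) θ (Iso.refl _) (by simp) (by simp) :
        ShortComplex.mk (a ≫ θ.inv) (θ.hom ≫ b) h₂ ≅ ShortComplex.mk a b hab)

/-- **realization**: related isomorphism classes are the two homology objects of a 2-periodic complex -/
theorem exists_periodic (C₁ C₂ : A) (h : Rel (mk C₁) (mk C₂)) :
    ∃ (M : A) (φ ψ : M ⟶ M) (h₁ : φ ≫ ψ = 0) (h₂ : ψ ≫ φ = 0),
      Nonempty ((ShortComplex.mk φ ψ h₁).homology ≅ C₁) ∧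
        Nonempty ((ShortComplex.mk ψ φ h₂).homology ≅ C₂) := by
  obtain ⟨P, N, hP, hN, h⟩ := h
  let SA : ShortComplex A := sumSC (sumSC (Z C₂ C₁) (E₁ P)) (E₂ N)
  let SB : ShortComplex A := sumSC (sumSC (Z C₁ C₂) (E₂ P)) (E₁ N)
  let M₁ : A := (C₁ ⊞ (P.X₁ ⊞ P.X₃)) ⊞ N.X₂
  let M₂ : A := (C₂ ⊞ P.X₂) ⊞ (N.X₁ ⊞ N.X₃)
  let a : M₁ ⟶ M₂ := SA.g
  let b : M₂ ⟶ M₁ := SA.f
  have hab : a ≫ b = 0 := SB.zero
  have hba : b ≫ a = 0 := SA.zero
  have hM : mk M₁ = mk M₂ := by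
    change mk C₁ + (mk P.X₁ + mk P.X₃) + mk N.X₂ = mk C₂ + mk P.X₂ + (mk N.X₁ + mk N.X₃)
    calc mk C₁ + (mk P.X₁ + mk P.X₃) + mk N.X₂ = mk C₁ + mk P.X₁ + mk P.X₃ + mk N.X₂ := by abel
      _ = mk C₂ + mk P.X₂ + mk N.X₁ + mk N.X₃ := h
      _ = mk C₂ + mk P.X₂ + (mk N.X₁ + mk N.X₃) := by abel
  obtain ⟨θ⟩ := mk_eq_iff.1 hM
  have hA : mk (ShortComplex.mk b a hba).homology = mk C₁ := by
    change mk (sumSC (sumSC (Z C₂ C₁) (E₁ P)) (E₂ N)).homology = mk C₁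
    rw [mk_homology_sumSC, mk_homology_sumSC, mk_homology_Z, mk_homology_of_exact _ (E₁_exact P hP),
      mk_homology_of_exact _ (E₂_exact N hN), add_zero, add_zero]
  have hB : mk (ShortComplex.mk a b hab).homology = mk C₂ := by
    change mk (sumSC (sumSC (Z C₁ C₂) (E₂ P)) (E₁ N)).homology = mk C₂
    rw [mk_homology_sumSC, mk_homology_sumSC, mk_homology_Z, mk_homology_of_exact _ (E₂_exact P hP),
      mk_homology_of_exact _ (E₁_exact N hN), add_zero, add_zero]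
  obtain ⟨φ, ψ, h₁, h₂, ⟨e₁⟩, ⟨e₂⟩⟩ := glue a b hab hba θ
  obtain ⟨e₁'⟩ := mk_eq_iff.1 hA
  obtain ⟨e₂'⟩ := mk_eq_iff.1 hB
  exact ⟨M₁, φ, ψ, h₁, h₂, ⟨e₁ ≪≫ e₁'⟩, ⟨e₂ ≪≫ e₂'⟩⟩

end Groth.Agent.Lib.Helper6.K0Periodic
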