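import Groth.Agent.Lib.Helper6.K0Full
import Groth.Agent.Lib.Helper6.K0Abs
import Groth.Agent.Lib.Helper6.K0Periodic
import Mathlib
set_option backward.isDefEq.respectTransparency.types false
set_option autoImplicit false
set_option linter.style.haveILetI false

/-!
# The exact sequence `K₀(P) → K₀(A) → K₀(A/P) → 0` for a Serre class
-/

universe v v' u u'
open CategoryTheory CategoryTheory.Limits KZero ZeroObject

namespace Groth.Agent.Lib.Helper6.K0Serre
open Groth.Agent.Lib.Helper16.K0Db Groth.Agent.Lib.Helper6.K0Full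

variable {A : Type u} [Category.{v} A] [Abelian A] (P : ObjectProperty A) [P.IsSerreClass]
  {Q : Type u'} [Category.{v'} Q] [Abelian Q]
  (L : A ⥤ Q) [L.IsLocalization P.isoModSerre] [L.Additive] [PreservesFiniteLimits L] [PreservesFiniteColimits L]

/-- the map induced by the inclusion -/
noncomputable def iota : K0sub P →+ K0 A :=
  liftSub P (fun X => cl X) (fun S hS _ _ _ => cl_shortExact S hS)

theorem iota_clSub (X : A) (hX : P X) : iota P (clSub P X) = cl X :=
  liftSub_clSub P _ _ X hX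

/-- the map induced by the localization functor -/
noncomputable def lam : K0 A →+ K0 Q :=
  lift (fun X => cl (L.obj X)) (fun S hS => cl_shortExact _ (hS.map_of_exact L))

theorem lam_cl (X : A) : lam L (cl X) = cl (L.obj X) := lift_cl _ _ X

theorem cl_sub_mem_range {X Y : A} (g : X ⟶ Y) (hg : P.isoModSerre g) : cl X - cl Y ∈ (iota P).range := by
  rw [cl_sub_eq g]
  exact AddSubgroup.sub_mem _ ⟨clSub P (kernel g), iota_clSub P _ hg.1⟩ ⟨clSub P (cokernel g), iota_clSub P _ hg.2⟩

include L in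
theorem range_le_ker : (iota P).range ≤ (lam L).ker := by
  rintro c ⟨d, rfl⟩
  rw [AddMonoidHom.mem_ker]
  induction d using Groth.Agent.Lib.Helper6.K0Abs.K0sub_induction with
  | h0 => simp
  | hof M hM =>
    rw [iota_clSub P M hM, lam_cl]
    exact cl_isZero _ ((ObjectProperty.SerreClassLocalization.isZero_obj_iff L P M).2 hM)
  | hneg c ih => rw [map_neg, map_neg, ih, neg_zero]
  | hadd c d ihc ihd => rw [map_add, map_add, ihc, ihd, add_zero]

theorem part1 : Function.Surjective (lam L) ∧ (lam L).ker = (iota P).range := by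
  haveI : L.EssSurj := Localization.essSurj L P.isoModSerre
  refine localization L (lam L) (lam_cl L) _ ?_ ?_ ?_ (range_le_ker P L)
  · intro G
    exact ⟨L.objPreimage G, ⟨L.objObjPreimageIso G⟩⟩
  · rintro F F' ⟨φ⟩
    obtain ⟨z, hz⟩ := Localization.exists_leftFraction L P.isoModSerre φ.hom
    haveI : IsIso (L.map z.s) := Localization.inverts L P.isoModSerre _ z.hs
    have h1 : L.map z.f = φ.hom ≫ L.map z.s := by
      rw [hz, MorphismProperty.LeftFraction.map_comp_map_s]
    have h2 : IsIso (L.map z.f) := by rw [h1]; infer_instance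
    have h3 : P.isoModSerre z.f := (ObjectProperty.SerreClassLocalization.isIso_map_iff L P z.f).1 h2
    have k1 := cl_sub_mem_range P z.f h3
    have k2 := cl_sub_mem_range P z.s z.hs
    have : cl F - cl F' = (cl F - cl z.Y') - (cl F' - cl z.Y') := by abel
    rw [this]
    exact AddSubgroup.sub_mem _ k1 k2
  · intro S hS
    haveI := hS.mono_f
    let e₁ := L.objObjPreimageIso S.X₁
    let e₂ := L.objObjPreimageIso S.X₂
    obtain ⟨z, hz⟩ := Localization.exists_leftFraction L P.isoModSerre (e₁.hom ≫ S.f ≫ e₂.inv)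
    haveI : IsIso (L.map z.s) := Localization.inverts L P.isoModSerre _ z.hs
    have h1 : L.map z.f = (e₁.hom ≫ S.f ≫ e₂.inv) ≫ L.map z.s := by
      rw [hz, MorphismProperty.LeftFraction.map_comp_map_s]
    haveI : Mono (L.map z.f) := by
      rw [h1]
      infer_instance
    -- the lifted sequence `0 → im f → Y' → coker f → 0`
    have hT : (ShortComplex.mk (kernel.ι (cokernel.π z.f)) (cokernel.π z.f) (kernel.condition _)).ShortExact :=
      { exact := ShortComplex.exact_kernel _
        mono_f := inferInstanceAs (Mono (kernel.ι (cokernel.π z.f)))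
        epi_g := inferInstanceAs (Epi (cokernel.π z.f)) }
    refine ⟨_, hT, ⟨?_⟩, ⟨?_⟩, ⟨?_⟩⟩
    · -- `L (im f) ≅ L F₁ ≅ S.X₁`
      have hfac : L.map (Abelian.factorThruImage z.f) ≫ L.map (Abelian.image.ι z.f) = L.map z.f := by
        rw [← L.map_comp, Abelian.image.fac]
      haveI : Mono (L.map (Abelian.factorThruImage z.f)) := by
        haveI : Mono (L.map (Abelian.factorThruImage z.f) ≫ L.map (Abelian.image.ι z.f)) := by
          rw [hfac]; infer_instance
        exact mono_of_mono _ (L.map (Abelian.image.ι z.f))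
      haveI : Epi (L.map (Abelian.factorThruImage z.f)) := inferInstance
      haveI : IsIso (L.map (Abelian.factorThruImage z.f)) := isIso_of_mono_of_epi _
      exact (asIso (L.map (Abelian.factorThruImage z.f))).symm ≪≫ e₁
    · exact (asIso (L.map z.s)).symm ≪≫ e₂
    · have c1 : L.obj (cokernel z.f) ≅ cokernel (L.map z.f) := PreservesCokernel.iso L z.f
      have c2 : cokernel (L.map z.f) ≅ cokernel S.f :=
        cokernel.mapIso _ _ e₁ ((asIso (L.map z.s)).symm ≪≫ e₂) (by
          rw [h1]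
          simp)
      have c3 : cokernel S.f ≅ S.X₃ :=
        IsColimit.coconePointUniqueUpToIso (colimit.isColimit _) hS.gIsCokernel
      exact c1 ≪≫ c2 ≪≫ c3

/-- every element of `K₀(P)` is a difference of two classes -/
theorem exists_clSub_sub (x : K0sub P) : ∃ C₁ C₂ : A, P C₁ ∧ P C₂ ∧ x = clSub P C₁ - clSub P C₂ := by
  induction x using Groth.Agent.Lib.Helper6.K0Abs.K0sub_induction with
  | h0 => exact ⟨0, 0, P.prop_zero, P.prop_zero, by rw [sub_self]⟩
  | hof F hF =>
    exact ⟨F, 0, hF, P.prop_zero, by rw [clSub_isZero P _ (isZero_zero A), sub_zero]⟩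
  | hneg c ih =>
    obtain ⟨C₁, C₂, h1, h2, rfl⟩ := ih
    exact ⟨C₂, C₁, h2, h1, by abel⟩
  | hadd c d ihc ihd =>
    obtain ⟨C₁, C₂, h1, h2, rfl⟩ := ihc
    obtain ⟨D₁, D₂, k1, k2, rfl⟩ := ihd
    have hb : ∀ X Y : A, P X → P Y → clSub P (X ⊞ Y) = clSub P X + clSub P Y := by
      intro X Y hX hY
      have hS : (ShortComplex.mk (biprod.inl : X ⟶ X ⊞ Y) (biprod.snd : X ⊞ Y ⟶ Y) (by simp)).ShortExact :=
        { exact := (ShortComplex.Splitting.ofHasBinaryBiproduct X Y).exact
          mono_f := inferInstanceAs (Mono (biprod.inl : X ⟶ X ⊞ Y))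
          epi_g := inferInstanceAs (Epi (biprod.snd : X ⊞ Y ⟶ Y)) }
      exact clSub_shortExact P _ hS hX (P.prop_biprod hX hY) hY
    refine ⟨C₁ ⊞ D₁, C₂ ⊞ D₂, P.prop_biprod h1 k1, P.prop_biprod h2 k2, ?_⟩
    rw [hb _ _ h1 k1, hb _ _ h2 k2]
    abel

/-- **part (2)**: the kernel of `K₀(P) → K₀(A)` consists of the Euler characteristics of 2-periodic complexes with
homology in `P` -/
theorem part2 (x : K0sub P) : iota P x = 0 ↔
    ∃ (M : A) (φ ψ : M ⟶ M) (h₁ : φ ≫ ψ = 0) (h₂ : ψ ≫ φ = 0),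
      P (ShortComplex.mk φ ψ h₁).homology ∧ P (ShortComplex.mk ψ φ h₂).homology ∧
      x = clSub P (ShortComplex.mk φ ψ h₁).homology - clSub P (ShortComplex.mk ψ φ h₂).homology := by
  constructor
  · intro hx
    obtain ⟨C₁, C₂, p1, p2, rfl⟩ := exists_clSub_sub P x
    rw [map_sub, iota_clSub P _ p1, iota_clSub P _ p2, sub_eq_zero] at hx
    obtain ⟨M, φ, ψ, h₁, h₂, ⟨e₁⟩, ⟨e₂⟩⟩ :=
      Groth.Agent.Lib.Helper6.K0Periodic.exists_periodic C₁ C₂ (Groth.Agent.Lib.Helper6.K0Heller.heller hx)
    refine ⟨M, φ, ψ, h₁, h₂, P.prop_of_iso e₁.symm p1, P.prop_of_iso e₂.symm p2, ?_⟩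
    rw [clSub_iso P e₁, clSub_iso P e₂]
  · rintro ⟨M, φ, ψ, h₁, h₂, p1, p2, rfl⟩
    rw [map_sub, iota_clSub P _ p1, iota_clSub P _ p2, cl_homology, cl_homology]
    dsimp
    abel

end Groth.Agent.Lib.Helper6.K0Serre
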