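import Groth.Agent.Lib.Helper6.K0Abs
import Groth.Agent.Lib.Helper6.K0Full
import Groth.Agent.Lib.Helper6.K0Euler
import Mathlib

/-!
# `K₀` of an exhaustive tower of subcategories; Euler characteristic with prescribed cycles (helper6)
-/

set_option backward.isDefEq.respectTransparency.types false
set_option autoImplicit false
set_option linter.style.haveILetI false
set_option linter.unusedSectionVars false
set_option linter.unusedVariables false

universe v u

open CategoryTheory Limits HomologicalComplex KZero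

namespace Groth.Agent.Lib.Helper6.K0Tower

open Groth.Agent.Lib.Helper16.K0Db Groth.Agent.Lib.Helper6.K0Abs Groth.Agent.Lib.Helper6.K0Full

variable {𝒜 : Type u} [Category.{v} 𝒜] [Abelian 𝒜]

/-- homomorphisms out of `K0sub P` agreeing on the classes agree -/
theorem K0sub_hom_ext (P : ObjectProperty 𝒜) {G : Type*} [AddCommGroup G] (f g : K0sub P →+ G)
    (h : ∀ F, P F → f (clSub P F) = g (clSub P F)) : f = g := by
  refine DFunLike.ext _ _ (fun c => ?_)
  induction c using K0sub_induction P with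
  | h0 => rw [map_zero, map_zero]
  | hof F hF => exact h F hF
  | hneg c ih => rw [map_neg, map_neg, ih]
  | hadd c d ihc ihd => rw [map_add, map_add, ihc, ihd]

section Euler

variable (P : ObjectProperty 𝒜)

/-- the alternating sum of the classes of the terms of a bounded acyclic complex vanishes, as soon as the terms
and the cycle objects satisfy `P` -/
theorem euler_acyclic_of_cycles (hzero : ∀ X : 𝒜, IsZero X → P X)
    (C : CochainComplex 𝒜 ℤ) (hC : C.Acyclic) (N : ℕ)
    (hlow : IsZero (C.X (-((N + 1 : ℕ) : ℤ)))) (hhigh : IsZero (C.X 1))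
    (hP : ∀ j : ℕ, j ≤ N → P (C.X (-(j : ℤ))))
    (hZ : ∀ j : ℕ, j ≤ N → P (C.cycles (-(j : ℤ)))) :
    ∑ j ∈ Finset.range (N + 1), (-1 : ℤ) ^ j • clSub P (C.X (-(j : ℤ))) = 0 := by
  have hZ1 : IsZero (C.cycles (0 + 1)) := IsZero.of_mono (C.iCycles _) (by simpa using hhigh)
  have hses : ∀ j : ℕ, j + 1 ≤ N →
      clSub P (C.X (-((j + 1 : ℕ) : ℤ))) =
        clSub P (C.cycles (-((j + 1 : ℕ) : ℤ))) + clSub P (C.cycles (-(j : ℤ))) := by
    intro j hj
    have hS := Leray.cyclesSC_shortExact C hC (-((j + 1 : ℕ) : ℤ))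
    have e : (-((j + 1 : ℕ) : ℤ)) + 1 = -(j : ℤ) := by push_cast; ring
    have h3' : P (C.cycles ((-((j + 1 : ℕ) : ℤ)) + 1)) := by rw [e]; exact hZ j (by omega)
    have := clSub_shortExact P _ hS (hZ (j + 1) hj) (hP (j + 1) hj) h3'
    have this' : clSub P (C.X (-((j + 1 : ℕ) : ℤ))) =
        clSub P (C.cycles (-((j + 1 : ℕ) : ℤ))) + clSub P (C.cycles ((-((j + 1 : ℕ) : ℤ)) + 1)) := this
    rw [e] at this'
    exact this'
  have h0 : clSub P (C.X (-((0 : ℕ) : ℤ))) = clSub P (C.cycles (-((0 : ℕ) : ℤ))) := by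
    have hS := Leray.cyclesSC_shortExact C hC 0
    have h2 : P (C.X 0) := by simpa using hP 0 (Nat.zero_le _)
    have h1 : P (C.cycles 0) := by simpa using hZ 0 (Nat.zero_le _)
    have := clSub_shortExact P _ hS h1 h2 (hzero _ hZ1)
    have this' : clSub P (C.X 0) = clSub P (C.cycles 0) + clSub P (C.cycles (0 + 1)) := this
    rw [clSub_isZero P _ hZ1, add_zero] at this'
    simpa using this'
  have key : ∀ M : ℕ, M ≤ N →
      ∑ j ∈ Finset.range (M + 1), (-1 : ℤ) ^ j • clSub P (C.X (-(j : ℤ))) =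
        (-1 : ℤ) ^ M • clSub P (C.cycles (-(M : ℤ))) := by
    intro M
    induction M with
    | zero =>
      intro _
      rw [Finset.sum_range_one, pow_zero, one_smul, one_smul]
      exact h0
    | succ M ih =>
      intro hM
      have hsum := ih (by omega)
      have h2 := hses M hM
      rw [Finset.sum_range_succ, hsum, h2, smul_add, pow_succ, mul_neg_one, neg_smul, neg_smul]
      generalize ((-1 : ℤ) ^ M • clSub P (C.cycles (-(M : ℤ)))) = x
      generalize ((-1 : ℤ) ^ M • clSub P (C.cycles (-((M + 1 : ℕ) : ℤ)))) = y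
      abel
  have hZN : IsZero (C.cycles (-(N : ℤ))) := by
    have hS := Leray.cyclesSC_shortExact C hC (-((N + 1 : ℕ) : ℤ))
    have e : (-((N + 1 : ℕ) : ℤ)) + 1 = -(N : ℤ) := by push_cast; ring
    haveI : Epi (C.toCycles (-((N + 1 : ℕ) : ℤ)) ((-((N + 1 : ℕ) : ℤ)) + 1)) := hS.epi_g
    have h : IsZero (C.cycles ((-((N + 1 : ℕ) : ℤ)) + 1)) :=
      IsZero.of_epi (C.toCycles (-((N + 1 : ℕ) : ℤ)) ((-((N + 1 : ℕ) : ℤ)) + 1)) hlow
    rwa [e] at h
  rw [key N le_rfl, clSub_isZero P _ hZN, smul_zero]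

/-- cycle objects satisfy a property closed under kernels of epimorphisms (descending induction) -/
theorem cycles_mem_of_ker (hzero : ∀ X : 𝒜, IsZero X → P X)
    (hker : ∀ S : ShortComplex 𝒜, S.ShortExact → P S.X₂ → P S.X₃ → P S.X₁)
    (C : CochainComplex 𝒜 ℤ) (hC : C.Acyclic) (N : ℕ) (hhigh : IsZero (C.X 1))
    (hP : ∀ j : ℕ, j ≤ N → P (C.X (-(j : ℤ)))) :
    ∀ j : ℕ, j ≤ N → P (C.cycles (-(j : ℤ))) := by
  have hZ1 : IsZero (C.cycles (0 + 1)) := IsZero.of_mono (C.iCycles _) (by simpa using hhigh)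
  intro j
  induction j with
  | zero =>
    intro _
    have hS := Leray.cyclesSC_shortExact C hC 0
    have h2 : P (C.X 0) := by simpa using hP 0 (Nat.zero_le _)
    have h1 : P (C.cycles 0) := hker _ hS h2 (hzero _ hZ1)
    simpa using h1
  | succ j ih =>
    intro hj
    have hS := Leray.cyclesSC_shortExact C hC (-((j + 1 : ℕ) : ℤ))
    have e : (-((j + 1 : ℕ) : ℤ)) + 1 = -(j : ℤ) := by push_cast; ring
    have h3' : P (C.cycles ((-((j + 1 : ℕ) : ℤ)) + 1)) := by rw [e]; exact ih (by omega)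
    exact hker _ hS (hP (j + 1) hj) h3'

/-- cycle objects satisfy a property closed under cokernels of monomorphisms (ascending induction) -/
theorem cycles_mem_of_coker (hzero : ∀ X : 𝒜, IsZero X → P X)
    (hcoker : ∀ S : ShortComplex 𝒜, S.ShortExact → P S.X₁ → P S.X₂ → P S.X₃)
    (C : CochainComplex 𝒜 ℤ) (hC : C.Acyclic) (N : ℕ)
    (hlow : IsZero (C.X (-((N + 1 : ℕ) : ℤ))))
    (hP : ∀ j : ℕ, j ≤ N → P (C.X (-(j : ℤ)))) :
    ∀ j : ℕ, j ≤ N → P (C.cycles (-(j : ℤ))) := by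
  have hZN : IsZero (C.cycles (-(N : ℤ))) := by
    have hS := Leray.cyclesSC_shortExact C hC (-((N + 1 : ℕ) : ℤ))
    have e : (-((N + 1 : ℕ) : ℤ)) + 1 = -(N : ℤ) := by push_cast; ring
    haveI : Epi (C.toCycles (-((N + 1 : ℕ) : ℤ)) ((-((N + 1 : ℕ) : ℤ)) + 1)) := hS.epi_g
    have h : IsZero (C.cycles ((-((N + 1 : ℕ) : ℤ)) + 1)) :=
      IsZero.of_epi (C.toCycles (-((N + 1 : ℕ) : ℤ)) ((-((N + 1 : ℕ) : ℤ)) + 1)) hlow
    rwa [e] at h
  -- `P (Z^{-(N - d)})` by induction on `d`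
  have key : ∀ d : ℕ, d ≤ N → P (C.cycles (-((N - d : ℕ) : ℤ))) := by
    intro d
    induction d with
    | zero => intro _; exact hzero _ hZN
    | succ d ih =>
      intro hd
      have hS := Leray.cyclesSC_shortExact C hC (-((N - d : ℕ) : ℤ))
      have e : (-((N - d : ℕ) : ℤ)) + 1 = -((N - (d + 1) : ℕ) : ℤ) := by
        rw [Nat.cast_sub (by omega), Nat.cast_sub (by omega)]; push_cast; ring
      have h3 := hcoker _ hS (ih (by omega)) (hP (N - d) (by omega))
      have h3' : P (C.cycles ((-((N - d : ℕ) : ℤ)) + 1)) := h3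
      rwa [e] at h3'
  intro j hj
  have := key (N - j) (by omega)
  rwa [show N - (N - j) = j by omega] at this

end Euler

section Tower

variable (Q : ObjectProperty 𝒜) (R : ℕ → ObjectProperty 𝒜)
  (hmono : ∀ N X, R N X → R (N + 1) X) (hQ : ∀ N X, R N X → Q X)

/-- the transition maps of the tower -/
abbrev ι (N : ℕ) : K0sub (R N) →+ K0sub (R (N + 1)) :=
  SGA6.mapSub (𝟭 𝒜) (R N) (R (N + 1)) (hmono N)

/-- the maps to the ambient group -/
abbrev jj (N : ℕ) : K0sub (R N) →+ K0sub Q := SGA6.mapSub (𝟭 𝒜) (R N) Q (hQ N)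

/-- the composite transition maps from level `0` -/
noncomputable def up : ∀ N : ℕ, K0sub (R 0) →+ K0sub (R N)
  | 0 => AddMonoidHom.id _
  | N + 1 => (ι R hmono N).comp (up N)

theorem up_bijective (hbij : ∀ N, Function.Bijective (ι R hmono N)) :
    ∀ N, Function.Bijective (up R hmono N)
  | 0 => Function.bijective_id
  | N + 1 => (hbij N).comp (up_bijective hbij N)

include hmono in
theorem mono_le {N M : ℕ} (h : N ≤ M) (X : 𝒜) (hX : R N X) : R M X := by
  induction M, h using Nat.le_induction with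
  | base => exact hX
  | succ M _ ih => exact hmono M X ih

theorem jj_ι (N : ℕ) : (jj Q R hQ (N + 1)).comp (ι R hmono N) = jj Q R hQ N := by
  apply K0sub_hom_ext
  intro F hF
  rw [AddMonoidHom.comp_apply, mapSub_clSub _ _ _ _ F hF, mapSub_clSub _ _ _ _ F hF]
  exact mapSub_clSub (𝟭 𝒜) (R (N + 1)) Q (hQ (N + 1)) F (hmono N F hF)

theorem jj_up : ∀ N : ℕ, (jj Q R hQ N).comp (up R hmono N) = jj Q R hQ 0
  | 0 => rfl
  | N + 1 => by
    show ((jj Q R hQ (N + 1)).comp (ι R hmono N)).comp (up R hmono N) = _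
    rw [jj_ι, jj_up N]

/-- **`K₀` of an exhaustive tower** with bijective transition maps -/
theorem tower_bijective (hex : ∀ X, Q X → ∃ N, R N X)
    (hbij : ∀ N, Function.Bijective (ι R hmono N)) :
    Function.Bijective (SGA6.mapSub (𝟭 𝒜) (R 0) Q (hQ 0)) := by
  classical
  let e : ∀ N, K0sub (R 0) ≃+ K0sub (R N) := fun N =>
    AddEquiv.ofBijective (up R hmono N) (up_bijective R hmono hbij N)
  let g : ℕ → 𝒜 → K0sub (R 0) := fun N F => (e N).symm (clSub (R N) F)
  have hg1 : ∀ N F, R N F → g (N + 1) F = g N F := by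
    intro N F hF
    apply (e (N + 1)).injective
    show (e (N + 1)) ((e (N + 1)).symm _) = (ι R hmono N) ((e N) ((e N).symm _))
    rw [AddEquiv.apply_symm_apply, AddEquiv.apply_symm_apply]
    exact (mapSub_clSub (𝟭 𝒜) (R N) (R (N + 1)) (hmono N) F hF).symm
  have hg : ∀ N M F, N ≤ M → R N F → g M F = g N F := by
    intro N M F h hF
    induction M, h using Nat.le_induction with
    | base => rfl
    | succ M hM ih => rw [hg1 M F (mono_le R hmono hM F hF), ih]
  let f : 𝒜 → K0sub (R 0) := fun F => if h : ∃ N, R N F then g (Nat.find h) F else 0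
  have hf0 : ∀ N F, R N F → f F = g N F := by
    intro N F hF
    have h : ∃ N, R N F := ⟨N, hF⟩
    show (if h : ∃ N, R N F then g (Nat.find h) F else 0) = _
    rw [dif_pos h]
    exact (hg _ _ F (Nat.find_min' h hF) (Nat.find_spec h)).symm
  have hf : ∀ S : ShortComplex 𝒜, S.ShortExact → Q S.X₁ → Q S.X₂ → Q S.X₃ →
      f S.X₂ = f S.X₁ + f S.X₃ := by
    intro S hS h1 h2 h3
    obtain ⟨N₁, k₁⟩ := hex _ h1
    obtain ⟨N₂, k₂⟩ := hex _ h2
    obtain ⟨N₃, k₃⟩ := hex _ h3
    have m₁ := mono_le R hmono (le_max_left N₁ (max N₂ N₃)) _ k₁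
    have m₂ := mono_le R hmono ((le_max_left N₂ N₃).trans (le_max_right N₁ _)) _ k₂
    have m₃ := mono_le R hmono ((le_max_right N₂ N₃).trans (le_max_right N₁ _)) _ k₃
    rw [hf0 _ _ m₁, hf0 _ _ m₂, hf0 _ _ m₃]
    show (e _).symm _ = (e _).symm _ + (e _).symm _
    rw [← map_add, clSub_shortExact (R _) S hS m₁ m₂ m₃]
  let Φ : K0sub Q →+ K0sub (R 0) := liftSub Q f hf
  have h1 : Φ.comp (jj Q R hQ 0) = AddMonoidHom.id _ := by
    apply K0sub_hom_ext
    intro F hF
    rw [AddMonoidHom.comp_apply, mapSub_clSub _ _ _ _ F hF]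
    show Φ (clSub Q F) = clSub (R 0) F
    rw [liftSub_clSub Q f hf F (hQ 0 F hF), hf0 0 F hF]
    show (e 0).symm (clSub (R 0) F) = clSub (R 0) F
    apply (e 0).injective
    rw [AddEquiv.apply_symm_apply]
    rfl
  have h2 : (jj Q R hQ 0).comp Φ = AddMonoidHom.id _ := by
    apply K0sub_hom_ext
    intro F hF
    obtain ⟨N, hN⟩ := hex F hF
    rw [AddMonoidHom.comp_apply, liftSub_clSub Q f hf F hF, hf0 N F hN, ← jj_up Q R hmono hQ N]
    show (jj Q R hQ N) ((e N) ((e N).symm (clSub (R N) F))) = clSub Q F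
    rw [AddEquiv.apply_symm_apply]
    exact mapSub_clSub (𝟭 𝒜) (R N) Q (hQ N) F hN
  rw [Function.bijective_iff_has_inverse]
  exact ⟨Φ, fun x => DFunLike.congr_fun h1 x, fun x => DFunLike.congr_fun h2 x⟩

end Tower

end Groth.Agent.Lib.Helper6.K0Tower
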