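import Groth.Agent.Lib.Helper6.DerivedAdj
import Mathlib.Algebra.Homology.HomotopyCategory.KInjective
import Mathlib.Algebra.Homology.ShortComplex.ExactFunctor

/-!
# Right adjoints of exact functors preserve K-injective complexes (helper6)
-/

universe v v' u u'
open CategoryTheory Limits

namespace Groth.Agent.Lib.Helper6.KInjAdj

variable {A : Type u} {B : Type u'} [Category.{v} A] [Category.{v'} B] [Abelian A] [Abelian B]

lemma acyclic_map (L : A ⥤ B) [L.Additive] [L.PreservesHomology] (K : CochainComplex A ℤ)
    (hK : K.Acyclic) : ((L.mapHomologicalComplex (ComplexShape.up ℤ)).obj K).Acyclic := by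
  intro i
  rw [HomologicalComplex.exactAt_iff' _ (i - 1) i (i + 1) (by simp) (by simp)]
  have := (K.exactAt_iff' (i - 1) i (i + 1) (by simp) (by simp)).1 (hK i)
  exact this.map L

theorem isKInjective_map_of_adj {L : A ⥤ B} {R : B ⥤ A} (adj : L ⊣ R) [L.Additive] [R.Additive]
    (hL : ∀ K : CochainComplex A ℤ, K.Acyclic →
      ((L.mapHomologicalComplex (ComplexShape.up ℤ)).obj K).Acyclic)
    (I : CochainComplex B ℤ) [I.IsKInjective] :
    CochainComplex.IsKInjective ((R.mapHomologicalComplex (ComplexShape.up ℤ)).obj I) where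
  nonempty_homotopy_zero {K} f hK := by
    let adjc := DerivedAdj.adjCx adj (ComplexShape.up ℤ)
    let f' := (adjc.homEquiv K I).symm f
    have h' := CochainComplex.IsKInjective.homotopyZero f' (hL K hK)
    have hf : f = adjc.unit.app K ≫ (R.mapHomologicalComplex _).map f' := by
      have := Adjunction.homEquiv_unit adjc (X := K) (Y := I) (f := f')
      rw [← this]
      simp [f']
    exact ⟨(Homotopy.ofEq hf).trans (((R.mapHomotopy h').compLeft _).trans
      (Homotopy.ofEq (by simp)))⟩

end Groth.Agent.Lib.Helper6.KInjAdj
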