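import Mathlib

/-!
# The binomial recurrence `Σ_k (-1)^(n+1-k) C(n+1,k) e(y+k) = 0` (helper6)
-/

set_option autoImplicit false

open Finset

namespace Groth.Agent.Lib.Helper6.KRRBinom

/-- the `(n+1)`-st finite difference of `y ↦ C(y, n)` vanishes -/
theorem choose_rec (n y : ℕ) :
    ∑ k ∈ range (n + 2), ((-1 : ℤ) ^ (n + 1 - k) * ((n + 1).choose k : ℤ)) * ((y + k).choose n : ℤ) = 0 := by
  have h1 := fwdDiff_iter_eq_sum_shift (1 : ℕ) (fun x : ℕ => (x.choose n : ℤ)) (n + 1) y
  have h2 : (fwdDiff (1 : ℕ))^[n + 1] (fun x : ℕ => (x.choose n : ℤ)) = fun _ => 0 := by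
    rw [Function.iterate_succ_apply']
    have := fwdDiff_iter_choose 0 n
    simp only [add_zero, Nat.choose_zero_right, Nat.cast_one] at this
    rw [this]
    exact fwdDiff_const 1 (1 : ℤ)
  rw [h2] at h1
  simp only [smul_eq_mul, mul_one] at h1
  exact h1.symm

variable {M : Type*} [AddCommGroup M]

/-- the recurrence relation -/
def Rec (n : ℕ) (e : ℕ → M) : Prop :=
  ∀ y : ℕ, ∑ k ∈ range (n + 2), ((-1 : ℤ) ^ (n + 1 - k) * ((n + 1).choose k : ℤ)) • e (y + k) = 0

theorem rec_choose (n : ℕ) (u : M) : Rec n (fun y => (y.choose n : ℤ) • u) := by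
  intro y
  simp only [smul_smul]
  rw [← Finset.sum_smul, choose_rec, zero_smul]

theorem Rec.sub {n : ℕ} {e e' : ℕ → M} (h : Rec n e) (h' : Rec n e') : Rec n (fun y => e y - e' y) := by
  intro y
  simp only [smul_sub, Finset.sum_sub_distrib, h y, h' y, sub_zero]

/-- a solution vanishing on `[0, n]` vanishes -/
theorem Rec.eq_zero_up {n : ℕ} {e : ℕ → M} (h : Rec n e) (h0 : ∀ y, y ≤ n → e y = 0) : ∀ y, e y = 0 := by
  intro y
  induction y using Nat.strong_induction_on with
  | _ y ih =>
    by_cases hy : y ≤ n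
    · exact h0 y hy
    · obtain ⟨y₀, rfl⟩ : ∃ y₀, y = y₀ + (n + 1) := ⟨y - (n + 1), by omega⟩
      have := h y₀
      rw [Finset.sum_range_succ, Finset.sum_eq_zero (fun k hk => by
        rw [ih (y₀ + k) (by have := mem_range.1 hk; omega), smul_zero]), zero_add] at this
      simpa using this

/-- a solution vanishing on `[n, ∞)` vanishes -/
theorem Rec.eq_zero_down {n : ℕ} {e : ℕ → M} (h : Rec n e) (h0 : ∀ y, n ≤ y → e y = 0) : ∀ y, e y = 0 := by
  have key : ∀ d y : ℕ, y + d = n → e y = 0 := by
    intro d
    induction d using Nat.strong_induction_on with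
    | _ d ih =>
      intro y hyd
      by_cases hd : d = 0
      · exact h0 y (by omega)
      · have := h y
        rw [Finset.sum_range_succ', Finset.sum_eq_zero (fun k hk => by
          have hk' := mem_range.1 hk
          have : e (y + (k + 1)) = 0 := by
            by_cases hle : n ≤ y + (k + 1)
            · exact h0 _ hle
            · exact ih (d - (k + 1)) (by omega) (y + (k + 1)) (by omega)
          rw [this, smul_zero]), zero_add] at this
        simp only [Nat.sub_zero, Nat.choose_zero_right, Nat.cast_one, mul_one, add_zero] at this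
        rcases Nat.even_or_odd (n + 1) with hev | hodd
        · rw [hev.neg_one_pow, one_smul] at this
          exact this
        · rw [hodd.neg_one_pow, neg_smul, one_smul, neg_eq_zero] at this
          exact this
  intro y
  by_cases hy : n ≤ y
  · exact h0 y hy
  · exact key (n - y) y (by omega)

end Groth.Agent.Lib.Helper6.KRRBinom
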