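import Mathlib

/-!
# Koszul-type complexes by iterated mapping cones of natural transformations (helper6)

For an abelian category `𝒜`, an endofunctor `T` and natural transformations `τ k : 𝟭 ⟶ T`,
`K τ k : 𝒜 ⥤ CochainComplex 𝒜 ℤ` is defined by `K τ 0 = single₀` and
`K τ (k+1) G = cone (K τ k G ⟶ K τ k (T G))`.
-/

set_option autoImplicit false
set_option linter.style.haveILetI false
set_option linter.unusedSectionVars false
set_option linter.unusedVariables false

universe v u v' u'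

open CategoryTheory Limits CochainComplex HomComplex

namespace Groth.Agent.Lib.Helper6.KosCone

section Cone

variable {𝒜 : Type u} [Category.{v} 𝒜] [Abelian 𝒜]

/-- the cone of a quasi-isomorphism is acyclic -/
lemma acyclic_mappingCone_of_quasiIso {P Q : CochainComplex 𝒜 ℤ} (φ : P ⟶ Q) [hφ : QuasiIso φ] :
    (mappingCone φ).Acyclic := by
  rw [← HomotopyCategory.quotient_obj_mem_subcategoryAcyclic_iff_acyclic]
  have hT := HomotopyCategory.mappingCone_triangleh_distinguished φ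
  have h : (HomotopyCategory.subcategoryAcyclic 𝒜).trW
      ((HomotopyCategory.quotient _ _).map φ) := by
    rw [← HomotopyCategory.quasiIso_eq_trW_subcategoryAcyclic]
    exact (HomotopyCategory.quotient_map_mem_quasiIso_iff φ).2 hφ
  exact ((HomotopyCategory.subcategoryAcyclic 𝒜).trW_iff_of_distinguished _ hT).1 h

/-- a morphism between acyclic complexes is a quasi-isomorphism -/
lemma quasiIso_of_acyclic {P Q : CochainComplex 𝒜 ℤ} (φ : P ⟶ Q) (hP : P.Acyclic)
    (hQ : Q.Acyclic) : QuasiIso φ := by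
  rw [quasiIso_iff]
  intro i
  rw [quasiIsoAt_iff_isIso_homologyMap]
  exact ⟨0, (hP i).isZero_homology.eq_of_src _ _, (hQ i).isZero_homology.eq_of_src _ _⟩

lemma acyclic_of_iso {P Q : CochainComplex 𝒜 ℤ} (e : P ≅ Q) (hP : P.Acyclic) : Q.Acyclic :=
  fun i => (hP i).of_iso e

/-- the cone functor of a natural transformation between complex-valued functors -/
noncomputable def coneFunctor {P Q : 𝒜 ⥤ CochainComplex 𝒜 ℤ} (α : P ⟶ Q) :
    𝒜 ⥤ CochainComplex 𝒜 ℤ where
  obj G := mappingCone (α.app G)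
  map {G G'} f := mappingCone.map (α.app G) (α.app G') (P.map f) (Q.map f) (α.naturality f).symm
  map_id G := by
    have := mappingCone.map_id (α.app G)
    convert this <;> simp
  map_comp {G G' G''} f g := by
    have := mappingCone.map_comp (α.app G) (α.app G') (α.app G'') (P.map f) (Q.map f)
      (α.naturality f).symm (P.map g) (Q.map g) (α.naturality g).symm
    rw [← this]
    congr 1 <;> simp

end Cone

section K

variable {𝒜 : Type u} [Category.{v} 𝒜] [Abelian 𝒜] (T : 𝒜 ⥤ 𝒜) (τ : ℕ → (𝟭 𝒜 ⟶ T))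

/-- the iterated cone complexes -/
noncomputable def K : ℕ → (𝒜 ⥤ CochainComplex 𝒜 ℤ)
  | 0 => HomologicalComplex.single 𝒜 (ComplexShape.up ℤ) 0
  | k + 1 => coneFunctor (Functor.whiskerRight (τ k) (K k))

lemma K_succ_obj (k : ℕ) (G : 𝒜) :
    (K T τ (k + 1)).obj G = mappingCone ((K T τ k).map ((τ k).app G)) := rfl

lemma K_succ_map (k : ℕ) {G G' : 𝒜} (f : G ⟶ G') :
    (K T τ (k + 1)).map f = mappingCone.map ((K T τ k).map ((τ k).app G))
      ((K T τ k).map ((τ k).app G')) ((K T τ k).map f) ((K T τ k).map (T.map f))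
      ((Functor.whiskerRight (τ k) (K T τ k)).naturality f).symm := rfl

/-- iterated application of `T` (on the inside) -/
def Tpow : ℕ → 𝒜 → 𝒜
  | 0, G => G
  | a + 1, G => Tpow a (T.obj G)

/-- the terms of `K k G`: the term in degree `m` is built from `T^(k+m) G` -/
theorem prop_X (Q : 𝒜 → Prop) (hiso : ∀ X Y : 𝒜, (X ≅ Y) → Q X → Q Y)
    (hzero : ∀ X : 𝒜, IsZero X → Q X) (hbi : ∀ X Y : 𝒜, Q X → Q Y → Q (X ⊞ Y)) :
    ∀ (k : ℕ) (m : ℤ) (G : 𝒜),
      (∀ a : ℕ, (a : ℤ) = k + m → a ≤ k → Q (Tpow T a G)) → Q (((K T τ k).obj G).X m)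
  | 0, m, G, h => by
    by_cases hm : m = 0
    · subst hm
      exact hiso _ _ (HomologicalComplex.singleObjXSelf (ComplexShape.up ℤ) 0 G).symm
        (h 0 (by simp) le_rfl)
    · exact hzero _ (HomologicalComplex.isZero_single_obj_X (ComplexShape.up ℤ) 0 G m hm)
  | k + 1, m, G, h => by
    refine hiso _ _ (HomologicalComplex.homotopyCofiber.XIsoBiprod ((K T τ k).map ((τ k).app G)) m (m + 1) rfl).symm
      (hbi _ _ ?_ ?_)
    · exact prop_X Q hiso hzero hbi k (m + 1) G (fun a ha hak =>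
        h a (by push_cast; omega) (by omega))
    · exact prop_X Q hiso hzero hbi k m (T.obj G) (fun a ha hak =>
        h (a + 1) (by push_cast; omega) (by omega))

/-- the top term of `K k G` is `T^k G` -/
theorem nonempty_X_zero_iso : ∀ (k : ℕ) (G : 𝒜), Nonempty (((K T τ k).obj G).X 0 ≅ Tpow T k G)
  | 0, G => ⟨HomologicalComplex.singleObjXSelf (ComplexShape.up ℤ) 0 G⟩
  | k + 1, G => by
    obtain ⟨e⟩ := nonempty_X_zero_iso k (T.obj G)
    have hz : IsZero (((K T τ k).obj G).X (0 + 1)) :=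
      prop_X T τ IsZero (fun X Y e h => h.of_iso e.symm) (fun X h => h)
        (fun X Y hX hY => (biprod_isZero_iff X Y).2 ⟨hX, hY⟩) k (0 + 1) G
        (fun a ha hak => by omega)
    exact ⟨HomologicalComplex.homotopyCofiber.XIsoBiprod ((K T τ k).map ((τ k).app G)) 0 (0 + 1) rfl
      ≪≫ (isoZeroBiprod hz).symm ≪≫ e⟩

end K

section Phi

variable {𝒜 : Type u} [Category.{v} 𝒜] [Abelian 𝒜] {ℬ : Type u'} [Category.{v'} ℬ] [Abelian ℬ]
  (Φ : 𝒜 ⥤ ℬ) [Φ.Additive]

/-- a map of cones whose two components are `Φ`-isomorphisms is a `Φ`-isomorphism degreewise -/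
lemma isIso_map_mappingCone_map_f {P Q P' Q' : CochainComplex 𝒜 ℤ} (φ : P ⟶ Q) (φ' : P' ⟶ Q')
    (a : P ⟶ P') (b : Q ⟶ Q') (comm : φ ≫ b = a ≫ φ') (m : ℤ)
    (ha : IsIso (Φ.map (a.f (m + 1)))) (hb : IsIso (Φ.map (b.f m))) :
    IsIso (Φ.map ((mappingCone.map φ φ' a b comm).f m)) := by
  have e1 : (mappingCone.map φ φ' a b comm).f m ≫ (mappingCone.fst φ').1.v m (m + 1) rfl =
      (mappingCone.fst φ).1.v m (m + 1) rfl ≫ a.f (m + 1) := by
    simp [mappingCone.ext_from_iff _ (m + 1) m rfl, mappingCone.map]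
  have e2 : (mappingCone.map φ φ' a b comm).f m ≫ (mappingCone.snd φ').v m m (add_zero m) =
      (mappingCone.snd φ).v m m (add_zero m) ≫ b.f m := by
    simp [mappingCone.ext_from_iff _ (m + 1) m rfl, mappingCone.map]
  have e3 : (mappingCone.inl φ).v (m + 1) m (by omega) ≫ (mappingCone.map φ φ' a b comm).f m =
      a.f (m + 1) ≫ (mappingCone.inl φ').v (m + 1) m (by omega) := by
    simp [mappingCone.map]
  have e4 : (mappingCone.inr φ).f m ≫ (mappingCone.map φ φ' a b comm).f m =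
      b.f m ≫ (mappingCone.inr φ').f m := by
    simp [mappingCone.map]
  have id1 := mappingCone.id_X φ m (m + 1) rfl
  have id2 := mappingCone.id_X φ' m (m + 1) rfl
  have h1 : Φ.map ((mappingCone.map φ φ' a b comm).f m) ≫
      Φ.map ((mappingCone.fst φ').1.v m (m + 1) rfl) =
      Φ.map ((mappingCone.fst φ).1.v m (m + 1) rfl) ≫ Φ.map (a.f (m + 1)) := by
    rw [← Φ.map_comp, e1, Φ.map_comp]
  have h2 : Φ.map ((mappingCone.map φ φ' a b comm).f m) ≫
      Φ.map ((mappingCone.snd φ').v m m (add_zero m)) =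
      Φ.map ((mappingCone.snd φ).v m m (add_zero m)) ≫ Φ.map (b.f m) := by
    rw [← Φ.map_comp, e2, Φ.map_comp]
  have h3 : Φ.map ((mappingCone.inl φ).v (m + 1) m (by omega)) ≫
      Φ.map ((mappingCone.map φ φ' a b comm).f m) =
      Φ.map (a.f (m + 1)) ≫ Φ.map ((mappingCone.inl φ').v (m + 1) m (by omega)) := by
    rw [← Φ.map_comp, e3, Φ.map_comp]
  have h4 : Φ.map ((mappingCone.inr φ).f m) ≫ Φ.map ((mappingCone.map φ φ' a b comm).f m) =
      Φ.map (b.f m) ≫ Φ.map ((mappingCone.inr φ').f m) := by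
    rw [← Φ.map_comp, e4, Φ.map_comp]
  have i1 : Φ.map ((mappingCone.fst φ).1.v m (m + 1) rfl) ≫
      Φ.map ((mappingCone.inl φ).v (m + 1) m (by omega)) +
      Φ.map ((mappingCone.snd φ).v m m (add_zero m)) ≫ Φ.map ((mappingCone.inr φ).f m) = 𝟙 _ := by
    rw [← Φ.map_comp, ← Φ.map_comp, ← Φ.map_add, id1, Φ.map_id]
  have i2 : Φ.map ((mappingCone.fst φ').1.v m (m + 1) rfl) ≫
      Φ.map ((mappingCone.inl φ').v (m + 1) m (by omega)) +
      Φ.map ((mappingCone.snd φ').v m m (add_zero m)) ≫ Φ.map ((mappingCone.inr φ').f m) = 𝟙 _ := by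
    rw [← Φ.map_comp, ← Φ.map_comp, ← Φ.map_add, id2, Φ.map_id]
  refine ⟨Φ.map ((mappingCone.fst φ').1.v m (m + 1) rfl) ≫ inv (Φ.map (a.f (m + 1))) ≫
      Φ.map ((mappingCone.inl φ).v (m + 1) m (by omega)) +
    Φ.map ((mappingCone.snd φ').v m m (add_zero m)) ≫ inv (Φ.map (b.f m)) ≫
      Φ.map ((mappingCone.inr φ).f m), ?_, ?_⟩
  · rw [Preadditive.comp_add, reassoc_of% h1, reassoc_of% h2, IsIso.hom_inv_id_assoc,
      IsIso.hom_inv_id_assoc, i1]
  · rw [Preadditive.add_comp]
    simp only [Category.assoc]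
    rw [h3, h4, IsIso.inv_hom_id_assoc, IsIso.inv_hom_id_assoc, i2]

variable (T : 𝒜 ⥤ 𝒜) (τ : ℕ → (𝟭 𝒜 ⟶ T))
  (hT : ∀ {X Y : 𝒜} (f : X ⟶ Y), IsIso (Φ.map f) → IsIso (Φ.map (T.map f)))

include hT in
/-- the functors `G ↦ (K k G)^m` preserve `Φ`-isomorphisms -/
theorem isIso_map_K_map_f : ∀ (k : ℕ) {G G' : 𝒜} (f : G ⟶ G'), IsIso (Φ.map f) →
    ∀ m : ℤ, IsIso (Φ.map (((K T τ k).map f).f m))
  | 0, G, G', f, hf, m => by
    by_cases hm : m = 0
    · subst hm
      have h0 : ((K T τ 0).map f).f 0 =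
          (HomologicalComplex.singleObjXSelf (ComplexShape.up ℤ) 0 G).hom ≫ f ≫
            (HomologicalComplex.singleObjXSelf (ComplexShape.up ℤ) 0 G').inv :=
        HomologicalComplex.single_map_f_self _ _ _
      have : Φ.map (((K T τ 0).map f).f 0) =
          Φ.map (HomologicalComplex.singleObjXSelf (ComplexShape.up ℤ) 0 G).hom ≫ Φ.map f ≫
            Φ.map (HomologicalComplex.singleObjXSelf (ComplexShape.up ℤ) 0 G').inv := by
        rw [← Φ.map_comp, ← Φ.map_comp]
        exact congrArg Φ.map h0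
      rw [this]
      have h1 : IsIso (Φ.map (HomologicalComplex.singleObjXSelf (ComplexShape.up ℤ) 0 G).hom) :=
        inferInstance
      have h3 : IsIso (Φ.map (HomologicalComplex.singleObjXSelf (ComplexShape.up ℤ) 0 G').inv) :=
        inferInstance
      exact IsIso.comp_isIso' h1 (IsIso.comp_isIso' hf h3)
    · have h1 : IsZero (Φ.obj (((K T τ 0).obj G).X m)) :=
        Φ.map_isZero (HomologicalComplex.isZero_single_obj_X (ComplexShape.up ℤ) 0 G m hm)
      have h2 : IsZero (Φ.obj (((K T τ 0).obj G').X m)) :=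
        Φ.map_isZero (HomologicalComplex.isZero_single_obj_X (ComplexShape.up ℤ) 0 G' m hm)
      exact ⟨0, h1.eq_of_src _ _, h2.eq_of_src _ _⟩
  | k + 1, G, G', f, hf, m => by
    rw [K_succ_map]
    exact isIso_map_mappingCone_map_f Φ _ _ _ _ _ m
      (isIso_map_K_map_f k f hf (m + 1)) (isIso_map_K_map_f k (T.map f) (hT f hf) m)

variable [PreservesFiniteLimits Φ] [PreservesFiniteColimits Φ]

include hT in
/-- if `τ j` is a `Φ`-isomorphism, the complexes `K k G` are `Φ`-acyclic for `k > j` -/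
theorem acyclic_map_K (j : ℕ) (hj : ∀ G : 𝒜, IsIso (Φ.map ((τ j).app G))) :
    ∀ (k : ℕ), j < k → ∀ G : 𝒜,
      ((Φ.mapHomologicalComplex (ComplexShape.up ℤ)).obj ((K T τ k).obj G)).Acyclic
  | 0, hk, G => by omega
  | k + 1, hk, G => by
    rw [K_succ_obj]
    refine acyclic_of_iso (mappingCone.mapHomologicalComplexIso _ Φ).symm ?_
    haveI : QuasiIso ((Φ.mapHomologicalComplex (ComplexShape.up ℤ)).map
        ((K T τ k).map ((τ k).app G))) := by
      by_cases hjk : j = k
      · subst hjk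
        haveI : ∀ m, IsIso (((Φ.mapHomologicalComplex (ComplexShape.up ℤ)).map
            ((K T τ j).map ((τ j).app G))).f m) := fun m =>
          isIso_map_K_map_f Φ T τ hT j _ (hj G) m
        haveI : IsIso ((Φ.mapHomologicalComplex (ComplexShape.up ℤ)).map
            ((K T τ j).map ((τ j).app G))) := HomologicalComplex.Hom.isIso_of_components _
        infer_instance
      · exact quasiIso_of_acyclic _ (acyclic_map_K j hj k (by omega) G)
          (acyclic_map_K j hj k (by omega) (T.obj G))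
    exact acyclic_mappingCone_of_quasiIso _

end Phi

end Groth.Agent.Lib.Helper6.KosCone
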