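import Groth.Agent.Lib.Helper6.KRRReg
import Groth.Agent.Lib.Helper6.KosCone
import Groth.Agent.Lib.Helper6.Leray
import Mathlib

/-!
# Regular sheaves: the Koszul argument (helper6)
-/

set_option backward.isDefEq.respectTransparency.types false
set_option autoImplicit false
set_option linter.style.haveILetI false
set_option linter.unusedSectionVars false
set_option linter.unusedVariables false
universe u
open CategoryTheory CategoryTheory.Limits AlgebraicGeometry Opposite TopologicalSpace

noncomputable section
namespace Groth.Agent.Lib.Helper6.KRRKos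

open Groth.Agent.Lib.Helper6.KRRReg

section LemmaH

variable {X Y : Scheme.{u}} (f : X ⟶ Y)

lemma isZero_Rp_of_isZero (k : ℕ) {M : X.Modules} (hM : IsZero M) : IsZero (Rp f k M) := by
  haveI : (Coh.RpushAb f k).Additive := RDShift.rightDerived_additive _ k
  exact (Coh.RpushAb f k).map_isZero ((SheafOfModules.toSheaf X.ringCatSheaf).map_isZero hM)

/-- the chase along an acyclic bounded complex -/
theorem isZero_Rp_of_acyclic (C : CochainComplex X.Modules ℤ) (hC : C.Acyclic)
    (N : ℕ) (hlow : IsZero (C.X (-((N + 1 : ℕ) : ℤ)))) (hhigh : IsZero (C.X 1)) (a : ℕ)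
    (h : ∀ s : ℕ, IsZero (Rp f (a + s) (C.X (-((s + 1 : ℕ) : ℤ))))) :
    IsZero (Rp f a (C.X 0)) := by
  have key : ∀ t s : ℕ, s + t = N + 1 → IsZero (Rp f (a + s) (C.cycles (-(s : ℤ)))) := by
    intro t
    induction t with
    | zero =>
      intro s hs
      obtain rfl : s = N + 1 := by omega
      exact isZero_Rp_of_isZero f _ (IsZero.of_mono (C.iCycles _) hlow)
    | succ t ih =>
      intro s hs
      have h1 := ih (s + 1) (by omega)
      have hS := Leray.cyclesSC_shortExact C hC (-((s + 1 : ℕ) : ℤ))
      have h3 := isZero_right f _ hS (a + s) (h s) h1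
      have e : (-((s + 1 : ℕ) : ℤ)) + 1 = -(s : ℤ) := by push_cast; ring
      have h3' : IsZero (Rp f (a + s) (C.cycles ((-((s + 1 : ℕ) : ℤ)) + 1))) := h3
      rwa [e] at h3'
  have h0 : IsZero (Rp f a (C.cycles 0)) := by
    have := key (N + 1) 0 (by omega)
    simpa using this
  have hS := Leray.cyclesSC_shortExact C hC 0
  have hZ1 : IsZero (Rp f a (C.cycles (0 + 1))) :=
    isZero_Rp_of_isZero f _ (IsZero.of_mono (C.iCycles _) (by simpa using hhigh))
  exact isZero_mid f _ hS a h0 hZ1

end LemmaH

end Groth.Agent.Lib.Helper6.KRRKos
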