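import Groth.Agent.Lib.Helper6.KosCone
import Mathlib

/-!
# Additive invariants of the terms of the iterated cone complexes (helper6)
-/

set_option autoImplicit false
set_option linter.style.haveILetI false
set_option linter.unusedSectionVars false
set_option linter.unusedVariables false

universe v u

open CategoryTheory Limits CochainComplex HomComplex

namespace Groth.Agent.Lib.Helper6.KosCone

variable {𝒜 : Type u} [Category.{v} 𝒜] [Abelian 𝒜] (T : 𝒜 ⥤ 𝒜) (τ : ℕ → (𝟭 𝒜 ⟶ T))

/-- the terms of `K k G` outside the degrees `[-k, 0]` vanish -/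
theorem isZero_X_of_not_mem (k : ℕ) (m : ℤ) (G : 𝒜) (h : m < -(k : ℤ) ∨ 0 < m) :
    IsZero (((K T τ k).obj G).X m) :=
  prop_X T τ IsZero (fun X Y e h => h.of_iso e.symm) (fun X h => h)
    (fun X Y hX hY => (biprod_isZero_iff X Y).2 ⟨hX, hY⟩) k m G (fun a ha hak => by omega)

/-- an additive invariant of the terms of `K k G`: the term in degree `m = a - k` has invariant
`(k choose a) • c (T^a G)` -/
theorem class_X {M : Type*} [AddCommMonoid M] (Q : 𝒜 → Prop) (c : 𝒜 → M)
    (hQiso : ∀ X Y : 𝒜, (X ≅ Y) → Q X → Q Y) (hQzero : ∀ X : 𝒜, IsZero X → Q X)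
    (hQbi : ∀ X Y : 𝒜, Q X → Q Y → Q (X ⊞ Y))
    (hiso : ∀ X Y : 𝒜, (X ≅ Y) → Q X → c X = c Y) (hzero : ∀ X : 𝒜, IsZero X → c X = 0)
    (hbi : ∀ X Y : 𝒜, Q X → Q Y → c (X ⊞ Y) = c X + c Y) :
    ∀ (k : ℕ) (m : ℤ) (G : 𝒜), (∀ a : ℕ, a ≤ k → Q (Tpow T a G)) →
      ∀ a : ℕ, (a : ℤ) = k + m → a ≤ k → c (((K T τ k).obj G).X m) = (Nat.choose k a) • c (Tpow T a G)
  | 0, m, G, hG, a, ha, hak => by
    obtain rfl : a = 0 := by omega
    obtain rfl : m = 0 := by omega
    rw [Nat.choose_self, one_smul]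
    exact hiso _ _ (HomologicalComplex.singleObjXSelf (ComplexShape.up ℤ) 0 G) (hQiso _ _
      (HomologicalComplex.singleObjXSelf (ComplexShape.up ℤ) 0 G).symm (hG 0 le_rfl))
  | k + 1, m, G, hG, a, ha, hak => by
    have hQ1 : Q (((K T τ k).obj G).X (m + 1)) :=
      prop_X T τ Q hQiso hQzero hQbi k (m + 1) G (fun b hb hbk => hG b (by omega))
    have hQ2 : Q (((K T τ k).obj (T.obj G)).X m) :=
      prop_X T τ Q hQiso hQzero hQbi k m (T.obj G) (fun b hb hbk => hG (b + 1) (by omega))
    have e := HomologicalComplex.homotopyCofiber.XIsoBiprod ((K T τ k).map ((τ k).app G)) m (m + 1) rfl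
    have h1 : c (((K T τ (k + 1)).obj G).X m) =
        c (((K T τ k).obj G).X (m + 1)) + c (((K T τ k).obj (T.obj G)).X m) := by
      rw [← hbi _ _ hQ1 hQ2]
      exact hiso _ _ e (hQiso _ _ e.symm (hQbi _ _ hQ1 hQ2))
    rw [h1]
    -- first summand
    have f1 : c (((K T τ k).obj G).X (m + 1)) = (Nat.choose k a) • c (Tpow T a G) := by
      by_cases hak' : a ≤ k
      · exact class_X Q c hQiso hQzero hQbi hiso hzero hbi k (m + 1) G (fun b hb => hG b (by omega)) a
          (by push_cast at ha ⊢; omega) hak'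
      · obtain rfl : a = k + 1 := by omega
        rw [Nat.choose_succ_self, zero_smul]
        exact hzero _ (isZero_X_of_not_mem T τ k (m + 1) G (Or.inr (by push_cast at ha; omega)))
    -- second summand
    rw [f1]
    obtain _ | b := a
    · have f2 : c (((K T τ k).obj (T.obj G)).X m) = 0 :=
        hzero _ (isZero_X_of_not_mem T τ k m (T.obj G) (Or.inl (by push_cast at ha; omega)))
      rw [f2, add_zero, Nat.choose_zero_right, Nat.choose_zero_right]
    · have f2 := class_X Q c hQiso hQzero hQbi hiso hzero hbi k m (T.obj G)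
        (fun b' hb' => hG (b' + 1) (by omega)) b (by push_cast at ha ⊢; omega) (by omega)
      have f2' : c (((K T τ k).obj (T.obj G)).X m) = (Nat.choose k b) • c (Tpow T (b + 1) G) := f2
      rw [f2', ← add_smul, Nat.choose_succ_succ, add_comm]

end Groth.Agent.Lib.Helper6.KosCone
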