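import Groth.Agent.Lib.Helper6.KosCone
import Groth.Agent.Lib.Helper6.KosClass
import Mathlib

/-!
# Arrow-level properties of the terms of the iterated cone complexes (helper6)
-/

set_option autoImplicit false
set_option linter.style.haveILetI false
set_option linter.unusedSectionVars false
set_option linter.unusedVariables false

universe v u

open CategoryTheory Limits CochainComplex HomComplex

namespace Groth.Agent.Lib.Helper6.KosCone

variable {𝒜 : Type u} [Category.{v} 𝒜] [Abelian 𝒜] (T : 𝒜 ⥤ 𝒜) (τ : ℕ → (𝟭 𝒜 ⟶ T))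

/-- iterated application of `T` (on the inside), as a functor -/
def TpowF : ℕ → (𝒜 ⥤ 𝒜)
  | 0 => 𝟭 𝒜
  | a + 1 => T ⋙ TpowF a

theorem TpowF_obj : ∀ (a : ℕ) (G : 𝒜), (TpowF T a).obj G = Tpow T a G
  | 0, G => rfl
  | a + 1, G => TpowF_obj a (T.obj G)

theorem TpowF_succ_map (a : ℕ) {G G' : 𝒜} (f : G ⟶ G') :
    (TpowF T (a + 1)).map f = (TpowF T a).map (T.map f) := rfl

theorem isEquivalence_TpowF [T.IsEquivalence] : ∀ a : ℕ, (TpowF T a).IsEquivalence
  | 0 => inferInstanceAs (𝟭 𝒜).IsEquivalence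
  | a + 1 => by
    haveI := isEquivalence_TpowF a
    exact inferInstanceAs (T ⋙ TpowF T a).IsEquivalence

/-- a faithful functor preserving zero morphisms reflects zero objects -/
theorem isZero_of_isZero_obj {ℬ : Type*} [Category ℬ] [HasZeroMorphisms ℬ] (F : 𝒜 ⥤ ℬ)
    [F.PreservesZeroMorphisms] [F.Faithful] {X : 𝒜} (h : IsZero (F.obj X)) : IsZero X := by
  rw [IsZero.iff_id_eq_zero] at h ⊢
  apply F.map_injective
  rw [F.map_id, h, F.map_zero]

/-- the degreewise components of the map of cones, through the biproduct decompositions -/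
lemma mappingCone_map_f_biprod {P Q P' Q' : CochainComplex 𝒜 ℤ} (φ : P ⟶ Q) (φ' : P' ⟶ Q')
    (a : P ⟶ P') (b : Q ⟶ Q') (comm : φ ≫ b = a ≫ φ') (m : ℤ) :
    (HomologicalComplex.homotopyCofiber.XIsoBiprod φ m (m + 1) rfl).inv ≫
        (mappingCone.map φ φ' a b comm).f m =
      biprod.map (a.f (m + 1)) (b.f m) ≫
        (HomologicalComplex.homotopyCofiber.XIsoBiprod φ' m (m + 1) rfl).inv := by
  have e3 : (mappingCone.inl φ).v (m + 1) m (by omega) ≫ (mappingCone.map φ φ' a b comm).f m =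
      a.f (m + 1) ≫ (mappingCone.inl φ').v (m + 1) m (by omega) := by
    simp [mappingCone.map]
  have e4 : (mappingCone.inr φ).f m ≫ (mappingCone.map φ φ' a b comm).f m =
      b.f m ≫ (mappingCone.inr φ').f m := by
    simp [mappingCone.map]
  apply biprod.hom_ext'
  · rw [← Category.assoc, HomologicalComplex.homotopyCofiber.inl_XIsoBiprod_inv]
    erw [biprod.inl_map_assoc]
    exact e3
  · rw [← Category.assoc, HomologicalComplex.homotopyCofiber.inr_XIsoBiprod_inv]
    erw [biprod.inr_map_assoc, HomologicalComplex.homotopyCofiber.inr_XIsoBiprod_inv]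
    exact e4

/-- arrow-level version of `prop_X`: the maps `(K k).map f` are built degreewise from the maps `T^a f` by biproducts -/
theorem prop_map (Q : ∀ {X Y : 𝒜}, (X ⟶ Y) → Prop)
    (hiso : ∀ {X Y X' Y' : 𝒜} (h : X ⟶ Y) (h' : X' ⟶ Y') (eX : X ≅ X') (eY : Y ≅ Y'),
      eX.hom ≫ h' = h ≫ eY.hom → Q h → Q h')
    (hzero : ∀ {X Y : 𝒜} (h : X ⟶ Y), IsZero X → IsZero Y → Q h)
    (hbi : ∀ {X₁ X₂ Y₁ Y₂ : 𝒜} (h₁ : X₁ ⟶ Y₁) (h₂ : X₂ ⟶ Y₂), Q h₁ → Q h₂ → Q (biprod.map h₁ h₂)) :
    ∀ (k : ℕ) (m : ℤ) {G G' : 𝒜} (f : G ⟶ G'),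
      (∀ a : ℕ, (a : ℤ) = k + m → a ≤ k → Q ((TpowF T a).map f)) → Q (((K T τ k).map f).f m)
  | 0, m, G, G', f, h => by
    by_cases hm : m = 0
    · subst hm
      refine hiso f _ (HomologicalComplex.singleObjXSelf (ComplexShape.up ℤ) 0 G).symm
        (HomologicalComplex.singleObjXSelf (ComplexShape.up ℤ) 0 G').symm ?_ (h 0 (by simp) le_rfl)
      show (HomologicalComplex.singleObjXSelf (ComplexShape.up ℤ) 0 G).inv ≫
        ((HomologicalComplex.single 𝒜 (ComplexShape.up ℤ) 0).map f).f 0 = _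
      rw [HomologicalComplex.single_map_f_self, Iso.inv_hom_id_assoc]
      rfl
    · exact hzero _ (HomologicalComplex.isZero_single_obj_X (ComplexShape.up ℤ) 0 G m hm)
        (HomologicalComplex.isZero_single_obj_X (ComplexShape.up ℤ) 0 G' m hm)
  | k + 1, m, G, G', f, h => by
    refine hiso (biprod.map (((K T τ k).map f).f (m + 1)) (((K T τ k).map (T.map f)).f m)) _
      (HomologicalComplex.homotopyCofiber.XIsoBiprod ((K T τ k).map ((τ k).app G)) m (m + 1) rfl).symm
      (HomologicalComplex.homotopyCofiber.XIsoBiprod ((K T τ k).map ((τ k).app G')) m (m + 1) rfl).symm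
      ?_ (hbi _ _ ?_ ?_)
    · rw [K_succ_map]
      exact mappingCone_map_f_biprod _ _ _ _ _ m
    · exact prop_map Q hiso hzero hbi k (m + 1) f (fun a ha hak =>
        h a (by push_cast; omega) (by omega))
    · exact prop_map Q hiso hzero hbi k m (T.map f) (fun a ha hak =>
        h (a + 1) (by push_cast; omega) (by omega))

end Groth.Agent.Lib.Helper6.KosCone
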