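import Groth.Agent.Lib.Helper4.CM1
import Groth.Agent.Lib.Helper4.GPEnd
import Groth.Agent.Lib.Helper16.TA2
import Groth.Agent.Lib.Helper23.ProjF.ProjMap
import Mathlib

/-!
# Tensoring with an invertible module is an equivalence (helper6)
-/

set_option backward.isDefEq.respectTransparency.types false
set_option autoImplicit false
set_option linter.style.haveILetI false
set_option linter.unusedSectionVars false
set_option linter.unusedVariables false

universe u

open CategoryTheory Limits AlgebraicGeometry Opposite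

noncomputable section
namespace Groth.Agent.Lib.Helper6.TAEquiv

open Groth.Agent.Lib.Helper28.TensorGen Groth.Agent.Lib.Helper4.GPEnd

variable {X : Scheme.{u}}

/-- the right unitor is natural -/
theorem unitorR_naturality' {F F' : X.Modules} (f : F ⟶ F') :
    KoszTw.tensorMap f (𝟙 (Coh.structureModule X)) ≫ (SecTwist.unitorR F').hom =
      (SecTwist.unitorR F).hom ≫ f := by
  apply Groth.Agent.Lib.Helper23.ProjF.tensorMod_hom_ext
  intro W m r
  show (SecTwist.unitorR F').hom.app W ((KoszTw.tensorMap f (𝟙 (Coh.structureModule X))).app W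
      (tmulSec F (Coh.structureModule X) m r)) =
    f.app W ((SecTwist.unitorR F).hom.app W (tmulSec F (Coh.structureModule X) m r))
  rw [← tmul_eq_tmulSec, KoszTw.tensorMap_tmul, tmul_eq_tmulSec]
  have h1 := Groth.Agent.Lib.Helper4.CM1.unitorR_hom_app F' W (f.app W m) r
  have h2 := Groth.Agent.Lib.Helper4.CM1.unitorR_hom_app F W m r
  erw [h1, h2]
  exact (Scheme.Modules.Hom.app_smul f (show Γ(X, W) from r) m).symm

theorem unitorR_naturality {F F' : X.Modules} (f : F ⟶ F') :
    (DCoh.tensorRightMod (Coh.structureModule X)).map f ≫ (SecTwist.unitorR F').hom =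
      (SecTwist.unitorR F).hom ≫ f := by
  rw [KoszTw.tensorRightMod_map]
  exact unitorR_naturality' f

/-- `- ⊗ O ≅ id` -/
def unitorNat : DCoh.tensorRightMod (Coh.structureModule X) ≅ 𝟭 X.Modules :=
  NatIso.ofComponents (fun M => SecTwist.unitorR M) (fun f => unitorR_naturality f)

/-- `(- ⊗ A) ⊗ B ≅ - ⊗ (A ⊗ B)` -/
def compNat (A B : X.Modules) :
    DCoh.tensorRightMod A ⋙ DCoh.tensorRightMod B ≅ DCoh.tensorRightMod (CohB1.tensorMod A B) :=
  NatIso.ofComponents (fun M => Groth.Agent.Lib.Helper16.TA.assocIso M A B)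
    (fun f => Groth.Agent.Lib.Helper16.TA.assocIso_nat₁ f A B)

/-- `- ⊗ A ≅ - ⊗ A'` for `A ≅ A'` -/
def congrNat {A A' : X.Modules} (e : A ≅ A') : DCoh.tensorRightMod A ≅ DCoh.tensorRightMod A' :=
  NatIso.ofComponents (fun M => (DCoh.tensorBi.obj M).mapIso e)
    (fun {M M'} f => ((DCoh.tensorBi.map f).naturality e.hom).symm)

/-- **tensoring with an invertible module is an equivalence** -/
def equiv (A B : X.Modules) (μ : CohB1.tensorMod A B ≅ Coh.structureModule X)
    (μ' : CohB1.tensorMod B A ≅ Coh.structureModule X) : X.Modules ≌ X.Modules :=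
  CategoryTheory.Equivalence.mk (DCoh.tensorRightMod A) (DCoh.tensorRightMod B)
    (unitorNat.symm ≪≫ congrNat μ.symm ≪≫ (compNat A B).symm)
    (compNat B A ≪≫ congrNat μ' ≪≫ unitorNat)

@[simp] theorem equiv_functor (A B : X.Modules) (μ : CohB1.tensorMod A B ≅ Coh.structureModule X)
    (μ' : CohB1.tensorMod B A ≅ Coh.structureModule X) :
    (equiv A B μ μ').functor = DCoh.tensorRightMod A := rfl

end Groth.Agent.Lib.Helper6.TAEquiv
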