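import Groth.Agent.Lib.Helper6.KRRProjK
import Groth.Agent.Lib.Helper6.KosConeMap
import Groth.Agent.Lib.Helper6.TAEquiv
import Groth.Agent.Lib.Helper6.KRRKos
import Groth.Agent.Lib.Helper28.CounitSerre
import Mathlib
set_option backward.isDefEq.respectTransparency.types false
set_option autoImplicit false
set_option linter.style.haveILetI false
set_option linter.unusedSectionVars false
set_option linter.unusedVariables false
universe u v
open AlgebraicGeometry CategoryTheory Opposite TopologicalSpace CategoryTheory.Limits ZeroObject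

/-!
# Helper6 — KRRCounit: regular coherent sheaves on `P^n_Y` are generated by their direct image
-/

noncomputable section
namespace Groth.Agent.Lib.Helper6.KRRCounit

open Groth.Agent.Lib.Helper6.KRRKosGeo Groth.Agent.Lib.Helper6.KRRReg Groth.Agent.Lib.Helper6.KosCone
  Groth.Agent.Lib.Helper6.KRRPushO Groth.Agent.Lib.Helper6.KRRPush Groth.Agent.Lib.Helper6.KRRKosK
  Groth.Agent.Lib.Helper6.K0Tower Groth.Agent.Lib.Helper6.KRRRegK Groth.Agent.Lib.Helper6.KRRPushK
  Groth.Agent.Lib.Helper6.KRRProjK Groth.Agent.Lib.Helper6.KRRKos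

attribute [local instance] HasDerivedCategory.standard

section General

variable {X Y : Scheme.{u}} (f : X ⟶ Y)

/-- the chase along an acyclic bounded complex, for the cycles in degree `-1` -/
theorem isZero_Rp_one_cycles (C : CochainComplex X.Modules ℤ) (hC : C.Acyclic)
    (N : ℕ) (hlow : IsZero (C.X (-((N + 1 : ℕ) : ℤ))))
    (h : ∀ s : ℕ, 1 ≤ s → IsZero (Rp f s (C.X (-((s + 1 : ℕ) : ℤ))))) :
    IsZero (Rp f 1 (C.cycles (-1))) := by
  have key : ∀ t s : ℕ, 1 ≤ s → s + t = N + 1 → IsZero (Rp f s (C.cycles (-(s : ℤ)))) := by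
    intro t
    induction t with
    | zero =>
      intro s _ hs
      obtain rfl : s = N + 1 := by omega
      exact isZero_Rp_of_isZero f _ (IsZero.of_mono (C.iCycles _) hlow)
    | succ t ih =>
      intro s hs1 hs
      have h1 := ih (s + 1) (by omega) (by omega)
      have hS := Leray.cyclesSC_shortExact C hC (-((s + 1 : ℕ) : ℤ))
      have h3 := isZero_right f _ hS s (h s hs1) h1
      have e : (-((s + 1 : ℕ) : ℤ)) + 1 = -(s : ℤ) := by push_cast; ring
      have h3' : IsZero (Rp f s (C.cycles ((-((s + 1 : ℕ) : ℤ)) + 1))) := h3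
      rwa [e] at h3'
  by_cases hN : N = 0
  · subst hN
    exact isZero_Rp_of_isZero f _ (IsZero.of_mono (C.iCycles _) (by simpa using hlow))
  · have := key N 1 le_rfl (by omega)
    simpa using this

/-- `f_*` of an epimorphism whose kernel has vanishing `R^1 f_*` is an epimorphism -/
theorem epi_push_of_isZero_Rp_one (S : ShortComplex X.Modules) (hS : S.ShortExact)
    (h : IsZero (Rp f 1 S.X₁)) : Epi ((Scheme.Modules.pushforward f).map S.g) := by
  haveI : EnoughInjectives X.Modules :=
    Groth.Agent.Lib.Helper8.SheafModGroth.enoughInjectives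
      (Opens.grothendieckTopology X) X.ringCatSheaf
  haveI : PreservesFiniteLimits (Scheme.Modules.pushforward f) :=
    (Scheme.Modules.pullbackPushforwardAdjunction f).rightAdjoint_preservesLimits.{0, 0}.preservesFiniteLimits
  let H := Scheme.Modules.pushforward f
  have h1 : IsZero ((H.rightDerived 1).obj S.X₁) := isZero_Rpush_of_isZero_RpushAb f S.X₁ 1 h
  obtain ⟨δ, w₀, w₁, w₂, e₀, e₁, e₂⟩ := RDShift.rightDerived_les H hS 0
  haveI : Epi ((H.rightDerived 0).map S.g) := e₁.epi_f (h1.eq_of_tgt _ _)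
  have nat := H.rightDerivedZeroIsoSelf.hom.naturality S.g
  have h2 : H.map S.g = H.rightDerivedZeroIsoSelf.inv.app S.X₂ ≫
      (H.rightDerived 0).map S.g ≫ H.rightDerivedZeroIsoSelf.hom.app S.X₃ := by
    rw [nat, Iso.inv_hom_id_app_assoc]
  rw [h2]
  infer_instance

/-- for an acyclic bounded complex whose terms `C^{-1-s}` have vanishing `R^s f_*` (`s ≥ 1`), `f_*` of the last
differential is an epimorphism -/
theorem epi_push_d (C : CochainComplex X.Modules ℤ) (hC : C.Acyclic)
    (N : ℕ) (hlow : IsZero (C.X (-((N + 1 : ℕ) : ℤ)))) (hhigh : IsZero (C.X 1))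
    (h : ∀ s : ℕ, 1 ≤ s → IsZero (Rp f s (C.X (-((s + 1 : ℕ) : ℤ))))) :
    Epi ((Scheme.Modules.pushforward f).map (C.d (-1) 0)) := by
  have hZ := isZero_Rp_one_cycles f C hC N hlow h
  have hS := Leray.cyclesSC_shortExact C hC (-1)
  have hepi := epi_push_of_isZero_Rp_one f _ hS hZ
  have hepi' : Epi ((Scheme.Modules.pushforward f).map (C.toCycles (-1) (-1 + 1))) := hepi
  -- `Z^0 = C^0`
  have hiso : IsIso (C.iCycles (-1 + 1)) := by
    have hmono : Mono (C.iCycles (-1 + 1)) := inferInstance
    have hepi2 : Epi (C.iCycles (-1 + 1)) := by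
      have hk := C.cyclesIsKernel (-1 + 1) (-1 + 1 + 1) (by simp)
      have hd : C.d (-1 + 1) (-1 + 1 + 1) = 0 := (show IsZero (C.X (-1 + 1 + 1)) by simpa using hhigh).eq_of_tgt _ _
      -- the kernel of the zero map is everything
      have : IsIso (C.iCycles (-1 + 1)) :=
        KernelFork.IsLimit.isIso_ι _ hk hd
      infer_instance
    exact isIso_of_mono_of_epi _
  show Epi ((Scheme.Modules.pushforward f).map (C.d (-1) (-1 + 1)))
  rw [← C.toCycles_i (-1) (-1 + 1), Functor.map_comp]
  infer_instance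

/-- generation by the direct image is invariant under isomorphisms -/
theorem epi_counit_of_iso {M M' : X.Modules} (e : M ≅ M')
    (h : Epi ((Scheme.Modules.pullbackPushforwardAdjunction f).counit.app M)) :
    Epi ((Scheme.Modules.pullbackPushforwardAdjunction f).counit.app M') := by
  have nat := (Scheme.Modules.pullbackPushforwardAdjunction f).counit.naturality e.hom
  have h2 : (Scheme.Modules.pullbackPushforwardAdjunction f).counit.app M' =
      (Scheme.Modules.pushforward f ⋙ Scheme.Modules.pullback f).map e.inv ≫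
        (Scheme.Modules.pullbackPushforwardAdjunction f).counit.app M ≫ e.hom := by
    have nat' := (Scheme.Modules.pullbackPushforwardAdjunction f).counit.naturality e.inv
    rw [← Category.assoc, nat', Category.assoc]
    simp
  rw [h2]
  haveI := h
  infer_instance

end General

section Step

variable (n : ℕ) (Y : Scheme.{u})

/-- `- ⊗ O(1)` is an equivalence -/
instance isEquivalence_TA_one : (TA (Twist.twistOver n Y 1)).IsEquivalence := by
  obtain ⟨μ⟩ := nonempty_twistOver_tensor n Y 1 (-1)
  obtain ⟨μ'⟩ := nonempty_twistOver_tensor n Y (-1) 1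
  obtain ⟨ν⟩ := nonempty_twistOver_zero n Y
  exact (Groth.Agent.Lib.Helper6.TAEquiv.equiv (Twist.twistOver n Y 1) (Twist.twistOver n Y (-1))
    (μ ≪≫ eqToIso (by norm_num) ≪≫ ν) (μ' ≪≫ eqToIso (by norm_num) ≪≫ ν)).isEquivalence_functor

/-- **the descending step**: if `G` is regular and `G(1)` is generated by its direct image, so is `G` -/
theorem epi_counit_step (G : (KRR.PY n Y).Modules) (hreg : KRR.IsRegSheaf n Y G)
    (hE : Epi ((Scheme.Modules.pullbackPushforwardAdjunction (KRR.pr n Y)).counit.app (KRR.twF n Y 1 G))) :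
    Epi ((Scheme.Modules.pullbackPushforwardAdjunction (KRR.pr n Y)).counit.app G) := by
  let p := KRR.pr n Y
  let adj := Scheme.Modules.pullbackPushforwardAdjunction p
  let Ψ := Scheme.Modules.pullback p
  let Φ := Scheme.Modules.pushforward p
  let T := TA (Twist.twistOver n Y 1)
  let τ := tauA (Twist.twistOver n Y 1) (secP n Y)
  let G' := KRR.twF n Y (-(n : ℤ)) G
  let C := CK n Y G'
  have hC : C.Acyclic := acyclic_CK n Y G'
  have hTp : ∀ (a : ℕ) (c : ℤ), (a : ℤ) + (-(n : ℤ)) = c → Nonempty (Tpow T a G' ≅ KRR.twF n Y c G) :=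
    fun a c hc => by
      obtain ⟨e⟩ := nonempty_Tpow_iso n Y a G'
      obtain ⟨e'⟩ := nonempty_twF_twF n Y (a : ℤ) (-(n : ℤ)) c hc G
      exact ⟨e ≪≫ e'⟩
  have hlow : IsZero (C.X (-((n + 1 + 1 : ℕ) : ℤ))) :=
    isZero_X_of_not_mem _ _ (n + 1) _ G' (Or.inl (by push_cast; omega))
  have hhigh : IsZero (C.X 1) := isZero_X_of_not_mem _ _ (n + 1) _ G' (Or.inr one_pos)
  -- (1) `p_*` of the last differential is an epimorphism
  have hd : Epi (Φ.map (C.d (-1) 0)) := by
    refine epi_push_d p C hC (n + 1) hlow hhigh (fun s hs => ?_)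
    refine prop_X T τ (fun M => IsZero (Rp p s M)) (fun M N e h => isZero_Rp_of_iso _ _ e.symm h)
      (fun M h => isZero_Rp_of_isZero p s h) (fun M N hM hN => isZero_Rp_biprod p s M N hM hN)
      (n + 1) _ G' (fun a ha hak => ?_)
    obtain ⟨e⟩ := hTp a (-(s : ℤ)) (by push_cast at ha; omega)
    exact isZero_Rp_of_iso _ _ e (hreg s hs)
  -- (2) the last term is generated
  have hE0 : Epi (adj.counit.app (C.X 0)) := by
    obtain ⟨e0⟩ := nonempty_X_zero_iso T τ (n + 1) G'
    obtain ⟨e1⟩ := hTp (n + 1) 1 (by push_cast; ring)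
    exact epi_counit_of_iso p (e0 ≪≫ e1).symm hE
  -- (3)
  haveI : Ψ.IsLeftAdjoint := adj.isLeftAdjoint
  have hepi : Epi (adj.counit.app (C.X (-1)) ≫ C.d (-1) 0) := by
    have nat := adj.counit.naturality (C.d (-1) 0)
    have : adj.counit.app (C.X (-1)) ≫ C.d (-1) 0 = Ψ.map (Φ.map (C.d (-1) 0)) ≫ adj.counit.app (C.X 0) :=
      nat.symm
    rw [this]
    haveI := hd
    haveI := hE0
    infer_instance
  -- (4) the quotient
  let F := TpowF T n
  haveI : F.IsEquivalence := isEquivalence_TpowF T n
  let e := F.asEquivalence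
  let H := F.obj G'
  let c := cokernel.π (adj.counit.app H)
  let q' : G' ⟶ e.inverse.obj (cokernel (adj.counit.app H)) := e.unit.app G' ≫ e.inverse.map c
  have hFq : F.map q' = c ≫ e.counitInv.app _ := by
    have h1 : F.map (e.unit.app G') = e.counitInv.app (F.obj G') :=
      (e.counitInv_app_functor G').symm
    have h2 := e.counitInv.naturality c
    show F.map (e.unit.app G' ≫ e.inverse.map c) = _
    rw [F.map_comp, h1]
    exact h2.symm
  have hq0 : adj.counit.app H ≫ F.map q' = 0 := by
    rw [hFq]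
    have h3 : adj.counit.app H ≫ c = 0 := cokernel.condition _
    exact (Category.assoc _ _ _).symm.trans (by rw [h3, zero_comp])
  have hqepi : Epi q' := by
    haveI : Epi c := inferInstanceAs (Epi (cokernel.π _))
    have h1 : Epi (e.inverse.map c) := inferInstance
    have h2 : IsIso (e.unit.app G') := inferInstanceAs (IsIso (e.unitIso.hom.app G'))
    have h3 : Epi (e.unit.app G') := inferInstance
    exact @epi_comp _ _ _ _ _ (e.unit.app G') h3 (e.inverse.map c) h1
  -- (5)
  have hQ3 : adj.counit.app (C.X (-1)) ≫ ((K T τ (n + 1)).map q').f (-1) = 0 := by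
    refine prop_map T τ (fun {M N} h => adj.counit.app M ≫ h = 0) ?_ ?_ ?_ (n + 1) (-1) q'
      (fun a ha hak => ?_)
    · intro M N M' N' h h' eM eN hcomm hh
      have nat' := adj.counit.naturality eM.inv
      have h2 : adj.counit.app M' = (Φ ⋙ Ψ).map eM.inv ≫ adj.counit.app M ≫ eM.hom := by
        rw [← Category.assoc, nat', Category.assoc]
        simp
      rw [h2, Category.assoc, Category.assoc, hcomm, ← Category.assoc (adj.counit.app M), hh, zero_comp,
        comp_zero]
    · intro M N h hM hN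
      exact hN.eq_of_tgt _ _
    · intro M₁ M₂ N₁ N₂ h₁ h₂ hh₁ hh₂
      apply biprod.hom_ext
      · have nat' := adj.counit.naturality (biprod.fst : M₁ ⊞ M₂ ⟶ M₁)
        rw [Category.assoc, biprod.map_fst, ← Category.assoc]
        erw [← nat']
        rw [Category.assoc, hh₁, comp_zero, zero_comp]
      · have nat' := adj.counit.naturality (biprod.snd : M₁ ⊞ M₂ ⟶ M₂)
        rw [Category.assoc, biprod.map_snd, ← Category.assoc]
        erw [← nat']
        rw [Category.assoc, hh₂, comp_zero, zero_comp]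
    · obtain rfl : a = n := by push_cast at ha; omega
      exact hq0
  -- (6)
  have hQepi : Epi (((K T τ (n + 1)).map q').f 0) := by
    refine prop_map T τ (fun {M N} h => Epi h) ?_ ?_ ?_ (n + 1) 0 q' (fun a ha hak => ?_)
    · intro M N M' N' h h' eM eN hcomm hh
      have : h' = eM.inv ≫ h ≫ eN.hom := by rw [← hcomm, Iso.inv_hom_id_assoc]
      rw [this]
      haveI := hh
      infer_instance
    · intro M N h hM hN
      exact ⟨fun g g' _ => hN.eq_of_src g g'⟩
    · intro M₁ M₂ N₁ N₂ h₁ h₂ hh₁ hh₂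
      haveI := hh₁
      haveI := hh₂
      infer_instance
    · haveI : (TpowF T a).IsEquivalence := isEquivalence_TpowF T a
      haveI := hqepi
      infer_instance
  -- (7)
  have hcomm := ((K T τ (n + 1)).map q').comm (-1) 0
  have hzero : ((K T τ (n + 1)).map q').f 0 = 0 := by
    haveI := hepi
    rw [← cancel_epi (adj.counit.app (C.X (-1)) ≫ C.d (-1) 0), comp_zero, Category.assoc]
    show adj.counit.app (C.X (-1)) ≫ ((K T τ (n + 1)).obj G').d (-1) 0 ≫ ((K T τ (n + 1)).map q').f 0 = 0
    rw [← hcomm, ← Category.assoc, hQ3, zero_comp]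
  have hZ0 : IsZero (((K T τ (n + 1)).obj (e.inverse.obj (cokernel (adj.counit.app H)))).X 0) := by
    haveI := hQepi
    exact IsZero.of_epi_eq_zero _ hzero
  -- (8)
  obtain ⟨e0'⟩ := nonempty_X_zero_iso T τ (n + 1) (e.inverse.obj (cokernel (adj.counit.app H)))
  have hZ1 : IsZero ((TpowF T (n + 1)).obj (e.inverse.obj (cokernel (adj.counit.app H)))) := by
    rw [TpowF_obj]
    exact hZ0.of_iso e0'.symm
  haveI : (TpowF T (n + 1)).IsEquivalence := isEquivalence_TpowF T (n + 1)
  have hZ2 : IsZero (e.inverse.obj (cokernel (adj.counit.app H))) :=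
    isZero_of_isZero_obj (TpowF T (n + 1)) hZ1
  have hZ3 : IsZero (cokernel (adj.counit.app H)) := isZero_of_isZero_obj e.inverse hZ2
  have hH : Epi (adj.counit.app H) := Preadditive.epi_of_isZero_cokernel _ hZ3
  -- (9)
  obtain ⟨e1⟩ := hTp n 0 (by ring)
  obtain ⟨e2⟩ := nonempty_twF_zero n Y G
  have eH : H ≅ G := eqToIso (TpowF_obj T n G') ≪≫ e1 ≪≫ e2
  exact epi_counit_of_iso p eH hH

end Step

section Main

variable (n : ℕ) (Y : Scheme.{u})

/-- **a regular coherent module on `P^n_Y` (`Y` Noetherian) is generated by its direct image** -/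
theorem epi_counit_of_isRegSheaf [IsNoetherian Y] (F : (KRR.PY n Y).Modules) (hF : Coh.IsCoh F)
    (hreg : KRR.IsRegSheaf n Y F) :
    Epi ((Scheme.Modules.pullbackPushforwardAdjunction (KRR.pr n Y)).counit.app F) := by
  haveI : IsProper (KRR.pr n Y) := Groth.Agent.Lib.Helper6.PnFlat.isProper_toBase n Y
  obtain ⟨N, hN⟩ := Groth.Agent.Lib.Helper28.CounitSerre.exists_forall_epi_counit (KRR.pr n Y)
    (Twist.twistOver n Y 1) (isRelAmple_twistOver_one n Y) F hF
  have key : ∀ d k : ℕ, N ≤ k + d →
      Epi ((Scheme.Modules.pullbackPushforwardAdjunction (KRR.pr n Y)).counit.app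
        (KRR.twF n Y (k : ℤ) F)) := by
    intro d
    induction d with
    | zero =>
      intro k hk
      obtain ⟨e⟩ := nonempty_tensorPow_twistOver n Y k
      have e₂ : CohB1.tensorMod F (CohB1.tensorPow (Twist.twistOver n Y 1) k) ≅
          KRR.twF n Y (k : ℤ) F :=
        (DCoh.tensorBi.obj F).mapIso e ≪≫ Groth.Agent.Lib.Helper6.K0Inv.braidIso _ _
      exact epi_counit_of_iso _ e₂ (hN k (by omega))
    | succ d ih =>
      intro k hk
      have h1 := ih (k + 1) (by omega)
      obtain ⟨e⟩ := nonempty_twF_twF n Y 1 (k : ℤ) ((k + 1 : ℕ) : ℤ) (by push_cast; ring) F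
      exact epi_counit_step n Y _ (isRegSheaf_twF_nat n Y F hreg k) (epi_counit_of_iso _ e.symm h1)
  obtain ⟨e⟩ := nonempty_twF_zero n Y F
  exact epi_counit_of_iso _ e (key N 0 (by omega))

end Main

end Groth.Agent.Lib.Helper6.KRRCounit
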