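import Groth.Agent.Lib.Helper6.KRRRegK
import Groth.Agent.Lib.Helper6.ExtShCohA
import Groth.Agent.Lib.Helper6.K0Op
import Groth.Agent.Lib.Helper6.K0LocC
import Groth.Agent.Lib.Helper1.FlatPullback
import Groth.Agent.Lib.Helper4.CM2
import Groth.Agent.Lib.Helper2.HLesLin
import Groth.Agent.Lib.Helper16.RS6
import Groth.Agent.Lib.Helper16.PBM2
import Groth.Agent.Lib.Helper28.AmpleIso
import Groth.Agent.Lib.Helper17.ModPullback
import Groth.Agent.Lib.Helper17.TensorQC
import Mathlib
set_option backward.isDefEq.respectTransparency.types false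
set_option autoImplicit false
set_option linter.style.haveILetI false
set_option linter.unusedSectionVars false
set_option linter.unusedVariables false
universe u v
open AlgebraicGeometry CategoryTheory Opposite TopologicalSpace CategoryTheory.Limits ZeroObject

/-!
# Helper6 — KRRPullReg: `p^* N` is regular on `P^n_Y` for coherent `N` on a Noetherian `Y`

More precisely `R^i p_* ((p^* N)(d)) = 0` for `i ≥ 1` and `d ≥ -i`.
-/

noncomputable section
namespace Groth.Agent.Lib.Helper6.KRRPullReg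

open Groth.Agent.Lib.Helper6.KRRReg Groth.Agent.Lib.Helper6.KRRRegK

variable (n : ℕ) (Y : Scheme.{u})

section Local

variable (W : Y.Opens)

/-- the inverse image of `W` in `P^n_Y` -/
abbrev Zo : (KRR.PY n Y).Opens := (KRR.pr n Y) ⁻¹ᵁ W

/-- the restricted projection -/
abbrev pW : ((Zo n Y W : (KRR.PY n Y).Opens) : Scheme.{u}) ⟶ (W : Scheme.{u}) := KRR.pr n Y ∣_ W

/-- `O(d)` restricted to the inverse image of `W` -/
abbrev Od (d : ℤ) : ((Zo n Y W : (KRR.PY n Y).Opens) : Scheme.{u}).Modules :=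
  (Twist.twistOver n Y d).restrict (Zo n Y W).ι

/-- `E ↦ O(d) ⊗ p_W^* E` -/
def Gd (d : ℤ) : (W : Scheme.{u}).Modules ⥤ ((Zo n Y W : (KRR.PY n Y).Opens) : Scheme.{u}).Modules :=
  Scheme.Modules.pullback (pW n Y W) ⋙ DCoh.tensorBi.obj (Od n Y W d)

theorem isInvertible_Od (d : ℤ) : PicF.IsInvertible (Od n Y W d) :=
  Groth.Agent.Lib.Helper28.AmpleIso.isInvertible_restrict _ _
    (Groth.Agent.Lib.Helper6.PnPicA.isInvertible_twistOver n Y d)

instance flat_pW : Flat (pW n Y W) := by
  haveI : Flat (KRR.pr n Y) := Groth.Agent.Lib.Helper6.PnFlat.flat_toBase n Y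
  infer_instance

instance (d : ℤ) : (Gd n Y W d).Additive := by
  unfold Gd
  infer_instance

theorem shortExact_pW (S : ShortComplex (W : Scheme.{u}).Modules) (hS : S.ShortExact) :
    (S.map (Scheme.Modules.pullback (pW n Y W))).ShortExact := by
  haveI : (Scheme.Modules.pullback (pW n Y W)).Additive :=
    Groth.Agent.Lib.Helper1.FlatPullback.additive_pullback _
  haveI : PreservesFiniteLimits (Scheme.Modules.pullback (pW n Y W)) :=
    Groth.Agent.Lib.Helper1.FlatPullback.pullback_preservesFiniteLimits _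
  haveI : PreservesFiniteColimits (Scheme.Modules.pullback (pW n Y W)) :=
    Groth.Agent.Lib.Helper1.FlatPullback.preservesFiniteColimits_pullback _
  exact ShortComplex.ShortExact.map_of_exact hS (Scheme.Modules.pullback (pW n Y W))

theorem shortExact_Gd (d : ℤ) (S : ShortComplex (W : Scheme.{u}).Modules) (hS : S.ShortExact) :
    (S.map (Gd n Y W d)).ShortExact := by
  have h1 := shortExact_pW n Y W S hS
  have h2 := Groth.Agent.Lib.Helper6.K0Op.shortExact_tensor_of_flat _
    (Groth.Agent.Lib.Helper6.K0Op.isFlat_of_isInvertible _ (isInvertible_Od n Y W d)) _ h1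
  exact ShortComplex.shortExact_of_iso (ShortComplex.isoMk (Iso.refl _) (Iso.refl _) (Iso.refl _)
    (by simp [Gd]) (by simp [Gd])) h2

instance isQuasicoherent_Gd (d : ℤ) (E : (W : Scheme.{u}).Modules) [E.IsQuasicoherent] :
    ((Gd n Y W d).obj E).IsQuasicoherent := by
  haveI : (Od n Y W d).IsQuasicoherent :=
    (Groth.Agent.Lib.Helper6.K0Op.isCoh_of_isInvertible _ (isInvertible_Od n Y W d)).1
  exact Groth.Agent.Lib.Helper17.TensorQC.isQuasicoherent_tensorMod _ _

variable {W}

/-- cohomological dimension `≤ n` of the inverse image of an affine open -/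
theorem subsingleton_HH_high (hW : IsAffineOpen W)
    (G : ((Zo n Y W : (KRR.PY n Y).Opens) : Scheme.{u}).Modules) [G.IsQuasicoherent] (i : ℕ) (hi : n < i) :
    Subsingleton (Coh.HH ((Zo n Y W : (KRR.PY n Y).Opens) : Scheme.{u}) G i) := by
  obtain ⟨θ, -⟩ := Groth.Agent.Lib.Helper6.PnChart.exists_chart n W hW
  let G' := (Scheme.Modules.pullback θ.inv).obj G
  have α : G ≅ (Scheme.Modules.pullback θ.hom).obj G' :=
    ((Scheme.Modules.pullbackComp θ.hom θ.inv).app G ≪≫
      (Scheme.Modules.pullbackCongr θ.hom_inv_id).app G ≪≫ (Scheme.Modules.pullbackId _).app G).symm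
  haveI : Coh.IsQCoh G' := inferInstanceAs (G'.IsQuasicoherent)
  exact Groth.Agent.Lib.Helper6.PnChart.subsingleton_HH_of_scheme_iso θ G' G α i
    (Groth.Agent.S0022.result n _ G' i hi)

variable (W)

/-- `O(d) ⊗ p_W^* O ≅ O(d)` -/
def GdUnitIso (d : ℤ) : (Gd n Y W d).obj (Coh.structureModule (W : Scheme.{u})) ≅ Od n Y W d :=
  (DCoh.tensorBi.obj (Od n Y W d)).mapIso (Groth.Agent.Lib.Helper16.RS.pullbackUnitIso (pW n Y W)) ≪≫
    SecTwist.unitorR _

variable {W}

attribute [local instance] Abelian.hasFiniteBiproducts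

/-- the cohomology of `O(d)^m` over the inverse image of an affine open -/
theorem subsingleton_HH_Gd_freeN (hW : IsAffineOpen W) (d : ℤ) (i : ℕ) (hi : 1 ≤ i) (hd : -(i : ℤ) ≤ d)
    (m : ℕ) :
    Subsingleton (Coh.HH ((Zo n Y W : (KRR.PY n Y).Opens) : Scheme.{u})
      ((Gd n Y W d).obj (Groth.Agent.Lib.Helper6.FinFreeExt.freeN (W : Scheme.{u}).sheaf m)) i) := by
  by_cases hin : n < i
  · haveI : (Groth.Agent.Lib.Helper6.FinFreeExt.freeN (W : Scheme.{u}).sheaf m :
        (W : Scheme.{u}).Modules).IsQuasicoherent :=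
      (Groth.Agent.Lib.Helper6.ExtShCohA.isCoh_freeN m).1
    exact subsingleton_HH_high n Y hW _ i hin
  · have h0 : Subsingleton (Coh.HH ((Zo n Y W : (KRR.PY n Y).Opens) : Scheme.{u}) (Od n Y W d) i) :=
      Groth.Agent.Lib.Helper6.PnChart.subsingleton_HH_restrict n W hW d i (fun h => by omega)
        (fun h => by omega)
    have h1 : Subsingleton (Coh.HH ((Zo n Y W : (KRR.PY n Y).Opens) : Scheme.{u})
        ((Gd n Y W d).obj (Coh.structureModule (W : Scheme.{u}))) i) :=
      Groth.Agent.Lib.Helper4.VanClass.subsingleton_HH_of_iso (GdUnitIso n Y W d).symm i h0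
    haveI : PreservesBiproduct (fun _ : Fin m => Coh.structureModule (W : Scheme.{u})) (Gd n Y W d) :=
      inferInstance
    have e : (Gd n Y W d).obj (Groth.Agent.Lib.Helper6.FinFreeExt.freeN (W : Scheme.{u}).sheaf m) ≅
        ⨁ fun _ : Fin m => (Gd n Y W d).obj (Coh.structureModule (W : Scheme.{u})) :=
      (Gd n Y W d).mapBiproduct (fun _ : Fin m => Coh.structureModule (W : Scheme.{u}))
    exact Groth.Agent.Lib.Helper4.VanClass.subsingleton_HH_of_iso e.symm i
      (Groth.Agent.Lib.Helper4.CM2.subsingleton_HH_biproduct' _ i (fun _ => h1))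

/-- **the key vanishing**: `H^i(p⁻¹W, O(d) ⊗ p_W^* E) = 0` for `i ≥ 1`, `d ≥ -i`, `E` coherent, `W` affine
Noetherian (descending induction on `i`) -/
theorem subsingleton_HH_Gd [IsLocallyNoetherian Y] (hW : IsAffineOpen W) :
    ∀ (k i : ℕ), 1 ≤ i → n < i + k → ∀ (E : (W : Scheme.{u}).Modules), Coh.IsCoh E →
      ∀ d : ℤ, -(i : ℤ) ≤ d →
      Subsingleton (Coh.HH ((Zo n Y W : (KRR.PY n Y).Opens) : Scheme.{u}) ((Gd n Y W d).obj E) i)
  | 0, i, hi, hk, E, hE, d, hd => by
    haveI : E.IsQuasicoherent := hE.1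
    exact subsingleton_HH_high n Y hW _ i (by omega)
  | k + 1, i, hi, hk, E, hE, d, hd => by
    haveI : IsAffine (W : Scheme.{u}) := hW
    haveI : IsLocallyNoetherian (W : Scheme.{u}) := inferInstance
    obtain ⟨m, p, hp⟩ := Groth.Agent.Lib.Helper6.ExtShCohA.exists_epi_freeN E hE
    have hK : Coh.IsCoh (kernel p) :=
      Groth.Agent.Lib.Helper6.DevCore.isCoh_kernel p (Groth.Agent.Lib.Helper6.ExtShCohA.isCoh_freeN m) hE
    let S : ShortComplex (W : Scheme.{u}).Modules :=
      ShortComplex.mk (kernel.ι p) p (kernel.condition p)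
    have hS : S.ShortExact :=
      { exact := ShortComplex.exact_of_f_is_kernel _ (kernelIsKernel p)
        mono_f := inferInstanceAs (Mono (kernel.ι p))
        epi_g := hp }
    have hS' := shortExact_Gd n Y W d S hS
    have h1 := subsingleton_HH_Gd hW k (i + 1) (by omega) (by omega) (kernel p) hK d
      (by push_cast; omega)
    have h2 := subsingleton_HH_Gd_freeN n Y hW d i hi hd m
    exact Groth.Agent.Lib.Helper2.HLes.subsingleton_X₃
      (Groth.Agent.Lib.Helper2.HLesLin.shortExact_Sab _ hS') i h2 h1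

end Local

section Global

variable {n Y}

/-- restriction of `(p^* N)(d)` to the inverse image of an open -/
def restrictIso (W : Y.Opens) (N : Y.Modules) (d : ℤ) :
    (KRR.twF n Y d ((Scheme.Modules.pullback (KRR.pr n Y)).obj N)).restrict (Zo n Y W).ι ≅
      (Gd n Y W d).obj (N.restrict W.ι) :=
  (Scheme.Modules.restrictFunctorIsoPullback (Zo n Y W).ι).app _ ≪≫
    (Groth.Agent.Lib.Helper16.PBM.muIso (Zo n Y W).ι (Twist.twistOver n Y d)
      ((Scheme.Modules.pullback (KRR.pr n Y)).obj N)).symm ≪≫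
    PicGrp.tensorModIso
      ((Scheme.Modules.restrictFunctorIsoPullback (Zo n Y W).ι).app (Twist.twistOver n Y d)).symm
      (((Scheme.Modules.restrictFunctorIsoPullback (Zo n Y W).ι).app
          ((Scheme.Modules.pullback (KRR.pr n Y)).obj N)).symm ≪≫
        (Groth.Agent.Lib.Helper16.RS.pullbackRestrictIso (KRR.pr n Y) (Zo n Y W).ι W.ι (pW n Y W)
          (morphismRestrict_ι _ _).symm).app N)

theorem isQuasicoherent_twF_pullback (N : Y.Modules) [N.IsQuasicoherent] (d : ℤ) :
    (KRR.twF n Y d ((Scheme.Modules.pullback (KRR.pr n Y)).obj N)).IsQuasicoherent := by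
  haveI : (Twist.twistOver n Y d).IsQuasicoherent :=
    (Groth.Agent.Lib.Helper6.K0Op.isCoh_of_isInvertible _
      (Groth.Agent.Lib.Helper6.PnPicA.isInvertible_twistOver n Y d)).1
  exact Groth.Agent.Lib.Helper17.TensorQC.isQuasicoherent_tensorMod _ _

theorem subsingleton_HH_restrict_twF_pullback [IsLocallyNoetherian Y] (N : Y.Modules) (hN : Coh.IsCoh N)
    (d : ℤ) (i : ℕ) (hi : 1 ≤ i) (hd : -(i : ℤ) ≤ d) (W : Y.Opens) (hW : IsAffineOpen W) :
    Subsingleton (Coh.HH ((Zo n Y W : (KRR.PY n Y).Opens) : Scheme.{u})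
      ((KRR.twF n Y d ((Scheme.Modules.pullback (KRR.pr n Y)).obj N)).restrict (Zo n Y W).ι) i) := by
  have := (subsingleton_HH_Gd n Y hW (n + 1) i hi (by omega) _
      (Groth.Agent.Lib.Helper6.K0LocC.isCoh_restrict W.ι N hN) d hd)
  exact Groth.Agent.Lib.Helper4.VanClass.subsingleton_HH_of_iso (restrictIso W N d).symm i this

/-- **`R^i p_* ((p^* N)(d)) = 0` for `i ≥ 1`, `d ≥ -i`**, `N` coherent on the locally Noetherian `Y` -/
theorem isZero_RpushAb_twF_pullback [IsLocallyNoetherian Y] (N : Y.Modules) (hN : Coh.IsCoh N) (d : ℤ)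
    (i : ℕ) (hi : 1 ≤ i) (hd : -(i : ℤ) ≤ d) :
    IsZero ((Coh.RpushAb (KRR.pr n Y) i).obj
      (Coh.toAb (KRR.twF n Y d ((Scheme.Modules.pullback (KRR.pr n Y)).obj N)))) := by
  haveI : IsProper (KRR.pr n Y) := Groth.Agent.Lib.Helper6.PnFlat.isProper_toBase n Y
  haveI : N.IsQuasicoherent := hN.1
  haveI := isQuasicoherent_twF_pullback (n := n) N d
  refine Groth.Agent.Lib.Helper4.RpushZero.isZero_RpushAb_of_cover (KRR.pr n Y)
    (KRR.twF n Y d ((Scheme.Modules.pullback (KRR.pr n Y)).obj N)) i (fun y => ?_)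
  obtain ⟨W, hW, hyW, -⟩ := Opens.isBasis_iff_nbhd.mp Y.isBasis_affineOpens
    (show y ∈ (⊤ : Y.Opens) from trivial)
  exact ⟨W, hW, hyW, subsingleton_HH_restrict_twF_pullback N hN d i hi hd W hW⟩

/-- `p^* N` is regular -/
theorem isRegSheaf_pullback [IsLocallyNoetherian Y] (N : Y.Modules) (hN : Coh.IsCoh N) :
    KRR.IsRegSheaf n Y ((Scheme.Modules.pullback (KRR.pr n Y)).obj N) :=
  fun i hi => isZero_RpushAb_twF_pullback N hN _ i hi le_rfl

end Global

end Groth.Agent.Lib.Helper6.KRRPullReg
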