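import Groth.Agent.Lib.Helper6.KRRCounit
import Groth.Agent.Lib.Helper6.KRRPullReg
import Groth.Agent.Lib.Helper4.RpushCoh
import Mathlib
set_option backward.isDefEq.respectTransparency.types false
set_option autoImplicit false
set_option linter.style.haveILetI false
set_option linter.unusedSectionVars false
set_option linter.unusedVariables false
universe u v
open AlgebraicGeometry CategoryTheory Opposite TopologicalSpace CategoryTheory.Limits ZeroObject

/-!
# Helper6 — KRRCounitKer: the kernel `Z` of `p^* p_* F ⟶ F` for regular coherent `F` on `P^n_Y` has `Z(1)` regular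
-/

noncomputable section
namespace Groth.Agent.Lib.Helper6.KRRCounitKer

open Groth.Agent.Lib.Helper6.KRRReg Groth.Agent.Lib.Helper6.KRRCounit Groth.Agent.Lib.Helper6.KRRPullReg

variable (n : ℕ) (Y : Scheme.{u})

/-- the direct image of a coherent module on `P^n_Y` is coherent -/
theorem isCoh_push [IsNoetherian Y] (F : (KRR.PY n Y).Modules) (hF : Coh.IsCoh F) :
    Coh.IsCoh ((Scheme.Modules.pushforward (KRR.pr n Y)).obj F) := by
  haveI : IsProper (KRR.pr n Y) := Groth.Agent.Lib.Helper6.PnFlat.isProper_toBase n Y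
  haveI : HasInjectiveResolutions (KRR.PY n Y).Modules := inferInstance
  exact Groth.Agent.Lib.Helper6.DevCore.isCoh_of_iso
    ((Functor.rightDerivedZeroIsoSelf (Scheme.Modules.pushforward (KRR.pr n Y))).app F)
    (Groth.Agent.Lib.Helper4.RpushCoh.isCoh_Rpush (KRR.pr n Y) F hF 0)

/-- `(p^* N)(1)` is regular -/
theorem isRegSheaf_twF_one_pullback [IsNoetherian Y] (N : Y.Modules) (hN : Coh.IsCoh N) :
    KRR.IsRegSheaf n Y (KRR.twF n Y 1 ((Scheme.Modules.pullback (KRR.pr n Y)).obj N)) := by
  intro i hi
  obtain ⟨e⟩ := nonempty_twF_twF n Y (-(i : ℤ)) 1 (1 - (i : ℤ)) (by ring)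
    ((Scheme.Modules.pullback (KRR.pr n Y)).obj N)
  exact isZero_Rp_of_iso _ _ e (isZero_RpushAb_twF_pullback N hN (1 - (i : ℤ)) i hi (by omega))

/-- **S3755, second half** -/
theorem isRegSheaf_twF_one_kernel_counit [IsNoetherian Y] (F : (KRR.PY n Y).Modules) (hF : Coh.IsCoh F)
    (hreg : KRR.IsRegSheaf n Y F) :
    KRR.IsRegSheaf n Y (KRR.twF n Y 1
      (kernel ((Scheme.Modules.pullbackPushforwardAdjunction (KRR.pr n Y)).counit.app F))) := by
  haveI : Epi ((Scheme.Modules.pullbackPushforwardAdjunction (KRR.pr n Y)).counit.app F) :=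
    epi_counit_of_isRegSheaf n Y F hF hreg
  let S : ShortComplex (KRR.PY n Y).Modules :=
    ShortComplex.mk (kernel.ι ((Scheme.Modules.pullbackPushforwardAdjunction (KRR.pr n Y)).counit.app F))
      ((Scheme.Modules.pullbackPushforwardAdjunction (KRR.pr n Y)).counit.app F) (kernel.condition _)
  have hS : S.ShortExact :=
    { exact := ShortComplex.exact_of_f_is_kernel _ (kernelIsKernel _)
      mono_f := inferInstanceAs (Mono (kernel.ι _))
      epi_g := inferInstanceAs
        (Epi ((Scheme.Modules.pullbackPushforwardAdjunction (KRR.pr n Y)).counit.app F)) }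
  have hepi : Epi ((Scheme.Modules.pushforward (KRR.pr n Y)).map S.g) :=
    epi_of_epi_fac
      ((Scheme.Modules.pullbackPushforwardAdjunction (KRR.pr n Y)).right_triangle_components F)
  exact isRegSheaf_twF_one_X₁ n Y S hS
    (isRegSheaf_twF_one_pullback n Y _ (isCoh_push n Y F hF)) hreg hepi

end Groth.Agent.Lib.Helper6.KRRCounitKer
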