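import Groth.Agent.Lib.Helper6.KRRKos
import Groth.Agent.Lib.Helper4.CM1
import Groth.Agent.Lib.Helper16.Stk5
import Groth.Agent.Lib.Helper28.ProjUPUniq1
import Groth.Agent.Lib.Helper28.Segre5
import Mathlib

/-!
# The twisted Koszul complex of sections of a module (helper6)

For a scheme `X`, a module `A` and sections `s k : O ⟶ A`, the complexes `K (- ⊗ A) (mulR (s k)) N G`
are acyclic as soon as every point has some `s j`, `j < N`, which is an isomorphism at the stalk.
-/

set_option backward.isDefEq.respectTransparency.types false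
set_option autoImplicit false
set_option linter.style.haveILetI false
set_option linter.unusedSectionVars false
set_option linter.unusedVariables false
universe u
open CategoryTheory CategoryTheory.Limits AlgebraicGeometry Opposite TopologicalSpace MonoidalCategory

noncomputable section
namespace Groth.Agent.Lib.Helper6.KRRKosGeo

open Groth.Agent.Lib.Helper6.KosCone Groth.Agent.Lib.Helper16.Stk Groth.Agent.Lib.Helper4.CM1

section General

variable {X : Scheme.{u}}

/-- a morphism which is bijective on the sections over all small opens around `x` is an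
isomorphism on the stalk at `x` -/
theorem isIso_stk_map_of_bijective {M N : X.Modules} (φ : M ⟶ N) (U : X.Opens) (x : X) (hx : x ∈ U)
    (h : ∀ W : X.Opens, W ≤ U → Function.Bijective (φ.app W)) : IsIso ((stk x).map φ) := by
  rw [ConcreteCategory.isIso_iff_bijective]
  constructor
  · rw [injective_iff_map_eq_zero]
    intro a ha
    obtain ⟨W, hW, s, rfl⟩ := TopCat.Presheaf.exists_germ_eq M.presheaf a
    have hxWU : x ∈ W ⊓ U := ⟨hW, hx⟩
    have e1 : M.presheaf.germ W x hW s =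
        M.presheaf.germ (W ⊓ U) x hxWU (M.presheaf.map (homOfLE inf_le_left).op s) :=
      (TopCat.Presheaf.germ_res_apply M.presheaf (homOfLE inf_le_left) x hxWU s).symm
    rw [e1] at ha ⊢
    have ha' : N.presheaf.germ (W ⊓ U) x hxWU
        (φ.app (W ⊓ U) (M.presheaf.map (homOfLE inf_le_left).op s)) = 0 := by
      rw [← DerSch.stalkFunctor_map_germ]
      exact ha
    have h0 : N.presheaf.germ (W ⊓ U) x hxWU
        (φ.app (W ⊓ U) (M.presheaf.map (homOfLE inf_le_left).op s)) =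
        N.presheaf.germ (W ⊓ U) x hxWU 0 := by
      rw [ha']
      exact (map_zero _).symm
    obtain ⟨V, hV, iU, iV, h₁⟩ := TopCat.Presheaf.germ_eq N.presheaf x hxWU hxWU _ _ h0
    have hVU : V ≤ U := (leOfHom iU).trans inf_le_right
    have h2 : φ.app V (M.presheaf.map iU.op (M.presheaf.map (homOfLE inf_le_left).op s)) = 0 := by
      have hn := congr_arg (fun f => f.hom (M.presheaf.map (homOfLE inf_le_left).op s))
        ((Scheme.Modules.Hom.mapPresheaf φ).naturality iU.op)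
      simp only [map_zero] at h₁
      exact hn.trans h₁
    have h3 : M.presheaf.map iU.op (M.presheaf.map (homOfLE inf_le_left).op s) = 0 :=
      (h V hVU).1 (h2.trans (map_zero _).symm)
    rw [← TopCat.Presheaf.germ_res_apply M.presheaf iU x hV, h3]
    exact map_zero _
  · intro b
    obtain ⟨W, hW, t, rfl⟩ := TopCat.Presheaf.exists_germ_eq N.presheaf b
    have hxWU : x ∈ W ⊓ U := ⟨hW, hx⟩
    obtain ⟨s, hs⟩ := (h (W ⊓ U) inf_le_right).2 (N.presheaf.map (homOfLE inf_le_left).op t)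
    refine ⟨M.presheaf.germ (W ⊓ U) x hxWU s, ?_⟩
    have := DerSch.stalkFunctor_map_germ x φ (W ⊓ U) hxWU s
    refine this.trans ?_
    rw [hs]
    exact TopCat.Presheaf.germ_res_apply N.presheaf (homOfLE inf_le_left) x hxWU t

end General

section Koszul

variable {X : Scheme.{u}} (A : X.Modules) (s : ℕ → (Coh.structureModule X ⟶ A))

/-- `N ↦ N ⊗ A` -/
abbrev TA : X.Modules ⥤ X.Modules := DCoh.tensorRightMod A

/-- right multiplication by the section `s k` -/
def tauA (k : ℕ) : 𝟭 X.Modules ⟶ TA A where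
  app N := mulR (s k) N
  naturality {N N'} f := by
    show f ≫ mulR (s k) N' = mulR (s k) N ≫ (DCoh.tensorRightMod A).map f
    rw [KoszTw.tensorRightMod_map]
    exact mulR_naturality (s k) f

lemma isIso_stk_map_TA_map (x : X) {M M' : X.Modules} (f : M ⟶ M')
    (hf : IsIso ((stk x).map f)) : IsIso ((stk x).map ((TA A).map f)) := by
  have h := stalkTensorIso_natL x f A
  have e : (stk x).map ((TA A).map f) = (stalkTensorIso x M A).inv ≫
      ((stk x).map f ▷ (stk x).obj A) ≫ (stalkTensorIso x M' A).hom := by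
    rw [h, Iso.inv_hom_id_assoc]
    rfl
  rw [e]
  haveI := hf
  have h2 : IsIso ((stk x).map f ▷ (stk x).obj A) := inferInstance
  exact IsIso.comp_isIso' inferInstance (IsIso.comp_isIso' h2 inferInstance)

lemma isIso_stk_map_tauA (x : X) (k : ℕ) (hk : IsIso ((stk x).map (s k))) (N : X.Modules) :
    IsIso ((stk x).map ((tauA A s k).app N)) := by
  have h := stalkTensorIso_natR x N (s k)
  let u : N ⟶ (DCoh.tensorBi.obj N).obj (Coh.structureModule X) := (SecTwist.unitorR N).inv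
  haveI : IsIso u := inferInstanceAs (IsIso (SecTwist.unitorR N).inv)
  have e1 : (tauA A s k).app N = u ≫ (DCoh.tensorBi.obj N).map (s k) := by
    show mulR (s k) N = _
    unfold mulR
    congr 1
    exact (KoszTw.tensorBi_obj_map N (s k)).symm
  have e : (stk x).map ((DCoh.tensorBi.obj N).map (s k)) =
      (stalkTensorIso x N (Coh.structureModule X)).inv ≫
      ((stk x).obj N ◁ (stk x).map (s k)) ≫ (stalkTensorIso x N A).hom := by
    rw [h, Iso.inv_hom_id_assoc]
  haveI := hk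
  have h2 : IsIso ((stk x).obj N ◁ (stk x).map (s k)) := inferInstance
  have h3 : IsIso ((stk x).map u) := inferInstance
  have key : IsIso ((stk x).map u ≫ (stk x).map ((DCoh.tensorBi.obj N).map (s k))) := by
    rw [e]
    exact IsIso.comp_isIso' h3 (IsIso.comp_isIso' inferInstance (IsIso.comp_isIso' h2 inferInstance))
  have e2 : (stk x).map ((tauA A s k).app N) =
      (stk x).map u ≫ (stk x).map ((DCoh.tensorBi.obj N).map (s k)) := by
    have := congrArg (fun g : N ⟶ (DCoh.tensorBi.obj N).obj A => (stk x).map g) e1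
    exact this.trans ((stk x).map_comp _ _)
  rw [e2]
  exact key

/-- **acyclicity of the twisted Koszul complex** -/
theorem acyclic_K (N : ℕ) (hcov : ∀ x : X, ∃ j, j < N ∧ IsIso ((stk x).map (s j))) (G : X.Modules) :
    ((K (TA A) (tauA A s) N).obj G).Acyclic := by
  rw [← Groth.Agent.Lib.Helper16.BiCx.acyc_iff_acyclic, acyc_iff_forall_stalk]
  intro x
  rw [Groth.Agent.Lib.Helper16.BiCx.acyc_iff_acyclic]
  obtain ⟨j, hjN, hj⟩ := hcov x
  exact acyclic_map_K (stk x) (TA A) (tauA A s)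
    (fun f hf => isIso_stk_map_TA_map A x f hf) j
    (fun M => isIso_stk_map_tauA A s x j hj M) N hjN G

end Koszul

section Pn

open Groth.Agent.Lib.Helper28 Groth.Agent.Lib.Helper28.QCohLoc Groth.Agent.Lib.Helper28.GenLocus
  Groth.Agent.Lib.Helper28.PullbackInv Groth.Agent.Lib.Helper4.Bridge

variable (n : ℕ) (T : Scheme.{u})

/-- the projection `P^n_T ⟶ P^n_ℤ` -/
abbrev prZ : KRR.PY n T ⟶ CohB1.ProjSpace n Zu :=
  pullback.fst (CohB1.ProjSpace.toSpec n (ULift.{u} ℤ)) (specULiftZIsTerminal.from T)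

theorem hX (a : Fin (n + 1)) : (MvPolynomial.X a : MvPolynomial (Fin (n + 1)) Zu) ∈ gZ n 1 :=
  MvPolynomial.isHomogeneous_X Zu a

/-- the coordinate sections `x_j` of `O(1)` on `P^n_T` -/
def secP (j : ℕ) : Coh.structureModule (KRR.PY n T) ⟶ Twist.twistOver n T 1 :=
  if h : j < n + 1 then
    TwistGen.ofSection (Twist.twistOver n T 1)
      (pbs (prZ n T) (Twist.twist (gZ n) ((1 : ℕ) : ℤ)) ⊤
        (TwistGen.gsec (gZ n) (MvPolynomial.X (⟨j, h⟩ : Fin (n + 1))) (hX n ⟨j, h⟩)))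
  else 0

theorem exists_isIso_stk_map_secP (x : KRR.PY n T) :
    ∃ j, j < n + 1 ∧ IsIso ((stk x).map (secP n T j)) := by
  obtain ⟨j, hj⟩ := Segre5.cover_of_adjoin (gZ n)
    (fun k : Fin (n + 1) => (MvPolynomial.X k : MvPolynomial (Fin (n + 1)) Zu))
    (fun k => hX n k) (MvPolynomial.adjoin_range_X) ((prZ n T) x)
  refine ⟨j.1, j.2, ?_⟩
  have hgen := ProjUPUniq.isGen_pbs_gsec (gZ n) (prZ n T) (hX n j)
    ((prZ n T) ⁻¹ᵁ Proj.basicOpen (gZ n) (MvPolynomial.X j)) le_rfl
  refine isIso_stk_map_of_bijective _ ((prZ n T) ⁻¹ᵁ Proj.basicOpen (gZ n) (MvPolynomial.X j)) x hj ?_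
  intro W hW
  have h1 := hgen W hW
  rw [res_res] at h1
  have hs : secP n T j.1 = TwistGen.ofSection (Twist.twistOver n T 1)
      (pbs (prZ n T) (Twist.twist (gZ n) ((1 : ℕ) : ℤ)) ⊤
        (TwistGen.gsec (gZ n) (MvPolynomial.X j) (hX n j))) := by
    unfold secP
    rw [dif_pos j.2]
  rw [hs]
  have hfun : ((TwistGen.ofSection (Twist.twistOver n T 1)
      (pbs (prZ n T) (Twist.twist (gZ n) ((1 : ℕ) : ℤ)) ⊤
        (TwistGen.gsec (gZ n) (MvPolynomial.X j) (hX n j)))).app W :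
        Γ(Coh.structureModule (KRR.PY n T), W) → _) = fun c : Γ(KRR.PY n T, W) =>
      (c • res (Twist.twistOver n T 1) (le_top : W ≤ ⊤)
        (pbs (prZ n T) (Twist.twist (gZ n) ((1 : ℕ) : ℤ)) ⊤
          (TwistGen.gsec (gZ n) (MvPolynomial.X j) (hX n j))) :
        Γ(Twist.twistOver n T 1, W)) := by
    funext c
    exact TwistGen.ofSection_app _ _ W c
  rw [hfun]
  exact h1

end Pn

section Main

open Groth.Agent.Lib.Helper6.KRRReg Groth.Agent.Lib.Helper6.KRRKos Groth.Agent.Lib.Helper6.K0Inv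

variable (n : ℕ) (T : Scheme.{u})

/-- `twF d` on isomorphisms -/
def twFIso (d : ℤ) {F F' : (KRR.PY n T).Modules} (e : F ≅ F') : KRR.twF n T d F ≅ KRR.twF n T d F' :=
  (DCoh.tensorBi.obj (Twist.twistOver n T d)).mapIso e

theorem isRegSheaf_of_iso {F F' : (KRR.PY n T).Modules} (e : F ≅ F') (h : KRR.IsRegSheaf n T F) :
    KRR.IsRegSheaf n T F' := fun i hi =>
  isZero_Rp_of_iso _ _ (twFIso n T _ e.symm) (h i hi)

/-- iterated `- ⊗ O(1)` is the twist -/
theorem nonempty_Tpow_iso : ∀ (a : ℕ) (G : (KRR.PY n T).Modules),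
    Nonempty (Tpow (TA (Twist.twistOver n T 1)) a G ≅ KRR.twF n T (a : ℤ) G)
  | 0, G => by
    obtain ⟨e⟩ := nonempty_twF_zero n T G
    exact ⟨e.symm⟩
  | a + 1, G => by
    obtain ⟨e⟩ := nonempty_Tpow_iso a ((TA (Twist.twistOver n T 1)).obj G)
    let b : (TA (Twist.twistOver n T 1)).obj G ≅ KRR.twF n T 1 G := braidIso G (Twist.twistOver n T 1)
    obtain ⟨c⟩ := nonempty_twF_twF n T (a : ℤ) 1 ((a + 1 : ℕ) : ℤ) (by push_cast; ring) G
    exact ⟨e ≪≫ twFIso n T _ b ≪≫ c⟩

lemma isZero_Rp_biprod {X Y : Scheme.{u}} (f : X ⟶ Y) (k : ℕ) (M N : X.Modules)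
    (hM : IsZero (Rp f k M)) (hN : IsZero (Rp f k N)) : IsZero (Rp f k (M ⊞ N)) := by
  haveI : (Coh.RpushAb f k).Additive := RDShift.rightDerived_additive _ k
  let Φ : X.Modules ⥤ Sheaf (Opens.grothendieckTopology Y) AddCommGrpCat.{u} :=
    SheafOfModules.toSheaf X.ringCatSheaf ⋙ Coh.RpushAb f k
  haveI : Φ.Additive := inferInstance
  have hM' : IsZero (Φ.obj M) := hM
  have hN' : IsZero (Φ.obj N) := hN
  show IsZero (Φ.obj (M ⊞ N))
  rw [IsZero.iff_id_eq_zero, ← Φ.map_id, ← biprod.total, Φ.map_add, Φ.map_comp, Φ.map_comp,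
    hM'.eq_of_tgt (Φ.map biprod.fst) 0, hN'.eq_of_tgt (Φ.map biprod.snd) 0, zero_comp, zero_comp,
    add_zero]

/-- **Mumford's lemma**: if `F` is regular then so is `F(1)`. -/
theorem isRegSheaf_twF_one (F : (KRR.PY n T).Modules) (hreg : KRR.IsRegSheaf n T F) :
    KRR.IsRegSheaf n T (KRR.twF n T 1 F) := by
  intro i hi
  let A := Twist.twistOver n T 1
  let G : (KRR.PY n T).Modules := KRR.twF n T (-(i : ℤ) - n) F
  let C := (K (TA A) (tauA A (secP n T)) (n + 1)).obj G
  have hC : C.Acyclic := acyclic_K A (secP n T) (n + 1) (exists_isIso_stk_map_secP n T) G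
  have hlow : IsZero (C.X (-((n + 1 + 1 : ℕ) : ℤ))) :=
    prop_X (TA A) (tauA A (secP n T)) IsZero (fun X Y e h => h.of_iso e.symm) (fun X h => h)
      (fun X Y hX hY => (biprod_isZero_iff X Y).2 ⟨hX, hY⟩) (n + 1) _ G
      (fun a ha hak => by push_cast at ha; omega)
  have hhigh : IsZero (C.X 1) :=
    prop_X (TA A) (tauA A (secP n T)) IsZero (fun X Y e h => h.of_iso e.symm) (fun X h => h)
      (fun X Y hX hY => (biprod_isZero_iff X Y).2 ⟨hX, hY⟩) (n + 1) _ G
      (fun a ha hak => by push_cast at ha; omega)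
  have h : ∀ s : ℕ, IsZero (Rp (KRR.pr n T) (i + s) (C.X (-((s + 1 : ℕ) : ℤ)))) := by
    intro s
    refine prop_X (TA A) (tauA A (secP n T)) (fun X => IsZero (Rp (KRR.pr n T) (i + s) X))
      (fun X Y e h => isZero_Rp_of_iso _ _ e.symm h) (fun X h => isZero_Rp_of_isZero _ _ h)
      (fun X Y hX hY => isZero_Rp_biprod _ _ X Y hX hY) (n + 1) _ G (fun a ha hak => ?_)
    obtain ⟨e1⟩ := nonempty_Tpow_iso n T a G
    obtain ⟨e2⟩ := nonempty_twF_twF n T (a : ℤ) (-(i : ℤ) - n) (-((i + s : ℕ) : ℤ))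
      (by push_cast at ha ⊢; omega) F
    exact isZero_Rp_of_iso _ _ (e1 ≪≫ e2) (hreg (i + s) (by omega))
  have h0 := isZero_Rp_of_acyclic (KRR.pr n T) C hC (n + 1) hlow hhigh i h
  obtain ⟨e0⟩ := nonempty_X_zero_iso (TA A) (tauA A (secP n T)) (n + 1) G
  obtain ⟨e1⟩ := nonempty_Tpow_iso n T (n + 1) G
  obtain ⟨e2⟩ := nonempty_twF_twF n T ((n + 1 : ℕ) : ℤ) (-(i : ℤ) - n) (-(i : ℤ) + 1)
    (by push_cast; ring) F
  obtain ⟨e3⟩ := nonempty_twF_twF n T (-(i : ℤ)) 1 (-(i : ℤ) + 1) rfl F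
  exact isZero_Rp_of_iso _ _ (e3 ≪≫ e2.symm ≪≫ e1.symm ≪≫ e0.symm) h0

/-- `F(m)` is regular for all `m ≥ 0` -/
theorem isRegSheaf_twF_nat (F : (KRR.PY n T).Modules) (hreg : KRR.IsRegSheaf n T F) :
    ∀ m : ℕ, KRR.IsRegSheaf n T (KRR.twF n T (m : ℤ) F)
  | 0 => by
    obtain ⟨e⟩ := nonempty_twF_zero n T F
    exact isRegSheaf_of_iso n T e.symm hreg
  | m + 1 => by
    obtain ⟨e⟩ := nonempty_twF_twF n T 1 (m : ℤ) ((m + 1 : ℕ) : ℤ) (by push_cast; ring) F
    exact isRegSheaf_of_iso n T e (isRegSheaf_twF_one n T _ (isRegSheaf_twF_nat F hreg m))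

/-- the higher direct images of a regular sheaf vanish -/
theorem isZero_Rp_of_isRegSheaf (F : (KRR.PY n T).Modules) (hreg : KRR.IsRegSheaf n T F)
    (i : ℕ) (hi : 1 ≤ i) : IsZero (Rp (KRR.pr n T) i F) := by
  have h := isRegSheaf_twF_nat n T F hreg i i hi
  obtain ⟨e⟩ := nonempty_twF_twF n T (-(i : ℤ)) (i : ℤ) 0 (by ring) F
  obtain ⟨e'⟩ := nonempty_twF_zero n T F
  exact isZero_Rp_of_iso _ _ (e'.symm ≪≫ e.symm) h

end Main

end Groth.Agent.Lib.Helper6.KRRKosGeo
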