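import Groth.Agent.Lib.Helper6.KRRPushO
import Groth.Agent.Lib.Helper6.KosClass
import Groth.Agent.Lib.Helper6.K0Euler
import Groth.Agent.Lib.Helper6.KRRBinom
import Groth.Agent.Lib.Helper16.RS12
import Groth.Agent.Lib.Helper16.ResDiag
import Groth.Agent.Lib.Helper16.LocFree1
import Groth.Agent.Lib.Helper26.LC35
import Mathlib
set_option backward.isDefEq.respectTransparency.types false
set_option autoImplicit false
set_option linter.style.haveILetI false
set_option linter.unusedSectionVars false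
set_option linter.unusedVariables false
universe u v
open AlgebraicGeometry CategoryTheory Opposite TopologicalSpace CategoryTheory.Limits ZeroObject

/-!
# Helper6 — KRRKosK: the Koszul relations in `K(P^n_Y)` and `K(Y)`
-/

noncomputable section
namespace Groth.Agent.Lib.Helper6.KRRKosK

open Groth.Agent.Lib.Helper6.KRRKosGeo Groth.Agent.Lib.Helper6.KRRReg Groth.Agent.Lib.Helper6.KosCone
  Groth.Agent.Lib.Helper6.KRRPushO Groth.Agent.Lib.Helper6.KRRPush

attribute [local instance] HasDerivedCategory.standard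

section General

variable {X : Scheme.{u}}

theorem vb_hker (S : ShortComplex X.Modules) (hS : S.ShortExact) (h2 : FlatMod.IsFinLocFree S.X₂)
    (h3 : FlatMod.IsFinLocFree S.X₃) : FlatMod.IsFinLocFree S.X₁ := by
  haveI := hS.epi_g
  have hk := Groth.Agent.Lib.Helper16.LocFree.isFinLocFree_kernel_of_epi S.g h2 h3
  haveI := hS.mono_f
  exact Groth.Agent.Lib.Helper16.RS.isFinLocFree_of_iso
    (IsLimit.conePointUniqueUpToIso (kernelIsKernel S.g) hS.fIsKernel) hk

theorem cl_biprod (M N : X.Modules) (hM : FlatMod.IsFinLocFree M) (hN : FlatMod.IsFinLocFree N) :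
    KRR.cl X (M ⊞ N) = KRR.cl X M + KRR.cl X N :=
  Groth.Agent.Lib.Helper16.K0Db.clSub_shortExact (KRR.vbP X) _
    (Groth.Agent.Lib.Helper16.ResD.biprod_shortExact M N) hM
    (Groth.Agent.Lib.Helper16.RS.isFinLocFree_biprod M N hM hN) hN

end General

variable (n : ℕ) (Y : Scheme.{u})

/-- the Koszul complex of `G` on `P^n_Y`: terms `G(a)^{C(n+1,a)}` in degree `a - (n+1)` -/
abbrev CK (G : (KRR.PY n Y).Modules) : CochainComplex (KRR.PY n Y).Modules ℤ :=
  (K (TA (Twist.twistOver n Y 1)) (tauA (Twist.twistOver n Y 1) (secP n Y)) (n + 1)).obj G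

theorem acyclic_CK (G : (KRR.PY n Y).Modules) : (CK n Y G).Acyclic :=
  acyclic_K (Twist.twistOver n Y 1) (secP n Y) (n + 1) (exists_isIso_stk_map_secP n Y) G

theorem isFinLocFree_twF (d : ℤ) (G : (KRR.PY n Y).Modules) (hG : FlatMod.IsFinLocFree G) :
    FlatMod.IsFinLocFree (KRR.twF n Y d G) :=
  Groth.Agent.Lib.Helper26.LC35.isFinLocFree_tensor _ _
    (fun x => by
      obtain ⟨W, hxW, e⟩ := Groth.Agent.Lib.Helper6.K0Op.isFinLocFreeOfRank_one_of_isInvertible _
        (Groth.Agent.Lib.Helper6.PnPicA.isInvertible_twistOver n Y d) x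
      exact ⟨W, 1, hxW, e⟩) hG

/-- **the Koszul relation in `K(P^n_Y)`** -/
theorem koszul_relation (G : (KRR.PY n Y).Modules) (hG : FlatMod.IsFinLocFree G) :
    ∑ k ∈ Finset.range (n + 2), ((-1 : ℤ) ^ (n + 1 - k) * ((n + 1).choose k : ℤ)) •
      KRR.cl (KRR.PY n Y) (KRR.twF n Y (k : ℤ) G) = 0 := by
  have hT : ∀ a : ℕ, FlatMod.IsFinLocFree (Tpow (TA (Twist.twistOver n Y 1)) a G) := fun a => by
    obtain ⟨e⟩ := nonempty_Tpow_iso n Y a G
    exact Groth.Agent.Lib.Helper16.RS.isFinLocFree_of_iso e.symm (isFinLocFree_twF n Y a G hG)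
  have hQiso : ∀ M N : (KRR.PY n Y).Modules, (M ≅ N) → FlatMod.IsFinLocFree M → FlatMod.IsFinLocFree N :=
    fun M N e h => Groth.Agent.Lib.Helper16.RS.isFinLocFree_of_iso e h
  have hQzero : ∀ M : (KRR.PY n Y).Modules, IsZero M → FlatMod.IsFinLocFree M :=
    fun M h => isFinLocFree_of_isZero M h
  have hQbi : ∀ M N : (KRR.PY n Y).Modules, FlatMod.IsFinLocFree M → FlatMod.IsFinLocFree N →
      FlatMod.IsFinLocFree (M ⊞ N) := fun M N => Groth.Agent.Lib.Helper16.RS.isFinLocFree_biprod M N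
  have hterm : ∀ m : ℤ, FlatMod.IsFinLocFree ((CK n Y G).X m) := fun m =>
    prop_X _ _ (fun M => FlatMod.IsFinLocFree M) hQiso hQzero hQbi (n + 1) m G (fun a _ _ => hT a)
  have hE := Groth.Agent.Lib.Helper6.K0Euler.euler_acyclic (KRR.vbP (KRR.PY n Y)) hQzero
    (fun S hS h2 h3 => vb_hker S hS h2 h3) (CK n Y G) (acyclic_CK n Y G) (n + 1)
    (isZero_X_of_not_mem _ _ (n + 1) _ G (Or.inl (by push_cast; omega)))
    (isZero_X_of_not_mem _ _ (n + 1) _ G (Or.inr one_pos)) (fun j _ => hterm _)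
  rw [← Finset.sum_range_reflect] at hE
  rw [← hE]
  refine Finset.sum_congr rfl (fun k hk => ?_)
  have hk' := Finset.mem_range.1 hk
  have hcl := class_X (TA (Twist.twistOver n Y 1)) (tauA (Twist.twistOver n Y 1) (secP n Y))
    (fun M => FlatMod.IsFinLocFree M) (fun M => KRR.cl (KRR.PY n Y) M)
    hQiso hQzero hQbi (fun M N e h => cl_iso e h)
    (fun M h => Groth.Agent.Lib.Helper16.K0Db.clSub_isZero _ M h)
    (fun M N hM hN => cl_biprod M N hM hN) (n + 1) (-((n + 1 + 1 - 1 - k : ℕ) : ℤ)) G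
    (fun a _ => hT a) k (by push_cast [Nat.cast_sub (show k ≤ n + 1 + 1 - 1 by omega)]; omega) (by omega)
  have hcl' : KRR.cl (KRR.PY n Y) ((CK n Y G).X (-((n + 1 + 1 - 1 - k : ℕ) : ℤ))) =
      (n + 1).choose k • KRR.cl (KRR.PY n Y) (Tpow (TA (Twist.twistOver n Y 1)) k G) := hcl
  obtain ⟨e⟩ := nonempty_Tpow_iso n Y k G
  have hcl'' : KZero.clSub (KRR.vbP (KRR.PY n Y)) ((CK n Y G).X (-((n + 1 + 1 - 1 - k : ℕ) : ℤ))) =
      (n + 1).choose k • KRR.cl (KRR.PY n Y) (KRR.twF n Y (k : ℤ) G) := by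
    rw [← cl_iso e (hT k)]
    exact hcl'
  rw [hcl'']
  have hexp : n + 1 + 1 - 1 - k = n + 1 - k := by omega
  rw [hexp, mul_smul, natCast_zsmul]

section Push

/-- an additive functor killing two objects kills their biproduct -/
lemma isZero_map_biprod {𝒜 ℬ : Type*} [Category 𝒜] [Category ℬ] [Preadditive 𝒜] [Preadditive ℬ]
    (Φ : 𝒜 ⥤ ℬ) [Φ.Additive] (M N : 𝒜) [HasBinaryBiproduct M N]
    (hM : IsZero (Φ.obj M)) (hN : IsZero (Φ.obj N)) : IsZero (Φ.obj (M ⊞ N)) := by
  rw [IsZero.iff_id_eq_zero, ← Φ.map_id, ← biprod.total, Φ.map_add, Φ.map_comp, Φ.map_comp,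
    hM.eq_of_tgt (Φ.map biprod.fst) 0, hN.eq_of_tgt (Φ.map biprod.snd) 0, zero_comp, zero_comp,
    add_zero]

/-- finite locally free with vanishing higher direct images -/
def Good (M : (KRR.PY n Y).Modules) : Prop :=
  FlatMod.IsFinLocFree M ∧ ∀ i : ℕ, IsZero ((Coh.Rpush (KRR.pr n Y) (i + 1)).obj M)

variable {n Y}

theorem Good.of_iso {M N : (KRR.PY n Y).Modules} (e : M ≅ N) (h : Good n Y M) : Good n Y N :=
  ⟨Groth.Agent.Lib.Helper16.RS.isFinLocFree_of_iso e h.1,
    fun i => (h.2 i).of_iso ((Coh.Rpush (KRR.pr n Y) (i + 1)).mapIso e.symm)⟩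

theorem Good.of_isZero {M : (KRR.PY n Y).Modules} (h : IsZero M) : Good n Y M :=
  ⟨isFinLocFree_of_isZero M h, fun i => by
    haveI : (Coh.Rpush (KRR.pr n Y) (i + 1)).Additive := RDShift.rightDerived_additive _ _
    exact (Coh.Rpush (KRR.pr n Y) (i + 1)).map_isZero h⟩

theorem Good.biprod {M N : (KRR.PY n Y).Modules} (hM : Good n Y M) (hN : Good n Y N) :
    Good n Y (M ⊞ N) :=
  ⟨Groth.Agent.Lib.Helper16.RS.isFinLocFree_biprod M N hM.1 hN.1, fun i => by
    haveI : (Coh.Rpush (KRR.pr n Y) (i + 1)).Additive := RDShift.rightDerived_additive _ _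
    exact isZero_map_biprod _ M N (hM.2 i) (hN.2 i)⟩

theorem Good.isFinLocFree_push [IsNoetherian Y] {M : (KRR.PY n Y).Modules} (h : Good n Y M) :
    FlatMod.IsFinLocFree ((Scheme.Modules.pushforward (KRR.pr n Y)).obj M) := by
  haveI : IsProper (KRR.pr n Y) := Groth.Agent.Lib.Helper6.PnFlat.isProper_toBase n Y
  haveI : Flat (KRR.pr n Y) := Groth.Agent.Lib.Helper6.PnFlat.flat_toBase n Y
  refine isFinLocFree_push_of_isZero_Rpush (KRR.pr n Y) M
    (Groth.Agent.Lib.Helper17.FFLocFree.isCoh_of_isFinLocFree M h.1)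
    (isFlatOver_of_isFinLocFree (KRR.pr n Y) M h.1) (fun p hp => ?_)
  obtain ⟨i, rfl⟩ : ∃ i, p = i + 1 := ⟨p - 1, by omega⟩
  exact h.2 i

variable (n Y)

/-- **the Koszul relation in `K(Y)`** for the direct images of the twists of `G` -/
theorem koszul_relation_push [IsNoetherian Y] (G : (KRR.PY n Y).Modules)
    (hG : ∀ a : ℕ, a ≤ n + 1 → Good n Y (KRR.twF n Y (a : ℤ) G)) :
    ∑ k ∈ Finset.range (n + 2), ((-1 : ℤ) ^ (n + 1 - k) * ((n + 1).choose k : ℤ)) •
      KRR.cl Y ((Scheme.Modules.pushforward (KRR.pr n Y)).obj (KRR.twF n Y (k : ℤ) G)) = 0 := by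
  let p := KRR.pr n Y
  let Φ : (KRR.PY n Y).Modules ⥤ Y.Modules := Scheme.Modules.pushforward p
  haveI : EnoughInjectives (KRR.PY n Y).Modules :=
    Groth.Agent.Lib.Helper8.SheafModGroth.enoughInjectives
      (Opens.grothendieckTopology (KRR.PY n Y)) (KRR.PY n Y).ringCatSheaf
  haveI : PreservesFiniteLimits Φ :=
    (Scheme.Modules.pullbackPushforwardAdjunction p).rightAdjoint_preservesLimits.{0, 0}.preservesFiniteLimits
  haveI : Φ.Additive := inferInstance
  have hT : ∀ a : ℕ, a ≤ n + 1 → Good n Y (Tpow (TA (Twist.twistOver n Y 1)) a G) := fun a ha => by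
    obtain ⟨e⟩ := nonempty_Tpow_iso n Y a G
    exact (hG a ha).of_iso e.symm
  have hterm : ∀ m : ℤ, Good n Y ((CK n Y G).X m) := fun m =>
    prop_X _ _ (fun M => Good n Y M) (fun M N e h => h.of_iso e) (fun M h => Good.of_isZero h)
      (fun M N hM hN => hM.biprod hN) (n + 1) m G (fun a _ ha => hT a ha)
  -- the direct image of the Koszul complex is acyclic
  haveI : (CK n Y G).IsStrictlyGE (-((n + 1 : ℕ) : ℤ)) := by
    rw [CochainComplex.isStrictlyGE_iff]
    intro i hi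
    exact isZero_X_of_not_mem _ _ (n + 1) i G (Or.inl hi)
  have hacyc : ((Φ.mapHomologicalComplex (ComplexShape.up ℤ)).obj (CK n Y G)).Acyclic :=
    Groth.Agent.Lib.Helper6.Leray.map_acyclic Φ (CK n Y G) (acyclic_CK n Y G) (-((n + 1 : ℕ) : ℤ))
      (fun m => (Groth.Agent.Lib.Helper6.RDAcyc.acyc_iff_isZero_rightDerived Φ _).2 (hterm m).2)
  have hE := Groth.Agent.Lib.Helper6.K0Euler.euler_acyclic (KRR.vbP Y)
    (fun M h => isFinLocFree_of_isZero M h)
    (fun S hS h2 h3 => vb_hker S hS h2 h3)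
    ((Φ.mapHomologicalComplex (ComplexShape.up ℤ)).obj (CK n Y G)) hacyc (n + 1)
    (Φ.map_isZero (isZero_X_of_not_mem _ _ (n + 1) _ G (Or.inl (by push_cast; omega))))
    (Φ.map_isZero (isZero_X_of_not_mem _ _ (n + 1) _ G (Or.inr one_pos)))
    (fun j _ => (hterm _).isFinLocFree_push)
  rw [← Finset.sum_range_reflect] at hE
  rw [← hE]
  refine Finset.sum_congr rfl (fun k hk => ?_)
  have hk' := Finset.mem_range.1 hk
  have hcl := class_X (TA (Twist.twistOver n Y 1)) (tauA (Twist.twistOver n Y 1) (secP n Y))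
    (fun M => Good n Y M) (fun M => KRR.cl Y (Φ.obj M))
    (fun M N e h => h.of_iso e) (fun M h => Good.of_isZero h) (fun M N hM hN => hM.biprod hN)
    (fun M N e h => cl_iso (Φ.mapIso e) h.isFinLocFree_push)
    (fun M h => Groth.Agent.Lib.Helper16.K0Db.clSub_isZero _ _ (Φ.map_isZero h))
    (fun M N hM hN => by
      haveI : PreservesBinaryBiproduct M N Φ :=
        preservesBinaryBiproduct_of_preservesBiproduct Φ M N
      rw [cl_iso (Φ.mapBiprod M N) (hM.biprod hN).isFinLocFree_push]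
      exact cl_biprod _ _ hM.isFinLocFree_push hN.isFinLocFree_push)
    (n + 1) (-((n + 1 + 1 - 1 - k : ℕ) : ℤ)) G
    (fun a ha => hT a ha) k (by push_cast [Nat.cast_sub (show k ≤ n + 1 + 1 - 1 by omega)]; omega) (by omega)
  obtain ⟨e⟩ := nonempty_Tpow_iso n Y k G
  have hcl'' : KZero.clSub (KRR.vbP Y)
      (((Φ.mapHomologicalComplex (ComplexShape.up ℤ)).obj (CK n Y G)).X (-((n + 1 + 1 - 1 - k : ℕ) : ℤ))) =
      (n + 1).choose k • KRR.cl Y (Φ.obj (KRR.twF n Y (k : ℤ) G)) := by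
    rw [← cl_iso (Φ.mapIso e) (hT k (by omega)).isFinLocFree_push]
    exact hcl
  rw [hcl'']
  have hexp : n + 1 + 1 - 1 - k = n + 1 - k := by omega
  rw [hexp, mul_smul, natCast_zsmul]

end Push

end Groth.Agent.Lib.Helper6.KRRKosK
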