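import Groth.Agent.Lib.Helper6.KRRPushK
import Groth.Agent.Lib.Helper23.ProjF.Main
import Mathlib
set_option backward.isDefEq.respectTransparency.types false
set_option autoImplicit false
set_option linter.style.haveILetI false
set_option linter.unusedSectionVars false
set_option linter.unusedVariables false
universe u v
open AlgebraicGeometry CategoryTheory Opposite TopologicalSpace CategoryTheory.Limits ZeroObject

/-!
# Helper6 — KRRProjK: the projection formula `p_K (x · p^K y) = p_K x · y` for `P^n_Y → Y`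
-/

noncomputable section
namespace Groth.Agent.Lib.Helper6.KRRProjK

open Groth.Agent.Lib.Helper6.KRRKosGeo Groth.Agent.Lib.Helper6.KRRReg Groth.Agent.Lib.Helper6.KosCone
  Groth.Agent.Lib.Helper6.KRRPushO Groth.Agent.Lib.Helper6.KRRPush Groth.Agent.Lib.Helper6.KRRKosK
  Groth.Agent.Lib.Helper6.K0Tower Groth.Agent.Lib.Helper6.KRRRegK Groth.Agent.Lib.Helper6.KRRPushK

attribute [local instance] HasDerivedCategory.standard

section General

variable {X Y : Scheme.{u}} (f : X ⟶ Y)

theorem isZero_RpushAb_of_isZero_Rpush [HasInjectiveResolutions X.Modules] (M : X.Modules) (p : ℕ)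
    (h : IsZero ((Coh.Rpush f p).obj M)) : IsZero ((Coh.RpushAb f p).obj (Coh.toAb M)) := by
  obtain ⟨e⟩ := Groth.Agent.S11319.result f M p
  exact ((SheafOfModules.toSheaf Y.ringCatSheaf).map_isZero h).of_iso e.symm

/-- the projection formula kills the higher direct images of `G ⊗ f^* E` when those of `G` vanish -/
theorem isZero_Rp_tensor_pull (G : X.Modules) (E : Y.Modules) (hE : FlatMod.IsFinLocFree E) (i : ℕ)
    (h : IsZero (Rp f i G)) :
    IsZero (Rp f i (CohB1.tensorMod ((Scheme.Modules.pullback f).obj E) G)) := by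
  obtain ⟨e⟩ := Groth.Agent.Lib.Helper23.ProjF.projection_formula f G E hE i
  have h1 : IsZero ((Coh.Rpush f i).obj G) := isZero_Rpush_of_isZero_RpushAb f G i h
  have h2 : IsZero (CohB1.tensorMod E ((Coh.Rpush f i).obj G)) :=
    (DCoh.tensorBi.obj E).map_isZero h1
  exact isZero_RpushAb_of_isZero_Rpush f _ i (h2.of_iso e.symm)

/-- the projection formula in degree zero -/
theorem nonempty_push_tensor_pull (F : X.Modules) (E : Y.Modules) (hE : FlatMod.IsFinLocFree E) :
    Nonempty ((Scheme.Modules.pushforward f).obj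
        (CohB1.tensorMod F ((Scheme.Modules.pullback f).obj E)) ≅
      CohB1.tensorMod ((Scheme.Modules.pushforward f).obj F) E) := by
  obtain ⟨e⟩ := Groth.Agent.Lib.Helper23.ProjF.projection_formula f F E hE 0
  let Φ := Scheme.Modules.pushforward f
  exact ⟨Φ.mapIso (Groth.Agent.Lib.Helper6.K0Inv.braidIso _ _) ≪≫
    (Φ.rightDerivedZeroIsoSelf.app _).symm ≪≫ e.symm ≪≫
    (DCoh.tensorBi.obj E).mapIso (Φ.rightDerivedZeroIsoSelf.app F) ≪≫
    Groth.Agent.Lib.Helper6.K0Inv.braidIso _ _⟩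

end General

variable {n : ℕ} {Y : Scheme.{u}}

/-- `F ⊗ p^* E` is a regular bundle for `F` a regular bundle and `E` a bundle on the base -/
theorem reg_tensor_pull {F : (KRR.PY n Y).Modules} (hF : Reg n Y F) (E : Y.Modules)
    (hE : FlatMod.IsFinLocFree E) :
    Reg n Y (CohB1.tensorMod F ((Scheme.Modules.pullback (KRR.pr n Y)).obj E)) := by
  refine ⟨Groth.Agent.Lib.Helper26.LC35.isFinLocFree_tensor _ _ hF.1
    (Groth.Agent.Lib.Helper16.RS.isFinLocFree_pullback _ E hE), fun i hi => ?_⟩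
  have h := isZero_Rp_tensor_pull (KRR.pr n Y) (KRR.twF n Y (-(i : ℤ)) F) E hE i (hF.2 i hi)
  refine isZero_Rp_of_iso _ _ ?_ h
  exact (Groth.Agent.Lib.Helper16.TA.assocIso (Twist.twistOver n Y (-(i : ℤ))) F
    ((Scheme.Modules.pullback (KRR.pr n Y)).obj E)).symm ≪≫
    Groth.Agent.Lib.Helper6.K0Inv.braidIso _ _

/-- **S3762**: `p_K (x · p^K y) = p_K x · y` -/
theorem pushPr_mul_pull [IsNoetherian Y]
    {KP : Type v} [CommRing KP] (φP : SGA6.Kvb (KRR.PY n Y) →+ KP) (hφP : Function.Surjective φP)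
    (hmulP : ∀ E F : (KRR.PY n Y).Modules, FlatMod.IsFinLocFree E → FlatMod.IsFinLocFree F →
      φP (KRR.cl _ E) * φP (KRR.cl _ F) = φP (KRR.cl _ (((DCoh.tensorBi (X := KRR.PY n Y)).obj E).obj F)))
    {KY : Type v} [CommRing KY] (φY : SGA6.Kvb Y →+ KY) (hφY : Function.Surjective φY)
    (hmulY : ∀ E F : Y.Modules, FlatMod.IsFinLocFree E → FlatMod.IsFinLocFree F →
      φY (KRR.cl _ E) * φY (KRR.cl _ F) = φY (KRR.cl _ (((DCoh.tensorBi (X := Y)).obj E).obj F)))
    (g : KP →+ KY) (hg : KRR.IsPushPr n Y φP φY g) (q : KY →+ KP)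
    (hq : KRR.IsPull (KRR.pr n Y) φY φP q) (x : KP) (y : KY) :
    g (x * q y) = g x * y := by
  -- the case of generators
  have hgen : ∀ (F : (KRR.PY n Y).Modules) (hF : Reg n Y F) (E : Y.Modules)
      (hE : FlatMod.IsFinLocFree E),
      g (φP (KRR.cl _ F) * q (φY (KRR.cl _ E))) = g (φP (KRR.cl _ F)) * φY (KRR.cl _ E) := by
    intro F hF E hE
    have hT := reg_tensor_pull hF E hE
    have h1 : q (φY (KRR.cl _ E)) = φP (KRR.cl _ ((Scheme.Modules.pullback (KRR.pr n Y)).obj E)) :=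
      hq E hE
    have h2 : φP (KRR.cl _ F) * φP (KRR.cl _ ((Scheme.Modules.pullback (KRR.pr n Y)).obj E)) =
        φP (KRR.cl _ ((DCoh.tensorBi.obj F).obj ((Scheme.Modules.pullback (KRR.pr n Y)).obj E))) :=
      hmulP F _ hF.1 (Groth.Agent.Lib.Helper16.RS.isFinLocFree_pullback _ E hE)
    have h3 : g (φP (KRR.cl _ ((DCoh.tensorBi.obj F).obj
        ((Scheme.Modules.pullback (KRR.pr n Y)).obj E)))) =
        φY (KRR.cl Y ((Scheme.Modules.pushforward (KRR.pr n Y)).obj ((DCoh.tensorBi.obj F).obj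
          ((Scheme.Modules.pullback (KRR.pr n Y)).obj E)))) := hg _ hT.1 hT.2
    have h4 : g (φP (KRR.cl _ F)) = φY (KRR.cl Y ((Scheme.Modules.pushforward (KRR.pr n Y)).obj F)) :=
      hg F hF.1 hF.2
    have h5 : φY (KRR.cl Y ((Scheme.Modules.pushforward (KRR.pr n Y)).obj F)) * φY (KRR.cl Y E) =
        φY (KRR.cl Y ((DCoh.tensorBi.obj ((Scheme.Modules.pushforward (KRR.pr n Y)).obj F)).obj E)) :=
      hmulY _ E (good_of_reg hF).isFinLocFree_push hE
    rw [h1, h2, h3, h4, h5]
    obtain ⟨e⟩ := nonempty_push_tensor_pull (KRR.pr n Y) F E hE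
    exact congrArg φY (cl_iso e (good_of_reg hT).isFinLocFree_push)
  -- additivity in `y`
  have hy : ∀ (F : (KRR.PY n Y).Modules) (hF : Reg n Y F) (y : KY),
      g (φP (KRR.cl _ F) * q y) = g (φP (KRR.cl _ F)) * y := by
    intro F hF y
    obtain ⟨c, rfl⟩ := hφY y
    have key : ((g.comp (AddMonoidHom.mulLeft (φP (KRR.cl _ F)))).comp q).comp φY =
        (AddMonoidHom.mulLeft (g (φP (KRR.cl _ F)))).comp φY := by
      apply K0sub_hom_ext
      intro E hE
      exact hgen F hF E hE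
    exact DFunLike.congr_fun key c
  -- additivity in `x`
  obtain ⟨c, rfl⟩ := hφP x
  have key : (g.comp (AddMonoidHom.mulRight (q y))).comp φP =
      ((AddMonoidHom.mulRight y).comp g).comp φP := by
    apply hom_ext_of_reg
    intro F hF
    exact hy F hF y
  exact DFunLike.congr_fun key c

end Groth.Agent.Lib.Helper6.KRRProjK
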