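import Groth.Agent.Lib.Helper17.LiftE
import Groth.Agent.Lib.Helper16.RS6
import Groth.Agent.Lib.Helper6.K0Full
import Groth.Agent.Lib.Helper6.K0Abs
import Groth.Prelude.Def_KRR
import Mathlib
set_option backward.isDefEq.respectTransparency.types false
set_option autoImplicit false
universe u v w
open AlgebraicGeometry CategoryTheory Opposite TopologicalSpace CategoryTheory.Limits

/-!
# Helper6 — KRRPull: the pull-back `f^K : K(Y) → K(X)` on `K₀` of vector bundles
-/

namespace Groth.Agent.Lib.Helper6.KRRPull
open Scheme.Modules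
open Groth.Agent.Lib.Helper16.Stk Groth.Agent.Lib.Helper17.Lift

variable {X Y : Scheme.{u}} (f : X ⟶ Y)

/-- the pullback along any morphism of a short exact sequence with finite locally free cokernel is short
exact -/
theorem shortExact_map_pullback (S : ShortComplex Y.Modules) (hS : S.ShortExact)
    (hE : FlatMod.IsFinLocFree S.X₃) :
    (S.map (Scheme.Modules.pullback f)).ShortExact := by
  have hmono : Mono ((Scheme.Modules.pullback f).map S.f) := by
    apply mono_of_forall_stalk
    intro x
    have hS' := hS.map_of_exact (stk (f x))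
    haveI : Module.Flat (Y.presheaf.stalk (f x)) ((stk (f x)).obj S.X₃) :=
      flat_stalk_of_isFinLocFree S.X₃ hE (f x)
    have hmid : Mono ((ModuleCat.extendScalars.{u, u, u} (φs f x)).map
        ((stk (f x)).map S.f)) :=
      mono_extendScalars_map_of_flat _ ((stk (f x)).map S.f)
        ((stk (f x)).map S.g) hS'.moduleCat_injective_f hS'.moduleCat_surjective_g
        ((ShortComplex.ShortExact.moduleCat_exact_iff_function_exact _).1 hS'.exact)
    have e := pullbackStkIso f x
    have hn : (stk x).map ((Scheme.Modules.pullback f).map S.f) =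
        e.hom.app _ ≫ (stk (f x) ⋙ ModuleCat.extendScalars.{u, u, u}
          (φs f x)).map S.f ≫ e.inv.app _ := by
      have := e.hom.naturality S.f
      rw [← Category.assoc, ← this]
      simp
    rw [hn]
    have m1 : Mono (e.hom.app S.X₁) :=
      @IsIso.mono_of_iso _ _ _ _ (e.hom.app S.X₁) (Iso.isIso_hom (e.app S.X₁))
    have m3 : Mono (e.inv.app S.X₂) :=
      @IsIso.mono_of_iso _ _ _ _ (e.inv.app S.X₂) (Iso.isIso_inv (e.app S.X₂))
    exact mono_comp' m1 (mono_comp' hmid m3)
  haveI := hS.epi_g
  haveI : Epi ((Scheme.Modules.pullback f).map S.g) := inferInstance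
  exact ShortComplex.ShortExact.mk'
    (hS.exact.map_of_epi_of_preservesCokernel (Scheme.Modules.pullback f) hS.epi_g inferInstance)
    hmono (inferInstanceAs (Epi ((Scheme.Modules.pullback f).map S.g)))

/-- the pull-back on `K₀` of vector bundles -/
noncomputable def pullK : SGA6.Kvb Y →+ SGA6.Kvb X :=
  Groth.Agent.Lib.Helper6.K0Full.liftSub (KRR.vbP Y)
    (fun E => KRR.cl X ((Scheme.Modules.pullback f).obj E))
    (fun S hS h1 h2 h3 => by
      have hS' := shortExact_map_pullback f S hS h3
      have q1 := Groth.Agent.Lib.Helper16.RS.isFinLocFree_pullback f _ h1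
      have q2 := Groth.Agent.Lib.Helper16.RS.isFinLocFree_pullback f _ h2
      have q3 := Groth.Agent.Lib.Helper16.RS.isFinLocFree_pullback f _ h3
      exact Groth.Agent.Lib.Helper16.K0Db.clSub_shortExact (KRR.vbP X) _ hS' q1 q2 q3)

theorem pullK_cl (E : Y.Modules) (hE : FlatMod.IsFinLocFree E) :
    pullK f (KRR.cl Y E) = KRR.cl X ((Scheme.Modules.pullback f).obj E) :=
  Groth.Agent.Lib.Helper6.K0Full.liftSub_clSub _ _ _ E hE

/-- existence and uniqueness of `f^K` on any pair of additive bijective models -/
theorem existsUnique_isPull {KX : Type v} {KY : Type w} [CommRing KX] [CommRing KY]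
    (φX : SGA6.Kvb X →+ KX) (φY : SGA6.Kvb Y →+ KY) (hφY : Function.Bijective φY) :
    ∃! g : KY →+ KX, KRR.IsPull f φY φX g := by
  let e : SGA6.Kvb Y ≃+ KY := AddEquiv.ofBijective φY hφY
  have he : ∀ c, e c = φY c := fun c => rfl
  refine ⟨(φX.comp (pullK f)).comp e.symm.toAddMonoidHom, ?_, ?_⟩
  · intro E hE
    show φX (pullK f (e.symm (φY (KRR.cl Y E)))) = _
    rw [← he, AddEquiv.symm_apply_apply, pullK_cl f E hE]
  · intro g' hg'
    ext y
    obtain ⟨c, rfl⟩ := hφY.2 y
    show g' (φY c) = φX (pullK f (e.symm (φY c)))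
    rw [← he c, AddEquiv.symm_apply_apply, he]
    induction c using Groth.Agent.Lib.Helper6.K0Abs.K0sub_induction with
    | h0 => simp
    | hof F hF =>
      rw [hg' F hF]
      exact congrArg φX (pullK_cl f F hF).symm
    | hneg c ih => rw [map_neg, map_neg, ih, map_neg, map_neg]
    | hadd c d ihc ihd => rw [map_add, map_add, ihc, ihd, map_add, map_add]

end Groth.Agent.Lib.Helper6.KRRPull
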