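import Groth.Agent.Lib.Helper6.PnFibre2
import Groth.Agent.Lib.Helper2.PrufSV4
import Groth.Agent.Lib.Helper27.NoethLfp
import Groth.Agent.Lib.helper11.H0Geom
import Groth.Agent.Lib.helper11.H0Finrank
import Groth.Agent.Lib.Helper8.P1Facts
import Mathlib

/-!
# `P^r_Y → Y` is flat, of finite presentation, and `O_Y = π_* O_P` universally (helper6)
-/

set_option backward.isDefEq.respectTransparency.types false
set_option autoImplicit false
set_option linter.style.haveILetI false
set_option linter.unusedSectionVars false
universe u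
open CategoryTheory CategoryTheory.Limits AlgebraicGeometry Opposite TopologicalSpace

noncomputable section
namespace Groth.Agent.Lib.Helper6.PnFlat

open Groth.Agent.Lib.Helper4.Bridge Groth.Agent.Lib.Helper6.PnChart Groth.Agent.Lib.Helper6.PnFibre

variable (r : ℕ) (Y : Scheme.{u})

instance : IsDomain Zu := ULift.ringEquiv.toMulEquiv.isDomain_iff.mpr inferInstance

instance : IsPrincipalIdealRing Zu :=
  IsPrincipalIdealRing.of_surjective (ULift.ringEquiv.symm : ℤ ≃+* Zu).toRingHom
    (ULift.ringEquiv.symm : ℤ ≃+* Zu).surjective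

theorem valuationRing_localization (p : Ideal Zu) [p.IsPrime] :
    ValuationRing (Localization.AtPrime p) := by
  haveI : IsPrincipalIdealRing (Localization.AtPrime p) := by
    refine ⟨fun J => ?_⟩
    have h := IsLocalization.map_under p.primeCompl (Localization.AtPrime p) J
    obtain ⟨a, ha⟩ := (IsPrincipalIdealRing.principal (Ideal.under Zu J)).principal
    refine ⟨⟨algebraMap _ _ a, ?_⟩⟩
    rw [← h, ha, Ideal.submodule_span_eq, Ideal.map_span, Set.image_singleton]
  exact ValuationRing.iff_local_bezout_domain.mpr ⟨inferInstance, inferInstance⟩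

instance flat_toSpecZ : Flat (CohB1.ProjSpace.toSpec r Zu) :=
  Groth.Agent.Lib.Helper2.PrufSV4.flat_toSpec r Zu (fun p _ => valuationRing_localization p)

instance lfp_toSpecZ : LocallyOfFinitePresentation (CohB1.ProjSpace.toSpec r Zu) :=
  Groth.Agent.Lib.Helper27.NoethLfp.locallyOfFinitePresentation_of_isLocallyNoetherian _

instance flat_toBase : Flat (π r Y) :=
  MorphismProperty.pullback_snd (P := @Flat) _ _ inferInstance

instance lfp_toBase : LocallyOfFinitePresentation (π r Y) :=
  MorphismProperty.pullback_snd (P := @LocallyOfFinitePresentation) _ _ inferInstance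

instance isProper_toBase : IsProper (π r Y) :=
  Groth.Agent.Lib.Helper28.ProjSpaceBasic.isProper_toBase r Y

/-- the geometric fibres are integral -/
theorem geometric_fibres (K : Type u) [Field K] [IsAlgClosed K] (g : Spec (CommRingCat.of K) ⟶ Y) :
    IsReduced (pullback (π r Y) g) ∧ ConnectedSpace ↥(pullback (π r Y) g) := by
  obtain ⟨θ, -, -⟩ := exists_chart_of_isPullback r K (pullback.fst (π r Y) g) (pullback.snd (π r Y) g) g
    (IsPullback.of_hasPullback _ _)
  haveI : Nonempty ↥(pullback (π r Y) g) := Nonempty.map θ.inv inferInstance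
  haveI : IsIntegral (pullback (π r Y) g) := isIntegral_of_isOpenImmersion θ.hom
  exact ⟨inferInstance, inferInstance⟩

/-- `O_Y(V) = O_P(π⁻¹ V)` for every open `V` -/
instance isIso_app (V : Y.Opens) : IsIso ((π r Y).app V) :=
  Groth.Agent.Lib.helper11.H0.isIso_app_of_geometric (π r Y) (geometric_fibres r Y) V

/-- `Γ(X_y, O) = κ(y)` -/
theorem finrank_fibre (y : Y) : Module.finrank (Y.residueField y) Γ((π r Y).fiber y, ⊤) = 1 :=
  (Groth.Agent.Lib.helper11.H0.finrank_eq_one_iff_isIso_appTop (π r Y) y).2
    (Groth.Agent.Lib.helper11.H0.isIso_fiberToSpecResidueField_appTop (π r Y) (geometric_fibres r Y) y)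

end Groth.Agent.Lib.Helper6.PnFlat
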