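import Groth.Agent.Lib.Helper6.KRRKosGeo
import Groth.Agent.Lib.Helper4.FlatTw4
import Groth.Agent.Lib.Helper6.PnFlat
import Groth.Agent.Lib.Helper17.FFLocFree
import Groth.Agent.Lib.Helper17.LiftC
import Groth.Agent.S11319
import Mathlib
set_option backward.isDefEq.respectTransparency.types false
set_option autoImplicit false
set_option linter.style.haveILetI false
universe u
open AlgebraicGeometry CategoryTheory Opposite TopologicalSpace CategoryTheory.Limits

/-!
# Helper6 — KRRPush: direct images of regular bundles on `P^n_Y` are finite locally free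
-/

noncomputable section
namespace Groth.Agent.Lib.Helper6.KRRPush

section General

variable {X Y : Scheme.{u}} (f : X ⟶ Y)

/-- a finite locally free module on a scheme flat over the base is flat over the base -/
theorem isFlatOver_of_isFinLocFree [Flat f] (F : X.Modules) (hF : FlatMod.IsFinLocFree F) :
    FlatMod.IsFlatOver f F := by
  intro x
  unfold FlatMod.IsFlatOverAt
  letI := FlatMod.moduleStalkOver f F x
  letI : Algebra (Y.presheaf.stalk (f x)) (X.presheaf.stalk x) := (f.stalkMap x).hom.toAlgebra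
  haveI : IsScalarTower (Y.presheaf.stalk (f x)) (X.presheaf.stalk x) (F.presheaf.stalk x) :=
    IsScalarTower.of_algebraMap_smul fun r m => rfl
  haveI : Module.Flat (Y.presheaf.stalk (f x)) (X.presheaf.stalk x) := Flat.stalkMap f x
  haveI : Module.Flat (X.presheaf.stalk x) (F.presheaf.stalk x) :=
    Groth.Agent.Lib.Helper17.Lift.flat_stalk_of_isFinLocFree F hF x
  exact Module.Flat.trans (Y.presheaf.stalk (f x)) (X.presheaf.stalk x) (F.presheaf.stalk x)

/-- vanishing of the module-level higher direct image from the vanishing for abelian sheaves -/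
theorem isZero_Rpush_of_isZero_RpushAb [HasInjectiveResolutions X.Modules] (M : X.Modules) (p : ℕ)
    (h : IsZero ((Coh.RpushAb f p).obj (Coh.toAb M))) : IsZero ((Coh.Rpush f p).obj M) := by
  obtain ⟨e⟩ := Groth.Agent.S11319.result f M p
  have h1 : IsZero (Coh.toAb ((Coh.Rpush f p).obj M)) := h.of_iso e
  rw [IsZero.iff_id_eq_zero] at h1 ⊢
  apply (SheafOfModules.toSheaf Y.ringCatSheaf).map_injective
  refine ((SheafOfModules.toSheaf Y.ringCatSheaf).map_id _).trans (h1.trans ?_)
  exact ((SheafOfModules.toSheaf Y.ringCatSheaf).map_zero _ _).symm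

/-- **cohomology and base change, degree zero**: the direct image of a coherent module, flat over a noetherian
base, all of whose higher direct images vanish, is finite locally free -/
theorem isFinLocFree_push_of_isZero_Rpush [IsNoetherian Y] [IsProper f] (G : X.Modules) (hG : Coh.IsCoh G)
    (hflG : FlatMod.IsFlatOver f G)
    (h : ∀ p : ℕ, 0 < p → IsZero ((Coh.Rpush f p).obj G)) :
    FlatMod.IsFinLocFree ((Scheme.Modules.pushforward f).obj G) := by
  haveI : HasInjectiveResolutions X.Modules := inferInstance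
  have hR0 : FlatMod.IsFinLocFree ((Coh.Rpush f 0).obj G) := by
    intro y
    have h0 : ∀ i : ℕ, 0 < i → Subsingleton (((Coh.Rpush f i).obj G).presheaf.stalk y) :=
      fun i hi => Groth.Agent.Lib.Helper4.CurveVB.subsingleton_stalk_of_isZero (h i hi) y
    have h1 := Groth.Agent.Lib.Helper6.GrothLocal.subsingleton_fibre_of_stalks f _ hG hflG y 0 h0
    obtain ⟨hfree, -⟩ := Groth.Agent.Lib.Helper6.GrothLocal.free_stalk_Rpush_of_adjacent f _ hG hflG y 0
      (h1 1 one_pos) (fun r hr => absurd hr (by omega))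
    haveI := hfree
    obtain ⟨U, hyU, ⟨e⟩⟩ := Groth.Agent.Lib.Helper7.StalkFree.exists_iso_freeMod_of_free_stalk Y _
      (Groth.Agent.Lib.Helper4.RpushCoh.isCoh_Rpush f _ hG 0) y
    exact ⟨U, _, hyU, ⟨e⟩⟩
  exact Groth.Agent.Lib.Helper16.RS.isFinLocFree_of_iso
    ((Functor.rightDerivedZeroIsoSelf (Scheme.Modules.pushforward f)).app _) hR0

end General

section Pn

open Groth.Agent.Lib.Helper6.KRRKosGeo Groth.Agent.Lib.Helper6.KRRReg

variable (n : ℕ) (Y : Scheme.{u})

/-- S3756 -/
theorem isFinLocFree_push_of_isRegSheaf [IsNoetherian Y] (F : (KRR.PY n Y).Modules)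
    (hF : FlatMod.IsFinLocFree F) (hreg : KRR.IsRegSheaf n Y F) :
    FlatMod.IsFinLocFree ((Scheme.Modules.pushforward (KRR.pr n Y)).obj F) := by
  haveI : IsProper (KRR.pr n Y) := Groth.Agent.Lib.Helper6.PnFlat.isProper_toBase n Y
  haveI : Flat (KRR.pr n Y) := Groth.Agent.Lib.Helper6.PnFlat.flat_toBase n Y
  refine isFinLocFree_push_of_isZero_Rpush (KRR.pr n Y) F
    (Groth.Agent.Lib.Helper17.FFLocFree.isCoh_of_isFinLocFree F hF)
    (isFlatOver_of_isFinLocFree (KRR.pr n Y) F hF) (fun p hp => ?_)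
  exact isZero_Rpush_of_isZero_RpushAb (KRR.pr n Y) F p (isZero_Rp_of_isRegSheaf n Y F hreg p hp)

/-- `O(1)` is relatively ample on `P^n_Y` -/
theorem isRelAmple_twistOver_one : RelAmple.IsRelAmple (KRR.pr n Y) (Twist.twistOver n Y 1) := by
  haveI : IsProper (KRR.pr n Y) := Groth.Agent.Lib.Helper6.PnFlat.isProper_toBase n Y
  refine Groth.Agent.Lib.Helper28.VeryAmpleLocal.isRelAmple_of_isRelVeryAmplePn (KRR.pr n Y)
    ⟨n, 𝟙 _, inferInstance, Category.id_comp _, ⟨?_⟩⟩
  exact ((Scheme.Modules.pullbackId _).app (Twist.twistOver n Y 1)).symm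

/-- `O(1)^{⊗ m} ≅ O(m)` -/
theorem nonempty_tensorPow_twistOver (m : ℕ) :
    Nonempty (CohB1.tensorPow (Twist.twistOver n Y 1) m ≅ Twist.twistOver n Y (m : ℤ)) := by
  induction m with
  | zero =>
    obtain ⟨e⟩ := nonempty_twistOver_zero n Y
    exact ⟨e.symm⟩
  | succ m ih =>
    obtain ⟨e⟩ := ih
    obtain ⟨μ⟩ := nonempty_twistOver_tensor n Y (m : ℤ) 1
    refine ⟨(DCoh.tensorBi.mapIso e).app _ ≪≫ μ ≪≫ eqToIso ?_⟩
    push_cast
    rfl

/-- S3757 -/
theorem exists_isFinLocFree_push_twF [IsNoetherian Y] (F : (KRR.PY n Y).Modules)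
    (hF : FlatMod.IsFinLocFree F) :
    ∃ m₀ : ℕ, ∀ m : ℕ, m₀ ≤ m →
      FlatMod.IsFinLocFree ((Scheme.Modules.pushforward (KRR.pr n Y)).obj (KRR.twF n Y (m : ℤ) F)) := by
  haveI : IsProper (KRR.pr n Y) := Groth.Agent.Lib.Helper6.PnFlat.isProper_toBase n Y
  haveI : Flat (KRR.pr n Y) := Groth.Agent.Lib.Helper6.PnFlat.flat_toBase n Y
  obtain ⟨m₀, h⟩ := Groth.Agent.Lib.Helper4.FlatTw.exists_isFinLocFree_push_twists (KRR.pr n Y)
    (Twist.twistOver n Y 1) (isRelAmple_twistOver_one n Y)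
    (Groth.Agent.Lib.Helper6.PnPicA.isInvertible_twistOver n Y 1) F
    (Groth.Agent.Lib.Helper17.FFLocFree.isCoh_of_isFinLocFree F hF)
    (isFlatOver_of_isFinLocFree (KRR.pr n Y) F hF)
  refine ⟨m₀, fun m hm => ?_⟩
  obtain ⟨e⟩ := nonempty_tensorPow_twistOver n Y m
  exact Groth.Agent.Lib.Helper16.RS.isFinLocFree_of_iso
    ((Scheme.Modules.pushforward (KRR.pr n Y)).mapIso
      ((DCoh.tensorBi.obj F).mapIso e ≪≫ Groth.Agent.Lib.Helper6.K0Inv.braidIso _ _)) (h m hm)

end Pn

end Groth.Agent.Lib.Helper6.KRRPush
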