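import Groth.Agent.Lib.Helper6.KRRRegK
import Groth.Agent.Lib.Helper27.AbsComp1
import Mathlib
set_option backward.isDefEq.respectTransparency.types false
set_option autoImplicit false
set_option linter.style.haveILetI false
set_option linter.unusedSectionVars false
set_option linter.unusedVariables false
universe u v
open AlgebraicGeometry CategoryTheory Opposite TopologicalSpace CategoryTheory.Limits ZeroObject

/-!
# Helper6 — KRRPushK: the push-forward `K(P^n_Y) → K(Y)`
-/

noncomputable section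
namespace Groth.Agent.Lib.Helper6.KRRPushK

open Groth.Agent.Lib.Helper6.KRRKosGeo Groth.Agent.Lib.Helper6.KRRReg Groth.Agent.Lib.Helper6.KosCone
  Groth.Agent.Lib.Helper6.KRRPushO Groth.Agent.Lib.Helper6.KRRPush Groth.Agent.Lib.Helper6.KRRKosK
  Groth.Agent.Lib.Helper6.K0Tower Groth.Agent.Lib.Helper6.KRRRegK

attribute [local instance] HasDerivedCategory.standard

variable (n : ℕ) (Y : Scheme.{u})

/-- the regular bundles -/
abbrev Reg : ObjectProperty (KRR.PY n Y).Modules :=
  fun M => FlatMod.IsFinLocFree M ∧ KRR.IsRegSheaf n Y M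

variable {n Y}

theorem good_of_reg {F : (KRR.PY n Y).Modules} (h : Reg n Y F) : Good n Y F :=
  ⟨h.1, fun i => isZero_Rpush_of_isZero_RpushAb (KRR.pr n Y) F (i + 1)
    (isZero_Rp_of_isRegSheaf n Y F h.2 (i + 1) (by omega))⟩

/-- `p_*` is exact on short exact sequences with regular kernel -/
theorem shortExact_push (S : ShortComplex (KRR.PY n Y).Modules) (hS : S.ShortExact)
    (h₁ : Reg n Y S.X₁) : (S.map (Scheme.Modules.pushforward (KRR.pr n Y))).ShortExact := by
  haveI : EnoughInjectives (KRR.PY n Y).Modules :=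
    Groth.Agent.Lib.Helper8.SheafModGroth.enoughInjectives
      (Opens.grothendieckTopology (KRR.PY n Y)) (KRR.PY n Y).ringCatSheaf
  haveI : EnoughInjectives Y.Modules :=
    Groth.Agent.Lib.Helper8.SheafModGroth.enoughInjectives
      (Opens.grothendieckTopology Y) Y.ringCatSheaf
  haveI : PreservesFiniteLimits (Scheme.Modules.pushforward (KRR.pr n Y)) :=
    (Scheme.Modules.pullbackPushforwardAdjunction (KRR.pr n Y)).rightAdjoint_preservesLimits.{0, 0}.preservesFiniteLimits
  exact Groth.Agent.Lib.Helper27.AbsComp.shortExact_map_of_hAcyc hS (good_of_reg h₁).2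

variable (n Y)

/-- the push-forward on `K₀` of the regular bundles -/
def pushReg [IsNoetherian Y] : KZero.K0sub (Reg n Y) →+ SGA6.Kvb Y :=
  Groth.Agent.Lib.Helper6.K0Full.liftSub (Reg n Y)
    (fun F => KRR.cl Y ((Scheme.Modules.pushforward (KRR.pr n Y)).obj F))
    (fun S hS h1 h2 h3 => Groth.Agent.Lib.Helper16.K0Db.clSub_shortExact (KRR.vbP Y) _
      (shortExact_push S hS h1) (good_of_reg h1).isFinLocFree_push (good_of_reg h2).isFinLocFree_push
      (good_of_reg h3).isFinLocFree_push)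

theorem pushReg_clSub [IsNoetherian Y] (F : (KRR.PY n Y).Modules) (hF : Reg n Y F) :
    pushReg n Y (KZero.clSub (Reg n Y) F) =
      KRR.cl Y ((Scheme.Modules.pushforward (KRR.pr n Y)).obj F) :=
  Groth.Agent.Lib.Helper6.K0Full.liftSub_clSub _ _ _ F hF

/-- `K₀(Reg) ≃ K(P)` -/
def regEquiv [IsNoetherian Y] : KZero.K0sub (Reg n Y) ≃+ SGA6.Kvb (KRR.PY n Y) :=
  AddEquiv.ofBijective (SGA6.mapSub (𝟭 (KRR.PY n Y).Modules) (Reg n Y) (KRR.vbP (KRR.PY n Y))
    (fun M h => h.1)) (K0_regular_bijective n Y _)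

theorem regEquiv_clSub [IsNoetherian Y] (F : (KRR.PY n Y).Modules) (hF : Reg n Y F) :
    regEquiv n Y (KZero.clSub (Reg n Y) F) = KRR.cl (KRR.PY n Y) F :=
  Groth.Agent.Lib.Helper6.K0Abs.mapSub_clSub _ _ _ _ F hF

/-- **the push-forward `p_K : K(P^n_Y) → K(Y)`** -/
def pushK [IsNoetherian Y] : SGA6.Kvb (KRR.PY n Y) →+ SGA6.Kvb Y :=
  (pushReg n Y).comp (regEquiv n Y).symm.toAddMonoidHom

theorem pushK_cl [IsNoetherian Y] (F : (KRR.PY n Y).Modules) (hF : Reg n Y F) :
    pushK n Y (KRR.cl (KRR.PY n Y) F) =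
      KRR.cl Y ((Scheme.Modules.pushforward (KRR.pr n Y)).obj F) := by
  show pushReg n Y ((regEquiv n Y).symm (KRR.cl (KRR.PY n Y) F)) = _
  rw [← regEquiv_clSub n Y F hF, AddEquiv.symm_apply_apply, pushReg_clSub n Y F hF]

/-- two additive maps out of `K(P^n_Y)` agreeing on the classes of the regular bundles agree -/
theorem hom_ext_of_reg [IsNoetherian Y] {G : Type*} [AddCommGroup G]
    (f g : SGA6.Kvb (KRR.PY n Y) →+ G)
    (h : ∀ F, Reg n Y F → f (KRR.cl (KRR.PY n Y) F) = g (KRR.cl (KRR.PY n Y) F)) : f = g := by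
  have key : f.comp (regEquiv n Y).toAddMonoidHom = g.comp (regEquiv n Y).toAddMonoidHom := by
    apply K0sub_hom_ext
    intro F hF
    show f (regEquiv n Y _) = g (regEquiv n Y _)
    rw [regEquiv_clSub n Y F hF]
    exact h F hF
  refine DFunLike.ext _ _ (fun x => ?_)
  obtain ⟨c, rfl⟩ := (regEquiv n Y).surjective x
  exact DFunLike.congr_fun key c

/-- **S3798** -/
theorem existsUnique_isPushPr [IsNoetherian Y]
    {KP : Type v} [CommRing KP] (φP : SGA6.Kvb (KRR.PY n Y) →+ KP) (hφP : Function.Bijective φP)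
    {KY : Type v} [CommRing KY] (φY : SGA6.Kvb Y →+ KY) :
    ∃! g : KP →+ KY, KRR.IsPushPr n Y φP φY g := by
  let eP : SGA6.Kvb (KRR.PY n Y) ≃+ KP := AddEquiv.ofBijective φP hφP
  refine ⟨φY.comp ((pushK n Y).comp eP.symm.toAddMonoidHom), ?_, ?_⟩
  · intro F hF hreg
    show φY (pushK n Y (eP.symm (eP (KRR.cl (KRR.PY n Y) F)))) = _
    rw [AddEquiv.symm_apply_apply, pushK_cl n Y F ⟨hF, hreg⟩]
  · intro g' hg'
    have key : g'.comp φP = (φY.comp ((pushK n Y).comp eP.symm.toAddMonoidHom)).comp φP := by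
      apply hom_ext_of_reg
      intro F hF
      show g' (φP _) = φY (pushK n Y (eP.symm (eP (KRR.cl (KRR.PY n Y) F))))
      rw [AddEquiv.symm_apply_apply, pushK_cl n Y F hF]
      exact hg' F hF.1 hF.2
    refine DFunLike.ext _ _ (fun x => ?_)
    obtain ⟨c, rfl⟩ := hφP.2 x
    exact DFunLike.congr_fun key c

end Groth.Agent.Lib.Helper6.KRRPushK
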