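import Groth.Agent.Lib.Helper6.PnChart
import Groth.Agent.Lib.Helper4.RpushZero
import Groth.Agent.Lib.Helper17.ModPullback
import Groth.Agent.Lib.Helper28.ProjSpaceBasic
import Mathlib

/-!
# Vanishing of the higher direct images of `O(d)` on projective space over a scheme (helper6)
-/

set_option backward.isDefEq.respectTransparency.types false
set_option autoImplicit false
set_option linter.style.haveILetI false
set_option linter.unusedSectionVars false
universe u
open CategoryTheory CategoryTheory.Limits AlgebraicGeometry Opposite TopologicalSpace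

noncomputable section
namespace Groth.Agent.Lib.Helper6.PnVanish

open Groth.Agent.Lib.Helper6.PnChart

/-- `O(d)` on `P^r_Y` is quasi-coherent -/
instance isQuasicoherent_twistOver (Y : Scheme.{u}) (r : ℕ) (d : ℤ) :
    (Twist.twistOver r Y d).IsQuasicoherent := by
  haveI : (Twist.twistProjSpace r (ULift.{u} ℤ) d).IsQuasicoherent :=
    Groth.Agent.Lib.Helper2.ProjCoh5.isQCoh_twist r (ULift.{u} ℤ) d
  exact Groth.Agent.Lib.Helper17.ModPullback.isQuasicoherent_pullback _ _

theorem isZero_RpushAb_twistOver (Y : Scheme.{u}) (r : ℕ) (i : ℕ) (d : ℤ)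
    (h : ¬ ((i = 0 ∧ 0 ≤ d) ∨ (i = r ∧ d ≤ -((r : ℤ) + 1)))) :
    Limits.IsZero ((Coh.RpushAb (CohB1.ProjSpaceOver.toBase r Y) i).obj
      (Coh.toAb (Twist.twistOver r Y d))) := by
  rw [not_or] at h
  haveI : IsProper (CohB1.ProjSpaceOver.toBase r Y) :=
    Groth.Agent.Lib.Helper28.ProjSpaceBasic.isProper_toBase r Y
  refine Groth.Agent.Lib.Helper4.RpushZero.isZero_RpushAb_of_cover
    (CohB1.ProjSpaceOver.toBase r Y) (Twist.twistOver r Y d) i (fun y => ?_)
  obtain ⟨W, hW, hyW, -⟩ := Opens.isBasis_iff_nbhd.mp Y.isBasis_affineOpens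
    (show y ∈ (⊤ : Y.Opens) from trivial)
  exact ⟨W, hW, hyW, subsingleton_HH_restrict r W hW d i h.1 h.2⟩

end Groth.Agent.Lib.Helper6.PnVanish
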