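import Groth.Agent.Lib.Helper6.KRRPush
import Groth.Agent.Lib.Helper6.PnVanish
import Groth.Agent.Lib.Helper16.MR3
import Groth.Agent.Lib.Helper28.TensorIso
import Groth.Prelude.Def_SecTwist
import Mathlib
set_option backward.isDefEq.respectTransparency.types false
set_option autoImplicit false
set_option linter.style.haveILetI false
universe u v
open AlgebraicGeometry CategoryTheory Opposite TopologicalSpace CategoryTheory.Limits ZeroObject

/-!
# Helper6 — KRRPushO: `O(m)`, `m ≥ 0`, is regular on `P^n_Y`, and `p_* O_P ≅ O_Y`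
-/

noncomputable section
namespace Groth.Agent.Lib.Helper6.KRRPushO

open Groth.Agent.Lib.Helper6.KRRKosGeo Groth.Agent.Lib.Helper6.KRRReg

section General

variable {T W : Scheme.{u}} (g : T ⟶ W)

/-- `O_W ⟶ g_* O_T` is an isomorphism as soon as `O_W(V) ⟶ O_T(g⁻¹V)` is bijective for all `V` -/
theorem isIso_unitPush (h : ∀ V : W.Opens, IsIso (g.app V)) :
    IsIso (Groth.Agent.Lib.Helper16.MR.unitPush g) := by
  refine Groth.Agent.Lib.Helper28.TensorIso.isIso_of_bijective_on_basis _ (fun _ => True)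
    (fun U x hx => ⟨U, trivial, hx, le_rfl⟩) (fun V _ => ?_)
  have hb : Function.Bijective (g.app V).hom := by
    haveI := h V
    exact ConcreteCategory.bijective_of_isIso (g.app V)
  exact hb

end General

variable (n : ℕ) (Y : Scheme.{u})

/-- `O(m)`, `m ≥ 0`, is regular -/
theorem isRegSheaf_twistOver (m : ℤ) (hm : 0 ≤ m) : KRR.IsRegSheaf n Y (Twist.twistOver n Y m) := by
  intro i hi
  obtain ⟨μ⟩ := nonempty_twistOver_tensor n Y (-(i : ℤ)) m
  refine isZero_Rp_of_iso (KRR.pr n Y) i μ ?_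
  exact Groth.Agent.Lib.Helper6.PnVanish.isZero_RpushAb_twistOver Y n i (-(i : ℤ) + m) (by omega)

/-- `O_P` is regular -/
theorem isRegSheaf_structureModule : KRR.IsRegSheaf n Y (Coh.structureModule (KRR.PY n Y)) := by
  obtain ⟨e⟩ := nonempty_twistOver_zero n Y
  exact isRegSheaf_of_iso n Y e (isRegSheaf_twistOver n Y 0 le_rfl)

/-- `p_* O_P ≅ O_Y` -/
theorem nonempty_push_structureModule :
    Nonempty ((Scheme.Modules.pushforward (KRR.pr n Y)).obj (Coh.structureModule (KRR.PY n Y)) ≅
      Coh.structureModule Y) := by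
  haveI := isIso_unitPush (KRR.pr n Y) (fun V => Groth.Agent.Lib.Helper6.PnFlat.isIso_app n Y V)
  exact ⟨(asIso (Groth.Agent.Lib.Helper16.MR.unitPush (KRR.pr n Y))).symm⟩

theorem isFinLocFree_structureModule (X : Scheme.{u}) : FlatMod.IsFinLocFree (Coh.structureModule X) :=
  fun x => by
    obtain ⟨W, hxW, e⟩ := Groth.Agent.Lib.Helper6.K0Op.isFinLocFreeOfRank_one_of_isInvertible _
      (PicLoc.isInvertible_structureModule X) x
    exact ⟨W, 1, hxW, e⟩

theorem isFinLocFree_of_isZero {X : Scheme.{u}} (M : X.Modules) (hM : IsZero M) :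
    FlatMod.IsFinLocFree M := by
  intro y
  exact ⟨⊤, 0, trivial, ⟨((Scheme.Modules.restrictFunctor (⊤ : X.Opens).ι).map_isZero hM).iso
    Groth.Agent.Lib.Helper16.RS.isZero_freeMod_zero⟩⟩

/-- isomorphic bundles have the same class -/
theorem cl_iso {X : Scheme.{u}} {M N : X.Modules} (e : M ≅ N) (hM : FlatMod.IsFinLocFree M) :
    KRR.cl X M = KRR.cl X N := by
  have hN : FlatMod.IsFinLocFree N := Groth.Agent.Lib.Helper16.RS.isFinLocFree_of_iso e hM
  have h0 : FlatMod.IsFinLocFree (0 : X.Modules) := isFinLocFree_of_isZero _ (isZero_zero _)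
  have hS : (ShortComplex.mk (0 : (0 : X.Modules) ⟶ M) e.hom zero_comp).ShortExact :=
    { exact := by
        rw [ShortComplex.exact_iff_mono _ rfl]
        dsimp; infer_instance
      mono_f := by dsimp; infer_instance
      epi_g := by dsimp; infer_instance }
  have := Groth.Agent.Lib.Helper16.K0Db.clSub_shortExact (KRR.vbP X) _ hS h0 hM hN
  dsimp at this
  rw [Groth.Agent.Lib.Helper16.K0Db.clSub_isZero (KRR.vbP X) _ (isZero_zero _), zero_add] at this
  exact this

/-- S3759 -/
theorem pushPr_structureSheaf {KP KY : Type v} [CommRing KP] [CommRing KY]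
    (φP : SGA6.Kvb (KRR.PY n Y) →+ KP) (φY : SGA6.Kvb Y →+ KY)
    (h1 : φY (KRR.cl Y (Coh.structureModule Y)) = 1)
    (g : KP →+ KY) (hg : KRR.IsPushPr n Y φP φY g) :
    g (φP (KRR.cl (KRR.PY n Y) (Coh.structureModule (KRR.PY n Y)))) = 1 := by
  rw [hg _ (isFinLocFree_structureModule _) (isRegSheaf_structureModule n Y)]
  obtain ⟨e⟩ := nonempty_push_structureModule n Y
  rw [← h1]
  congr 1
  exact cl_iso e (Groth.Agent.Lib.Helper16.RS.isFinLocFree_of_iso e.symm (isFinLocFree_structureModule Y))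

end Groth.Agent.Lib.Helper6.KRRPushO
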