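import Groth.Agent.Lib.Helper6.KRRKosK
import Mathlib
set_option backward.isDefEq.respectTransparency.types false
set_option autoImplicit false
set_option linter.style.haveILetI false
set_option linter.unusedSectionVars false
set_option linter.unusedVariables false
universe u v
open AlgebraicGeometry CategoryTheory Opposite TopologicalSpace CategoryTheory.Limits ZeroObject

/-!
# Helper6 — KRRPushTw: `p_K [O(m)] = C(n+m, m)` for `m ≥ 0` and `p_K [O(-i)] = 0` for `1 ≤ i ≤ n`
-/

noncomputable section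
namespace Groth.Agent.Lib.Helper6.KRRPushTw

open Groth.Agent.Lib.Helper6.KRRKosGeo Groth.Agent.Lib.Helper6.KRRReg Groth.Agent.Lib.Helper6.KosCone
  Groth.Agent.Lib.Helper6.KRRPushO Groth.Agent.Lib.Helper6.KRRPush Groth.Agent.Lib.Helper6.KRRKosK
  Groth.Agent.Lib.Helper6.KRRBinom

variable (n : ℕ) (Y : Scheme.{u})

theorem isFinLocFree_twistOver (d : ℤ) : FlatMod.IsFinLocFree (Twist.twistOver n Y d) := fun x => by
  obtain ⟨W, hxW, e⟩ := Groth.Agent.Lib.Helper6.K0Op.isFinLocFreeOfRank_one_of_isInvertible _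
    (Groth.Agent.Lib.Helper6.PnPicA.isInvertible_twistOver n Y d) x
  exact ⟨W, 1, hxW, e⟩

/-- `O(d)`, `d ≥ -n`, has no higher direct images -/
theorem good_twistOver (d : ℤ) (hd : -(n : ℤ) ≤ d) : Good n Y (Twist.twistOver n Y d) :=
  ⟨isFinLocFree_twistOver n Y d, fun i =>
    isZero_Rpush_of_isZero_RpushAb (KRR.pr n Y) _ _
      (Groth.Agent.Lib.Helper6.PnVanish.isZero_RpushAb_twistOver Y n (i + 1) d (by omega))⟩

/-- `O(y - n)` -/
abbrev Ot (y : ℕ) : (KRR.PY n Y).Modules := Twist.twistOver n Y ((y : ℤ) - n)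

/-- `O(y₀ - n)(k) ≅ O(y₀ + k - n)` -/
theorem nonempty_twF_Ot (y₀ k : ℕ) : Nonempty (KRR.twF n Y (k : ℤ) (Ot n Y y₀) ≅ Ot n Y (y₀ + k)) := by
  obtain ⟨μ⟩ := nonempty_twistOver_tensor n Y (k : ℤ) ((y₀ : ℤ) - n)
  refine ⟨μ ≪≫ eqToIso ?_⟩
  show Twist.twistOver n Y _ = Twist.twistOver n Y _
  congr 1
  push_cast
  ring

/-- the direct image of `O(d)`, `d < 0`, vanishes -/
theorem isZero_push_twistOver (d : ℤ) (hd : d < 0) (hd' : -(n : ℤ) ≤ d) :
    IsZero ((Scheme.Modules.pushforward (KRR.pr n Y)).obj (Twist.twistOver n Y d)) := by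
  haveI : PreservesFiniteLimits (Scheme.Modules.pushforward (KRR.pr n Y)) :=
    (Scheme.Modules.pullbackPushforwardAdjunction (KRR.pr n Y)).rightAdjoint_preservesLimits.{0, 0}.preservesFiniteLimits
  have h := isZero_Rpush_of_isZero_RpushAb (KRR.pr n Y) (Twist.twistOver n Y d) 0
    (Groth.Agent.Lib.Helper6.PnVanish.isZero_RpushAb_twistOver Y n 0 d (by omega))
  exact h.of_iso ((Functor.rightDerivedZeroIsoSelf (Scheme.Modules.pushforward (KRR.pr n Y))).app _).symm

section Base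

variable [IsNoetherian Y]

/-- the class of `p_* O(y - n)` -/
def B (y : ℕ) : SGA6.Kvb Y := KRR.cl Y ((Scheme.Modules.pushforward (KRR.pr n Y)).obj (Ot n Y y))

theorem rec_B : Rec n (B n Y) := by
  intro y₀
  have hG : ∀ a : ℕ, a ≤ n + 1 → Good n Y (KRR.twF n Y (a : ℤ) (Ot n Y y₀)) := fun a _ => by
    obtain ⟨e⟩ := nonempty_twF_Ot n Y y₀ a
    exact (good_twistOver n Y _ (by push_cast; omega)).of_iso e.symm
  have h := koszul_relation_push n Y (Ot n Y y₀) hG
  rw [← h]
  refine Finset.sum_congr rfl (fun k _ => ?_)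
  obtain ⟨e⟩ := nonempty_twF_Ot n Y y₀ k
  congr 1
  exact (cl_iso ((Scheme.Modules.pushforward (KRR.pr n Y)).mapIso e) (hG k (by
    have := Finset.mem_range.1 ‹_›; omega)).isFinLocFree_push).symm

theorem B_eq (y : ℕ) : B n Y y = (y.choose n : ℤ) • KRR.cl Y (Coh.structureModule Y) := by
  have h := (rec_B n Y).sub (rec_choose n (KRR.cl Y (Coh.structureModule Y)))
  have h0 := h.eq_zero_up (fun y hy => by
    rcases Nat.lt_or_ge y n with hlt | hge
    · have hz : B n Y y = 0 :=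
        Groth.Agent.Lib.Helper16.K0Db.clSub_isZero _ _ (isZero_push_twistOver n Y _ (by omega) (by omega))
      rw [hz, Nat.choose_eq_zero_of_lt hlt, Nat.cast_zero, zero_smul, sub_zero]
    · obtain rfl : n = y := le_antisymm hge hy
      rw [Nat.choose_self, Nat.cast_one, one_smul, sub_eq_zero]
      obtain ⟨e1⟩ := nonempty_twistOver_zero n Y
      obtain ⟨e2⟩ := nonempty_push_structureModule n Y
      have e0 : Ot n Y n ≅ Twist.twistOver n Y 0 := eqToIso (by
        show Twist.twistOver n Y _ = Twist.twistOver n Y _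
        congr 1
        exact sub_self _)
      refine cl_iso ((Scheme.Modules.pushforward (KRR.pr n Y)).mapIso (e0 ≪≫ e1) ≪≫ e2) ?_
      exact (good_twistOver n Y _ (by omega)).isFinLocFree_push) y
  exact sub_eq_zero.1 h0

end Base

section Main

variable [IsNoetherian Y] {KP KY : Type v} [CommRing KP] [CommRing KY]
  (φP : SGA6.Kvb (KRR.PY n Y) →+ KP) (φY : SGA6.Kvb Y →+ KY)
  (h1 : φY (KRR.cl Y (Coh.structureModule Y)) = 1)
  (g : KP →+ KY) (hg : KRR.IsPushPr n Y φP φY g)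

include h1 hg in
/-- `p_K [O(y - n)] = C(y, n)` for all `y ≥ 0` -/
theorem pushPr_Ot (y : ℕ) :
    g (φP (KRR.cl (KRR.PY n Y) (Ot n Y y))) = (y.choose n : ℤ) • (1 : KY) := by
  let c : ℕ → KY := fun y => g (φP (KRR.cl (KRR.PY n Y) (Ot n Y y)))
  have hrec : Rec n c := by
    intro y₀
    have h := koszul_relation n Y (Ot n Y y₀) (isFinLocFree_twistOver n Y _)
    have h' := congrArg (fun x => g (φP x)) h
    simp only [map_sum, map_zsmul, map_zero] at h'
    rw [← h']
    refine Finset.sum_congr rfl (fun k _ => ?_)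
    obtain ⟨e⟩ := nonempty_twF_Ot n Y y₀ k
    show _ • g (φP (KRR.cl (KRR.PY n Y) (Ot n Y (y₀ + k)))) = _
    rw [cl_iso e (isFinLocFree_twF n Y _ _ (isFinLocFree_twistOver n Y _))]
  have h := hrec.sub (rec_choose n (1 : KY))
  have h0 := h.eq_zero_down (fun y hy => by
    show c y - _ = 0
    rw [sub_eq_zero]
    show g (φP (KRR.cl (KRR.PY n Y) (Ot n Y y))) = _
    rw [hg _ (isFinLocFree_twistOver n Y _) (isRegSheaf_twistOver n Y _ (by omega))]
    have := B_eq n Y y
    unfold B at this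
    rw [this, map_zsmul, h1]) y
  exact sub_eq_zero.1 h0

include h1 hg in
/-- S3760 -/
theorem pushPr_twist_nonneg (m : ℕ) :
    g (φP (KRR.cl (KRR.PY n Y) (KRR.twF n Y (m : ℤ) (Coh.structureModule (KRR.PY n Y))))) =
      (Nat.choose (n + m) m : KY) := by
  have e : KRR.twF n Y (m : ℤ) (Coh.structureModule (KRR.PY n Y)) ≅ Ot n Y (n + m) :=
    SecTwist.unitorR _ ≪≫ eqToIso (by
      show Twist.twistOver n Y _ = Twist.twistOver n Y _
      congr 1
      push_cast
      ring)
  rw [cl_iso e (isFinLocFree_twF n Y _ _ (isFinLocFree_structureModule _)),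
    pushPr_Ot n Y φP φY h1 g hg (n + m), Nat.choose_symm_add, zsmul_one]
  norm_cast

include h1 hg in
/-- S3761 -/
theorem pushPr_twist_neg (i : ℕ) (hi : 1 ≤ i) (hin : i ≤ n) :
    g (φP (KRR.cl (KRR.PY n Y) (KRR.twF n Y (-(i : ℤ)) (Coh.structureModule (KRR.PY n Y))))) = 0 := by
  have e : KRR.twF n Y (-(i : ℤ)) (Coh.structureModule (KRR.PY n Y)) ≅ Ot n Y (n - i) :=
    SecTwist.unitorR _ ≪≫ eqToIso (by
      show Twist.twistOver n Y _ = Twist.twistOver n Y _
      congr 1
      push_cast [Nat.cast_sub hin]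
      ring)
  rw [cl_iso e (isFinLocFree_twF n Y _ _ (isFinLocFree_structureModule _)),
    pushPr_Ot n Y φP φY h1 g hg (n - i), Nat.choose_eq_zero_of_lt (by omega), Nat.cast_zero, zero_smul]

end Main

end Groth.Agent.Lib.Helper6.KRRPushTw
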