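import Groth.Agent.Lib.Helper6.PicNear
import Groth.Agent.Lib.Helper6.FibreTriv
import Groth.Agent.Lib.helper11.UnitSec
import Groth.Agent.S15522
import Groth.Agent.Lib.Helper1.ParaFLocal
import Mathlib

/-!
# Invertible modules trivial on all fibres, over a reduced base (helper6)

`f : X ⟶ Y` proper flat, `Y` locally noetherian and reduced, `h⁰(X_y, O) = 1` for all `y`, `L` invertible with
`L_y ≅ O` for all `y`: then `f_* L` is invertible and `f^* f_* L ⟶ L` is an isomorphism.
-/

set_option backward.isDefEq.respectTransparency.types false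
set_option autoImplicit false
set_option linter.style.haveILetI false
set_option linter.unusedSectionVars false
universe u
attribute [local instance] HasDerivedCategory.standard
open CategoryTheory CategoryTheory.Limits AlgebraicGeometry Opposite TopologicalSpace TensorProduct

noncomputable section
namespace Groth.Agent.Lib.Helper6.PicReduced

open Formal Groth.Agent.Lib.Helper23.FQuot Groth.Agent.Lib.Helper28 Groth.Agent.Lib.Helper28.QCohLoc
  Groth.Agent.Lib.Helper28.GenLocus Groth.Agent.Lib.Helper28.PullbackInv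
  Groth.Agent.Lib.Helper21.ThickDict Groth.Agent.Lib.Helper28.HomMod

section Local

/-- lifting classes along `F ⟶ F / m^(p+1) F` when `T^n` preserves epimorphisms -/
theorem toHHmodPow_surjective_of_preservesEpi (A : Type u) [CommRing A] [IsNoetherianRing A]
    [IsLocalRing A] (X : Scheme.{u}) [X.Over (Spec (CommRingCat.of A))]
    (F : X.Modules) (n : ℕ)
    (hpe' : (CohIII.tensorAFunctor A F ⋙ CohIII.HAb X n).PreservesEpimorphisms) (p : ℕ) :
    Function.Surjective (Formal.toHHmodPow (IsLocalRing.maximalIdeal A) F n p) := by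
  obtain ⟨eA, eQ, hcomm⟩ := Groth.Agent.Lib.Helper6.TensAQuot.exists_iso_modPow A F
    (IsLocalRing.maximalIdeal A) (p + 1)
  let q : ModuleCat.of A A ⟶ ModuleCat.of A (A ⧸ IsLocalRing.maximalIdeal A ^ (p + 1)) :=
    ModuleCat.ofHom (Submodule.mkQ (IsLocalRing.maximalIdeal A ^ (p + 1)))
  haveI : Epi q := (ModuleCat.epi_iff_surjective q).2 (Submodule.mkQ_surjective _)
  have hepi : Epi ((CohIII.tensorAFunctor A F ⋙ CohIII.HAb X n).map q) := inferInstance
  have hsurj : Function.Surjective ((CohIII.tensorAFunctor A F ⋙ CohIII.HAb X n).map q).hom :=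
    (AddCommGrpCat.epi_iff_surjective _).1 hepi
  have hπ : Formal.modPowπ (IsLocalRing.maximalIdeal A) (p + 1) F =
      eA.inv ≫ (CohIII.tensorAFunctor A F).map q ≫ eQ.hom := by
    rw [hcomm, Iso.inv_hom_id_assoc]
  have hmap : (CohIII.HAb X n).map (Formal.modPowπ (IsLocalRing.maximalIdeal A) (p + 1) F) =
      (CohIII.HAb X n).map eA.inv ≫ (CohIII.tensorAFunctor A F ⋙ CohIII.HAb X n).map q ≫
        (CohIII.HAb X n).map eQ.hom := by
    rw [hπ, Functor.map_comp, Functor.map_comp]
    rfl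
  have hfin : Function.Surjective
      ((CohIII.HAb X n).map (Formal.modPowπ (IsLocalRing.maximalIdeal A) (p + 1) F)).hom := by
    rw [hmap]
    have b1 : Function.Bijective ((CohIII.HAb X n).map eA.inv).hom :=
      ConcreteCategory.bijective_of_isIso ((CohIII.HAb X n).map eA.inv)
    have b2 : Function.Bijective ((CohIII.HAb X n).map eQ.hom).hom :=
      ConcreteCategory.bijective_of_isIso ((CohIII.HAb X n).map eQ.hom)
    intro z
    obtain ⟨z1, hz1⟩ := b2.2 z
    obtain ⟨z2, hz2⟩ := hsurj z1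
    obtain ⟨z3, hz3⟩ := b1.2 z2
    refine ⟨z3, ?_⟩
    change ((CohIII.HAb X n).map eQ.hom).hom (((CohIII.tensorAFunctor A F ⋙ CohIII.HAb X n).map q).hom
      (((CohIII.HAb X n).map eA.inv).hom z3)) = z
    rw [hz3, hz2, hz1]
  exact hfin

/-- an invertible module which is trivial on the closed fibre is trivial, if sections lift from the closed fibre -/
theorem nonempty_iso_structureModule_of_surjective (A : Type u) [CommRing A] [IsLocalRing A]
    [IsNoetherianRing A]
    (X : Scheme.{u}) [X.Over (Spec (CommRingCat.of A))] [IsProper (X ↘ Spec (CommRingCat.of A))]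
    [Flat (X ↘ Spec (CommRingCat.of A))]
    (N : X.Modules) (hN : PicF.IsInvertible N)
    (hsurj : Function.Surjective (Formal.toHHmodPow (IsLocalRing.maximalIdeal A) N 0 0))
    (hε : Nonempty ((Scheme.Modules.pullback (tι (Y := X) (IsLocalRing.maximalIdeal A))).obj N ≅
      Coh.structureModule _)) :
    Nonempty (N ≅ Coh.structureModule X) := by
  set 𝔪 := IsLocalRing.maximalIdeal A with h𝔪
  haveI : IsLocallyNoetherian X :=
    LocallyOfFiniteType.isLocallyNoetherian (X ↘ Spec (CommRingCat.of A))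
  haveI : CompactSpace X := QuasiCompact.compactSpace_of_compactSpace (X ↘ Spec (CommRingCat.of A))
  haveI : IsNoetherian X := { }
  have hNc : Coh.IsCoh N := Groth.Agent.Lib.Helper6.K0Op.isCoh_of_isInvertible N hN
  haveI : N.IsQuasicoherent := hNc.1
  obtain ⟨ε⟩ := hε
  have hq : IsQuot 𝔪 (modPowπ 𝔪 1 N) := by
    have := isQuot_modPowπ 𝔪 1 N
    rwa [pow_one] at this
  have hfg : 𝔪.FG := Groth.Agent.Lib.Lead.FormalC.fg 𝔪
  have hN₀ : Coh.IsCoh (modPow 𝔪 1 N) :=
    Groth.Agent.Lib.Lead.FormalA.isCoh_of_isQuot hfg _ hNc hq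
  haveI : (modPow 𝔪 1 N).IsQuasicoherent := hN₀.1
  obtain ⟨θ, hθ⟩ := exists_unit_fac 𝔪 N _ hq
  haveI : IsIso θ := isIso_of_unit_fac 𝔪 N hN _ hq θ hθ
  have ht := isGen_secOf_inv _ ε
  let t' : Γ((Scheme.Modules.pullback (tι (Y := X) 𝔪)).obj N, (tι (Y := X) 𝔪) ⁻¹ᵁ ⊤) :=
    res _ (le_top : (tι (Y := X) 𝔪) ⁻¹ᵁ ⊤ ≤ ⊤) (secOf ε.inv)
  have ht' : IsGen _ ((tι (Y := X) 𝔪) ⁻¹ᵁ ⊤) t' := ht.res le_top
  let τ : Γ(modPow 𝔪 1 N, ⊤) := (inv θ).app ⊤ t'
  have hτ : θ.app ⊤ τ = t' := by
    have h1 : (inv θ ≫ θ).app ⊤ t' = t' := by rw [IsIso.inv_hom_id]; rfl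
    exact h1
  have hrange : LinearMap.range (Canon.HHlin A (𝟙 (modPow 𝔪 1 N)) 0) ≤
      LinearMap.range (Canon.HHlin A (modPowπ 𝔪 1 N) 0) := by
    intro x _
    obtain ⟨z, hz⟩ := hsurj x
    exact ⟨z, hz⟩
  obtain ⟨σ, hσ⟩ := Groth.Agent.Lib.Helper21.ZarConn.exists_section_of_range_le (A := A)
    (modPowπ 𝔪 1 N) (𝟙 (modPow 𝔪 1 N)) hrange τ
  have hall : ∀ y : X, 𝔪 ≤ ((X ↘ Spec (CommRingCat.of A)) y).asIdeal →
      y ∈ CohB1.genLocus N (TwistGen.ofSection N σ) := by
    intro y hy
    refine mem_genLocus_of_le 𝔪 𝔪 hfg N hN (modPowπ 𝔪 1 N) hq (modPowπ 𝔪 1 N) hq le_rfl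
      (𝟙 (modPow 𝔪 1 N)) (Category.comp_id _) θ hθ τ ?_ σ hσ y hy
    rw [hτ]; exact ht'
  have htop := eq_top_of_preimage_zeroLocus_le (X ↘ Spec (CommRingCat.of A)) 𝔪 le_rfl
    (X ↘ Spec (CommRingCat.of A)).isClosedMap _ hall
  haveI := isIso_of_genLocus_eq_top _ htop
  exact ⟨(asIso (TwistGen.ofSection N σ)).symm⟩

end Local

section Near

variable {X Y : Scheme.{u}} (f : X ⟶ Y) [IsProper f] [Flat f] [IsLocallyNoetherian Y] [IsReduced Y] (y : Y)

/-- the local form over a reduced base: triviality over `X ×_Y Spec O_{Y,y}` -/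
theorem nonempty_iso_over_stalk_of_reduced (L : X.Modules) (hL : PicF.IsInvertible L)
    (hrank : ∀ y' : Y, CohIII.fiberRank f L 0 y' = 1)
    (hy : Nonempty (CohIII.fiberMod f L y ≅ Coh.structureModule (f.fiber y))) :
    Nonempty ((Scheme.Modules.pullback (pullback.fst f (Y.fromSpecStalk y))).obj L ≅
      Coh.structureModule (pullback f (Y.fromSpecStalk y))) := by
  set g : Spec (Y.presheaf.stalk y) ⟶ Y := Y.fromSpecStalk y with hg
  set g' := pullback.fst f g with hg'
  set f' : pullback f g ⟶ Spec (CommRingCat.of (Y.presheaf.stalk y)) := pullback.snd f g with hf'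
  haveI : IsProper f' := by rw [hf']; infer_instance
  haveI : Flat f' := by rw [hf']; infer_instance
  letI : (pullback f g).Over (Spec (CommRingCat.of (Y.presheaf.stalk y))) := ⟨f'⟩
  haveI : IsProper ((pullback f g) ↘ Spec (CommRingCat.of (Y.presheaf.stalk y))) := ‹IsProper f'›
  haveI : Flat ((pullback f g) ↘ Spec (CommRingCat.of (Y.presheaf.stalk y))) := ‹Flat f'›
  set N := (Scheme.Modules.pullback g').obj L with hNdef
  have hN : PicF.IsInvertible N := isInvertible_pullback g' hL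
  have hNc : Coh.IsCoh N := Groth.Agent.Lib.Helper6.K0Op.isCoh_of_isInvertible N hN
  haveI : N.IsQuasicoherent := hNc.1
  haveI : L.IsQuasicoherent := Groth.Agent.Lib.Helper28.InvQC.isQuasicoherent_of_isInvertible L hL
  have hfl : FlatMod.IsFlatOver ((pullback f g) ↘ Spec (CommRingCat.of (Y.presheaf.stalk y))) N :=
    Groth.Agent.Lib.Helper6.PicFibre.isFlatOver_of_isInvertible _ N hN
  have hconst : IsLocallyConstant
      (CohIII.fiberRank ((pullback f g) ↘ Spec (CommRingCat.of (Y.presheaf.stalk y))) N 0) := by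
    have h1 : CohIII.fiberRank ((pullback f g) ↘ Spec (CommRingCat.of (Y.presheaf.stalk y))) N 0 =
        fun _ => 1 := by
      funext s
      have := Groth.Agent.Lib.Helper6.GrothLocal.fiberRank_baseChange f f' g' g
        (IsPullback.of_hasPullback f g) L 0 s
      rw [hrank] at this
      exact this
    rw [h1]
    exact IsLocallyConstant.const 1
  have hpe := (Groth.Agent.S15522.result (Y.presheaf.stalk y) (pullback f g) N hNc hfl 0 hconst).1
  have hsurj := toHHmodPow_surjective_of_preservesEpi (Y.presheaf.stalk y) (pullback f g) N 0 hpe 0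
  refine nonempty_iso_structureModule_of_surjective (Y.presheaf.stalk y) (pullback f g) N hN hsurj ?_
  -- the closed fibre
  set ρ : Spec (CommRingCat.of (IsLocalRing.ResidueField (Y.presheaf.stalk y))) ⟶
      Spec (CommRingCat.of (Y.presheaf.stalk y)) :=
    Spec.map (CommRingCat.ofHom (IsLocalRing.residue (Y.presheaf.stalk y))) with hρ
  set q : pullback f' ρ ⟶ X := pullback.fst f' ρ ≫ g' with hq
  have hw : q ≫ f = pullback.snd f' ρ ≫ Y.fromSpecResidueField y := by
    rw [hq, Category.assoc, hg', pullback.condition, ← hf', ← Category.assoc, pullback.condition, Category.assoc]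
    rfl
  let t : pullback f' ρ ⟶ f.fiber y := pullback.lift q (pullback.snd f' ρ) hw
  have ht : t ≫ f.fiberι y = q := pullback.lift_fst _ _ _
  obtain ⟨ε⟩ := hy
  exact ⟨(Scheme.Modules.pullbackComp (pullback.fst f' ρ) g').app L ≪≫
    (Scheme.Modules.pullbackCongr ht.symm).app L ≪≫
    ((Scheme.Modules.pullbackComp t (f.fiberι y)).app L).symm ≪≫
    (Scheme.Modules.pullback t).mapIso ε ≪≫ Groth.Agent.Lib.Helper16.RS.pullbackUnitIso t⟩

end Near

section Push

variable {X Y : Scheme.{u}} (f : X ⟶ Y) (L : X.Modules)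

theorem counit_pbs (V : Y.Opens) (σ : Γ(L, f ⁻¹ᵁ V)) :
    ((Scheme.Modules.pullbackPushforwardAdjunction f).counit.app L).app (f ⁻¹ᵁ V)
      (pbs f ((Scheme.Modules.pushforward f).obj L) V σ) = σ := by
  have h := (Scheme.Modules.pullbackPushforwardAdjunction f).right_triangle_components L
  have h2 := congrArg (fun φ => Scheme.Modules.Hom.app φ V σ) h
  exact h2

/-- a generator of `L` over `f⁻¹ V` generates `f_* L` over `V`, when `O_Y = f_* O_X` over `V` -/
theorem isGen_pushforward (V : Y.Opens) (σ : Γ(L, f ⁻¹ᵁ V)) (hσ : IsGen L (f ⁻¹ᵁ V) σ)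
    (hbij : ∀ W : Y.Opens, W ≤ V → Function.Bijective (f.app W)) :
    IsGen ((Scheme.Modules.pushforward f).obj L) V
      (show Γ((Scheme.Modules.pushforward f).obj L, V) from σ) := by
  intro W hW
  have h1 := hσ (f ⁻¹ᵁ W) (f.preimage_mono hW)
  exact h1.comp (hbij W hW)

/-- a morphism of modules mapping local generators to local generators is an isomorphism -/
theorem isIso_of_maps_isGen {M N : X.Modules} (ψ : M ⟶ N)
    (h : ∀ x : X, ∃ (U : X.Opens) (g : Γ(M, U)), x ∈ U ∧ IsGen M U g ∧ IsGen N U (ψ.app U g)) :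
    IsIso ψ := by
  refine TensorIso.isIso_of_bijective_on_basis ψ
    (fun W => ∃ (U : X.Opens) (g : Γ(M, U)), W ≤ U ∧ IsGen M U g ∧ IsGen N U (ψ.app U g)) ?_ ?_
  · intro U x hxU
    obtain ⟨U', g, hxU', hg, hg'⟩ := h x
    exact ⟨U ⊓ U', ⟨U', g, inf_le_right, hg, hg'⟩, ⟨hxU, hxU'⟩, inf_le_left⟩
  · rintro W ⟨U, g, hWU, hg, hg'⟩
    have b1 := hg W hWU
    have b2 := hg' W hWU
    have hfun : (fun c : Γ(X, W) => (c • res N hWU (ψ.app U g) : Γ(N, W))) =
        (ψ.app W) ∘ (fun c : Γ(X, W) => (c • res M hWU g : Γ(M, W))) := by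
      funext c
      show _ = ψ.app W (c • res M hWU g : Γ(M, W))
      rw [Scheme.Modules.Hom.app_smul, app_res]
    rw [hfun] at b2
    exact (Function.Bijective.of_comp_iff _ b1).1 b2

end Push

section Rank

variable {X Y : Scheme.{u}} (f : X ⟶ Y) (L : X.Modules) (y : Y)

/-- `h⁰(X_y, L_y) = dim Γ(X_y, O)` when `L_y ≅ O` -/
theorem fiberRank_zero_eq_of_iso (ε : CohIII.fiberMod f L y ≅ Coh.structureModule (f.fiber y)) :
    CohIII.fiberRank f L 0 y = Module.finrank (Y.residueField y) Γ(f.fiber y, ⊤) := by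
  unfold CohIII.fiberRank
  letI : (f.fiber y).Over (Spec (CommRingCat.of ↑(Y.residueField y))) :=
    ⟨f.fiberToSpecResidueField y⟩
  let e1 : CohIII.fiberH f L y 0 ≃ₗ[Y.residueField y]
      Coh.HH (f.fiber y) (Coh.structureModule (f.fiber y)) 0 :=
    ((Groth.Agent.Lib.Helper4.HHFun.HHfun (Y.residueField y) (X := f.fiber y) 0).mapIso ε).toLinearEquiv
  let e0 := Groth.Agent.Lib.Helper13.AlbTriv.e0 (f.fiber y)
  let e2 : Coh.HH (f.fiber y) (Coh.structureModule (f.fiber y)) 0 ≃ₗ[Y.residueField y] Γ(f.fiber y, ⊤) :=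
    { toFun := fun x => e0 x
      invFun := fun c => e0.symm c
      map_add' := fun a b => map_add e0 a b
      map_smul' := fun c x => by
        simp only [RingHom.id_apply]
        exact Groth.Agent.Lib.Helper13.AlbTriv.e0_smul (Y.residueField y) (f.fiber y) c x
      left_inv := fun x => e0.symm_apply_apply x
      right_inv := fun c => e0.apply_symm_apply c }
  exact (e1 ≪≫ₗ e2).finrank_eq

theorem bijective_algebraMap_of_finrank_eq_one
    (h : Module.finrank (Y.residueField y) Γ(f.fiber y, ⊤) = 1) :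
    Function.Bijective (algebraMap (Y.residueField y) Γ(f.fiber y, ⊤)) :=
  Module.Free.bijective_algebraMap_of_finrank_eq_one h

end Rank

section Main

variable {X Y : Scheme.{u}} (f : X ⟶ Y) [IsProper f] [Flat f] [IsLocallyNoetherian Y] [IsReduced Y]
  (h0 : ∀ y : Y, Module.finrank (Y.residueField y) Γ(f.fiber y, ⊤) = 1)
  (L : X.Modules) (hL : PicF.IsInvertible L)
  (htriv : ∀ y : Y, Nonempty (CohIII.fiberMod f L y ≅ Coh.structureModule (f.fiber y)))

include h0 hL htriv in
/-- near every point of `Y`, `L` is generated by a section over `f⁻¹ V` and `O_Y = f_* O_X` over `V` -/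
theorem exists_good_nhd (y : Y) :
    ∃ (V : Y.Opens) (σ : Γ(L, f ⁻¹ᵁ V)), y ∈ V ∧ IsGen L (f ⁻¹ᵁ V) σ ∧
      ∀ W : Y.Opens, W ≤ V → Function.Bijective (f.app W) := by
  haveI : HasInjectiveResolutions X.Modules := inferInstance
  have hrank : ∀ y' : Y, CohIII.fiberRank f L 0 y' = 1 := fun y' => by
    obtain ⟨ε⟩ := htriv y'
    rw [fiberRank_zero_eq_of_iso f L y' ε, h0 y']
  obtain ⟨ε⟩ := nonempty_iso_over_stalk_of_reduced f y L hL hrank (htriv y)
  obtain ⟨U₂, n, hyU₂, hn⟩ := Groth.Agent.Lib.Helper6.PicSpread.exists_open_isGen f y L hL ε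
  obtain ⟨U₁, hyU₁, hU₁⟩ := Groth.Agent.Lib.helper11.UnitSec.exists_nhd_isIso_app f y
    (bijective_algebraMap_of_finrank_eq_one f y (h0 y))
  refine ⟨U₁ ⊓ U₂, res L (f.preimage_mono inf_le_right) n, ⟨hyU₁, hyU₂⟩, hn.res _, fun W hW => ?_⟩
  haveI := hU₁ W (hW.trans inf_le_left)
  exact ConcreteCategory.bijective_of_isIso (f.app W)

include h0 hL htriv in
/-- **the core**: `f_* L` is invertible and the counit `f^* f_* L ⟶ L` is an isomorphism -/
theorem main :
    PicF.IsInvertible ((Scheme.Modules.pushforward f).obj L) ∧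
      IsIso ((Scheme.Modules.pullbackPushforwardAdjunction f).counit.app L) := by
  constructor
  · refine isInvertible_of_isGen _ fun y => ?_
    obtain ⟨V, σ, hyV, hσ, hbij⟩ := exists_good_nhd f h0 L hL htriv y
    exact ⟨V, σ, hyV, isGen_pushforward f L V σ hσ hbij⟩
  · refine isIso_of_maps_isGen _ fun x => ?_
    obtain ⟨V, σ, hyV, hσ, hbij⟩ := exists_good_nhd f h0 L hL htriv (f x)
    refine ⟨f ⁻¹ᵁ V, pbs f ((Scheme.Modules.pushforward f).obj L) V σ, hyV,
      isGen_pbs (isGen_pushforward f L V σ hσ hbij), ?_⟩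
    rw [counit_pbs]
    exact hσ

end Main

section Iff

variable {X Y : Scheme.{u}} (f : X ⟶ Y)

/-- a module pulled back from an invertible module on the base is trivial on every fibre -/
theorem nonempty_fiberMod_pullback_iso (M : Y.Modules) (hM : PicF.IsInvertible M) (y : Y) :
    Nonempty (CohIII.fiberMod f ((Scheme.Modules.pullback f).obj M) y ≅
      Coh.structureModule (f.fiber y)) := by
  have hw : f.fiberι y ≫ f = f.fiberToSpecResidueField y ≫ Y.fromSpecResidueField y :=
    pullback.condition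
  have hM' : PicF.IsInvertible ((Scheme.Modules.pullback (Y.fromSpecResidueField y)).obj M) :=
    isInvertible_pullback _ hM
  have key : ∀ (A : Type u) [Field A] (N : (Spec (CommRingCat.of A)).Modules), PicF.IsInvertible N →
      Nonempty (N ≅ Coh.structureModule (Spec (CommRingCat.of A))) := fun A _ N hN =>
    Groth.Agent.Lib.Helper1.ParaFLocal.nonempty_iso_structureModule_of_local A N hN
  obtain ⟨τ⟩ := key (Y.residueField y) _ hM'
  exact ⟨(Scheme.Modules.pullbackComp (f.fiberι y) f).app M ≪≫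
    (Scheme.Modules.pullbackCongr hw).app M ≪≫
    ((Scheme.Modules.pullbackComp (f.fiberToSpecResidueField y) (Y.fromSpecResidueField y)).app M).symm ≪≫
    (Scheme.Modules.pullback (f.fiberToSpecResidueField y)).mapIso τ ≪≫
    Groth.Agent.Lib.Helper16.RS.pullbackUnitIso (f.fiberToSpecResidueField y)⟩

variable [IsProper f] [Flat f] [IsLocallyNoetherian Y] [IsReduced Y]

/-- **S16759** -/
theorem iff_and (h0 : ∀ y : Y, Module.finrank (Y.residueField y) Γ(f.fiber y, ⊤) = 1)
    (L : X.Modules) (hL : PicF.IsInvertible L) :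
    ((∃ M : Y.Modules, PicF.IsInvertible M ∧ Nonempty ((Scheme.Modules.pullback f).obj M ≅ L)) ↔
        ∀ y : Y, Nonempty (CohIII.fiberMod f L y ≅ Coh.structureModule (f.fiber y))) ∧
      ((∀ y : Y, Nonempty (CohIII.fiberMod f L y ≅ Coh.structureModule (f.fiber y))) →
        PicF.IsInvertible ((Scheme.Modules.pushforward f).obj L) ∧
          IsIso ((Scheme.Modules.pullbackPushforwardAdjunction f).counit.app L)) := by
  refine ⟨⟨?_, fun htriv => ?_⟩, fun htriv => main f h0 L hL htriv⟩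
  · rintro ⟨M, hM, ⟨α⟩⟩ y
    obtain ⟨β⟩ := nonempty_fiberMod_pullback_iso f M hM y
    exact ⟨(Scheme.Modules.pullback (f.fiberι y)).mapIso α.symm ≪≫ β⟩
  · obtain ⟨h1, h2⟩ := main f h0 L hL htriv
    haveI := h2
    exact ⟨_, h1, ⟨asIso ((Scheme.Modules.pullbackPushforwardAdjunction f).counit.app L)⟩⟩

end Iff

end Groth.Agent.Lib.Helper6.PicReduced
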