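import Groth.Agent.Lib.Helper6.PnFlat
import Groth.Agent.Lib.Helper6.PicReduced
import Mathlib

/-!
# Invertible modules on `P^r_Y`: local structure (helper6)
-/

set_option backward.isDefEq.respectTransparency.types false
set_option autoImplicit false
set_option linter.style.haveILetI false
set_option linter.unusedSectionVars false
universe u
open CategoryTheory CategoryTheory.Limits AlgebraicGeometry Opposite TopologicalSpace

noncomputable section
namespace Groth.Agent.Lib.Helper6.PnPicA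

open Groth.Agent.Lib.Helper28 Groth.Agent.Lib.Helper28.QCohLoc Groth.Agent.Lib.Helper28.GenLocus
  Groth.Agent.Lib.Helper28.PullbackInv Groth.Agent.Lib.Helper28.HomMod
open Groth.Agent.Lib.Helper4.Bridge Groth.Agent.Lib.Helper6.PnChart Groth.Agent.Lib.Helper6.PnFibre
  Groth.Agent.Lib.Helper6.PnFlat Groth.Agent.Lib.Helper6.PicReduced

section General

variable {X Y : Scheme.{u}} (f : X ⟶ Y) (L : X.Modules)

/-- the core of `PicReduced.main`, from the existence of good neighbourhoods -/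
theorem main_of_good
    (hgood : ∀ y : Y, ∃ (V : Y.Opens) (σ : Γ(L, f ⁻¹ᵁ V)), y ∈ V ∧ IsGen L (f ⁻¹ᵁ V) σ ∧
      ∀ W : Y.Opens, W ≤ V → Function.Bijective (f.app W)) :
    PicF.IsInvertible ((Scheme.Modules.pushforward f).obj L) ∧
      IsIso ((Scheme.Modules.pullbackPushforwardAdjunction f).counit.app L) := by
  constructor
  · refine isInvertible_of_isGen _ fun y => ?_
    obtain ⟨V, σ, hyV, hσ, hbij⟩ := hgood y
    exact ⟨V, σ, hyV, isGen_pushforward f L V σ hσ hbij⟩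
  · refine isIso_of_maps_isGen _ fun x => ?_
    obtain ⟨V, σ, hyV, hσ, hbij⟩ := hgood (f x)
    refine ⟨f ⁻¹ᵁ V, pbs f ((Scheme.Modules.pushforward f).obj L) V σ, hyV,
      isGen_pbs (isGen_pushforward f L V σ hσ hbij), ?_⟩
    rw [counit_pbs]
    exact hσ

end General

variable (r : ℕ) (Y : Scheme.{u})

/-- `O(d)` on `P^r_Y` is invertible -/
theorem isInvertible_twistOver (d : ℤ) : PicF.IsInvertible (Twist.twistOver r Y d) :=
  isInvertible_pullback _ (TwistCov.isInvertible_twist (gZ r) (VeryAmpleImm.projSpace_cover r Zu) d)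

variable {r Y} (L : (CohB1.ProjSpaceOver r Y).Modules) (hL : PicF.IsInvertible L)

/-- `L ⊗ O(n)^∨` -/
abbrev Nn (n : ℤ) : (CohB1.ProjSpaceOver r Y).Modules := CohB1.tensorMod L (dual (Twist.twistOver r Y n))

include hL in
theorem isInvertible_Nn (n : ℤ) : PicF.IsInvertible (Nn L n) :=
  isInvertible_tensorMod hL (isInvertible_dual (isInvertible_twistOver r Y n))

include hL in
/-- if `L_y ≅ O(n)_y` then `L ⊗ O(n)^∨` is generated by a section over `π⁻¹ U`, `U ∋ y` -/
theorem near [IsLocallyNoetherian Y] (y : Y) (n : ℤ)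
    (hy : Nonempty (CohIII.fiberMod (π r Y) (Twist.twistOver r Y n) y ≅ CohIII.fiberMod (π r Y) L y)) :
    ∃ (U : Y.Opens) (σ : Γ(Nn L n, π r Y ⁻¹ᵁ U)), y ∈ U ∧ IsGen (Nn L n) (π r Y ⁻¹ᵁ U) σ := by
  obtain ⟨ε⟩ := Groth.Agent.Lib.Helper6.PicNear.nonempty_iso_over_stalk (π r Y) y
    (subsingleton_HH_one_fibre r Y y) (Twist.twistOver r Y n) L (isInvertible_twistOver r Y n) hL hy
  exact Groth.Agent.Lib.Helper6.PicSpread.exists_open_isGen (π r Y) y _ (isInvertible_Nn L hL n) ε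

include hL in
/-- conversely, over such a `U`, all fibres of `L` are `O(n)` -/
theorem fibre_iso_of_isGen (n : ℤ) (U : Y.Opens) (σ : Γ(Nn L n, π r Y ⁻¹ᵁ U))
    (hσ : IsGen (Nn L n) (π r Y ⁻¹ᵁ U) σ) (y' : Y) (hy' : y' ∈ U) :
    Nonempty (CohIII.fiberMod (π r Y) (Twist.twistOver r Y n) y' ≅ CohIII.fiberMod (π r Y) L y') := by
  have hν := Groth.Agent.Lib.Helper6.PicSpread.nonempty_pullback_iso_of_isGen _ (π r Y ⁻¹ᵁ U) σ hσ
  have α := Groth.Agent.Lib.Helper6.InvDual.nonempty_pullback_iso_of_tensor_dual (π r Y ⁻¹ᵁ U).ι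
    (Twist.twistOver r Y n) L (isInvertible_twistOver r Y n) hL hν
  have hrange : Set.range ((π r Y).fiberι y') ⊆ Set.range (π r Y ⁻¹ᵁ U).ι := by
    rw [Scheme.Hom.range_fiberι, Scheme.Opens.range_ι]
    intro x hx
    have : (π r Y) x = y' := hx
    show (π r Y) x ∈ U
    rw [this]
    exact hy'
  let t : (π r Y).fiber y' ⟶ (π r Y ⁻¹ᵁ U : (CohB1.ProjSpaceOver r Y).Opens) :=
    IsOpenImmersion.lift (π r Y ⁻¹ᵁ U).ι ((π r Y).fiberι y') hrange
  have ht : t ≫ (π r Y ⁻¹ᵁ U).ι = (π r Y).fiberι y' := IsOpenImmersion.lift_fac _ _ _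
  exact Groth.Agent.Lib.Helper6.InvDual.nonempty_pullback_iso_of_fac (π r Y ⁻¹ᵁ U).ι t _ ht _ _ α

end Groth.Agent.Lib.Helper6.PnPicA
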