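import Groth.Agent.Lib.Helper6.RDShift
import Groth.Agent.Lib.Helper6.K0Op
import Groth.Agent.Lib.Helper6.PnPicA
import Groth.Agent.Lib.Helper17.Serre
import Groth.Agent.Lib.Helper16.TA1
import Groth.Agent.Lib.Helper16.RS6
import Groth.Agent.Lib.Helper28.PullbackInv2
import Groth.Agent.Lib.Helper28.AmpleUnit
import Groth.Agent.Lib.Helper2.TwEq2
import Groth.Prelude.Def_KRR
import Mathlib

/-!
# Regular sheaves (Castelnuovo–Mumford) in short exact sequences (helper6)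
-/

set_option backward.isDefEq.respectTransparency.types false
set_option autoImplicit false
set_option linter.style.haveILetI false
set_option linter.unusedSectionVars false
set_option linter.unusedVariables false
universe u
open CategoryTheory CategoryTheory.Limits AlgebraicGeometry Opposite TopologicalSpace

noncomputable section
namespace Groth.Agent.Lib.Helper6.KRRReg

section General

variable {X Y : Scheme.{u}} (f : X ⟶ Y)

/-- `R^k f_*` of the underlying abelian sheaf -/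
abbrev Rp (k : ℕ) (F : X.Modules) : Sheaf (Opens.grothendieckTopology Y) AddCommGrpCat.{u} :=
  (Coh.RpushAb f k).obj (Coh.toAb F)

theorem isZero_Rp_of_iso (k : ℕ) {F G : X.Modules} (e : F ≅ G) (h : IsZero (Rp f k G)) :
    IsZero (Rp f k F) :=
  h.of_iso ((Coh.RpushAb f k).mapIso ((SheafOfModules.toSheaf X.ringCatSheaf).mapIso e))

variable (S : ShortComplex X.Modules) (hS : S.ShortExact)

include hS in
theorem isZero_mid (k : ℕ) (h₁ : IsZero (Rp f k S.X₁)) (h₃ : IsZero (Rp f k S.X₃)) :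
    IsZero (Rp f k S.X₂) := by
  have hT := Groth.Agent.Lib.Helper17.Serre.shortExact_map_toSheaf' S hS
  obtain ⟨δ, w₀, w₁, w₂, e₀, e₁, e₂⟩ := RDShift.rightDerived_les (Coh.pushAb f) hT k
  exact e₀.isZero_X₂ (h₁.eq_of_src _ _) (h₃.eq_of_tgt _ _)

include hS in
theorem isZero_right (k : ℕ) (h₂ : IsZero (Rp f k S.X₂)) (h₁ : IsZero (Rp f (k + 1) S.X₁)) :
    IsZero (Rp f k S.X₃) := by
  have hT := Groth.Agent.Lib.Helper17.Serre.shortExact_map_toSheaf' S hS
  obtain ⟨δ, w₀, w₁, w₂, e₀, e₁, e₂⟩ := RDShift.rightDerived_les (Coh.pushAb f) hT k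
  exact e₁.isZero_X₂ (h₂.eq_of_src _ _) (h₁.eq_of_tgt _ _)

include hS in
theorem isZero_left (k : ℕ) (h₃ : IsZero (Rp f k S.X₃)) (h₂ : IsZero (Rp f (k + 1) S.X₂)) :
    IsZero (Rp f (k + 1) S.X₁) := by
  have hT := Groth.Agent.Lib.Helper17.Serre.shortExact_map_toSheaf' S hS
  obtain ⟨δ, w₀, w₁, w₂, e₀, e₁, e₂⟩ := RDShift.rightDerived_les (Coh.pushAb f) hT k
  exact e₂.isZero_X₂ (h₃.eq_of_src _ _) (h₂.eq_of_tgt _ _)

instance : PreservesFiniteLimits (Coh.pushAb f) := by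
  haveI : (Coh.pushAb f).IsRightAdjoint := ⟨_, ⟨TopCat.Sheaf.pullbackPushforwardAdjunction _ f.base⟩⟩
  infer_instance

include hS in
theorem isZero_left_zero (hepi : Epi ((Scheme.Modules.pushforward f).map S.g))
    (h₂ : IsZero (Rp f 1 S.X₂)) : IsZero (Rp f 1 S.X₁) := by
  have hT := Groth.Agent.Lib.Helper17.Serre.shortExact_map_toSheaf' S hS
  obtain ⟨δ, w₀, w₁, w₂, e₀, e₁, e₂⟩ := RDShift.rightDerived_les (Coh.pushAb f) hT 0
  haveI := hepi
  haveI hc : PreservesFiniteColimits (SheafOfModules.toSheaf.{u} Y.ringCatSheaf) :=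
    Groth.Agent.Lib.Helper17.StalkExact.toSheaf_preservesFiniteColimits
  haveI hpe : (SheafOfModules.toSheaf.{u} Y.ringCatSheaf).PreservesEpimorphisms := inferInstance
  haveI : Epi ((Coh.pushAb f).map ((SheafOfModules.toSheaf X.ringCatSheaf).map S.g)) := by
    show Epi ((SheafOfModules.toSheaf.{u} Y.ringCatSheaf).map ((Scheme.Modules.pushforward f).map S.g))
    exact @Functor.map_epi _ _ _ _ (SheafOfModules.toSheaf.{u} Y.ringCatSheaf) hpe _ _
      ((Scheme.Modules.pushforward f).map S.g) hepi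
  have hnat := (Coh.pushAb f).rightDerivedZeroIsoSelf.hom.naturality
    ((SheafOfModules.toSheaf X.ringCatSheaf).map S.g)
  haveI hepi0 : Epi (((Coh.pushAb f).rightDerived 0).map
      (S.map (SheafOfModules.toSheaf X.ringCatSheaf)).g) := by
    have : ((Coh.pushAb f).rightDerived 0).map (S.map (SheafOfModules.toSheaf X.ringCatSheaf)).g =
        (Coh.pushAb f).rightDerivedZeroIsoSelf.hom.app _ ≫
          (Coh.pushAb f).map ((SheafOfModules.toSheaf X.ringCatSheaf).map S.g) ≫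
          (Coh.pushAb f).rightDerivedZeroIsoSelf.inv.app _ := by
      rw [← Category.assoc, ← hnat, Category.assoc, Iso.hom_inv_id_app, Category.comp_id]
      rfl
    rw [this]
    haveI h1 : Epi ((Coh.pushAb f).rightDerivedZeroIsoSelf.hom.app
      ((SheafOfModules.toSheaf X.ringCatSheaf).obj S.X₂)) := inferInstance
    haveI h3 : Epi ((Coh.pushAb f).rightDerivedZeroIsoSelf.inv.app
      ((SheafOfModules.toSheaf X.ringCatSheaf).obj S.X₃)) := inferInstance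
    exact epi_comp' h1 (epi_comp' ‹_› h3)
  have hδ : δ = 0 := (@cancel_epi _ _ _ _ _ _ hepi0 _ _).1 (w₁.trans comp_zero.symm)
  haveI : Epi δ := e₂.epi_f (h₂.eq_of_tgt _ _)
  exact (IsZero.iff_id_eq_zero _).2 ((cancel_epi δ).1 (by rw [hδ, zero_comp, zero_comp]))

end General

section Twist

open Groth.Agent.Lib.Helper28 Groth.Agent.Lib.Helper4.Bridge Groth.Agent.Lib.Helper6.K0Inv

variable (n : ℕ) (T : Scheme.{u})

/-- `O(a) ⊗ O(b) ≅ O(a + b)` on `P^n_T` -/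
theorem nonempty_twistOver_tensor (a b : ℤ) :
    Nonempty (CohB1.tensorMod (Twist.twistOver n T a) (Twist.twistOver n T b) ≅
      Twist.twistOver n T (a + b)) := by
  obtain ⟨μ⟩ := TwistCov.nonempty_tensor_iso (gZ n) (VeryAmpleImm.projSpace_cover n Zu) a b
  have ha := TwistCov.isInvertible_twist (gZ n) (VeryAmpleImm.projSpace_cover n Zu) a
  have hb := TwistCov.isInvertible_twist (gZ n) (VeryAmpleImm.projSpace_cover n Zu) b
  obtain ⟨ψ, -⟩ := PullbackInv.exists_pullback_tensorMod_iso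
    (pullback.fst (CohB1.ProjSpace.toSpec n (ULift.{u} ℤ)) (specULiftZIsTerminal.from T)) ha hb
  exact ⟨ψ.symm ≪≫ (Scheme.Modules.pullback _).mapIso μ⟩

/-- `O(0) ≅ O` on `P^n_T` -/
theorem nonempty_twistOver_zero :
    Nonempty (Twist.twistOver n T 0 ≅ Coh.structureModule (KRR.PY n T)) := by
  obtain ⟨μ⟩ := TwistInv.nonempty_twist_zero_iso (gZ n) (Groth.Agent.Lib.Helper2.TwEq2.hgen n Zu)
  exact ⟨(Scheme.Modules.pullback _).mapIso μ ≪≫ Groth.Agent.Lib.Helper16.RS.pullbackUnitIso _⟩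

/-- `(F(b))(a) ≅ F(a + b)` -/
theorem nonempty_twF_twF (a b c : ℤ) (h : a + b = c) (F : (KRR.PY n T).Modules) :
    Nonempty (KRR.twF n T a (KRR.twF n T b F) ≅ KRR.twF n T c F) := by
  subst h
  obtain ⟨μ⟩ := nonempty_twistOver_tensor n T a b
  exact ⟨(Groth.Agent.Lib.Helper16.TA.assocIso (Twist.twistOver n T a) (Twist.twistOver n T b) F).symm ≪≫
    (DCoh.tensorBi.mapIso μ).app F⟩

/-- `F(0) ≅ F` -/
theorem nonempty_twF_zero (F : (KRR.PY n T).Modules) :
    Nonempty (KRR.twF n T 0 F ≅ F) := by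
  obtain ⟨ν⟩ := nonempty_twistOver_zero n T
  obtain ⟨ρ⟩ := AmpleUnit.nonempty_tensor_unit_iso F
  exact ⟨(DCoh.tensorBi.mapIso ν).app F ≪≫ braidIso _ _ ≪≫ ρ⟩

/-- `(F(1))(-1) ≅ F` -/
theorem nonempty_twF_neg_one_twF_one (F : (KRR.PY n T).Modules) :
    Nonempty (KRR.twF n T (-1) (KRR.twF n T 1 F) ≅ F) := by
  obtain ⟨e⟩ := nonempty_twF_twF n T (-1) 1 0 (by norm_num) F
  obtain ⟨e'⟩ := nonempty_twF_zero n T F
  exact ⟨e ≪≫ e'⟩

end Twist

section Main

variable (n : ℕ) (T : Scheme.{u}) (S : ShortComplex (KRR.PY n T).Modules) (hS : S.ShortExact)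

include hS in
theorem shortExact_twF (d : ℤ) :
    (S.map (DCoh.tensorBi.obj (Twist.twistOver n T d))).ShortExact :=
  K0Op.shortExact_tensor_of_flat _ (K0Op.isFlat_of_isFinLocFreeOfRank _
    (K0Op.isFinLocFreeOfRank_one_of_isInvertible _ (PnPicA.isInvertible_twistOver n T d))) S hS

include hS in
/-- S19431 -/
theorem isRegSheaf_X₂ (hreg₁ : KRR.IsRegSheaf n T S.X₁) (hreg₃ : KRR.IsRegSheaf n T S.X₃) :
    KRR.IsRegSheaf n T S.X₂ := by
  intro i hi
  exact isZero_mid (KRR.pr n T) _ (shortExact_twF n T S hS (-(i : ℤ))) i (hreg₁ i hi) (hreg₃ i hi)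

include hS in
/-- S19432 -/
theorem isRegSheaf_X₃ (hreg₂ : KRR.IsRegSheaf n T S.X₂)
    (hreg₁ : KRR.IsRegSheaf n T (KRR.twF n T 1 S.X₁)) :
    KRR.IsRegSheaf n T S.X₃ := by
  intro i hi
  obtain ⟨e⟩ := nonempty_twF_twF n T (-((i + 1 : ℕ) : ℤ)) 1 (-(i : ℤ)) (by push_cast; ring) S.X₁
  have h₁ : IsZero (Rp (KRR.pr n T) (i + 1) (KRR.twF n T (-(i : ℤ)) S.X₁)) :=
    isZero_Rp_of_iso _ _ e.symm (hreg₁ (i + 1) (by omega))
  exact isZero_right (KRR.pr n T) _ (shortExact_twF n T S hS (-(i : ℤ))) i (hreg₂ i hi) h₁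

include hS in
/-- S19433 -/
theorem isRegSheaf_twF_one_X₁ (hreg₂ : KRR.IsRegSheaf n T (KRR.twF n T 1 S.X₂))
    (hreg₃ : KRR.IsRegSheaf n T S.X₃)
    (hepi : Epi ((Scheme.Modules.pushforward (KRR.pr n T)).map S.g)) :
    KRR.IsRegSheaf n T (KRR.twF n T 1 S.X₁) := by
  intro i hi
  obtain _ | _ | j := i
  · omega
  · -- `i = 1`
    obtain ⟨e₁⟩ := nonempty_twF_neg_one_twF_one n T S.X₁
    obtain ⟨e₂⟩ := nonempty_twF_neg_one_twF_one n T S.X₂
    have h₂ : IsZero (Rp (KRR.pr n T) 1 S.X₂) :=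
      isZero_Rp_of_iso _ _ e₂.symm (hreg₂ 1 le_rfl)
    exact isZero_Rp_of_iso _ _ e₁ (isZero_left_zero (KRR.pr n T) S hS hepi h₂)
  · -- `i = j + 2`
    obtain ⟨e₁⟩ := nonempty_twF_twF n T (-((j + 1 + 1 : ℕ) : ℤ)) 1 (-((j + 1 : ℕ) : ℤ))
      (by push_cast; ring) S.X₁
    obtain ⟨e₂⟩ := nonempty_twF_twF n T (-((j + 1 + 1 : ℕ) : ℤ)) 1 (-((j + 1 : ℕ) : ℤ))
      (by push_cast; ring) S.X₂
    have h₂ : IsZero (Rp (KRR.pr n T) (j + 1 + 1) (KRR.twF n T (-((j + 1 : ℕ) : ℤ)) S.X₂)) :=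
      isZero_Rp_of_iso _ _ e₂.symm (hreg₂ (j + 1 + 1) (by omega))
    have h₁ := isZero_left (KRR.pr n T) _ (shortExact_twF n T S hS (-((j + 1 : ℕ) : ℤ))) (j + 1)
      (hreg₃ (j + 1) (by omega)) h₂
    exact isZero_Rp_of_iso _ _ e₁ h₁

end Main

end Groth.Agent.Lib.Helper6.KRRReg
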