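import Groth.Agent.Lib.Helper6.KRRKosK
import Groth.Agent.Lib.Helper6.K0Tower
import Groth.Agent.Lib.Helper6.PnVanish
import Groth.Agent.S0022
import Mathlib
set_option backward.isDefEq.respectTransparency.types false
set_option autoImplicit false
set_option linter.style.haveILetI false
set_option linter.unusedSectionVars false
set_option linter.unusedVariables false
universe u v
open AlgebraicGeometry CategoryTheory Opposite TopologicalSpace CategoryTheory.Limits ZeroObject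

/-!
# Helper6 — KRRRegK: `K₀` of the bundles on `P^n_Y` that become regular after `N` twists
-/

noncomputable section
namespace Groth.Agent.Lib.Helper6.KRRRegK

open Groth.Agent.Lib.Helper6.KRRKosGeo Groth.Agent.Lib.Helper6.KRRReg Groth.Agent.Lib.Helper6.KosCone
  Groth.Agent.Lib.Helper6.KRRPushO Groth.Agent.Lib.Helper6.KRRPush Groth.Agent.Lib.Helper6.KRRKosK
  Groth.Agent.Lib.Helper6.K0Tower

attribute [local instance] HasDerivedCategory.standard

variable (n : ℕ) (Y : Scheme.{u})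

section Closure

theorem isRegSheaf_of_isZero (F : (KRR.PY n Y).Modules) (h : IsZero F) : KRR.IsRegSheaf n Y F := by
  intro i hi
  haveI : (Coh.RpushAb (KRR.pr n Y) i).Additive := RDShift.rightDerived_additive _ i
  have h1 : IsZero (KRR.twF n Y (-(i : ℤ)) F) :=
    (DCoh.tensorBi.obj (Twist.twistOver n Y (-(i : ℤ)))).map_isZero h
  exact (Coh.RpushAb (KRR.pr n Y) i).map_isZero
    ((SheafOfModules.toSheaf (KRR.PY n Y).ringCatSheaf).map_isZero h1)

/-- twisting commutes with biproducts -/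
def twFBiprod (d : ℤ) (M N : (KRR.PY n Y).Modules) :
    KRR.twF n Y d (M ⊞ N) ≅ KRR.twF n Y d M ⊞ KRR.twF n Y d N :=
  haveI : PreservesBinaryBiproduct M N (DCoh.tensorBi.obj (Twist.twistOver n Y d)) :=
    preservesBinaryBiproduct_of_preservesBiproduct _ M N
  (DCoh.tensorBi.obj (Twist.twistOver n Y d)).mapBiprod M N

theorem isRegSheaf_biprod (M N : (KRR.PY n Y).Modules) (hM : KRR.IsRegSheaf n Y M)
    (hN : KRR.IsRegSheaf n Y N) : KRR.IsRegSheaf n Y (M ⊞ N) := by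
  intro i hi
  exact isZero_Rp_of_iso _ _ (twFBiprod n Y _ M N)
    (isZero_Rp_biprod (KRR.pr n Y) i _ _ (hM i hi) (hN i hi))

/-- finite locally free modules which are regular after `N` twists -/
def RN (N : ℕ) : ObjectProperty (KRR.PY n Y).Modules :=
  fun F => FlatMod.IsFinLocFree F ∧ KRR.IsRegSheaf n Y (KRR.twF n Y (N : ℤ) F)

variable {n Y}

theorem RN.of_iso {N : ℕ} {F F' : (KRR.PY n Y).Modules} (e : F ≅ F') (h : RN n Y N F) : RN n Y N F' :=
  ⟨Groth.Agent.Lib.Helper16.RS.isFinLocFree_of_iso e h.1, isRegSheaf_of_iso n Y (twFIso n Y _ e) h.2⟩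

theorem RN.of_isZero {N : ℕ} {F : (KRR.PY n Y).Modules} (h : IsZero F) : RN n Y N F :=
  ⟨isFinLocFree_of_isZero F h, isRegSheaf_of_isZero n Y _
    ((DCoh.tensorBi.obj (Twist.twistOver n Y (N : ℤ))).map_isZero h)⟩

theorem RN.biprod {N : ℕ} {F F' : (KRR.PY n Y).Modules} (h : RN n Y N F) (h' : RN n Y N F') :
    RN n Y N (F ⊞ F') :=
  ⟨Groth.Agent.Lib.Helper16.RS.isFinLocFree_biprod F F' h.1 h'.1,
    isRegSheaf_of_iso n Y (twFBiprod n Y _ F F').symm (isRegSheaf_biprod n Y _ _ h.2 h'.2)⟩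

theorem RN.succ {N : ℕ} {F : (KRR.PY n Y).Modules} (h : RN n Y N F) : RN n Y (N + 1) F := by
  refine ⟨h.1, ?_⟩
  obtain ⟨e⟩ := nonempty_twF_twF n Y 1 (N : ℤ) ((N + 1 : ℕ) : ℤ) (by push_cast; ring) F
  exact isRegSheaf_of_iso n Y e (isRegSheaf_twF_one n Y _ h.2)

/-- twisting by `j ≥ 0` preserves `RN N` -/
theorem RN.twF_nat {N : ℕ} {F : (KRR.PY n Y).Modules} (h : RN n Y N F) (j : ℕ) :
    RN n Y N (KRR.twF n Y (j : ℤ) F) := by
  refine ⟨isFinLocFree_twF n Y _ F h.1, ?_⟩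
  obtain ⟨e₁⟩ := nonempty_twF_twF n Y (N : ℤ) (j : ℤ) ((N : ℤ) + j) rfl F
  obtain ⟨e₂⟩ := nonempty_twF_twF n Y (j : ℤ) (N : ℤ) ((N : ℤ) + j) (by ring) F
  exact isRegSheaf_of_iso n Y (e₂ ≪≫ e₁.symm) (isRegSheaf_twF_nat n Y _ h.2 j)

/-- twisting by `j + 1 ≥ 1` lowers the level -/
theorem RN.twF_succ {N : ℕ} {F : (KRR.PY n Y).Modules} (h : RN n Y (N + 1) F) (j : ℕ) :
    RN n Y N (KRR.twF n Y ((j + 1 : ℕ) : ℤ) F) := by
  refine ⟨isFinLocFree_twF n Y _ F h.1, ?_⟩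
  obtain ⟨e₁⟩ := nonempty_twF_twF n Y (N : ℤ) ((j + 1 : ℕ) : ℤ) ((N : ℤ) + 1 + j) (by push_cast; ring) F
  obtain ⟨e₂⟩ := nonempty_twF_twF n Y (j : ℤ) ((N + 1 : ℕ) : ℤ) ((N : ℤ) + 1 + j) (by push_cast; ring) F
  exact isRegSheaf_of_iso n Y (e₂ ≪≫ e₁.symm) (isRegSheaf_twF_nat n Y _ h.2 j)

/-- the quotient of a short exact sequence whose first two terms are regular after `N` twists is so -/
theorem isRegSheaf_twF_X₃ (N : ℕ) (S : ShortComplex (KRR.PY n Y).Modules) (hS : S.ShortExact)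
    (h₁ : KRR.IsRegSheaf n Y (KRR.twF n Y (N : ℤ) S.X₁))
    (h₂ : KRR.IsRegSheaf n Y (KRR.twF n Y (N : ℤ) S.X₂)) :
    KRR.IsRegSheaf n Y (KRR.twF n Y (N : ℤ) S.X₃) := by
  have h := isRegSheaf_X₃ n Y (S.map (DCoh.tensorBi.obj (Twist.twistOver n Y (N : ℤ))))
    (shortExact_twF n Y S hS (N : ℤ)) h₂ (isRegSheaf_twF_one n Y _ h₁)
  exact h

end Closure

section Koszul

variable {n Y}

theorem clSub_RN_iso (N : ℕ) {M M' : (KRR.PY n Y).Modules} (e : M ≅ M') (h : RN n Y N M) :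
    KZero.clSub (RN n Y N) M = KZero.clSub (RN n Y N) M' := by
  have hS := Groth.Agent.Lib.Helper16.K0Db.clSub_shortExact (RN n Y N)
    (ShortComplex.mk (0 : (0 : (KRR.PY n Y).Modules) ⟶ M) e.hom zero_comp)
    { exact := by
        rw [ShortComplex.exact_iff_mono _ (by rfl)]
        dsimp
        infer_instance
      mono_f := ⟨fun _ _ _ => (isZero_zero _).eq_of_tgt _ _⟩
      epi_g := by dsimp; infer_instance }
    (RN.of_isZero (isZero_zero _)) h (h.of_iso e)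
  dsimp at hS
  rw [hS, Groth.Agent.Lib.Helper16.K0Db.clSub_isZero _ _ (isZero_zero _), zero_add]

/-- **the Koszul relation in `K₀` of the bundles regular after `N` twists** -/
theorem koszul_relation_RN (N : ℕ) (G : (KRR.PY n Y).Modules) (hG : RN n Y N G) :
    ∑ k ∈ Finset.range (n + 2), ((-1 : ℤ) ^ (n + 1 - k) * ((n + 1).choose k : ℤ)) •
      KZero.clSub (RN n Y N) (KRR.twF n Y (k : ℤ) G) = 0 := by
  have hT : ∀ a : ℕ, RN n Y N (Tpow (TA (Twist.twistOver n Y 1)) a G) := fun a => by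
    obtain ⟨e⟩ := nonempty_Tpow_iso n Y a G
    exact (hG.twF_nat a).of_iso e.symm
  have hQiso : ∀ M M' : (KRR.PY n Y).Modules, (M ≅ M') → RN n Y N M → RN n Y N M' :=
    fun M M' e h => h.of_iso e
  have hQzero : ∀ M : (KRR.PY n Y).Modules, IsZero M → RN n Y N M := fun M h => RN.of_isZero h
  have hQbi : ∀ M M' : (KRR.PY n Y).Modules, RN n Y N M → RN n Y N M' → RN n Y N (M ⊞ M') :=
    fun M M' h h' => h.biprod h'
  have hterm : ∀ m : ℤ, RN n Y N ((CK n Y G).X m) := fun m =>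
    prop_X _ _ (RN n Y N) hQiso hQzero hQbi (n + 1) m G (fun a _ _ => hT a)
  have hlow : IsZero ((CK n Y G).X (-((n + 1 + 1 : ℕ) : ℤ))) :=
    isZero_X_of_not_mem _ _ (n + 1) _ G (Or.inl (by push_cast; omega))
  have hhigh : IsZero ((CK n Y G).X 1) := isZero_X_of_not_mem _ _ (n + 1) _ G (Or.inr one_pos)
  -- the cycle objects
  have hZ1 : ∀ j : ℕ, j ≤ n + 1 → FlatMod.IsFinLocFree ((CK n Y G).cycles (-(j : ℤ))) :=
    cycles_mem_of_ker (KRR.vbP (KRR.PY n Y)) (fun M h => isFinLocFree_of_isZero M h)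
      (fun S hS h2 h3 => vb_hker S hS h2 h3) (CK n Y G) (acyclic_CK n Y G) (n + 1) hhigh
      (fun j _ => (hterm _).1)
  have hZ2 : ∀ j : ℕ, j ≤ n + 1 →
      KRR.IsRegSheaf n Y (KRR.twF n Y (N : ℤ) ((CK n Y G).cycles (-(j : ℤ)))) :=
    cycles_mem_of_coker (fun M => KRR.IsRegSheaf n Y (KRR.twF n Y (N : ℤ) M))
      (fun M h => (RN.of_isZero (N := N) h).2)
      (fun S hS h1 h2 => isRegSheaf_twF_X₃ N S hS h1 h2) (CK n Y G) (acyclic_CK n Y G) (n + 1) hlow
      (fun j _ => (hterm _).2)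
  have hE := euler_acyclic_of_cycles (RN n Y N) hQzero (CK n Y G) (acyclic_CK n Y G) (n + 1)
    hlow hhigh (fun j _ => hterm _) (fun j hj => ⟨hZ1 j hj, hZ2 j hj⟩)
  rw [← Finset.sum_range_reflect] at hE
  rw [← hE]
  refine Finset.sum_congr rfl (fun k hk => ?_)
  have hk' := Finset.mem_range.1 hk
  have hcl := class_X (TA (Twist.twistOver n Y 1)) (tauA (Twist.twistOver n Y 1) (secP n Y))
    (RN n Y N) (fun M => KZero.clSub (RN n Y N) M)
    hQiso hQzero hQbi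
    (fun M M' e h => clSub_RN_iso N e h)
    (fun M h => Groth.Agent.Lib.Helper16.K0Db.clSub_isZero _ M h)
    (fun M M' hM hM' => Groth.Agent.Lib.Helper16.K0Db.clSub_shortExact (RN n Y N) _
      (Groth.Agent.Lib.Helper16.ResD.biprod_shortExact M M') hM (hM.biprod hM') hM')
    (n + 1) (-((n + 1 + 1 - 1 - k : ℕ) : ℤ)) G
    (fun a _ => hT a) k (by push_cast [Nat.cast_sub (show k ≤ n + 1 + 1 - 1 by omega)]; omega) (by omega)
  have hcl' : KZero.clSub (RN n Y N) ((CK n Y G).X (-((n + 1 + 1 - 1 - k : ℕ) : ℤ))) =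
      (n + 1).choose k • KZero.clSub (RN n Y N) (Tpow (TA (Twist.twistOver n Y 1)) k G) := hcl
  obtain ⟨e⟩ := nonempty_Tpow_iso n Y k G
  have hcl'' : KZero.clSub (RN n Y N) ((CK n Y G).X (-((n + 1 + 1 - 1 - k : ℕ) : ℤ))) =
      (n + 1).choose k • KZero.clSub (RN n Y N) (KRR.twF n Y (k : ℤ) G) := by
    rw [← clSub_RN_iso N e (hT k)]
    exact hcl'
  rw [hcl'']
  have hexp : n + 1 + 1 - 1 - k = n + 1 - k := by omega
  rw [hexp, mul_smul, natCast_zsmul]

end Koszul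

section Step

/-- solving the Koszul relation for the first term -/
theorem koszul_solve {G : Type*} [AddCommGroup G] (n : ℕ) (x : ℕ → G)
    (h : ∑ k ∈ Finset.range (n + 2), ((-1 : ℤ) ^ (n + 1 - k) * ((n + 1).choose k : ℤ)) • x k = 0) :
    x 0 = -(((-1 : ℤ) ^ (n + 1)) • ∑ j ∈ Finset.range (n + 1),
      ((-1 : ℤ) ^ (n + 1 - (j + 1)) * ((n + 1).choose (j + 1) : ℤ)) • x (j + 1)) := by
  rw [show n + 2 = (n + 1) + 1 from rfl, Finset.sum_range_succ'] at h
  have h' : ∑ j ∈ Finset.range (n + 1),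
      ((-1 : ℤ) ^ (n + 1 - (j + 1)) * ((n + 1).choose (j + 1) : ℤ)) • x (j + 1) =
      -(((-1 : ℤ) ^ (n + 1)) • x 0) := by
    rw [eq_neg_iff_add_eq_zero]
    simpa using h
  rw [h', smul_neg, neg_neg, smul_smul, ← pow_add, ← two_mul, pow_mul]
  simp

variable {n Y}

/-- the candidate inverse on objects: `F ↦ Σ_{j=1}^{n+1} (-1)^{j-1} C(n+1,j) [F(j)]` -/
def stepFun (N : ℕ) (F : (KRR.PY n Y).Modules) : KZero.K0sub (RN n Y N) :=
  -(((-1 : ℤ) ^ (n + 1)) • ∑ j ∈ Finset.range (n + 1),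
    ((-1 : ℤ) ^ (n + 1 - (j + 1)) * ((n + 1).choose (j + 1) : ℤ)) •
      KZero.clSub (RN n Y N) (KRR.twF n Y ((j + 1 : ℕ) : ℤ) F))

theorem stepFun_additive (N : ℕ) (S : ShortComplex (KRR.PY n Y).Modules) (hS : S.ShortExact)
    (h1 : RN n Y (N + 1) S.X₁) (h2 : RN n Y (N + 1) S.X₂) (h3 : RN n Y (N + 1) S.X₃) :
    stepFun N S.X₂ = stepFun N S.X₁ + stepFun N S.X₃ := by
  unfold stepFun
  rw [← neg_add, ← smul_add, ← Finset.sum_add_distrib]
  congr 2
  refine Finset.sum_congr rfl (fun j _ => ?_)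
  rw [← smul_add]
  congr 1
  exact Groth.Agent.Lib.Helper16.K0Db.clSub_shortExact (RN n Y N)
    (S.map (DCoh.tensorBi.obj (Twist.twistOver n Y ((j + 1 : ℕ) : ℤ))))
    (shortExact_twF n Y S hS _) (h1.twF_succ j) (h2.twF_succ j) (h3.twF_succ j)

theorem stepFun_eq (N : ℕ) (F : (KRR.PY n Y).Modules) (hF : RN n Y N F) :
    stepFun N F = KZero.clSub (RN n Y N) F := by
  have h := koszul_solve n (fun k => KZero.clSub (RN n Y N) (KRR.twF n Y (k : ℤ) F))
    (koszul_relation_RN N F hF)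
  obtain ⟨e⟩ := nonempty_twF_zero n Y F
  have h0 : KZero.clSub (RN n Y N) (KRR.twF n Y ((0 : ℕ) : ℤ) F) = KZero.clSub (RN n Y N) F :=
    clSub_RN_iso N e (hF.twF_nat 0)
  rw [← h0]
  exact h.symm

/-- **the transition maps of the tower are bijective** -/
theorem step_bijective (N : ℕ) :
    Function.Bijective (SGA6.mapSub (𝟭 (KRR.PY n Y).Modules) (RN n Y N) (RN n Y (N + 1))
      (fun F h => RN.succ h)) := by
  let ι := SGA6.mapSub (𝟭 (KRR.PY n Y).Modules) (RN n Y N) (RN n Y (N + 1)) (fun F h => RN.succ h)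
  let ψ : KZero.K0sub (RN n Y (N + 1)) →+ KZero.K0sub (RN n Y N) :=
    Groth.Agent.Lib.Helper6.K0Full.liftSub (RN n Y (N + 1)) (stepFun N)
      (fun S hS h1 h2 h3 => stepFun_additive N S hS h1 h2 h3)
  have h1 : ψ.comp ι = AddMonoidHom.id _ := by
    apply K0sub_hom_ext
    intro F hF
    rw [AddMonoidHom.comp_apply]
    show ψ (SGA6.mapSub (𝟭 (KRR.PY n Y).Modules) (RN n Y N) (RN n Y (N + 1)) _ _) = _
    rw [Groth.Agent.Lib.Helper6.K0Abs.mapSub_clSub _ _ _ _ F hF]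
    show ψ (KZero.clSub (RN n Y (N + 1)) F) = KZero.clSub (RN n Y N) F
    rw [Groth.Agent.Lib.Helper6.K0Full.liftSub_clSub _ _ _ F hF.succ]
    exact stepFun_eq N F hF
  have h2 : ι.comp ψ = AddMonoidHom.id _ := by
    apply K0sub_hom_ext
    intro F hF
    rw [AddMonoidHom.comp_apply, Groth.Agent.Lib.Helper6.K0Full.liftSub_clSub _ _ _ F hF]
    show ι (stepFun N F) = KZero.clSub (RN n Y (N + 1)) F
    rw [← stepFun_eq (N + 1) F hF]
    unfold stepFun
    rw [map_neg, map_zsmul, map_sum]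
    congr 2
    refine Finset.sum_congr rfl (fun j _ => ?_)
    rw [map_zsmul]
    congr 1
    exact Groth.Agent.Lib.Helper6.K0Abs.mapSub_clSub _ _ _ _ _ (hF.twF_succ j)
  rw [Function.bijective_iff_has_inverse]
  exact ⟨ψ, fun x => DFunLike.congr_fun h1 x, fun x => DFunLike.congr_fun h2 x⟩

end Step

section Exhaust

/-- the higher direct images of a quasi-coherent module on `P^n_Y` vanish above degree `n` -/
theorem isZero_RpushAb_high (G : (KRR.PY n Y).Modules) [G.IsQuasicoherent] (i : ℕ) (hi : n < i) :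
    IsZero ((Coh.RpushAb (KRR.pr n Y) i).obj (Coh.toAb G)) := by
  haveI : IsProper (KRR.pr n Y) := Groth.Agent.Lib.Helper6.PnFlat.isProper_toBase n Y
  refine Groth.Agent.Lib.Helper4.RpushZero.isZero_RpushAb_of_cover (KRR.pr n Y) G i (fun y => ?_)
  obtain ⟨W, hW, hyW, -⟩ := Opens.isBasis_iff_nbhd.mp Y.isBasis_affineOpens
    (show y ∈ (⊤ : Y.Opens) from trivial)
  refine ⟨W, hW, hyW, ?_⟩
  obtain ⟨θ, -⟩ := Groth.Agent.Lib.Helper6.PnChart.exists_chart n W hW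
  let F := G.restrict ((KRR.pr n Y) ⁻¹ᵁ W).ι
  let G' := (Scheme.Modules.pullback θ.inv).obj F
  have α : F ≅ (Scheme.Modules.pullback θ.hom).obj G' :=
    ((Scheme.Modules.pullbackComp θ.hom θ.inv).app F ≪≫
      (Scheme.Modules.pullbackCongr θ.hom_inv_id).app F ≪≫ (Scheme.Modules.pullbackId _).app F).symm
  haveI : Coh.IsQCoh G' := inferInstanceAs (G'.IsQuasicoherent)
  exact Groth.Agent.Lib.Helper6.PnChart.subsingleton_HH_of_scheme_iso θ G' F α i
    (Groth.Agent.S0022.result n _ G' i hi)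

variable {n Y}

/-- **every bundle on `P^n_Y` becomes regular after sufficiently many twists** -/
theorem exists_RN [IsNoetherian Y] (F : (KRR.PY n Y).Modules) (hF : FlatMod.IsFinLocFree F) :
    ∃ N : ℕ, RN n Y N F := by
  haveI : IsProper (KRR.pr n Y) := Groth.Agent.Lib.Helper6.PnFlat.isProper_toBase n Y
  obtain ⟨n₀, h⟩ := Groth.Agent.Lib.Helper4.FlatTw.exists_isZero_Rpush (KRR.pr n Y)
    (Twist.twistOver n Y 1) (isRelAmple_twistOver_one n Y)
    (Groth.Agent.Lib.Helper6.PnPicA.isInvertible_twistOver n Y 1) F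
    (Groth.Agent.Lib.Helper17.FFLocFree.isCoh_of_isFinLocFree F hF)
  refine ⟨n₀ + n, hF, fun i hi => ?_⟩
  by_cases hin : n < i
  · haveI : (KRR.twF n Y (-(i : ℤ)) (KRR.twF n Y ((n₀ + n : ℕ) : ℤ) F)).IsQuasicoherent :=
      (Groth.Agent.Lib.Helper17.FFLocFree.isCoh_of_isFinLocFree _
        (isFinLocFree_twF n Y _ _ (isFinLocFree_twF n Y _ _ hF))).1
    exact isZero_RpushAb_high n Y _ i hin
  · obtain ⟨e₁⟩ := nonempty_twF_twF n Y (-(i : ℤ)) ((n₀ + n : ℕ) : ℤ) ((n₀ + n - i : ℕ) : ℤ)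
      (by rw [Nat.cast_sub (by omega)]; ring) F
    obtain ⟨e⟩ := nonempty_tensorPow_twistOver n Y (n₀ + n - i)
    have e₂ : CohB1.tensorMod F (CohB1.tensorPow (Twist.twistOver n Y 1) (n₀ + n - i)) ≅
        KRR.twF n Y ((n₀ + n - i : ℕ) : ℤ) F :=
      (DCoh.tensorBi.obj F).mapIso e ≪≫ Groth.Agent.Lib.Helper6.K0Inv.braidIso _ _
    have hz := h (n₀ + n - i) (by omega) i (by omega)
    obtain ⟨ε⟩ := Groth.Agent.S11319.result (KRR.pr n Y)
      (CohB1.tensorMod F (CohB1.tensorPow (Twist.twistOver n Y 1) (n₀ + n - i))) i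
    have hz' : IsZero (Rp (KRR.pr n Y) i
        (CohB1.tensorMod F (CohB1.tensorPow (Twist.twistOver n Y 1) (n₀ + n - i)))) :=
      ((SheafOfModules.toSheaf Y.ringCatSheaf).map_isZero hz).of_iso ε.symm
    exact isZero_Rp_of_iso _ _ (e₁ ≪≫ e₂.symm) hz'

end Exhaust

section Main

/-- **S3758**: `K₀` of the regular bundles on `P^n_Y` maps bijectively to `K₀` of all bundles -/
theorem K0_regular_bijective [IsNoetherian Y]
    (h : ∀ M : (KRR.PY n Y).Modules, FlatMod.IsFinLocFree M ∧ KRR.IsRegSheaf n Y M →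
      FlatMod.IsFinLocFree M) :
    Function.Bijective (SGA6.mapSub (𝟭 (KRR.PY n Y).Modules)
      (fun M : (KRR.PY n Y).Modules => FlatMod.IsFinLocFree M ∧ KRR.IsRegSheaf n Y M)
      (KRR.vbP (KRR.PY n Y)) h) := by
  have key : ∀ (Q₀ : ObjectProperty (KRR.PY n Y).Modules) (hQ₀ : Q₀ = RN n Y 0)
      (h : ∀ M, Q₀ M → FlatMod.IsFinLocFree M),
      Function.Bijective (SGA6.mapSub (𝟭 (KRR.PY n Y).Modules) Q₀ (KRR.vbP (KRR.PY n Y)) h) := by
    rintro _ rfl h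
    exact tower_bijective (KRR.vbP (KRR.PY n Y)) (RN n Y) (fun N F hF => RN.succ hF)
      (fun N F hF => hF.1) (fun F hF => exists_RN F hF) (fun N => step_bijective N)
  refine key _ (funext fun M => propext ⟨fun hM => ⟨hM.1, ?_⟩, fun hM => ⟨hM.1, ?_⟩⟩) h
  · obtain ⟨e⟩ := nonempty_twF_zero n Y M
    exact isRegSheaf_of_iso n Y e.symm hM.2
  · obtain ⟨e⟩ := nonempty_twF_zero n Y M
    exact isRegSheaf_of_iso n Y e hM.2

end Main

end Groth.Agent.Lib.Helper6.KRRRegK
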