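import Groth.Agent.Lib.Helper6.RightRes
import Mathlib.Algebra.Homology.Opposite
import Mathlib.Algebra.Homology.Embedding.TruncLE

/-!
# Left resolutions of bounded above complexes by objects of a class (helper6)

Dual of `RightRes`, obtained by passing to the opposite category.
-/

universe v u

open CategoryTheory Limits HomologicalComplex Opposite

namespace Groth.Agent.Lib.Helper6.LeftRes

variable {A : Type u} [Category.{v} A] [Abelian A]

variable (P : A → Prop)

section Nat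

variable (hP : ∀ X : A, ∃ (Y : A) (π : Y ⟶ X), P Y ∧ Epi π)

include hP in
lemma hPop : ∀ X : Aᵒᵖ, ∃ (Y : Aᵒᵖ) (ι : X ⟶ Y), (fun Z : Aᵒᵖ => P Z.unop) Y ∧ Mono ι := by
  intro X
  obtain ⟨Y, π, hY, hπ⟩ := hP X.unop
  exact ⟨op Y, π.op, hY, inferInstance⟩

include hP in
/-- Left resolutions of `ℕ`-indexed chain complexes by objects of `P`. -/
theorem exists_nat (K : ChainComplex A ℕ) :
    ∃ (Q : ChainComplex A ℕ) (α : Q ⟶ K), (∀ n, P (Q.X n)) ∧ (∀ n, Epi (α.f n)) ∧
      QuasiIso α := by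
  obtain ⟨L', α', hL', hα', hq⟩ :=
    RightRes.exists_nat (fun Z : Aᵒᵖ => P Z.unop) (hPop P hP) (K.op : CochainComplex Aᵒᵖ ℕ)
  let Q : ChainComplex A ℕ := L'.unop
  let α : Q ⟶ K := (unopFunctor A (ComplexShape.up ℕ)).map α'.op
  refine ⟨Q, α, fun n => hL' n, fun n => ?_, ?_⟩
  · have := hα' n
    change Epi (α'.f n).unop
    infer_instance
  · exact (quasiIso_unopFunctor_map_iff α').2 hq

end Nat

section IntVersion

variable (hP0 : ∃ Z : A, IsZero Z ∧ P Z)
  (hP : ∀ X : A, ∃ (Y : A) (π : Y ⟶ X), P Y ∧ Epi π)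

include hP in
lemma hPbar : ∀ X : A, ∃ (Y : A) (π : Y ⟶ X), RightRes.Ibar P Y ∧ Epi π := fun X => by
  obtain ⟨Y, π, hY, hπ⟩ := hP X
  exact ⟨Y, π, ⟨Y, hY, ⟨Iso.refl _⟩⟩, hπ⟩

include hP0 hP in
/-- Left resolutions of bounded above cochain complexes by objects of `P`. -/
theorem exists_int (K : CochainComplex A ℤ) (a : ℤ) [K.IsStrictlyLE a] :
    ∃ (Q : CochainComplex A ℤ) (α : Q ⟶ K), Q.IsStrictlyLE a ∧ (∀ n, P (Q.X n)) ∧
      (∀ n, Epi (α.f n)) ∧ QuasiIso α := by
  obtain ⟨Q', α', hQ', hα', hq⟩ := exists_nat (RightRes.Ibar P) (hPbar P hP)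
    (K.truncLE' (ComplexShape.embeddingUpIntLE a))
  have hQ₁ : ∀ n, RightRes.Ibar P ((Q'.extend (ComplexShape.embeddingUpIntLE a)).X n) := by
    intro n
    by_cases hn : ∃ i, (ComplexShape.embeddingUpIntLE a).f i = n
    · obtain ⟨i, hi⟩ := hn
      obtain ⟨Y, hY, ⟨φ⟩⟩ := hQ' i
      exact ⟨Y, hY, ⟨Q'.extendXIso _ hi ≪≫ φ⟩⟩
    · obtain ⟨Z, hZ, hPZ⟩ := hP0
      exact ⟨Z, hPZ, ⟨(Q'.isZero_extend_X _ n (by simpa using hn)).iso hZ⟩⟩
  choose Y hY φ using hQ₁
  let ψ := RightRes.transportIso (Q'.extend (ComplexShape.embeddingUpIntLE a)) Y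
    (fun n => (φ n).some)
  let β : Q'.extend (ComplexShape.embeddingUpIntLE a) ⟶
      (K.truncLE' (ComplexShape.embeddingUpIntLE a)).extend (ComplexShape.embeddingUpIntLE a) :=
    extendMap α' (ComplexShape.embeddingUpIntLE a)
  let γ : (K.truncLE' (ComplexShape.embeddingUpIntLE a)).extend
      (ComplexShape.embeddingUpIntLE a) ⟶ K :=
    (K.truncLEIso (ComplexShape.embeddingUpIntLE a)).inv ≫ K.ιTruncLE a
  have hγ : IsIso γ := by
    dsimp only [γ]
    infer_instance
  have hβq : QuasiIso β := (quasiIso_extendMap_iff α' _).2 hq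
  have hβm : ∀ n, Epi (β.f n) := by
    intro n
    by_cases hn : ∃ i, (ComplexShape.embeddingUpIntLE a).f i = n
    · obtain ⟨i, hi⟩ := hn
      dsimp only [β]
      rw [extendMap_f α' _ hi]
      have h3 := hα' i
      have h4 : Epi (α'.f i ≫ (extendXIso (K.truncLE' (ComplexShape.embeddingUpIntLE a))
          (ComplexShape.embeddingUpIntLE a) hi).inv) :=
        epi_comp _ _
      exact epi_comp _ _
    · have hz : IsZero (((K.truncLE' (ComplexShape.embeddingUpIntLE a)).extend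
          (ComplexShape.embeddingUpIntLE a)).X n) :=
        (K.truncLE' (ComplexShape.embeddingUpIntLE a)).isZero_extend_X _ n
          (fun i hi => hn ⟨i, hi⟩)
      exact ⟨fun g h _ => hz.eq_of_src _ _⟩
  refine ⟨RightRes.transport (Q'.extend (ComplexShape.embeddingUpIntLE a)) Y
    (fun n => (φ n).some), ψ.inv ≫ β ≫ γ, ?_, hY, ?_, ?_⟩
  · exact CochainComplex.isStrictlyLE_of_iso ψ a
  · intro n
    have h1 : IsIso (γ.f n) := inferInstance
    have h2 : IsIso (ψ.inv.f n) := inferInstance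
    have := hβm n
    rw [HomologicalComplex.comp_f, HomologicalComplex.comp_f]
    infer_instance
  · infer_instance

end IntVersion

end Groth.Agent.Lib.Helper6.LeftRes
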