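import Groth.Agent.Lib.Helper6.LocCohZLocal
import Groth.Agent.Lib.Helper6.CohPresheaf

/-!
# The long exact sequence of cohomology with supports: vanishing versus restriction (helper6)
-/

universe w v u

open CategoryTheory Limits Opposite TopologicalSpace Abelian

namespace Groth.Agent.Lib.Helper6.LocCohZLES

section General

variable {𝒜 : Type u} [Category.{v} 𝒜] [Abelian 𝒜] [HasExt.{w} 𝒜]
  {S : ShortComplex 𝒜} (hS : S.ShortExact) (Y : 𝒜)

/-- restriction -/
noncomputable def r (n : ℕ) : Ext S.X₂ Y n →+ Ext S.X₁ Y n := (Ext.mk₀ S.f).precomp Y (zero_add n)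

lemma r_apply (n : ℕ) (x : Ext S.X₂ Y n) : r (S := S) Y n x = (Ext.mk₀ S.f).comp x (zero_add n) := rfl

include hS in
theorem vanish_iff (N : ℕ) :
    (∀ i, i ≤ N → ∀ x : Ext S.X₃ Y i, x = 0) ↔
      (∀ i, i < N → Function.Bijective (r (S := S) Y i)) ∧ Function.Injective (r (S := S) Y N) := by
  have inj_of : ∀ i, (∀ x : Ext S.X₃ Y i, x = 0) → Function.Injective (r (S := S) Y i) := by
    intro i hi
    rw [injective_iff_map_eq_zero]
    intro x hx
    obtain ⟨x₃, rfl⟩ := Ext.contravariant_sequence_exact₂ hS Y x hx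
    rw [hi x₃, Ext.comp_zero]
  constructor
  · intro H
    refine ⟨fun i hi => ⟨inj_of i (H i hi.le), fun x₁ => ?_⟩, inj_of N (H N le_rfl)⟩
    obtain ⟨x₂, hx₂⟩ := Ext.contravariant_sequence_exact₁ hS Y x₁ (Nat.add_comm 1 i)
      (H (i + 1) hi _)
    exact ⟨x₂, hx₂⟩
  · rintro ⟨H1, H2⟩ i hi x₃
    have hinj : Function.Injective (r (S := S) Y i) := by
      rcases Nat.lt_or_ge i N with hlt | hge
      · exact (H1 i hlt).1
      · obtain rfl : i = N := le_antisymm hi hge
        exact H2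
    have h0 : (Ext.mk₀ S.g).comp x₃ (zero_add i) = 0 := by
      apply hinj
      rw [map_zero, r_apply, ← Ext.comp_assoc_of_second_deg_zero, Ext.mk₀_comp_mk₀,
        S.zero, Ext.mk₀_zero, Ext.zero_comp]
    cases i with
    | zero =>
      have := hS.epi_g
      exact Ext.precomp_mk₀_injective_of_epi Y S.g (h0.trans (map_zero _).symm)
    | succ k =>
      obtain ⟨x₁, rfl⟩ := Ext.contravariant_sequence_exact₃ hS Y x₃ h0 (Nat.add_comm 1 k)
      obtain ⟨x₂, rfl⟩ := (H1 k (by omega)).2 x₁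
      rw [r_apply, ← Ext.comp_assoc_of_second_deg_zero, hS.extClass_comp, Ext.zero_comp]

include hS in
lemma eq_zero_of_g_comp_eq_zero (n : ℕ) (hs : Function.Surjective (r (S := S) Y n))
    (x₃ : Ext S.X₃ Y (n + 1)) (h0 : (Ext.mk₀ S.g).comp x₃ (zero_add (n + 1)) = 0) : x₃ = 0 := by
  obtain ⟨x₁, rfl⟩ := Ext.contravariant_sequence_exact₃ hS Y x₃ h0 (Nat.add_comm 1 n)
  obtain ⟨x₂, rfl⟩ := hs x₁
  rw [r_apply, ← Ext.comp_assoc_of_second_deg_zero, hS.extClass_comp, Ext.zero_comp]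

end General

open CohTop

variable {X : TopCat.{u}} (F : Ab X) {W V : Opens X} (h : W ≤ V)

theorem subsingleton_HZ_le_iff (N : ℕ) :
    (∀ i, i ≤ N → Subsingleton (LocCohZ.HZ F i h)) ↔
      (∀ i, i < N → Function.Bijective (CohTop.res F i h)) ∧
        Function.Injective (CohTop.res F N h) := by
  have key := vanish_iff (LocCohZ.zqSeq_shortExact h) F N
  have e : (∀ i, i ≤ N → Subsingleton (LocCohZ.HZ F i h)) ↔
      (∀ i, i ≤ N → ∀ x : Ext (LocCohZ.zqSeq h).X₃ F i, x = 0) := by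
    refine forall_congr' (fun i => forall_congr' (fun _ => ?_))
    constructor
    · intro hs x
      exact @Subsingleton.elim _ hs _ _
    · intro hx
      exact ⟨fun a b => (hx a).trans (hx b).symm⟩
  rw [e]
  exact key

/-- `ℋ^i_Z(F) = 0` for `i ≤ N` iff restriction to `V ⊓ U` is bijective in degrees `< N` and
injective in degree `N`, for all opens `V` -/
theorem isZero_HZsh_le_iff (U : Opens X) (N : ℕ) :
    (∀ i : ℕ, i ≤ N → IsZero ((LocCohZ.HZsh U i).obj F)) ↔
      ∀ V : Opens X, (∀ i : ℕ, i < N →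
        Function.Bijective (CohTop.res F i (inf_le_left : V ⊓ U ≤ V))) ∧
        Function.Injective (CohTop.res F N (inf_le_left : V ⊓ U ≤ V)) := by
  have h1 : (∀ i : ℕ, i ≤ N → IsZero ((LocCohZ.HZsh U i).obj F)) ↔
      (∀ i : ℕ, i < N + 1 → IsZero ((LocCohZ.HZsh U i).obj F)) :=
    forall_congr' (fun i => by rw [Nat.lt_succ_iff])
  rw [h1, LocCohZLocal.isZero_HZsh_lt_iff U F (N + 1)]
  refine forall_congr' (fun V => ?_)
  rw [← subsingleton_HZ_le_iff F (inf_le_left : V ⊓ U ≤ V) N]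
  exact forall_congr' (fun i => by rw [Nat.lt_succ_iff])

end Groth.Agent.Lib.Helper6.LocCohZLES
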