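import Groth.Agent.Lib.Helper6.LocCohZFlasque
import Groth.Agent.Lib.Helper6.RDShift
import Groth.Agent.Lib.Helper6.ExtShift
import Groth.Agent.Lib.Helper6.SieveExt

/-!
# Local cohomology sheaves vanish iff cohomology with supports vanishes on all opens (helper6)
-/

universe u

open CategoryTheory Limits Opposite TopologicalSpace Abelian

namespace Groth.Agent.Lib.Helper6.LocCohZLocal

open CohTop LocCohZSupp LocCohZFlasque DeltaCompare

variable {X : TopCat.{u}} (U : Opens X)

/-- sections of `Γ_Z(-)` over `V` -/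
noncomputable abbrev TV (V : Opens X) : Ab X ⥤ AddCommGrpCat.{u} :=
  LocCohZ.sectSuppF U ⋙ CechFamDerived.ΓU (Opens.grothendieckTopology X) (U := V)

/-- `ℤ_V/ℤ_{V ⊓ U}` -/
noncomputable abbrev AV (V : Opens X) : Ab X := LocCohZ.zq (inf_le_left : V ⊓ U ≤ V)

/-- sections of `Γ_Z(F)` over `V` as sections of `F` over `V` vanishing on `V ⊓ U` -/
noncomputable def ψV (V : Opens X) (F : Ab X) :
    ((TV U V).obj F : AddCommGrpCat.{u}) →+ LocCohZ.sectZ F (inf_le_left : V ⊓ U ≤ V) where
  toFun t := ⟨(ι' U F).hom.app (op V) t, by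
    rw [AddMonoidHom.mem_ker]
    exact (exists_ι'_app_eq_iff U F V _).1 ⟨t, rfl⟩⟩
  map_zero' := by
    apply Subtype.ext
    exact map_zero _
  map_add' a b := by
    apply Subtype.ext
    exact map_add _ a b

lemma ψV_bijective (V : Opens X) (F : Ab X) : Function.Bijective (ψV U V F) := by
  constructor
  · intro a b h
    apply ι'_app_injective U F V
    exact congrArg Subtype.val h
  · intro s
    have hs : F.obj.map (homOfLE (inf_le_left : V ⊓ U ≤ V)).op s.1 = 0 := by
      have := s.2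
      rw [AddMonoidHom.mem_ker] at this
      exact this
    obtain ⟨t, ht⟩ := (exists_ι'_app_eq_iff U F V s.1).2 hs
    exact ⟨t, Subtype.ext ht⟩

lemma ψV_naturality (V : Opens X) {F G : Ab X} (φ : F ⟶ G)
    (t : ((TV U V).obj F : AddCommGrpCat.{u})) :
    (ψV U V G ((TV U V).map φ t)).1 = φ.hom.app (op V) (ψV U V F t).1 := by
  have h := map_ι' U φ
  have h' := congrArg (fun z => z.hom.app (op V) t) h
  exact h'

/-- `Hom(ℤ_V/ℤ_{V⊓U}, -) ≅ Γ_Z(-)(V)`, naturally -/
noncomputable def θV (V : Opens X) : extFunctorObj (AV U V) 0 ≅ TV U V :=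
  NatIso.ofComponents (fun F => AddEquiv.toAddCommGrpIso (X := AddCommGrpCat.of _)
      (Y := AddCommGrpCat.of ((TV U V).obj F : AddCommGrpCat.{u}))
      ((LocCohZ.sect0Equiv F inf_le_left).trans
        (AddEquiv.ofBijective (ψV U V F) (ψV_bijective U V F)).symm))
    (fun {F G} φ => by
      ext x
      apply (ψV_bijective U V G).1
      apply Subtype.ext
      change (ψV U V G ((AddEquiv.ofBijective (ψV U V G) (ψV_bijective U V G)).symm
          (LocCohZ.sect0Equiv G inf_le_left (x.comp (Ext.mk₀ φ) (add_zero 0))))).1 =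
        (ψV U V G ((TV U V).map φ ((AddEquiv.ofBijective (ψV U V F) (ψV_bijective U V F)).symm
          (LocCohZ.sect0Equiv F inf_le_left x)))).1
      rw [ψV_naturality]
      have h1 : ∀ (H : Ab X) (s : LocCohZ.sectZ H (inf_le_left : V ⊓ U ≤ V)),
          ψV U V H ((AddEquiv.ofBijective (ψV U V H) (ψV_bijective U V H)).symm s) = s :=
        fun H s => (AddEquiv.ofBijective (ψV U V H) (ψV_bijective U V H)).apply_symm_apply s
      rw [h1, h1]
      exact LocCohZGamma.sect0Equiv_naturality φ inf_le_left x)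

section General

lemma epi_map_iff_of_natIso {C D : Type*} [Category C] [Category D] {F G : C ⥤ D} (e : F ≅ G)
    {A B : C} (g : A ⟶ B) : Epi (F.map g) ↔ Epi (G.map g) := by
  have nat := e.hom.naturality g
  constructor
  · intro h
    have : Epi (e.hom.app A ≫ G.map g) := by
      rw [← nat]
      exact epi_comp _ _
    exact epi_of_epi (e.hom.app A) _
  · intro h
    have h1 : Epi (F.map g ≫ e.hom.app B) := by
      rw [nat]
      exact epi_comp _ _
    have h2 : F.map g = (F.map g ≫ e.hom.app B) ≫ e.inv.app B := by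
      rw [Category.assoc, Iso.hom_inv_id_app, Category.comp_id]
    rw [h2]
    exact epi_comp _ _

lemma subsingleton_iff_isZero_of (M : Type u) [AddCommGroup M] :
    Subsingleton M ↔ IsZero (AddCommGrpCat.of M) :=
  ⟨fun _ => AddCommGrpCat.isZero_of_subsingleton _, fun h => AddCommGrpCat.subsingleton_of_isZero h⟩

end General

open ExtAcyc

/-- dimension shifting for `ℋ_Z` along `F ⟶ I ⟶ Q` -/
lemma hasShiftT (F : Ab X) :
    HasShift (fun n => (LocCohZ.sectSuppF U).rightDerived n) (sesUnder F).f (sesUnder F).g :=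
  RDShift.hasShift_rightDerived _ _ (sesUnder_shortExact F)
    (fun n => Functor.isZero_rightDerived_obj_injective_succ _ n _)

/-- dimension shifting for `Ext(A, -)` along `F ⟶ I ⟶ Q` -/
lemma hasShiftE (A F : Ab X) :
    HasShift (fun n => extFunctorObj A n) (sesUnder F).f (sesUnder F).g :=
  ExtShift.hasShift_ext A _ (sesUnder_shortExact F) (fun n x => Ext.eq_zero_of_injective x)

lemma isZero_HZsh_one_iff (F : Ab X) :
    IsZero ((LocCohZ.HZsh U 1).obj F) ↔ Epi ((LocCohZ.sectSuppF U).map (sesUnder F).g) := by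
  obtain ⟨e⟩ := (hasShiftT U F).nonempty_iso_cokernel 0
  have h1 : IsZero ((LocCohZ.HZsh U 1).obj F) ↔
      IsZero (cokernel (((LocCohZ.sectSuppF U).rightDerived 0).map (sesUnder F).g)) :=
    ⟨fun h => h.of_iso e.symm, fun h => h.of_iso e⟩
  rw [h1, ← Preadditive.epi_iff_isZero_cokernel]
  exact epi_map_iff_of_natIso (Functor.rightDerivedZeroIsoSelf (LocCohZ.sectSuppF U)) _

lemma subsingleton_ext_one_iff (V : Opens X) (F : Ab X) :
    Subsingleton (Ext (AV U V) F 1) ↔
      Function.Surjective (((LocCohZ.sectSuppF U).map (sesUnder F).g).hom.app (op V)) := by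
  obtain ⟨e⟩ := (hasShiftE (AV U V) F).nonempty_iso_cokernel 0
  have h1 : IsZero (AddCommGrpCat.of (Ext (AV U V) F 1)) ↔
      IsZero (cokernel ((extFunctorObj (AV U V) 0).map (sesUnder F).g)) :=
    ⟨fun h => h.of_iso e.symm, fun h => h.of_iso e⟩
  rw [subsingleton_iff_isZero_of, h1, ← Preadditive.epi_iff_isZero_cokernel,
    epi_map_iff_of_natIso (θV U V), AddCommGrpCat.epi_iff_surjective]
  rfl

lemma isZero_HZsh_succ_succ_iff (F : Ab X) (n : ℕ) :
    IsZero ((LocCohZ.HZsh U (n + 2)).obj F) ↔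
      IsZero ((LocCohZ.HZsh U (n + 1)).obj (sesUnder F).X₃) := by
  obtain ⟨e⟩ := (hasShiftT U F).nonempty_iso_succ n
  exact ⟨fun h => h.of_iso e, fun h => h.of_iso e.symm⟩

lemma subsingleton_ext_succ_succ_iff (A F : Ab X) (n : ℕ) :
    Subsingleton (Ext A F (n + 2)) ↔ Subsingleton (Ext A (sesUnder F).X₃ (n + 1)) := by
  obtain ⟨e⟩ := (hasShiftE A F).nonempty_iso_succ n
  rw [subsingleton_iff_isZero_of, subsingleton_iff_isZero_of]
  exact ⟨fun h => h.of_iso e, fun h => h.of_iso e.symm⟩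

/-- `ℋ^{n+1}_Z(F) = 0` if `H^{n+1}_{Z ∩ V}(V, F) = 0` for all `V` -/
theorem isZero_HZsh_of_subsingleton : ∀ (n : ℕ) (F : Ab X),
    (∀ V : Opens X, Subsingleton (Ext (AV U V) F (n + 1))) →
      IsZero ((LocCohZ.HZsh U (n + 1)).obj F) := by
  intro n
  induction n with
  | zero =>
    intro F h
    rw [isZero_HZsh_one_iff]
    exact CohTopPush.epi_of_sections_surjective _
      (fun V => (subsingleton_ext_one_iff U V F).1 (h V))
  | succ n ih =>
    intro F h
    rw [isZero_HZsh_succ_succ_iff]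
    exact ih _ (fun V => (subsingleton_ext_succ_succ_iff (AV U V) F n).1 (h V))

/-- `0 ⟶ Γ_Z F ⟶ Γ_Z I ⟶ Γ_Z Q ⟶ 0` is exact if `ℋ^1_Z(F) = 0` -/
lemma shortExact_map_sesUnder (F : Ab X) (h : IsZero ((LocCohZ.HZsh U 1).obj F)) :
    ((sesUnder F).map (LocCohZ.sectSuppF U)).ShortExact := by
  have hS := sesUnder_shortExact F
  have := hS.mono_f
  obtain ⟨h1, h2⟩ := sectSuppF_leftExact U (sesUnder F) hS.exact
  exact ShortComplex.ShortExact.mk' h1 h2 ((isZero_HZsh_one_iff U F).1 h)

open SheafCoh in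
/-- `H^{n+1}_{Z ∩ V}(V, F) = 0` for all `V` if `ℋ^q_Z(F) = 0` for `1 ≤ q ≤ n + 1` and `Γ_Z(F)` has
no cohomology in degrees `1, …, n + 1` on all opens -/
theorem subsingleton_of_isZero_HZsh : ∀ (n : ℕ) (F : Ab X),
    (∀ q, q ≤ n → IsZero ((LocCohZ.HZsh U (q + 1)).obj F)) →
    (∀ (V : Opens X) (i : ℕ), i ≤ n →
      ∀ x : Ext (Zfree (Opens.grothendieckTopology X) V) ((LocCohZ.sectSuppF U).obj F) (i + 1),
        x = 0) →
    ∀ V : Opens X, Subsingleton (Ext (AV U V) F (n + 1)) := by
  intro n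
  induction n with
  | zero =>
    intro F h1 h2 V
    rw [subsingleton_ext_one_iff]
    have hE := shortExact_map_sesUnder U F (h1 0 le_rfl)
    exact SieveExt.surjective_of_H1_vanish _ hE V (h2 V 0 le_rfl)
  | succ n ih =>
    intro F h1 h2 V
    rw [subsingleton_ext_succ_succ_iff]
    have hE := shortExact_map_sesUnder U F (h1 0 (Nat.zero_le _))
    refine ih _ (fun q hq => (isZero_HZsh_succ_succ_iff U F q).1 (h1 (q + 1) (by omega)))
      (fun W i hi x => ?_) V
    obtain ⟨y, rfl⟩ := Ext.covariant_sequence_exact₃ _ hE x (rfl : i + 1 + 1 = i + 1 + 1)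
      (h2 W (i + 1) (by omega) _)
    have hfl : TopCat.Sheaf.IsFlasque (sesUnder F).X₂ := isFlasque_of_injective _
    have hfl' : TopCat.Sheaf.IsFlasque ((LocCohZ.sectSuppF U).obj (sesUnder F).X₂) :=
      isFlasque_sectSupp U _
    have hy : y = 0 :=
      flasque_HU_eq_zero ((LocCohZ.sectSuppF U).obj (sesUnder F).X₂) (hF := hfl') W i y
    rw [hy, Ext.zero_comp]
    rfl

lemma isZero_iff_sections (G : Ab X) :
    IsZero G ↔ ∀ V : Opens X, Subsingleton (G.obj.obj (op V)) := by
  constructor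
  · intro h V
    exact AddCommGrpCat.subsingleton_of_isZero
      ((CechFamDerived.ΓU (Opens.grothendieckTopology X) (U := V)).map_isZero h)
  · intro h
    rw [IsZero.iff_id_eq_zero]
    apply Sheaf.hom_ext
    ext V s
    exact @Subsingleton.elim _ (h V.unop) _ _

lemma isZero_HZsh_zero_iff_isZero (F : Ab X) :
    IsZero ((LocCohZ.HZsh U 0).obj F) ↔ IsZero ((LocCohZ.sectSuppF U).obj F) := by
  have e := (Functor.rightDerivedZeroIsoSelf (LocCohZ.sectSuppF U)).app F
  exact ⟨fun h => h.of_iso e.symm, fun h => h.of_iso e⟩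

lemma isZero_HZsh_zero_iff (F : Ab X) :
    IsZero ((LocCohZ.HZsh U 0).obj F) ↔ ∀ V : Opens X, Subsingleton (Ext (AV U V) F 0) := by
  rw [isZero_HZsh_zero_iff_isZero, isZero_iff_sections]
  refine forall_congr' (fun V => ?_)
  have e := (θV U V).app F
  rw [subsingleton_iff_isZero_of (Ext (AV U V) F 0)]
  constructor
  · intro h
    have h' : Subsingleton ((TV U V).obj F : AddCommGrpCat.{u}) := h
    exact (AddCommGrpCat.isZero_of_subsingleton _).of_iso e
  · intro h
    exact AddCommGrpCat.subsingleton_of_isZero (h.of_iso e.symm)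

/-- **`ℋ^i_Z(F) = 0` for `i < n` iff `H^i_{Z ∩ V}(V, F) = 0` for `i < n` and all opens `V`** -/
theorem isZero_HZsh_lt_iff (F : Ab X) (n : ℕ) :
    (∀ i : ℕ, i < n → IsZero ((LocCohZ.HZsh U i).obj F)) ↔
      ∀ (V : Opens X) (i : ℕ), i < n →
        Subsingleton (LocCohZ.HZ F i (inf_le_left : V ⊓ U ≤ V)) := by
  constructor
  · intro h V i hi
    cases i with
    | zero => exact (isZero_HZsh_zero_iff U F).1 (h 0 hi) V
    | succ k =>
      refine subsingleton_of_isZero_HZsh U k F (fun q hq => h (q + 1) (by omega))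
        (fun W j hj x => ?_) V
      have hz : IsZero ((LocCohZ.sectSuppF U).obj F) :=
        (isZero_HZsh_zero_iff_isZero U F).1 (h 0 (by omega))
      have := hz.injective
      exact Ext.eq_zero_of_injective x
  · intro h i hi
    cases i with
    | zero => exact (isZero_HZsh_zero_iff U F).2 (fun V => h V 0 hi)
    | succ k => exact isZero_HZsh_of_subsingleton U k F (fun V => h V (k + 1) hi)

end Groth.Agent.Lib.Helper6.LocCohZLocal
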