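import Groth.Agent.Lib.Helper6.LocCohZFlasque
import Groth.Agent.Lib.Helper6.GrothSS
import Groth.Prelude.Def_SpSeq

/-!
# Cohomology with supports and direct images (helper6)
-/

universe u

open CategoryTheory Limits Opposite TopologicalSpace Abelian

namespace Groth.Agent.Lib.Helper6.LocCohZPush

open CohTop LocCohZSupp LocCohZGamma

variable {X Y : TopCat.{u}} (f : X ⟶ Y) (V : Opens Y)

lemma top_le : (⊤ : Opens X) ≤ (Opens.map f).obj ⊤ := fun _ _ => trivial

lemma push_map_apply (F : Ab X) {A B : Opens Y} (h : A ≤ B)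
    (s : ((CohTop.push f).obj F).obj.obj (op B)) :
    ((CohTop.push f).obj F).obj.map (homOfLE h).op s =
      F.obj.map (homOfLE ((Opens.map f).monotone h)).op s := rfl

/-- global sections of `f_* F` vanishing on `V` are global sections of `F` vanishing on `f⁻¹ V` -/
noncomputable def mid (F : Ab X) :
    LocCohZ.sectZ ((CohTop.push f).obj F) (le_top : V ≤ ⊤) →+
      LocCohZ.sectZ F (le_top : (Opens.map f).obj V ≤ ⊤) where
  toFun s := ⟨F.obj.map (homOfLE (top_le f)).op s.1, by
    rw [AddMonoidHom.mem_ker]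
    have hs := s.2
    rw [AddMonoidHom.mem_ker] at hs
    have hs' : F.obj.map (homOfLE ((Opens.map f).monotone (le_top : V ≤ ⊤))).op s.1 = 0 := hs
    refine (map_map_apply F _ _ s.1).trans ?_
    exact hs'⟩
  map_zero' := by
    apply Subtype.ext
    exact map_zero _
  map_add' a b := by
    apply Subtype.ext
    exact map_add _ a.1 b.1

lemma mid_bijective (F : Ab X) : Function.Bijective (mid f V F) := by
  constructor
  · intro a b h
    apply Subtype.ext
    apply map_injective_of_le F (top_le f) le_top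
    exact congrArg Subtype.val h
  · intro s
    have hs := s.2
    rw [AddMonoidHom.mem_ker] at hs
    refine ⟨⟨F.obj.map (homOfLE (le_top : (Opens.map f).obj ⊤ ≤ ⊤)).op s.1, ?_⟩, ?_⟩
    · rw [AddMonoidHom.mem_ker]
      change F.obj.map (homOfLE ((Opens.map f).monotone (le_top : V ≤ ⊤))).op _ = 0
      refine (map_map_apply F _ _ s.1).trans ?_
      exact hs
    · apply Subtype.ext
      change F.obj.map (homOfLE (top_le f)).op (F.obj.map (homOfLE le_top).op s.1) = s.1
      refine (map_map_apply F _ _ s.1).trans ?_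
      have : homOfLE ((top_le f).trans le_top) = 𝟙 (⊤ : Opens X) := Subsingleton.elim _ _
      rw [this, op_id, F.obj.map_id]
      rfl

lemma mid_naturality {F G : Ab X} (φ : F ⟶ G)
    (s : LocCohZ.sectZ ((CohTop.push f).obj F) (le_top : V ≤ ⊤))
    (s' : LocCohZ.sectZ ((CohTop.push f).obj G) (le_top : V ≤ ⊤))
    (h : s'.1 = ((CohTop.push f).map φ).hom.app (op ⊤) s.1) :
    (mid f V G s').1 = φ.hom.app (op ⊤) (mid f V F s).1 := by
  change G.obj.map (homOfLE (top_le f)).op s'.1 = φ.hom.app (op ⊤) (F.obj.map (homOfLE (top_le f)).op s.1)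
  rw [h]
  exact (ConcreteCategory.congr_hom (φ.hom.naturality (homOfLE (top_le f)).op) s.1).symm

/-- the equivalence `Γ_{Y'}(Y, f_* F) ≃ Γ_{X'}(X, F)` -/
noncomputable def e (F : Ab X) :
    ((LocCohZ.gammaZF V).obj ((CohTop.push f).obj F) : AddCommGrpCat.{u}) ≃+
      ((LocCohZ.gammaZF ((Opens.map f).obj V)).obj F : AddCommGrpCat.{u}) :=
  ((AddEquiv.ofBijective (ψ V ((CohTop.push f).obj F)) (ψ_bijective V _)).trans
    (AddEquiv.ofBijective (mid f V F) (mid_bijective f V F))).trans
    (AddEquiv.ofBijective (ψ ((Opens.map f).obj V) F) (ψ_bijective _ F)).symm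

lemma ψ_e (F : Ab X) (t : ((LocCohZ.gammaZF V).obj ((CohTop.push f).obj F) : AddCommGrpCat.{u})) :
    ψ ((Opens.map f).obj V) F (e f V F t) = mid f V F (ψ V ((CohTop.push f).obj F) t) :=
  (AddEquiv.ofBijective (ψ ((Opens.map f).obj V) F) (ψ_bijective _ F)).apply_symm_apply _

/-- `Γ_{Y'}(Y, f_* -) ≅ Γ_{f⁻¹ Y'}(X, -)` -/
noncomputable def pushGammaIso :
    CohTop.push f ⋙ LocCohZ.gammaZF V ≅ LocCohZ.gammaZF ((Opens.map f).obj V) :=
  NatIso.ofComponents (fun F => AddEquiv.toAddCommGrpIso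
      (X := AddCommGrpCat.of ((LocCohZ.gammaZF V).obj ((CohTop.push f).obj F) : AddCommGrpCat.{u}))
      (Y := AddCommGrpCat.of ((LocCohZ.gammaZF ((Opens.map f).obj V)).obj F : AddCommGrpCat.{u}))
      (e f V F))
    (fun {F G} φ => by
      ext t
      apply (ψ_bijective ((Opens.map f).obj V) G).1
      apply Subtype.ext
      change (ψ ((Opens.map f).obj V) G (e f V G
        ((LocCohZ.gammaZF V).map ((CohTop.push f).map φ) t))).1 =
        (ψ ((Opens.map f).obj V) G ((LocCohZ.gammaZF ((Opens.map f).obj V)).map φ (e f V F t))).1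
      rw [ψ_naturality, ψ_e, ψ_e]
      exact mid_naturality f V φ _ _ (ψ_naturality V ((CohTop.push f).map φ) t))

/-- **the spectral sequence** `H^p_{Y'}(Y, R^q f_* F) ⇒ H^{p+q}_{f⁻¹ Y'}(X, F)` -/
theorem push_spectralSequence (F : Ab X) :
    ∃ (E : E₂CohomologicalSpectralSequence AddCommGrpCat.{u})
      (a : SpSeq.Abutment E (fun n : ℤ =>
        if 0 ≤ n then AddCommGrpCat.of (LocCohZ.HZc F n.toNat ((Opens.map f).obj V))
          else AddCommGrpCat.of PUnit.{u + 1})),
      (∀ n : ℤ, a.IsFinite n) ∧ SpSeq.IsBounded E ∧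
      ∀ p q : ℤ, Nonempty ((E.page 2 le_rfl).X (p, q) ≅
        (if 0 ≤ p ∧ 0 ≤ q then AddCommGrpCat.of (LocCohZ.HZc ((CohTop.Rpush f q.toNat).obj F) p.toNat V)
          else AddCommGrpCat.of PUnit.{u + 1})) := by
  refine GrothSS.exists_spectralSequence' (CohTop.push f) (LocCohZ.gammaZF V)
    (fun Q hQ q hq => by
      have := hQ
      have h1 : TopCat.Sheaf.IsFlasque Q := SheafCoh.isFlasque_of_injective _
      have h2 : TopCat.Sheaf.IsFlasque ((CohTop.push f).obj Q) :=
        TopCat.Sheaf.IsFlasque.pushforward_isFlasque Q f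
      obtain ⟨e⟩ := nonempty_HZc_iso V ((CohTop.push f).obj Q) q
      refine IsZero.of_iso ?_ e.symm
      have := LocCohZFlasque.subsingleton_HZ_of_flasque ((CohTop.push f).obj Q)
        (le_top : V ≤ ⊤) q hq
      exact AddCommGrpCat.isZero_of_subsingleton _) F _ ?_ ?_ _ ?_ ?_
  · intro n
    obtain ⟨e⟩ := nonempty_HZc_iso ((Opens.map f).obj V) F n
    refine ⟨(GrothSS.rightDerivedIsoOfIso (pushGammaIso f V) n).app F ≪≫ e.symm ≪≫ eqToIso ?_⟩
    simp
  · intro n hn
    rw [if_neg (by lia)]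
    exact AddCommGrpCat.isZero_of_subsingleton _
  · intro p q
    obtain ⟨e⟩ := nonempty_HZc_iso V ((CohTop.Rpush f q).obj F) p
    refine ⟨e.symm ≪≫ eqToIso ?_⟩
    simp
  · intro p q h
    rw [if_neg h]
    exact AddCommGrpCat.isZero_of_subsingleton _

end Groth.Agent.Lib.Helper6.LocCohZPush
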