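import Groth.Prelude.Def_LocCohZ
import Groth.Agent.Lib.Helper6.CohTopPush
import Groth.Agent.Lib.Helper6.LeraySS
import Groth.Agent.Lib.Helper6.CohTopRestrDer

/-!
# Sections with support in a closed subset of a topological space (helper6)

Concrete description of `Γ_Z(F) = ker (F ⟶ j_* j⁻¹ F)`: its sections over `W` are the sections of
`F` over `W` which vanish on `W ⊓ U`.
-/

universe u

open CategoryTheory Limits Opposite TopologicalSpace

namespace Groth.Agent.Lib.Helper6.LocCohZSupp

open CohTop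

variable {X : TopCat.{u}} (U : Opens X) (F : Ab X)

/-- the adjunction `j⁻¹ ⊣ j_*` for the inclusion of `U` -/
noncomputable abbrev adjU : CohTop.pull (CohCx.incl U) ⊣ CohTop.push (CohCx.incl U) :=
  TopCat.Sheaf.pullbackPushforwardAdjunction AddCommGrpCat.{u} (CohCx.incl U)

/-- the unit `F ⟶ j_* j⁻¹ F` -/
noncomputable abbrev η : F ⟶ (CohTop.push (CohCx.incl U)).obj ((CohTop.pull (CohCx.incl U)).obj F) :=
  (adjU U).unit.app F

/-- the inclusion `Γ_Z(F) ⟶ F` -/
noncomputable abbrev ιZ : CohCx.sectSupp U F ⟶ F := kernel.ι (η U F)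

/-- `Γ_Z(F)` restricts to zero on `U`. -/
lemma isZero_pull_sectSupp : IsZero ((CohTop.pull (CohCx.incl U)).obj (CohCx.sectSupp U F)) := by
  have := CohTopPush.pull_preservesFiniteLimits (CohCx.incl U)
  have h1 : (CohTop.pull (CohCx.incl U)).map (ιZ U F) ≫ (CohTop.pull (CohCx.incl U)).map (η U F) = 0 := by
    rw [← Functor.map_comp, kernel.condition, Functor.map_zero]
  have h2 : (CohTop.pull (CohCx.incl U)).map (η U F) ≫ (adjU U).counit.app _ = 𝟙 _ :=
    (adjU U).left_triangle_components F
  have h3 : (CohTop.pull (CohCx.incl U)).map (ιZ U F) = 0 := by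
    have := congrArg (fun z => z ≫ (adjU U).counit.app _) h1
    simp only [Category.assoc, zero_comp] at this
    rw [h2, Category.comp_id] at this
    exact this
  have : Mono ((CohTop.pull (CohCx.incl U)).map (ιZ U F)) := inferInstance
  exact IsZero.of_mono_eq_zero _ h3

/-- pullback along the inclusion of `U` is restriction -/
noncomputable def pullIsoRestr : CohTop.pull (CohCx.incl U) ≅ restrFunctor U :=
  (CohTopRestrDer.isOE U).sheafPullbackIso AddCommGrpCat.{u}

lemma isZero_restr_sectSupp : IsZero ((restrFunctor U).obj (CohCx.sectSupp U F)) :=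
  (isZero_pull_sectSupp U F).of_iso ((pullIsoRestr U).app _).symm

/-- sections of `Γ_Z(F)` over opens contained in `U` vanish -/
lemma isZero_sectSupp_obj (V : Opens X) (hV : V ≤ U) :
    IsZero ((CohCx.sectSupp U F).obj.obj (op V)) := by
  have h := isZero_restr_sectSupp U F
  have h' := (CechFamDerived.ΓU (Opens.grothendieckTopology (TopCat.of U))
    (U := (Opens.map (CohCx.incl U)).obj V)).map_isZero h
  have e : (CohTopRestr.jF U).obj ((Opens.map (CohCx.incl U)).obj V) = V := by
    ext x
    constructor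
    · rintro ⟨y, hy, rfl⟩
      exact hy
    · intro hx
      exact ⟨⟨x, hV hx⟩, hx, rfl⟩
  change IsZero ((CohCx.sectSupp U F).obj.obj
    (op ((CohTopRestr.jF U).obj ((Opens.map (CohCx.incl U)).obj V)))) at h'
  rw [e] at h'
  exact h'

lemma ιZ_app_injective (W : Opens X) : Function.Injective ((ιZ U F).hom.app (op W)) :=
  SieveExt.injective_of_mono (ιZ U F) W

lemma η_ιZ_app (W : Opens X) (t : (CohCx.sectSupp U F).obj.obj (op W)) :
    (η U F).hom.app (op W) ((ιZ U F).hom.app (op W) t) = 0 := by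
  have h : ιZ U F ≫ η U F = 0 := kernel.condition _
  have h' := congrArg (fun z => z.hom.app (op W) t) h
  exact h'

lemma exists_of_η_app_eq_zero (W : Opens X) (s : F.obj.obj (op W))
    (hs : (η U F).hom.app (op W) s = 0) :
    ∃ t : (CohCx.sectSupp U F).obj.obj (op W), (ιZ U F).hom.app (op W) t = s := by
  let S : ShortComplex (Ab X) := ShortComplex.mk (ιZ U F) (η U F) (kernel.condition _)
  have hS : S.Exact := ShortComplex.exact_of_f_is_kernel _ (kernelIsKernel _)
  have hm : Mono S.f := inferInstanceAs (Mono (kernel.ι _))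
  have h31 : PreservesFiniteLimits (CechFamDerived.ΓU (Opens.grothendieckTopology X) (U := W)) →
      ∀ (S : ShortComplex (Ab X)), S.Exact ∧ Mono S.f →
        (S.map (CechFamDerived.ΓU (Opens.grothendieckTopology X) (U := W))).Exact ∧
          Mono ((CechFamDerived.ΓU (Opens.grothendieckTopology X) (U := W)).map S.f) :=
    ((Functor.preservesFiniteLimits_tfae
      (CechFamDerived.ΓU (Opens.grothendieckTopology X) (U := W))).out 3 1).1
  have hE := (h31 inferInstance S ⟨hS, hm⟩).1
  rw [ShortComplex.ab_exact_iff] at hE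
  exact hE s hs

lemma map_injective_of_le {Y : TopCat.{u}} (G : Ab Y) {A B : Opens Y} (h₁ : A ≤ B) (h₂ : B ≤ A) :
    Function.Injective (G.obj.map (homOfLE h₁).op) := by
  intro x y hxy
  have h : ∀ z : G.obj.obj (op B), G.obj.map (homOfLE h₂).op (G.obj.map (homOfLE h₁).op z) = z := by
    intro z
    rw [← ConcreteCategory.comp_apply, ← G.obj.map_comp, ← op_comp]
    have : homOfLE h₂ ≫ homOfLE h₁ = 𝟙 _ := Subsingleton.elim _ _
    rw [this, op_id, G.obj.map_id]
    rfl
  rw [← h x, ← h y, hxy]

/-- a section is killed by the unit `F ⟶ j_* j⁻¹ F` iff it vanishes on `W ⊓ U` -/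
lemma η_app_eq_zero_iff {W V : Opens X} (hVW : V ≤ W) (hVU : V ≤ U) (hWU : W ⊓ U ≤ V)
    (s : F.obj.obj (op W)) :
    (η U F).hom.app (op W) s = 0 ↔ F.obj.map (homOfLE hVW).op s = 0 := by
  constructor
  · intro hs
    obtain ⟨t, rfl⟩ := exists_of_η_app_eq_zero U F W s hs
    have nat := ConcreteCategory.congr_hom ((ιZ U F).hom.naturality (homOfLE hVW).op) t
    have : Subsingleton ((CohCx.sectSupp U F).obj.obj (op V)) :=
      AddCommGrpCat.subsingleton_of_isZero (isZero_sectSupp_obj U F V hVU)
    have hz : (CohCx.sectSupp U F).obj.map (homOfLE hVW).op t = 0 := Subsingleton.elim _ _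
    refine nat.symm.trans ?_
    change (ιZ U F).hom.app (op V) ((CohCx.sectSupp U F).obj.map (homOfLE hVW).op t) = 0
    rw [hz, map_zero]
  · intro hs
    have nat := ConcreteCategory.congr_hom ((η U F).hom.naturality (homOfLE hVW).op) s
    have h1 : (η U F).hom.app (op V) (F.obj.map (homOfLE hVW).op s) = 0 := by
      rw [hs, map_zero]
    have h2 : ((CohTop.push (CohCx.incl U)).obj ((CohTop.pull (CohCx.incl U)).obj F)).obj.map
        (homOfLE hVW).op ((η U F).hom.app (op W) s) = 0 := nat.symm.trans h1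
    have hle : (Opens.map (CohCx.incl U)).obj W ≤ (Opens.map (CohCx.incl U)).obj V := by
      intro x hx
      exact hWU ⟨hx, x.2⟩
    have hle' : (Opens.map (CohCx.incl U)).obj V ≤ (Opens.map (CohCx.incl U)).obj W :=
      fun x hx => hVW hx
    have key : ∀ x : ((CohTop.pull (CohCx.incl U)).obj F).obj.obj
        (op ((Opens.map (CohCx.incl U)).obj W)),
        ((CohTop.pull (CohCx.incl U)).obj F).obj.map (homOfLE hle').op x = 0 → x = 0 := by
      intro x hx
      apply map_injective_of_le ((CohTop.pull (CohCx.incl U)).obj F) hle' hle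
      rw [hx, map_zero]
    exact key _ h2

section Glue

/-- the two-element cover `{A, B}` -/
def cov₂ {Y : TopCat.{u}} (A B : Opens Y) : Bool → Opens Y
  | true => A
  | false => B

/-- gluing two sections which agree on the intersection -/
lemma exists_glue₂ {Y : TopCat.{u}} (G : Ab Y) {A B V : Opens Y} (hA : A ≤ V) (hB : B ≤ V)
    (hV : V ≤ A ⊔ B) (a : G.obj.obj (op A)) (b : G.obj.obj (op B))
    (h : ∀ (D : Opens Y) (hDA : D ≤ A) (hDB : D ≤ B),
      G.obj.map (homOfLE hDA).op a = G.obj.map (homOfLE hDB).op b) :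
    ∃ c : G.obj.obj (op V), G.obj.map (homOfLE hA).op c = a ∧ G.obj.map (homOfLE hB).op c = b := by
  have iUV : ∀ i, cov₂ A B i ⟶ V := fun i => by
    cases i
    · exact homOfLE hB
    · exact homOfLE hA
  have hcover : V ≤ iSup (cov₂ A B) := by
    refine hV.trans (sup_le ?_ ?_)
    · exact le_iSup (cov₂ A B) true
    · exact le_iSup (cov₂ A B) false
  let sf : ∀ i, ToType (G.1.obj (op (cov₂ A B i))) := fun i =>
    match i with
    | true => a
    | false => b
  have hcompat : TopCat.Presheaf.IsCompatible G.1 (cov₂ A B) sf := by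
    intro i j
    cases i <;> cases j
    · rfl
    · exact (h _ _ _).symm
    · exact h _ _ _
    · rfl
  obtain ⟨c, hc, -⟩ := TopCat.Sheaf.existsUnique_gluing' G (cov₂ A B) V iUV hcover sf hcompat
  refine ⟨c, ?_, ?_⟩
  · have := hc true
    have hi : (homOfLE hA : A ⟶ V) = iUV true := Subsingleton.elim _ _
    rw [hi]
    exact this
  · have := hc false
    have hi : (homOfLE hB : B ⟶ V) = iUV false := Subsingleton.elim _ _
    rw [hi]
    exact this

end Glue

lemma map_map_apply {Y : TopCat.{u}} (G : Ab Y) {A B D : Opens Y} (h₁ : A ≤ B) (h₂ : B ≤ D)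
    (x : G.obj.obj (op D)) :
    G.obj.map (homOfLE h₁).op (G.obj.map (homOfLE h₂).op x) =
      G.obj.map (homOfLE (h₁.trans h₂)).op x := by
  rw [← ConcreteCategory.comp_apply, ← G.obj.map_comp, ← op_comp]
  rfl

/-- `Γ_Z` of a flasque sheaf is flasque -/
theorem isFlasque_sectSupp (A : Ab X) [hA : TopCat.Sheaf.IsFlasque A] :
    TopCat.Sheaf.IsFlasque (CohCx.sectSupp U A) where
  epi {V' W'} i := by
    rw [AddCommGrpCat.epi_iff_surjective]
    intro t
    obtain ⟨V⟩ := V'
    obtain ⟨W⟩ := W'
    have hWV : W ≤ V := leOfHom i.unop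
    have hi : i = (homOfLE hWV).op := Subsingleton.elim _ _
    subst hi
    let s := (ιZ U A).hom.app (op W) t
    have hs0 : A.obj.map (homOfLE (inf_le_left : W ⊓ U ≤ W)).op s = 0 :=
      (η_app_eq_zero_iff U A inf_le_left inf_le_right le_rfl s).1 (η_ιZ_app U A W t)
    -- glue `s` on `W` with `0` on `V ⊓ U`
    obtain ⟨c, hc1, hc2⟩ := exists_glue₂ A (V := W ⊔ (V ⊓ U)) le_sup_left le_sup_right le_rfl s
      (0 : A.obj.obj (op (V ⊓ U))) (fun D hDW hDVU => by
        have hD : D ≤ W ⊓ U := le_inf hDW (hDVU.trans inf_le_right)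
        rw [map_zero, ← map_map_apply A hD inf_le_left s, hs0, map_zero])
    -- extend to `V`
    have hle : W ⊔ (V ⊓ U) ≤ V := sup_le hWV inf_le_left
    have hepi : Epi (A.obj.map (homOfLE hle).op) := hA.epi _
    rw [AddCommGrpCat.epi_iff_surjective] at hepi
    obtain ⟨c', hc'⟩ := hepi c
    have hc'0 : A.obj.map (homOfLE (inf_le_left : V ⊓ U ≤ V)).op c' = 0 := by
      rw [← map_map_apply A (le_sup_right : V ⊓ U ≤ W ⊔ (V ⊓ U)) hle c', hc', hc2]
    obtain ⟨t', ht'⟩ := exists_of_η_app_eq_zero U A V c'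
      ((η_app_eq_zero_iff U A inf_le_left inf_le_right le_rfl c').2 hc'0)
    refine ⟨t', ?_⟩
    apply ιZ_app_injective U A W
    have nat := ConcreteCategory.congr_hom ((ιZ U A).hom.naturality (homOfLE hWV).op) t'
    refine nat.trans ?_
    change A.obj.map (homOfLE hWV).op ((ιZ U A).hom.app (op V) t') = s
    rw [ht', ← map_map_apply A (le_sup_left : W ≤ W ⊔ (V ⊓ U)) hle c', hc', hc1]

end Groth.Agent.Lib.Helper6.LocCohZSupp
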