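import Groth.Agent.Lib.Helper6.LocGlobExtSS
import Groth.Agent.Lib.Helper2.SSCollapse
import Mathlib

/-!
# Vanishing of global `Ext` from vanishing of the `ℰxt` sheaves (local-to-global spectral sequence)
-/

set_option autoImplicit false
set_option linter.style.haveILetI false
set_option linter.unusedSectionVars false
set_option linter.unusedVariables false
set_option backward.isDefEq.respectTransparency.types false

universe u

open CategoryTheory CategoryTheory.Limits Opposite Abelian

namespace Groth.Agent.Lib.Helper6.LocGlobExtVanish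

theorem ext_eq_zero_of_isZero_right {𝒜 : Type*} [Category 𝒜] [Abelian 𝒜] [HasExt.{u} 𝒜]
    {X Y : 𝒜} (hY : IsZero Y) {n : ℕ} (x : Ext.{u} X Y n) : x = 0 := by
  rw [← Ext.comp_mk₀_id x, hY.eq_of_src (𝟙 Y) 0, Ext.mk₀_zero, Ext.comp_zero]

variable {C : Type u} [SmallCategory C] {J : GrothendieckTopology C} (O : Sheaf J CommRingCat.{u})

theorem subsingleton_HC_of_isZero (F : ModSite.Mod O) (hF : IsZero F) (a : ℕ) :
    Subsingleton (ModSite.HC O F a) := by
  have h0 : IsZero (ModSite.toAb F) :=
    Functor.map_isZero (SheafOfModules.toSheaf (ModSite.ringSh O)) hF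
  exact ⟨fun x y => by rw [ext_eq_zero_of_isZero_right h0 x, ext_eq_zero_of_isZero_right h0 y]⟩

variable (M : ModSite.Mod O) [ModSite.HasSheafHom M]
  [HasInjectiveResolutions (ModSite.Mod O)] [HasExt.{u} (ModSite.Mod O)]

/-- **local-to-global vanishing**: if `ℰxt^b(M, N) = 0` for `b < p` then `Ext^i(M, N) = 0` for
`i < p` -/
theorem subsingleton_ext_of_isZero_extSh (N : ModSite.Mod O) (p : ℕ)
    (h : ∀ b : ℕ, b < p → IsZero ((ModSite.extSh M b).obj N)) (i : ℕ) (hi : i < p) :
    Subsingleton (Abelian.Ext.{u} M N i) := by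
  obtain ⟨E, a, hfin, -, hE2⟩ := LocGlobExtSS.exists_spectralSequence O M N
  have hz : ∀ a' b : ℤ, b < p → IsZero ((E.page 2 le_rfl).X (a', b)) := by
    intro a' b hb
    refine IsZero.of_iso ?_ (hE2 a' b).some
    by_cases hab : 0 ≤ a' ∧ 0 ≤ b
    · rw [if_pos hab]
      haveI := subsingleton_HC_of_isZero O _ (h b.toNat (by omega)) a'.toNat
      exact AddCommGrpCat.isZero_of_subsingleton _
    · rw [if_neg hab]
      exact AddCommGrpCat.isZero_of_subsingleton _
  obtain ⟨e⟩ := Groth.Agent.Lib.Helper2.SSCollapse.collapse E a ((i : ℤ), (0 : ℤ)) (hfin _)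
    (fun p' hp' => by
      by_cases hneg : (i : ℤ) + 0 - p' < 0
      · refine IsZero.of_iso ?_ (hE2 _ _).some
        rw [if_neg (by omega)]
        exact AddCommGrpCat.isZero_of_subsingleton _
      · by_cases hp0 : p' < 0
        · refine IsZero.of_iso ?_ (hE2 _ _).some
          rw [if_neg (by omega)]
          exact AddCommGrpCat.isZero_of_subsingleton _
        · exact hz _ _ (by omega))
    (fun r hr => by
      refine IsZero.of_iso ?_ (hE2 _ _).some
      rw [if_neg (by
        change ¬ (0 ≤ (i : ℤ) + r ∧ 0 ≤ (0 : ℤ) + (1 - r))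
        omega)]
      exact AddCommGrpCat.isZero_of_subsingleton _)
    (fun r hr => by
      change IsZero ((E.page 2 le_rfl).X ((i : ℤ) - r, (0 : ℤ) - (1 - r)))
      by_cases hneg : (i : ℤ) - r < 0
      · refine IsZero.of_iso ?_ (hE2 _ _).some
        rw [if_neg (by omega)]
        exact AddCommGrpCat.isZero_of_subsingleton _
      · exact hz _ _ (by omega))
  have h0 : IsZero ((E.page 2 le_rfl).X ((i : ℤ), (0 : ℤ))) := hz _ _ (by omega)
  have h1 := IsZero.of_iso h0 e
  rw [if_pos (by omega)] at h1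
  have h2 : ((i : ℤ) + 0).toNat = i := by omega
  rw [h2] at h1
  exact AddCommGrpCat.subsingleton_of_isZero h1

end Groth.Agent.Lib.Helper6.LocGlobExtVanish
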