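import Mathlib.Topology.NoetherianSpace
import Mathlib.AlgebraicGeometry.Morphisms.QuasiCompact

set_option autoImplicit false

namespace Groth.Agent.Lib.Helper6

open TopologicalSpace

/-- In a locally Noetherian space, any subset of a compact set is compact. -/
theorem isCompact_of_subset_of_locallyNoetherian {α : Type*} [TopologicalSpace α]
    (h : ∀ x : α, ∃ U : Opens α, x ∈ U ∧ NoetherianSpace U) {K s : Set α}
    (hK : IsCompact K) (hs : s ⊆ K) : IsCompact s := by
  choose U hxU hU using h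
  obtain ⟨t, ht⟩ := hK.elim_finite_subcover (fun x => (U x : Set α)) (fun x => (U x).isOpen)
    (fun x _ => Set.mem_iUnion.mpr ⟨x, hxU x⟩)
  have h1 : NoetherianSpace (⋃ x : t, (U x : Set α)) :=
    NoetherianSpace.iUnion (fun x : t => (U x : Set α))
  rw [noetherianSpace_set_iff] at h1
  apply h1
  intro y hy
  have := ht (hs hy)
  simp only [Set.mem_iUnion] at this ⊢
  obtain ⟨i, hi, hy⟩ := this
  exact ⟨⟨i, hi⟩, hy⟩

open AlgebraicGeometry in
/-- Every compact subset of a scheme lies in a compact open. -/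
theorem exists_isCompact_opens_superset {Z : Scheme} {K : Set Z} (hK : IsCompact K) :
    ∃ W : Z.Opens, IsCompact (W : Set Z) ∧ K ⊆ W := by
  have h : ∀ z : Z, ∃ U : Z.Opens, IsAffineOpen U ∧ z ∈ U := by
    intro z
    obtain ⟨_, ⟨U, hU, rfl⟩, hzU, -⟩ :=
      Z.isBasis_affineOpens.exists_subset_of_mem_open (Set.mem_univ z) isOpen_univ
    exact ⟨U, hU, hzU⟩
  choose U hU hzU using h
  obtain ⟨t, ht⟩ := hK.elim_finite_subcover (fun z => (U z : Set Z)) (fun z => (U z).isOpen)
    (fun z _ => Set.mem_iUnion.mpr ⟨z, hzU z⟩)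
  refine ⟨⨆ z ∈ t, U z, ?_, ?_⟩
  · simp only [Opens.coe_iSup]
    exact t.isCompact_biUnion (fun z _ => (hU z).isCompact)
  · simpa only [Opens.coe_iSup] using ht

end Groth.Agent.Lib.Helper6
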