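import Mathlib
set_option backward.isDefEq.respectTransparency.types false
set_option autoImplicit false

/-!
# A recognition criterion for localization functors (right calculus of fractions)
-/

namespace Groth.Agent.Lib.Helper6.LocRecog
open CategoryTheory

universe v₁ v₂ u₁ u₂
variable {C : Type u₁} [Category.{v₁} C] {D : Type u₂} [Category.{v₂} D] (L : C ⥤ D)

/-- a functor inverting a class `W` with a right calculus of fractions, which is essentially surjective, full up to
`W` and faithful up to `W`, is a localization functor for `W` -/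
theorem isLocalization_of_fractions (W : MorphismProperty C) [W.HasRightCalculusOfFractions]
    (hW : W.IsInvertedBy L) [L.EssSurj]
    (hfull : ∀ (A B : C) (g : L.obj A ⟶ L.obj B), ∃ (A' : C) (s : A' ⟶ A) (a : A' ⟶ B),
      W s ∧ L.map s ≫ g = L.map a)
    (hfaith : ∀ (A B : C) (a b : A ⟶ B), L.map a = L.map b →
      ∃ (A' : C) (s : A' ⟶ A), W s ∧ s ≫ a = s ≫ b) :
    L.IsLocalization W := by
  let F : W.Localization ⥤ D := Localization.lift L hW W.Q
  let iso : W.Q ⋙ F ≅ L := Localization.fac L hW W.Q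
  have hnat : ∀ {A B : C} (f : A ⟶ B), F.map (W.Q.map f) = iso.hom.app A ≫ L.map f ≫ iso.inv.app B := by
    intro A B f
    have := iso.hom.naturality f
    rw [← Category.assoc, ← this, Category.assoc, Iso.hom_inv_id_app, Category.comp_id]
    rfl
  have hQeq : ∀ {A B : C} (a b : A ⟶ B), L.map a = L.map b → W.Q.map a = W.Q.map b := by
    intro A B a b h
    obtain ⟨A', s, hs, e⟩ := hfaith A B a b h
    rw [← cancel_epi (Localization.isoOfHom W.Q W s hs).hom, Localization.isoOfHom_hom, ← Functor.map_comp,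
      ← Functor.map_comp, e]
  haveI : F.EssSurj := ⟨fun d => ⟨W.Q.obj (L.objPreimage d), ⟨iso.app _ ≪≫ L.objObjPreimageIso d⟩⟩⟩
  have hobj : ∀ Y : W.Localization, ∃ A : C, W.Q.obj A = Y :=
    fun Y => ⟨_, (Localization.Construction.objEquiv W).right_inv Y⟩
  have hfullQ : ∀ (A B : C) (g : F.obj (W.Q.obj A) ⟶ F.obj (W.Q.obj B)),
      ∃ f : W.Q.obj A ⟶ W.Q.obj B, F.map f = g := by
    intro A B g
    obtain ⟨A', s, a, hs, e⟩ := hfull A B (iso.inv.app A ≫ g ≫ iso.hom.app B)
    refine ⟨(Localization.isoOfHom W.Q W s hs).inv ≫ W.Q.map a, ?_⟩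
    have h1 : F.map (W.Q.map a) = F.map (W.Q.map s) ≫ g := by
      rw [hnat a, hnat s, ← e]
      simp
    rw [Functor.map_comp, h1, ← Category.assoc, ← Functor.map_comp, Localization.isoOfHom_inv_hom_id,
      CategoryTheory.Functor.map_id, Category.id_comp]
  haveI : F.Full := by
    refine ⟨fun {Y₁ Y₂} g => ?_⟩
    obtain ⟨A, rfl⟩ := hobj Y₁
    obtain ⟨B, rfl⟩ := hobj Y₂
    exact hfullQ A B g
  have hfaithQ : ∀ (A B : C) (f₁ f₂ : W.Q.obj A ⟶ W.Q.obj B), F.map f₁ = F.map f₂ → f₁ = f₂ := by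
    intro A B f₁ f₂ h
    obtain ⟨φ₁, rfl⟩ := Localization.exists_rightFraction W.Q W f₁
    obtain ⟨φ₂, rfl⟩ := Localization.exists_rightFraction W.Q W f₂
    -- a common denominator
    obtain ⟨ψ, hψ⟩ := (MorphismProperty.LeftFraction.mk φ₁.s φ₂.s φ₂.hs).exists_rightFraction
    dsimp at hψ
    have hs : W (ψ.s ≫ φ₁.s) := W.comp_mem _ _ ψ.hs φ₁.hs
    have e1 : φ₁.map W.Q (Localization.inverts W.Q W) =
        (Localization.isoOfHom W.Q W _ hs).inv ≫ W.Q.map (ψ.s ≫ φ₁.f) := by
      rw [← cancel_epi (Localization.isoOfHom W.Q W _ hs).hom, Iso.hom_inv_id_assoc,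
        Localization.isoOfHom_hom, Functor.map_comp, Category.assoc,
        MorphismProperty.RightFraction.map_s_comp_map, ← Functor.map_comp]
    have e2 : φ₂.map W.Q (Localization.inverts W.Q W) =
        (Localization.isoOfHom W.Q W _ hs).inv ≫ W.Q.map (ψ.f ≫ φ₂.f) := by
      rw [← cancel_epi (Localization.isoOfHom W.Q W _ hs).hom, Iso.hom_inv_id_assoc,
        Localization.isoOfHom_hom, hψ, Functor.map_comp, Category.assoc,
        MorphismProperty.RightFraction.map_s_comp_map, ← Functor.map_comp]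
    rw [e1, e2] at h ⊢
    congr 1
    apply hQeq
    rw [F.map_comp, F.map_comp, cancel_epi, hnat, hnat, cancel_epi, cancel_mono] at h
    exact h
  haveI : F.Faithful := by
    refine ⟨fun {Y₁ Y₂ f₁ f₂} h => ?_⟩
    obtain ⟨A, rfl⟩ := hobj Y₁
    obtain ⟨B, rfl⟩ := hobj Y₂
    exact hfaithQ A B f₁ f₂ h
  haveI : F.IsEquivalence := {}
  exact Functor.IsLocalization.of_equivalence_target W.Q W L F.asEquivalence iso

end Groth.Agent.Lib.Helper6.LocRecog
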