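import Mathlib.CategoryTheory.Sites.Over
import Mathlib.CategoryTheory.Sites.Pullback
import Mathlib.CategoryTheory.Sites.Sheafification
import Mathlib.CategoryTheory.Limits.Shapes.Products
import Mathlib.Algebra.Homology.ShortComplex.ExactFunctor
import Mathlib.CategoryTheory.Sites.Abelian
import Mathlib.CategoryTheory.Adjunction.Additive

/-!
# Functors with a left multi-adjoint and extension by zero (helper6)

`G : D ⥤ C` with a "multi-initial" family in each `StructuredArrow V G` (e.g. `Over.forget U`,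
`Over.map f`, the image functor of an open embedding).  Then precomposition with `G.op` on
presheaves has an explicit left adjoint `shriekPre`, `(G_! P)(V) = ∐_{i ∈ I V} P(d V i)`, which
preserves monomorphisms as soon as coproducts of monomorphisms are monomorphisms.
-/

universe w' v₁ v₂ v₃ u₁ u₂ u₃
open CategoryTheory Limits Opposite

namespace Groth.Agent.Lib.Helper6.MultiAdj

variable {C : Type u₁} [Category.{v₁} C] {D : Type u₂} [Category.{v₂} D]

/-- multi-initial families in the categories `StructuredArrow V G` -/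
structure MultiInit (G : D ⥤ C) where
  I : C → Type w'
  d : ∀ V, I V → D
  a : ∀ V (i : I V), V ⟶ G.obj (d V i)
  fact : ∀ {V : C} {e : D} (_ : V ⟶ G.obj e), Σ i : I V, (d V i ⟶ e)
  fact_spec : ∀ {V : C} {e : D} (b : V ⟶ G.obj e), a V (fact b).1 ≫ G.map (fact b).2 = b
  fact_uniq : ∀ {V : C} {e : D} (b : V ⟶ G.obj e) (p : Σ i : I V, (d V i ⟶ e)),
    a V p.1 ≫ G.map p.2 = b → p = fact b

variable {G : D ⥤ C} (M : MultiInit.{w'} G) {A : Type u₃} [Category.{v₃} A]
  [∀ V, HasCoproductsOfShape (M.I V) A]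

lemma MultiInit.fact_a {V : C} (i : M.I V) :
    M.fact (M.a V i) = (⟨i, 𝟙 _⟩ : Σ j : M.I V, (M.d V j ⟶ M.d V i)) :=
  (M.fact_uniq (M.a V i) ⟨i, 𝟙 _⟩ (by simp)).symm

lemma MultiInit.fact_eq {V : C} {e : D} (b : V ⟶ G.obj e) (p : Σ i : M.I V, (M.d V i ⟶ e))
    (h : M.a V p.1 ≫ G.map p.2 = b) : M.fact b = p :=
  (M.fact_uniq b p h).symm

section Pre

variable (P : Dᵒᵖ ⥤ A)

/-- the value of `G_! P` at `V` -/
noncomputable def sobj (V : C) : A := ∐ (fun i : M.I V => P.obj (op (M.d V i)))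

/-- the inclusions -/
noncomputable def ιs {V : C} (i : M.I V) : P.obj (op (M.d V i)) ⟶ sobj M P V :=
  Sigma.ι (fun i : M.I V => P.obj (op (M.d V i))) i

/-- maps out of `sobj` -/
noncomputable def sdesc {V : C} {Z : A} (f : ∀ i : M.I V, P.obj (op (M.d V i)) ⟶ Z) :
    sobj M P V ⟶ Z := Sigma.desc f

@[reassoc (attr := simp)]
lemma ιs_sdesc {V : C} {Z : A} (f : ∀ i : M.I V, P.obj (op (M.d V i)) ⟶ Z) (i : M.I V) :
    ιs M P i ≫ sdesc M P f = f i := Sigma.ι_desc _ _

lemma sobj_hom_ext {V : C} {Z : A} (f g : sobj M P V ⟶ Z)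
    (h : ∀ i, ιs M P i ≫ f = ιs M P i ≫ g) : f = g :=
  Sigma.hom_ext _ _ h

/-- the structure maps into the coproduct -/
noncomputable def τ {V : C} {e : D} (p : Σ i : M.I V, (M.d V i ⟶ e)) :
    P.obj (op e) ⟶ sobj M P V :=
  P.map p.2.op ≫ ιs M P p.1

@[reassoc]
lemma map_τ {V : C} {e e' : D} (g : e ⟶ e') (p : Σ i : M.I V, (M.d V i ⟶ e)) :
    P.map g.op ≫ τ M P p = τ M P ⟨p.1, p.2 ≫ g⟩ := by
  simp [τ]

lemma τ_id {V : C} (i : M.I V) :
    τ M P (⟨i, 𝟙 _⟩ : Σ j : M.I V, (M.d V j ⟶ M.d V i)) = ιs M P i := by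
  simp [τ]

/-- transition maps -/
noncomputable def smap {V V' : C} (h : V' ⟶ V) : sobj M P V ⟶ sobj M P V' :=
  sdesc M P (fun i => τ M P (M.fact (h ≫ M.a V i)))

@[reassoc (attr := simp)]
lemma ιs_smap {V V' : C} (h : V' ⟶ V) (i : M.I V) :
    ιs M P i ≫ smap M P h = τ M P (M.fact (h ≫ M.a V i)) := ιs_sdesc _ _ _ _

@[reassoc]
lemma τ_smap {V V' : C} (h : V' ⟶ V) {e : D} (p : Σ i : M.I V, (M.d V i ⟶ e)) :
    τ M P p ≫ smap M P h = τ M P (M.fact (h ≫ M.a V p.1 ≫ G.map p.2)) := by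
  rw [τ, Category.assoc, ιs_smap, map_τ]
  congr 1
  refine (M.fact_eq _ _ ?_).symm
  dsimp only
  rw [G.map_comp, ← Category.assoc, M.fact_spec, Category.assoc]

lemma smap_id (V : C) : smap M P (𝟙 V) = 𝟙 _ := by
  apply sobj_hom_ext
  intro i
  rw [ιs_smap, Category.comp_id, Category.id_comp, M.fact_a, τ_id]

lemma smap_comp {V V' V'' : C} (h : V' ⟶ V) (k : V'' ⟶ V') :
    smap M P (k ≫ h) = smap M P h ≫ smap M P k := by
  apply sobj_hom_ext
  intro i
  rw [ιs_smap, ιs_smap_assoc, τ_smap, M.fact_spec, Category.assoc]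

/-- `G_! P` as a presheaf -/
@[simps]
noncomputable def shriekObj : Cᵒᵖ ⥤ A where
  obj V := sobj M P V.unop
  map {V V'} h := smap M P h.unop
  map_id V := smap_id M P _
  map_comp h k := smap_comp M P _ _

end Pre

section Functoriality

variable {P Q R : Dᵒᵖ ⥤ A}

/-- the action on morphisms, componentwise -/
noncomputable def smapHom (φ : P ⟶ Q) (V : C) : sobj M P V ⟶ sobj M Q V :=
  sdesc M P (fun i => φ.app (op (M.d V i)) ≫ ιs M Q i)

@[reassoc (attr := simp)]
lemma ιs_smapHom (φ : P ⟶ Q) {V : C} (i : M.I V) :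
    ιs M P i ≫ smapHom M φ V = φ.app (op (M.d V i)) ≫ ιs M Q i := ιs_sdesc _ _ _ _

@[reassoc]
lemma τ_smapHom (φ : P ⟶ Q) {V : C} {e : D} (p : Σ i : M.I V, (M.d V i ⟶ e)) :
    τ M P p ≫ smapHom M φ V = φ.app (op e) ≫ τ M Q p := by
  simp [τ]

lemma smapHom_id (P : Dᵒᵖ ⥤ A) (V : C) : smapHom M (𝟙 P) V = 𝟙 _ := by
  apply sobj_hom_ext
  intro i
  simp

lemma smapHom_comp (φ : P ⟶ Q) (ψ : Q ⟶ R) (V : C) :
    smapHom M (φ ≫ ψ) V = smapHom M φ V ≫ smapHom M ψ V := by
  apply sobj_hom_ext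
  intro i
  simp

lemma smap_smapHom (φ : P ⟶ Q) {V V' : C} (h : V' ⟶ V) :
    smap M P h ≫ smapHom M φ V' = smapHom M φ V ≫ smap M Q h := by
  apply sobj_hom_ext
  intro i
  rw [ιs_smap_assoc, τ_smapHom, ιs_smapHom_assoc, ιs_smap]

/-- the action on morphisms -/
noncomputable def shriekMap (φ : P ⟶ Q) : shriekObj M P ⟶ shriekObj M Q where
  app V := smapHom M φ V.unop
  naturality _ _ h := smap_smapHom M φ h.unop

lemma shriekMap_app (φ : P ⟶ Q) (V : Cᵒᵖ) : (shriekMap M φ).app V = smapHom M φ V.unop := rfl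

variable (A) in
/-- the extension by zero functor on presheaves -/
noncomputable def shriekPre : (Dᵒᵖ ⥤ A) ⥤ (Cᵒᵖ ⥤ A) where
  obj P := shriekObj M P
  map φ := shriekMap M φ
  map_id P := by
    ext V
    exact smapHom_id M P V.unop
  map_comp φ ψ := by
    ext V
    exact smapHom_comp M φ ψ V.unop

lemma shriekPre_obj (P : Dᵒᵖ ⥤ A) : (shriekPre M A).obj P = shriekObj M P := rfl
lemma shriekPre_map (φ : P ⟶ Q) : (shriekPre M A).map φ = shriekMap M φ := rfl

end Functoriality

section Adjunction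

lemma unit_nat (P : Dᵒᵖ ⥤ A) {e e' : D} (g : e' ⟶ e) :
    P.map g.op ≫ τ M P (M.fact (𝟙 (G.obj e'))) =
      τ M P (M.fact (𝟙 (G.obj e))) ≫ smap M P (G.map g) := by
  rw [map_τ, τ_smap, M.fact_spec]
  congr 1
  refine M.fact_uniq _ _ ?_
  dsimp only
  rw [G.map_comp, ← Category.assoc, M.fact_spec, Category.id_comp, Category.comp_id]

/-- the unit, componentwise -/
noncomputable def unitApp (P : Dᵒᵖ ⥤ A) : P ⟶ G.op ⋙ shriekObj M P where
  app e := τ M P (M.fact (𝟙 (G.obj e.unop)))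
  naturality _ _ g := unit_nat M P g.unop

lemma unitApp_app (P : Dᵒᵖ ⥤ A) (e : Dᵒᵖ) :
    (unitApp M P).app e = τ M P (M.fact (𝟙 (G.obj e.unop))) := rfl

/-- the counit at `V` -/
noncomputable def counitV (Q : Cᵒᵖ ⥤ A) (V : C) : sobj M (G.op ⋙ Q) V ⟶ Q.obj (op V) :=
  sdesc M (G.op ⋙ Q) (fun i => Q.map (M.a V i).op)

@[reassoc (attr := simp)]
lemma ιs_counitV (Q : Cᵒᵖ ⥤ A) {V : C} (i : M.I V) :
    ιs M (G.op ⋙ Q) i ≫ counitV M Q V = Q.map (M.a V i).op := ιs_sdesc _ _ _ _

@[reassoc]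
lemma τ_counitV (Q : Cᵒᵖ ⥤ A) {V : C} {e : D} (p : Σ i : M.I V, (M.d V i ⟶ e)) :
    τ M (G.op ⋙ Q) p ≫ counitV M Q V = Q.map (M.a V p.1 ≫ G.map p.2).op := by
  rw [τ, Category.assoc, ιs_counitV]
  dsimp only [Functor.comp_map, Functor.op_map]
  rw [← Q.map_comp]
  rfl

lemma counit_nat (Q : Cᵒᵖ ⥤ A) {V V' : C} (h : V' ⟶ V) :
    smap M (G.op ⋙ Q) h ≫ counitV M Q V' = counitV M Q V ≫ Q.map h.op := by
  apply sobj_hom_ext
  intro i
  rw [ιs_smap_assoc, τ_counitV, M.fact_spec, ιs_counitV_assoc, ← Q.map_comp]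
  rfl

/-- the counit, componentwise -/
noncomputable def counitApp (Q : Cᵒᵖ ⥤ A) : shriekObj M (G.op ⋙ Q) ⟶ Q where
  app V := counitV M Q V.unop
  naturality _ _ h := counit_nat M Q h.unop

lemma counitApp_app (Q : Cᵒᵖ ⥤ A) (V : Cᵒᵖ) : (counitApp M Q).app V = counitV M Q V.unop := rfl

lemma unit_natP {P Q : Dᵒᵖ ⥤ A} (φ : P ⟶ Q) (e : D) :
    φ.app (op e) ≫ τ M Q (M.fact (𝟙 (G.obj e))) =
      τ M P (M.fact (𝟙 (G.obj e))) ≫ smapHom M φ (G.obj e) :=
  (τ_smapHom M φ _).symm

lemma counit_natQ {Q Q' : Cᵒᵖ ⥤ A} (φ : Q ⟶ Q') (V : C) :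
    smapHom M (Functor.whiskerLeft G.op φ) V ≫ counitV M Q' V =
      counitV M Q V ≫ φ.app (op V) := by
  apply sobj_hom_ext
  intro i
  rw [ιs_smapHom_assoc, ιs_counitV, ιs_counitV_assoc]
  exact (φ.naturality _).symm

lemma left_tri (P : Dᵒᵖ ⥤ A) (V : C) :
    smapHom M (unitApp M P) V ≫ counitV M (shriekObj M P) V = 𝟙 (sobj M P V) := by
  apply sobj_hom_ext
  intro i
  rw [ιs_smapHom_assoc, ιs_counitV]
  change τ M P (M.fact (𝟙 (G.obj (M.d V i)))) ≫ smap M P (M.a V i) = ιs M P i ≫ 𝟙 (sobj M P V)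
  rw [Category.comp_id, τ_smap, M.fact_spec, Category.comp_id, M.fact_a, τ_id]

lemma right_tri (Q : Cᵒᵖ ⥤ A) (e : D) :
    τ M (G.op ⋙ Q) (M.fact (𝟙 (G.obj e))) ≫ counitV M Q (G.obj e) = 𝟙 (Q.obj (op (G.obj e))) := by
  rw [τ_counitV, M.fact_spec]
  exact Q.map_id _

variable (A) in
/-- the adjunction `G_! ⊣ G^p` on presheaves -/
noncomputable def adjPre : shriekPre M A ⊣ (Functor.whiskeringLeft Dᵒᵖ Cᵒᵖ A).obj G.op where
  unit :=
    { app := fun P => unitApp M P
      naturality := fun P Q φ => by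
        ext e
        exact unit_natP M φ e.unop }
  counit :=
    { app := fun Q => counitApp M Q
      naturality := fun Q Q' φ => by
        ext V
        exact counit_natQ M φ V.unop }
  left_triangle_components P := by
    ext V
    exact left_tri M P V.unop
  right_triangle_components Q := by
    ext e
    exact right_tri M Q e.unop

end Adjunction

section Mono

/-- the hypothesis that coproducts of monomorphisms (indexed by the `M.I V`) are monomorphisms -/
def SigmaMono (A : Type u₃) [Category.{v₃} A] [∀ V, HasCoproductsOfShape (M.I V) A] : Prop :=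
  ∀ (V : C) (X Y : M.I V → A) (f : ∀ i, X i ⟶ Y i), (∀ i, Mono (f i)) → Mono (Limits.Sigma.map f)

lemma smapHom_eq {P Q : Dᵒᵖ ⥤ A} (φ : P ⟶ Q) (V : C) :
    smapHom M φ V = Limits.Sigma.map (fun i : M.I V => φ.app (op (M.d V i))) := by
  apply sobj_hom_ext
  intro i
  rw [ιs_smapHom]
  exact (Sigma.ι_map (f := fun i : M.I V => P.obj (op (M.d V i)))
    (fun i : M.I V => φ.app (op (M.d V i))) i).symm

variable [HasPullbacks A]

lemma mono_shriekMap (hA : SigmaMono M A) {P Q : Dᵒᵖ ⥤ A} (φ : P ⟶ Q) [Mono φ] :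
    Mono (shriekMap M φ) := by
  rw [NatTrans.mono_iff_mono_app]
  intro V
  rw [shriekMap_app, smapHom_eq]
  exact hA _ _ _ _ (fun i => inferInstance)

lemma preservesMonomorphisms_shriekPre (hA : SigmaMono M A) :
    (shriekPre M A).PreservesMonomorphisms where
  preserves φ _ := mono_shriekMap M hA φ

end Mono

section Sheaf

variable (K : GrothendieckTopology D) (J : GrothendieckTopology C) [G.IsContinuous K J]
  [HasWeakSheafify J A]

/-- extension by zero on sheaves -/
noncomputable def shriek : Sheaf K A ⥤ Sheaf J A :=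
  sheafToPresheaf K A ⋙ shriekPre M A ⋙ presheafToSheaf J A

/-- `G_! ⊣ G^*` on sheaves -/
noncomputable def adj : shriek M K J ⊣ G.sheafPushforwardContinuous A K J :=
  ((adjPre M A).comp (sheafificationAdjunction J A)).restrictFullyFaithful
    (fullyFaithfulSheafToPresheaf K A) (Functor.FullyFaithful.id _) (Iso.refl _) (Iso.refl _)

omit [G.IsContinuous K J] in
lemma shriek_preservesMonomorphisms [HasPullbacks A] (hA : SigmaMono M A)
    [(sheafToPresheaf K A).PreservesMonomorphisms]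
    [(presheafToSheaf J A).PreservesMonomorphisms] :
    (shriek M K J (A := A)).PreservesMonomorphisms := by
  have := preservesMonomorphisms_shriekPre M hA
  unfold shriek
  infer_instance

end Sheaf

section Exact

variable (K : GrothendieckTopology D) (J : GrothendieckTopology C) [G.IsContinuous K J]
  [Abelian A] [HasSheafify J A] [HasSheafify K A]

lemma pushforward_additive : (G.sheafPushforwardContinuous A K J).Additive where

lemma shriek_additive : (shriek M K J (A := A)).Additive :=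
  haveI := pushforward_additive (A := A) K J (G := G)
  (adj M K J).left_adjoint_additive

/-- an additive functor between abelian categories which is right exact and preserves
monomorphisms is exact -/
lemma preservesFiniteLimits_of_mono_of_rightExact {X Y : Type*} [Category X] [Category Y]
    [Abelian X] [Abelian Y] (F : X ⥤ Y) [F.Additive] [PreservesFiniteColimits F]
    [F.PreservesMonomorphisms] : PreservesFiniteLimits F :=
  (F.preservesFiniteLimits_iff_forall_exact_map_and_mono).2 (fun S hS =>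
    ⟨((F.preservesFiniteColimits_iff_forall_exact_map_and_epi).1 inferInstance S hS).1, by
      have := hS.mono_f
      infer_instance⟩)

theorem shriek_preservesFiniteLimits (hA : SigmaMono M A) :
    PreservesFiniteLimits (shriek M K J (A := A)) := by
  haveI := shriek_additive M K J (A := A)
  haveI : PreservesFiniteColimits (shriek M K J (A := A)) := by
    have := (adj M K J (A := A)).leftAdjoint_preservesColimits
    infer_instance
  haveI := shriek_preservesMonomorphisms M K J hA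
  exact preservesFiniteLimits_of_mono_of_rightExact _

end Exact

end Groth.Agent.Lib.Helper6.MultiAdj
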