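import Groth.Prelude.Def_NonAbH1
import Mathlib.CategoryTheory.Sites.Subsheaf

/-!
# Helper library for the boundary map of non-abelian H¹ on a site (namespace `NonAbH1`)

General-site lemmas:
* `exists_section_of_const`: a natural map from a locally nonempty sheaf `T` to a sheaf `Q` which is
  constant on every `T(V)` comes from a unique global section of `Q`.
* `exists_of_locally_exists`: local membership in the image of a sectionwise-injective morphism of sheaves.
* fibres of `π : G → Q = G/F` over global sections: torsor property, translation isomorphisms.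
-/

set_option autoImplicit false

universe w v u

open CategoryTheory Opposite NonAbH1

namespace Groth.Agent.Lib.Helper6.NonAb

variable {C : Type u} [Category.{v} C] {J : GrothendieckTopology C}

/-- the presieve-sheaf condition of a sheaf of types -/
theorem isSheaf' (Q : Sheaf J (Type w)) : Presieve.IsSheaf J Q.obj :=
  (isSheaf_iff_isSheaf_of_type J Q.obj).mp Q.property

/-- Two sections agreeing on a covering sieve are equal. -/
theorem ext_of_covering (Q : Sheaf J (Type w)) {U : C} (S : Sieve U) (hS : S ∈ J U)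
    (q q' : Q.obj.obj (op U))
    (h : ∀ ⦃V : C⦄ (f : V ⟶ U), S f → Q.obj.map f.op q = Q.obj.map f.op q') : q = q' :=
  ((isSheaf' Q) S hS).isSeparatedFor.ext (fun _ f hf => h f hf)

/-- A natural map from a locally nonempty sheaf `T` to a sheaf `Q` that is constant on each `T(V)`
descends to a global section of `Q`. -/
theorem exists_section_of_const (T Q : Sheaf J (Type w))
    (hT : ∀ U : C, ∃ S ∈ J U, ∀ ⦃V : C⦄ (f : V ⟶ U), S f → Nonempty (T.obj.obj (op V)))
    (ψ : ∀ V : Cᵒᵖ, T.obj.obj V → Q.obj.obj V)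
    (hnat : ∀ {V W : Cᵒᵖ} (a : V ⟶ W) (t : T.obj.obj V),
      Q.obj.map a (ψ V t) = ψ W (T.obj.map a t))
    (hconst : ∀ V (t t' : T.obj.obj V), ψ V t = ψ V t') :
    ∃ c : Q.obj.sections, ∀ V (t : T.obj.obj V), c.1 V = ψ V t := by
  -- the defining property
  have key : ∀ U : Cᵒᵖ, ∃ q : Q.obj.obj U,
      ∀ (W : Cᵒᵖ) (a : U ⟶ W) (t : T.obj.obj W), Q.obj.map a q = ψ W t := by
    intro U
    obtain ⟨S, hS, hne⟩ := hT U.unop
    let x : Presieve.FamilyOfElements Q.obj S.arrows :=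
      fun V f hf => ψ (op V) (hne f hf).some
    have hx : x.Compatible := by
      intro Y₁ Y₂ Z g₁ g₂ f₁ f₂ h₁ h₂ _
      change Q.obj.map g₁.op (ψ (op Y₁) _) = Q.obj.map g₂.op (ψ (op Y₂) _)
      rw [hnat, hnat]
      exact hconst _ _ _
    have hsh := (isSheaf' Q) S hS
    refine ⟨hsh.amalgamate x hx, ?_⟩
    intro W a t
    -- check on the pullback sieve
    apply ext_of_covering Q (S.pullback a.unop) (J.pullback_stable a.unop hS)
    intro V f hf
    have h1 : Q.obj.map f.op (Q.obj.map a (hsh.amalgamate x hx)) =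
        Q.obj.map (f ≫ a.unop).op (hsh.amalgamate x hx) := by
      rw [← Functor.map_comp_apply]
      rfl
    rw [h1, hsh.valid_glue hx (f ≫ a.unop) hf, hnat]
    exact hconst _ _ _
  choose q hq using key
  have huniq : ∀ (U : Cᵒᵖ) (q' : Q.obj.obj U),
      (∀ (W : Cᵒᵖ) (a : U ⟶ W) (t : T.obj.obj W), Q.obj.map a q' = ψ W t) → q' = q U := by
    intro U q' hq'
    obtain ⟨S, hS, hne⟩ := hT U.unop
    apply ext_of_covering Q S hS
    intro V f hf
    obtain ⟨t⟩ := hne f hf
    rw [hq' (op V) f.op t, hq U (op V) f.op t]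
  refine ⟨⟨q, ?_⟩, ?_⟩
  · intro U V a
    apply huniq
    intro W b t
    rw [← Functor.map_comp_apply]
    exact hq U W (a ≫ b) t
  · intro V t
    have := hq V V (𝟙 V) t
    rwa [Functor.map_id_apply] at this

/-- Local membership in the image of a sectionwise injective morphism of sheaves of sets implies
membership. -/
theorem exists_of_locally_exists {T G : Sheaf J (Type w)} (ι : T ⟶ G)
    (hinj : ∀ U : Cᵒᵖ, Function.Injective (ι.hom.app U))
    (U : Cᵒᵖ) (g : G.obj.obj U) (S : Sieve U.unop) (hS : S ∈ J U.unop)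
    (h : ∀ ⦃V : C⦄ (f : V ⟶ U.unop), S f →
      ∃ t : T.obj.obj (op V), ι.hom.app (op V) t = G.obj.map f.op g) :
    ∃ t : T.obj.obj U, ι.hom.app U t = g := by
  choose t ht using h
  let x : Presieve.FamilyOfElements T.obj S.arrows := fun V f hf => t f hf
  have hx : x.Compatible := by
    intro Y₁ Y₂ Z g₁ g₂ f₁ f₂ h₁ h₂ hcomm
    apply hinj (op Z)
    change ι.hom.app (op Z) (T.obj.map g₁.op (t f₁ h₁)) = ι.hom.app (op Z) (T.obj.map g₂.op (t f₂ h₂))
    rw [NatTrans.naturality_apply, NatTrans.naturality_apply, ht, ht,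
      ← Functor.map_comp_apply, ← Functor.map_comp_apply, ← op_comp, ← op_comp, hcomm]
  have hsh := (isSheaf' T) S hS
  refine ⟨hsh.amalgamate x hx, ?_⟩
  apply ext_of_covering G S hS
  intro V f hf
  rw [← NatTrans.naturality_apply, hsh.valid_glue hx f hf]
  exact ht f hf

section GSheafIso

variable {F : Sheaf J GrpCat.{w}}

/-- An equivariant morphism which is bijective on sections is an isomorphism of `F`-sheaves. -/
theorem nonempty_iso_of_bijective {T T' : GSheaf F} (α : T ⟶ T')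
    (hbij : ∀ U : Cᵒᵖ, Function.Bijective (α.hom.hom.app U)) : Nonempty (T ≅ T') := by
  have hiso : IsIso α.hom.hom := by
    rw [NatTrans.isIso_iff_isIso_app]
    intro U
    exact (isIso_iff_bijective _).mpr (hbij U)
  have hisoS : IsIso α.hom := by
    have : IsIso ((sheafToPresheaf J _).map α.hom) := hiso
    exact isIso_of_reflects_iso α.hom (sheafToPresheaf J _)
  have hleft : ∀ (U : Cᵒᵖ) (p : T.P.obj.obj U), (inv α.hom).hom.app U (α.hom.hom.app U p) = p := by
    intro U p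
    exact congrArg (fun (m : T.P ⟶ T.P) => m.hom.app U p) (IsIso.hom_inv_id α.hom)
  let invG : T' ⟶ T :=
    { hom := inv α.hom
      map_smul := by
        intro U g p
        obtain ⟨p₀, rfl⟩ := (hbij U).2 p
        have h2 : T'.smul g (α.hom.hom.app U p₀) = α.hom.hom.app U (T.smul g p₀) :=
          (α.map_smul g p₀).symm
        rw [h2]
        exact (hleft U _).trans (congrArg (T.smul g) (hleft U p₀).symm) }
  refine ⟨⟨α, invG, ?_, ?_⟩⟩
  · apply GSheaf.hom_ext
    exact IsIso.hom_inv_id α.hom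
  · apply GSheaf.hom_ext
    exact IsIso.inv_hom_id α.hom

end GSheafIso

section Boundary

variable [J.HasSheafCompose (forget GrpCat.{w})] {F G : Sheaf J GrpCat.{w}} (u : F ⟶ G)
  {Q : GSheaf G} (π : GSheaf.trivial G ⟶ Q)

/-- `π (g * h) = g • π h`. -/
theorem pi_mul (U : Cᵒᵖ) (g h : G.obj.obj U) :
    π.hom.hom.app U (GSheaf.ofGrp (g * h)) = Q.smul g (π.hom.hom.app U (GSheaf.ofGrp h)) :=
  π.map_smul g (GSheaf.ofGrp h)

/-- naturality of `π` on sections -/
theorem pi_map {U V : Cᵒᵖ} (a : U ⟶ V) (g : G.obj.obj U) :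
    π.hom.hom.app V (GSheaf.ofGrp (G.obj.map a g)) =
      Q.P.obj.map a (π.hom.hom.app U (GSheaf.ofGrp g)) :=
  NatTrans.naturality_apply π.hom.hom a (GSheaf.ofGrp g)

variable {u π}

/-- two sections with the same image differ by `F` (right multiplication) -/
theorem pi_eq_iff_inv (hQ : GSheaf.IsQuotientBy u π) (U : Cᵒᵖ) (g g' : G.obj.obj U) :
    π.hom.hom.app U (GSheaf.ofGrp g) = π.hom.hom.app U (GSheaf.ofGrp g') ↔
      ∃ f : F.obj.obj U, g' = g * (u.hom.app U f)⁻¹ := by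
  rw [hQ.1 U g g']
  constructor
  · rintro ⟨f, hf⟩
    exact ⟨f⁻¹, by rw [hf, map_inv, inv_inv]⟩
  · rintro ⟨f, hf⟩
    exact ⟨f⁻¹, by rw [hf, map_inv]⟩

/-- A sheaf of liftings of a global section of `G/F` is an `F`-torsor. -/
theorem isTorsor_of_isFibreOver (hu : ∀ U : Cᵒᵖ, Function.Injective (u.hom.app U))
    (hQ : GSheaf.IsQuotientBy u π) (c : Q.P.obj.sections) (T : GSheaf F)
    (hT : GSheaf.IsFibreOver u π c T) : T.IsTorsor := by
  obtain ⟨ι, hinj, hiff, heq⟩ := hT
  constructor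
  · intro U p q
    have hp : π.hom.hom.app U (GSheaf.ofGrp (GSheaf.toGrp (ι.hom.app U p))) = c.1 U :=
      (hiff U _).mp ⟨p, rfl⟩
    have hq : π.hom.hom.app U (GSheaf.ofGrp (GSheaf.toGrp (ι.hom.app U q))) = c.1 U :=
      (hiff U _).mp ⟨q, rfl⟩
    obtain ⟨f, hf⟩ := (pi_eq_iff_inv hQ U _ _).mp (hp.trans hq.symm)
    refine ⟨f, ?_, ?_⟩
    · apply hinj U
      have := heq U f p
      exact this.trans hf.symm
    · intro f' hf'
      have h1 := heq U f' p
      rw [hf'] at h1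
      have h2 : GSheaf.toGrp (ι.hom.app U p) * (u.hom.app U f)⁻¹ =
          GSheaf.toGrp (ι.hom.app U p) * (u.hom.app U f')⁻¹ := hf.symm.trans h1
      have h3 : (u.hom.app U f)⁻¹ = (u.hom.app U f')⁻¹ := mul_left_cancel h2
      exact hu U (inv_injective h3).symm
  · intro U
    obtain ⟨S, hS, hlift⟩ := hQ.2 U (c.1 (op U))
    refine ⟨S, hS, fun V a ha => ?_⟩
    obtain ⟨g, hg⟩ := hlift a ha
    have hc : Q.P.obj.map a.op (c.1 (op U)) = c.1 (op V) := c.2 a.op
    obtain ⟨t, -⟩ := (hiff (op V) g).mpr (hg.trans hc)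
    exact ⟨t⟩

end Boundary

section Boundary2

variable [J.HasSheafCompose (forget GrpCat.{w})] {F G : Sheaf J GrpCat.{w}} {u : F ⟶ G}
  {Q : GSheaf G} {π : GSheaf.trivial G ⟶ Q}

theorem uSh_map {U V : Cᵒᵖ} (a : U ⟶ V) (x : G.obj.obj U) :
    (GSheaf.uSh G).obj.map a (GSheaf.ofGrp x) = GSheaf.ofGrp (G.obj.map a x) := rfl

/-- naturality of a morphism into `uSh G`, in group form -/
theorem iota_map {T : Sheaf J (Type w)} (ι : T ⟶ GSheaf.uSh G) {U V : Cᵒᵖ} (a : U ⟶ V)
    (t : T.obj.obj U) :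
    GSheaf.toGrp (ι.hom.app V (T.obj.map a t)) = G.obj.map a (GSheaf.toGrp (ι.hom.app U t)) :=
  NatTrans.naturality_apply ι.hom a t

/-- If `g • c = c'` for a global section `g` of `G`, the sheaves of liftings of `c` and `c'` are
isomorphic (left translation by `g`). -/
theorem nonempty_iso_of_translate (c c' : Q.P.obj.sections) (T T' : GSheaf F)
    (hT : GSheaf.IsFibreOver u π c T) (hT' : GSheaf.IsFibreOver u π c' T')
    (g : (GSheaf.uSh G).obj.sections)
    (hg : ∀ U : Cᵒᵖ, Q.smul (GSheaf.toGrp (g.1 U)) (c.1 U) = c'.1 U) : Nonempty (T ≅ T') := by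
  obtain ⟨ι, hinj, hiff, heq⟩ := hT
  obtain ⟨ι', hinj', hiff', heq'⟩ := hT'
  have hex : ∀ (U : Cᵒᵖ) (t : T.P.obj.obj U), ∃ t' : T'.P.obj.obj U,
      GSheaf.toGrp (ι'.hom.app U t') = GSheaf.toGrp (g.1 U) * GSheaf.toGrp (ι.hom.app U t) := by
    intro U t
    apply (hiff' U _).mpr
    rw [pi_mul, (hiff U _).mp ⟨t, rfl⟩]
    exact hg U
  choose α hα using hex
  have hgmap : ∀ {U V : Cᵒᵖ} (a : U ⟶ V), G.obj.map a (GSheaf.toGrp (g.1 U)) = GSheaf.toGrp (g.1 V) :=
    fun a => g.2 a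
  let αS : T.P ⟶ T'.P :=
    ⟨{ app := fun U => TypeCat.ofHom (α U)
       naturality := by
        intro U V a
        ext t
        apply hinj' V
        change ι'.hom.app V (α V (T.P.obj.map a t)) = ι'.hom.app V (T'.P.obj.map a (α U t))
        have h1 : GSheaf.toGrp (ι'.hom.app V (α V (T.P.obj.map a t))) =
            GSheaf.toGrp (g.1 V) * G.obj.map a (GSheaf.toGrp (ι.hom.app U t)) := by
          rw [hα, iota_map]
        have h2 : GSheaf.toGrp (ι'.hom.app V (T'.P.obj.map a (α U t))) =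
            GSheaf.toGrp (g.1 V) * G.obj.map a (GSheaf.toGrp (ι.hom.app U t)) := by
          rw [iota_map, hα, map_mul, hgmap]
        exact h1.trans h2.symm }⟩
  let αG : T ⟶ T' :=
    { hom := αS
      map_smul := by
        intro U f t
        apply hinj' U
        change ι'.hom.app U (α U (T.smul f t)) = ι'.hom.app U (T'.smul f (α U t))
        have h1 : GSheaf.toGrp (ι'.hom.app U (α U (T.smul f t))) =
            GSheaf.toGrp (g.1 U) * (GSheaf.toGrp (ι.hom.app U t) * (u.hom.app U f)⁻¹) := by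
          rw [hα, heq]
        have h2 : GSheaf.toGrp (ι'.hom.app U (T'.smul f (α U t))) =
            GSheaf.toGrp (g.1 U) * (GSheaf.toGrp (ι.hom.app U t) * (u.hom.app U f)⁻¹) := by
          rw [heq', hα, mul_assoc]
        exact h1.trans h2.symm }
  apply nonempty_iso_of_bijective αG
  intro U
  constructor
  · intro t₁ t₂ h12
    apply hinj U
    have h12' : α U t₁ = α U t₂ := h12
    have h1 := hα U t₁
    rw [h12', hα U t₂] at h1
    exact (mul_left_cancel h1).symm
  · intro t'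
    -- π (g⁻¹ ι' t') = c
    have hc' : π.hom.hom.app U (GSheaf.ofGrp (GSheaf.toGrp (ι'.hom.app U t'))) = c'.1 U :=
      (hiff' U _).mp ⟨t', rfl⟩
    have hc : π.hom.hom.app U (GSheaf.ofGrp ((GSheaf.toGrp (g.1 U))⁻¹ *
        GSheaf.toGrp (ι'.hom.app U t'))) = c.1 U := by
      rw [pi_mul, hc', ← hg U, ← Q.mul_smul, inv_mul_cancel, Q.one_smul]
    obtain ⟨t, ht⟩ := (hiff U _).mpr hc
    refine ⟨t, ?_⟩
    apply hinj' U
    change ι'.hom.app U (α U t) = ι'.hom.app U t'
    have h1 := hα U t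
    rw [ht, mul_inv_cancel_left] at h1
    exact h1

end Boundary2

section Boundary3

variable [J.HasSheafCompose (forget GrpCat.{w})] {F G : Sheaf J GrpCat.{w}} {u : F ⟶ G}
  {Q : GSheaf G} {π : GSheaf.trivial G ⟶ Q}

/-- If the sheaves of liftings of `c` and `c'` are isomorphic then `c' = g • c` for a global
section `g` of `G`. -/
theorem exists_translate_of_iso (hu : ∀ U : Cᵒᵖ, Function.Injective (u.hom.app U))
    (hQ : GSheaf.IsQuotientBy u π) (c c' : Q.P.obj.sections) (T T' : GSheaf F)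
    (hT : GSheaf.IsFibreOver u π c T) (hT' : GSheaf.IsFibreOver u π c' T') (e : T ≅ T') :
    ∃ g : (GSheaf.uSh G).obj.sections,
      ∀ U : Cᵒᵖ, Q.smul (GSheaf.toGrp (g.1 U)) (c.1 U) = c'.1 U := by
  have hTors : T.IsTorsor := isTorsor_of_isFibreOver hu hQ c T hT
  obtain ⟨ι, hinj, hiff, heq⟩ := hT
  obtain ⟨ι', hinj', hiff', heq'⟩ := hT'
  let ψ : ∀ V : Cᵒᵖ, T.P.obj.obj V → (GSheaf.uSh G).obj.obj V := fun V t =>
    GSheaf.ofGrp (GSheaf.toGrp (ι'.hom.app V (e.hom.hom.hom.app V t)) *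
      (GSheaf.toGrp (ι.hom.app V t))⁻¹)
  have hnat : ∀ {V W : Cᵒᵖ} (a : V ⟶ W) (t : T.P.obj.obj V),
      (GSheaf.uSh G).obj.map a (ψ V t) = ψ W (T.P.obj.map a t) := by
    intro V W a t
    change GSheaf.ofGrp (G.obj.map a (GSheaf.toGrp (ι'.hom.app V (e.hom.hom.hom.app V t)) *
      (GSheaf.toGrp (ι.hom.app V t))⁻¹)) = _
    have h1 : e.hom.hom.hom.app W (T.P.obj.map a t) = T'.P.obj.map a (e.hom.hom.hom.app V t) :=
      NatTrans.naturality_apply e.hom.hom.hom a t
    change _ = GSheaf.ofGrp (GSheaf.toGrp (ι'.hom.app W (e.hom.hom.hom.app W (T.P.obj.map a t))) *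
      (GSheaf.toGrp (ι.hom.app W (T.P.obj.map a t)))⁻¹)
    rw [h1, iota_map, iota_map, map_mul, map_inv]
  have hconst : ∀ V (t t' : T.P.obj.obj V), ψ V t = ψ V t' := by
    intro V t t'
    obtain ⟨f, hf, -⟩ := hTors.1 V t t'
    subst hf
    have h1 : e.hom.hom.hom.app V (T.smul f t) = T'.smul f (e.hom.hom.hom.app V t) :=
      e.hom.map_smul f t
    change GSheaf.ofGrp _ = GSheaf.ofGrp (GSheaf.toGrp (ι'.hom.app V (e.hom.hom.hom.app V (T.smul f t))) *
      (GSheaf.toGrp (ι.hom.app V (T.smul f t)))⁻¹)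
    rw [h1, heq', heq]
    congr 1
    rw [mul_inv_rev, inv_inv, mul_assoc, inv_mul_cancel_left]
  obtain ⟨g, hg⟩ := exists_section_of_const T.P (GSheaf.uSh G) hTors.2 ψ hnat hconst
  refine ⟨g, fun U => ?_⟩
  obtain ⟨S, hS, hne⟩ := hTors.2 U.unop
  apply ext_of_covering Q.P S hS
  intro V a ha
  obtain ⟨t⟩ := hne a ha
  have hgV : GSheaf.toGrp (g.1 (op V)) = GSheaf.toGrp (ι'.hom.app (op V) (e.hom.hom.hom.app (op V) t)) *
      (GSheaf.toGrp (ι.hom.app (op V) t))⁻¹ := hg (op V) t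
  have hgmap : G.obj.map a.op (GSheaf.toGrp (g.1 U)) = GSheaf.toGrp (g.1 (op V)) := g.2 a.op
  have hcV : Q.P.obj.map a.op (c.1 U) = c.1 (op V) := c.2 a.op
  have hc'V : Q.P.obj.map a.op (c'.1 U) = c'.1 (op V) := c'.2 a.op
  rw [Q.map_smul, hgmap, hcV, hc'V, ← (hiff (op V) _).mp ⟨t, rfl⟩, ← pi_mul, hgV,
    inv_mul_cancel_right]
  exact (hiff' (op V) _).mp ⟨_, rfl⟩

end Boundary3

section Boundary4

variable [J.HasSheafCompose (forget GrpCat.{w})] {F G : Sheaf J GrpCat.{w}} {u : F ⟶ G}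
  {Q : GSheaf G} {π : GSheaf.trivial G ⟶ Q}

/-- pointwise inverse of a morphism into the sheaf of sets underlying `G` -/
def invHom {T : Sheaf J (Type w)} (m : T ⟶ GSheaf.uSh G) : T ⟶ GSheaf.uSh G :=
  ⟨{ app := fun U => TypeCat.ofHom (fun t => GSheaf.ofGrp (GSheaf.toGrp (m.hom.app U t))⁻¹)
     naturality := by
      intro U V a
      ext t
      change GSheaf.ofGrp (GSheaf.toGrp (m.hom.app V (T.obj.map a t)))⁻¹ =
        GSheaf.ofGrp (G.obj.map a (GSheaf.toGrp (m.hom.app U t))⁻¹)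
      rw [iota_map, map_inv] }⟩

theorem invHom_apply {T : Sheaf J (Type w)} (m : T ⟶ GSheaf.uSh G) (U : Cᵒᵖ) (t : T.obj.obj U) :
    GSheaf.toGrp ((invHom m).hom.app U t) = (GSheaf.toGrp (m.hom.app U t))⁻¹ := rfl

/-- A sheaf of liftings maps `u`-equivariantly to the trivial `G`-torsor. -/
theorem isPushforwardAlong_of_isFibreOver (c : Q.P.obj.sections) (T : GSheaf F)
    (hT : GSheaf.IsFibreOver u π c T) : GSheaf.IsPushforwardAlong u T (GSheaf.trivial G) := by
  obtain ⟨ι, hinj, hiff, heq⟩ := hT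
  refine ⟨invHom ι, ?_⟩
  intro U f t
  change GSheaf.ofGrp (GSheaf.toGrp (ι.hom.app U (T.smul f t)))⁻¹ =
    GSheaf.ofGrp (u.hom.app U f * (GSheaf.toGrp (ι.hom.app U t))⁻¹)
  rw [heq, mul_inv_rev, inv_inv]

/-- A torsor mapping `u`-equivariantly to the trivial `G`-torsor is the sheaf of liftings of a global
section of `G/F`. -/
theorem exists_isFibreOver_of_isPushforwardAlong (hu : ∀ U : Cᵒᵖ, Function.Injective (u.hom.app U))
    (hQ : GSheaf.IsQuotientBy u π) (T : GSheaf F) (hTors : T.IsTorsor)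
    (hm : GSheaf.IsPushforwardAlong u T (GSheaf.trivial G)) :
    ∃ c : Q.P.obj.sections, GSheaf.IsFibreOver u π c T := by
  obtain ⟨m0, hm⟩ := hm
  obtain ⟨m, rfl⟩ : ∃ m : T.P ⟶ GSheaf.uSh G, m = m0 := ⟨m0, rfl⟩
  have hm' : ∀ (U : Cᵒᵖ) (f : F.obj.obj U) (t : T.P.obj.obj U),
      GSheaf.toGrp (m.hom.app U (T.smul f t)) = u.hom.app U f * GSheaf.toGrp (m.hom.app U t) :=
    fun U f t => hm U f t
  have heq : ∀ (U : Cᵒᵖ) (f : F.obj.obj U) (t : T.P.obj.obj U),
      GSheaf.toGrp ((invHom m).hom.app U (T.smul f t)) =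
        GSheaf.toGrp ((invHom m).hom.app U t) * (u.hom.app U f)⁻¹ := by
    intro U f t
    rw [invHom_apply, invHom_apply, hm', mul_inv_rev]
  have hinj : ∀ U : Cᵒᵖ, Function.Injective ((invHom m).hom.app U) := by
    intro U t t' htt'
    have h1 : (GSheaf.toGrp (m.hom.app U t))⁻¹ = (GSheaf.toGrp (m.hom.app U t'))⁻¹ := htt'
    have h2 : GSheaf.toGrp (m.hom.app U t) = GSheaf.toGrp (m.hom.app U t') := inv_injective h1
    obtain ⟨f, hf, -⟩ := hTors.1 U t t'
    subst hf
    rw [hm'] at h2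
    have h3 : u.hom.app U f = 1 := by
      have := mul_right_cancel (h2.symm.trans (one_mul _).symm)
      exact this
    have h4 : f = 1 := hu U (h3.trans (map_one _).symm)
    rw [h4, T.one_smul]
  let ψ : ∀ V : Cᵒᵖ, T.P.obj.obj V → Q.P.obj.obj V := fun V t =>
    π.hom.hom.app V ((invHom m).hom.app V t)
  have hnat : ∀ {V W : Cᵒᵖ} (a : V ⟶ W) (t : T.P.obj.obj V),
      Q.P.obj.map a (ψ V t) = ψ W (T.P.obj.map a t) := by
    intro V W a t
    have h1 : Q.P.obj.map a (π.hom.hom.app V ((invHom m).hom.app V t)) =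
        π.hom.hom.app W ((GSheaf.trivial G).P.obj.map a ((invHom m).hom.app V t)) :=
      (NatTrans.naturality_apply π.hom.hom a ((invHom m).hom.app V t)).symm
    have h2 : (invHom m).hom.app W (T.P.obj.map a t) =
        (GSheaf.uSh G).obj.map a ((invHom m).hom.app V t) :=
      NatTrans.naturality_apply (invHom m).hom a t
    exact h1.trans (congrArg (π.hom.hom.app W) h2.symm)
  have hconst : ∀ V (t t' : T.P.obj.obj V), ψ V t = ψ V t' := by
    intro V t t'
    obtain ⟨f, hf, -⟩ := hTors.1 V t t'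
    subst hf
    exact (pi_eq_iff_inv hQ V _ _).mpr ⟨f, heq V f t⟩
  obtain ⟨c, hc⟩ := exists_section_of_const T.P Q.P hTors.2 ψ hnat hconst
  refine ⟨c, invHom m, hinj, ?_, heq⟩
  intro U g
  constructor
  · rintro ⟨t, rfl⟩
    exact (hc U t).symm
  · intro hg
    obtain ⟨S, hS, hne⟩ := hTors.2 U.unop
    have := exists_of_locally_exists (invHom m) hinj U (GSheaf.ofGrp g) S hS (by
      intro V a ha
      obtain ⟨t⟩ := hne a ha
      have h1 : π.hom.hom.app (op V) (GSheaf.ofGrp (G.obj.map a.op g)) = c.1 (op V) := by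
        rw [pi_map, hg]
        exact c.2 a.op
      have h2 : π.hom.hom.app (op V) ((invHom m).hom.app (op V) t) = c.1 (op V) :=
        (hc (op V) t).symm
      obtain ⟨f, hf⟩ := (pi_eq_iff_inv hQ (op V) _ _).mp (h2.trans h1.symm)
      refine ⟨T.smul f t, ?_⟩
      have h3 := heq (op V) f t
      exact h3.trans hf.symm)
    obtain ⟨t, ht⟩ := this
    exact ⟨t, ht⟩

end Boundary4

section Boundary5

variable [J.HasSheafCompose (forget GrpCat.{w})] {F G : Sheaf J GrpCat.{w}} (u : F ⟶ G)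
  {Q : GSheaf G} (π : GSheaf.trivial G ⟶ Q)

/-- the subfunctor of liftings of `c` -/
def fibreSub (c : Q.P.obj.sections) : Subfunctor (GSheaf.uSh G).obj where
  obj U := {g | π.hom.hom.app U g = c.1 U}
  map := by
    intro U V a g hg
    change π.hom.hom.app V ((GSheaf.uSh G).obj.map a g) = c.1 V
    have h1 := NatTrans.naturality_apply π.hom.hom a g
    have hg' : π.hom.hom.app U g = c.1 U := hg
    exact h1.trans ((congrArg (Q.P.obj.map a) hg').trans (c.2 a))

theorem fibreSub_isSheaf (c : Q.P.obj.sections) :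
    Presieve.IsSheaf J (fibreSub π c).toFunctor := by
  rw [Subfunctor.isSheaf_iff _ (isSheaf' (GSheaf.uSh G))]
  intro U g hg
  change π.hom.hom.app U g = c.1 U
  apply ext_of_covering Q.P _ hg
  intro V a ha
  have h1 : π.hom.hom.app (op V) ((GSheaf.uSh G).obj.map a.op g) = c.1 (op V) := ha
  have h2 := NatTrans.naturality_apply π.hom.hom a.op g
  exact h2.symm.trans (h1.trans (c.2 a.op).symm)

/-- the sheaf of liftings of `c` -/
def fibreSheaf (c : Q.P.obj.sections) : Sheaf J (Type w) :=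
  ⟨(fibreSub π c).toFunctor, (isSheaf_iff_isSheaf_of_type J _).mpr (fibreSub_isSheaf π c)⟩

variable {u π}

omit [J.HasSheafCompose (forget GrpCat.{w})] in
/-- naturality of `u` on sections -/
theorem u_map {U V : Cᵒᵖ} (a : U ⟶ V) (f : F.obj.obj U) :
    u.hom.app V (F.obj.map a f) = G.obj.map a (u.hom.app U f) :=
  NatTrans.naturality_apply u.hom a f

/-- the `F`-sheaf of liftings of `c`, with `f • g = g * u(f)⁻¹` -/
def fibreGSheaf (hQ : GSheaf.IsQuotientBy u π) (c : Q.P.obj.sections) : GSheaf F where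
  P := fibreSheaf π c
  smul {U} f t := ⟨GSheaf.ofGrp (GSheaf.toGrp t.1 * (u.hom.app U f)⁻¹), by
    have ht : π.hom.hom.app U (GSheaf.ofGrp (GSheaf.toGrp t.1)) = c.1 U := t.2
    change π.hom.hom.app U (GSheaf.ofGrp (GSheaf.toGrp t.1 * (u.hom.app U f)⁻¹)) = c.1 U
    rw [← ht]
    exact ((pi_eq_iff_inv hQ U _ _).mpr ⟨f, rfl⟩).symm⟩
  one_smul {U} t := by
    apply Subtype.ext
    change GSheaf.ofGrp (GSheaf.toGrp t.1 * (u.hom.app U 1)⁻¹) = t.1
    rw [map_one, inv_one, mul_one]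
  mul_smul {U} f h t := by
    apply Subtype.ext
    change GSheaf.ofGrp (GSheaf.toGrp t.1 * (u.hom.app U (f * h))⁻¹) =
      GSheaf.ofGrp (GSheaf.toGrp t.1 * (u.hom.app U h)⁻¹ * (u.hom.app U f)⁻¹)
    rw [map_mul, mul_inv_rev, mul_assoc]
  map_smul {U V} a f t := by
    apply Subtype.ext
    change GSheaf.ofGrp (G.obj.map a (GSheaf.toGrp t.1 * (u.hom.app U f)⁻¹)) =
      GSheaf.ofGrp (G.obj.map a (GSheaf.toGrp t.1) * (u.hom.app V (F.obj.map a f))⁻¹)
    rw [map_mul, map_inv, u_map]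

theorem fibreGSheaf_isFibreOver (hQ : GSheaf.IsQuotientBy u π) (c : Q.P.obj.sections) :
    GSheaf.IsFibreOver u π c (fibreGSheaf hQ c) := by
  refine ⟨⟨(fibreSub π c).ι⟩, ?_, ?_, ?_⟩
  · intro U t t' h
    exact Subtype.ext h
  · intro U g
    constructor
    · rintro ⟨t, rfl⟩
      exact t.2
    · intro hg
      exact ⟨⟨GSheaf.ofGrp g, hg⟩, rfl⟩
  · intro U f t
    rfl

end Boundary5

section Boundary6

variable [J.HasSheafCompose (forget GrpCat.{w})] {F G : Sheaf J GrpCat.{w}} {u : F ⟶ G}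
  {Q : GSheaf G} {π : GSheaf.trivial G ⟶ Q}

/-- the unit global section of `G` -/
def oneSection (G : Sheaf J GrpCat.{w}) : (GSheaf.uSh G).obj.sections :=
  ⟨fun U => GSheaf.ofGrp (1 : G.obj.obj U), by
    intro U V a
    change GSheaf.ofGrp (G.obj.map a (1 : G.obj.obj U)) = GSheaf.ofGrp 1
    rw [map_one]⟩

/-- The boundary of a global section of `G/F` is well defined. -/
theorem boundary_wellDefined (hu : ∀ U : Cᵒᵖ, Function.Injective (u.hom.app U))
    (hQ : GSheaf.IsQuotientBy u π) (c : Q.P.obj.sections) :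
    (∃ T : Torsor F, GSheaf.IsFibreOver u π c T.toGSheaf) ∧
      (∀ T : GSheaf F, GSheaf.IsFibreOver u π c T → T.IsTorsor) ∧
      ∀ T T' : GSheaf F, GSheaf.IsFibreOver u π c T →
        GSheaf.IsFibreOver u π c T' → Nonempty (T ≅ T') := by
  refine ⟨?_, fun T hT => isTorsor_of_isFibreOver hu hQ c T hT, ?_⟩
  · have h := fibreGSheaf_isFibreOver hQ c
    exact ⟨⟨fibreGSheaf hQ c, isTorsor_of_isFibreOver hu hQ c _ h⟩, h⟩
  · intro T T' hT hT'
    refine nonempty_iso_of_translate c c T T' hT hT' (oneSection G) ?_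
    intro U
    exact Q.one_smul _

end Boundary6

end Groth.Agent.Lib.Helper6.NonAb
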