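import Groth.Agent.Lib.Helper6.PnBun
import Groth.Prelude.Def_P1
import Mathlib

/-!
# Finite flat covers of `P^1_S` (helper6)

The fibres of a projective bundle are connected; hence a clopen subset of a finite flat finitely presented cover of
`P^1_S` containing the preimage of the zero section is everything.
-/

set_option backward.isDefEq.respectTransparency.types false
set_option autoImplicit false
set_option linter.style.haveILetI false
set_option linter.unusedSectionVars false
universe u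
open CategoryTheory CategoryTheory.Limits AlgebraicGeometry Opposite TopologicalSpace

noncomputable section
namespace Groth.Agent.Lib.Helper6.P1Fin

open Groth.Agent.Lib.Helper4.Bridge Groth.Agent.Lib.Helper6.PnChart Groth.Agent.Lib.Helper6.PnBun

section Fibre

variable {r : ℕ} {X T : Scheme.{u}} {q : X ⟶ Proj (gZ r)} {f : X ⟶ T}

/-- the fibres of a projective bundle are connected -/
theorem isPreconnected_fibre (h : IsBun r q f) (t : T) : _root_.IsPreconnected (f ⁻¹' {t}) := by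
  obtain ⟨θ, -, -⟩ := h.exists_fibre_chart t
  haveI : IsIntegral (CohB1.ProjSpace r (T.residueField t)) :=
    Groth.Agent.Lib.Helper8.P1Facts.isIntegral_projSpace r (T.residueField t)
  haveI : Nonempty ↥(f.fiber t) := Nonempty.map θ.inv inferInstance
  haveI : IsIntegral (f.fiber t) := isIntegral_of_isOpenImmersion θ.hom
  rw [← Scheme.Hom.range_fiberι]
  exact isPreconnected_range (f.fiberι t).continuous

/-- the fibres of a projective bundle are nonempty -/
theorem nonempty_fibre (h : IsBun r q f) (t : T) : (f ⁻¹' {t}).Nonempty := by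
  obtain ⟨θ, -, -⟩ := h.exists_fibre_chart t
  haveI : IsIntegral (CohB1.ProjSpace r (T.residueField t)) :=
    Groth.Agent.Lib.Helper8.P1Facts.isIntegral_projSpace r (T.residueField t)
  haveI : Nonempty ↥(f.fiber t) := Nonempty.map θ.inv inferInstance
  rw [← Scheme.Hom.range_fiberι]
  exact Set.range_nonempty _

end Fibre

variable (S : Scheme.{u})

theorem sect_toBase (i : Fin (1 + 1)) : P1.sect S i ≫ π 1 S = 𝟙 S := pullback.lift_snd _ _ _

theorem toBase_sect_apply (i : Fin (1 + 1)) (s : S) : (π 1 S) (P1.sect S i s) = s := by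
  rw [← Scheme.Hom.comp_apply, sect_toBase]
  rfl

variable {S}

/-- **S13906** -/
theorem eq_univ_of_isClopen {X : Scheme.{u}} (g : X ⟶ CohB1.ProjSpaceOver 1 S) [IsFinite g] [Flat g]
    [LocallyOfFinitePresentation g] (W : Set X) (hW : IsClopen W)
    (h0 : ∀ x : X, g x ∈ Set.range (P1.sect S 0) → x ∈ W) : W = Set.univ := by
  by_contra hne
  obtain ⟨x, hx⟩ := (Set.ne_univ_iff_exists_notMem W).1 hne
  have hZo : IsOpen (g '' Wᶜ) := g.isOpenMap _ hW.compl.isOpen
  have hZc : IsClosed (g '' Wᶜ) := g.isClosedMap _ hW.compl.isClosed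
  have hF : _root_.IsPreconnected (π 1 S ⁻¹' {π 1 S (g x)}) := isPreconnected_fibre (isBun_over 1 S) _
  have hsub := hF.subset_isClopen ⟨hZc, hZo⟩ ⟨g x, rfl, x, hx, rfl⟩
  have h1 : P1.sect S 0 (π 1 S (g x)) ∈ g '' Wᶜ := hsub (toBase_sect_apply S 0 _)
  obtain ⟨x', hx'W, hx'⟩ := h1
  exact hx'W (h0 x' ⟨_, hx'.symm⟩)

/-- **S13902** -/
theorem finrank_eq {X T : Scheme.{u}} (g : X ⟶ CohB1.ProjSpaceOver 1 S) (f : T ⟶ X)
    [IsFinite g] [Flat g] [LocallyOfFinitePresentation g]
    [IsFinite f] [Flat f] [LocallyOfFinitePresentation f] (r : ℕ)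
    (h : ∀ x : X, g x ∈ Set.range (P1.sect S 0) → f.finrank x = r) (x : X) :
    f.finrank x = r := by
  have hW : IsClopen {x : X | f.finrank x = r} :=
    (Scheme.Hom.isLocallyConstant_finrank f).isClopen_fiber r
  have := eq_univ_of_isClopen g _ hW h
  have hx : x ∈ {x : X | f.finrank x = r} := by rw [this]; trivial
  exact hx

/-- `P^1_S` is connected when `S` is -/
theorem preconnectedSpace_P1 [PreconnectedSpace S] : PreconnectedSpace ↥(CohB1.ProjSpaceOver 1 S) := by
  have hZ : _root_.IsPreconnected (Set.range (P1.sect S 0)) :=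
    isPreconnected_range (P1.sect S 0).continuous
  have hF : ∀ s : S, _root_.IsPreconnected (π 1 S ⁻¹' {s}) := fun s =>
    isPreconnected_fibre (isBun_over 1 S) s
  have hFZ : ∀ s : S, _root_.IsPreconnected (π 1 S ⁻¹' {s} ∪ Set.range (P1.sect S 0)) := fun s =>
    IsPreconnected.union (P1.sect S 0 s) (toBase_sect_apply S 0 s) ⟨s, rfl⟩ (hF s) hZ
  refine ⟨isPreconnected_of_forall_pair fun p₁ _ p₂ _ => ?_⟩
  refine ⟨(π 1 S ⁻¹' {π 1 S p₁} ∪ Set.range (P1.sect S 0)) ∪
    (π 1 S ⁻¹' {π 1 S p₂} ∪ Set.range (P1.sect S 0)), Set.subset_univ _, Or.inl (Or.inl rfl),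
    Or.inr (Or.inl rfl), ?_⟩
  exact IsPreconnected.union (P1.sect S 0 (π 1 S p₁)) (Or.inr ⟨_, rfl⟩) (Or.inr ⟨_, rfl⟩) (hFZ _) (hFZ _)

/-- **S13901** -/
theorem exists_mem_connectedComponent [PreconnectedSpace S] {X : Scheme.{u}}
    (f : X ⟶ CohB1.ProjSpaceOver 1 S) [IsFinite f] [Flat f] [LocallyOfFinitePresentation f]
    (x : X) (p : CohB1.ProjSpaceOver 1 S) : ∃ y ∈ connectedComponent x, f y = p := by
  classical
  haveI := preconnectedSpace_P1 (S := S)
  have hfin : (f ⁻¹' {p}).Finite := f.finite_preimage_singleton p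
  -- nonempty clopen subsets surject
  have hsurj : ∀ W : Set X, IsClopen W → W.Nonempty → ∃ y ∈ W, f y = p := by
    intro W hW hne
    have h1 : IsClopen (f '' W) := ⟨f.isClosedMap _ hW.isClosed, f.isOpenMap _ hW.isOpen⟩
    have h2 : f '' W = Set.univ := h1.eq_univ (hne.image _)
    have h3 : p ∈ f '' W := by rw [h2]; trivial
    obtain ⟨y, hy, hyp⟩ := h3
    exact ⟨y, hy, hyp⟩
  -- a clopen neighbourhood of `x` meeting the fibre over `p` in as few points as possible
  let n : Set X → ℕ := fun W => (W ∩ f ⁻¹' {p}).ncard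
  have hex : ∃ k, ∃ W : Set X, IsClopen W ∧ x ∈ W ∧ n W = k := ⟨_, Set.univ, isClopen_univ, trivial, rfl⟩
  obtain ⟨W₀, hW₀, hxW₀, hnW₀⟩ := Nat.find_spec hex
  have hmin : ∀ W : Set X, IsClopen W → x ∈ W → n W₀ ≤ n W := by
    intro W hW hxW
    rw [hnW₀]
    exact Nat.find_min' hex ⟨W, hW, hxW, rfl⟩
  -- splitting off a clopen piece not containing `x` is impossible
  have key : ∀ W' W'' : Set X, IsClopen W' → IsClopen W'' → W' ⊆ W₀ → W'' ⊆ W₀ → Disjoint W' W'' →
      x ∈ W' → W'' = ∅ := by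
    intro W' W'' hW' hW'' h1 h2 hdisj hxW'
    by_contra hne
    obtain ⟨y, hyW'', hyp⟩ := hsurj W'' hW'' (Set.nonempty_iff_ne_empty.2 hne)
    have hlt : n W' < n W₀ := by
      refine Set.ncard_lt_ncard ⟨Set.inter_subset_inter_left _ h1, fun hsub => ?_⟩
        (hfin.subset Set.inter_subset_right)
      have hy' : y ∈ W' ∩ f ⁻¹' {p} := hsub ⟨h2 hyW'', hyp⟩
      exact Set.disjoint_left.1 hdisj hy'.1 hyW''
    exact absurd (hmin W' hW' hxW') (not_le.2 hlt)
  have hpre : _root_.IsPreconnected W₀ := by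
    rw [isPreconnected_iff_subset_of_disjoint]
    intro u v hu hv huv hdisj
    have hc1 : IsClopen (W₀ ∩ u) := by
      refine ⟨?_, hW₀.isOpen.inter hu⟩
      have : W₀ ∩ u = W₀ ∩ vᶜ := by
        ext z
        constructor
        · rintro ⟨hz, hzu⟩
          exact ⟨hz, fun hzv => (Set.eq_empty_iff_forall_notMem.1 hdisj z) ⟨hz, hzu, hzv⟩⟩
        · rintro ⟨hz, hzv⟩
          exact ⟨hz, (huv hz).resolve_right hzv⟩
      rw [this]
      exact hW₀.isClosed.inter hv.isClosed_compl
    have hc2 : IsClopen (W₀ ∩ v) := by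
      refine ⟨?_, hW₀.isOpen.inter hv⟩
      have : W₀ ∩ v = W₀ ∩ uᶜ := by
        ext z
        constructor
        · rintro ⟨hz, hzv⟩
          exact ⟨hz, fun hzu => (Set.eq_empty_iff_forall_notMem.1 hdisj z) ⟨hz, hzu, hzv⟩⟩
        · rintro ⟨hz, hzu⟩
          exact ⟨hz, (huv hz).resolve_left hzu⟩
      rw [this]
      exact hW₀.isClosed.inter hu.isClosed_compl
    have hd : Disjoint (W₀ ∩ u) (W₀ ∩ v) := by
      rw [Set.disjoint_left]
      rintro z ⟨hz, hzu⟩ ⟨-, hzv⟩
      exact (Set.eq_empty_iff_forall_notMem.1 hdisj z) ⟨hz, hzu, hzv⟩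
    rcases huv hxW₀ with hxu | hxv
    · left
      have h0 := key (W₀ ∩ u) (W₀ ∩ v) hc1 hc2 Set.inter_subset_left Set.inter_subset_left hd ⟨hxW₀, hxu⟩
      intro z hz
      rcases huv hz with hzu | hzv
      · exact hzu
      · exact absurd (show z ∈ W₀ ∩ v from ⟨hz, hzv⟩) (by rw [h0]; exact Set.notMem_empty z)
    · right
      have h0 := key (W₀ ∩ v) (W₀ ∩ u) hc2 hc1 Set.inter_subset_left Set.inter_subset_left hd.symm
        ⟨hxW₀, hxv⟩
      intro z hz
      rcases huv hz with hzu | hzv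
      · exact absurd (show z ∈ W₀ ∩ u from ⟨hz, hzu⟩) (by rw [h0]; exact Set.notMem_empty z)
      · exact hzv
  obtain ⟨y, hyW₀, hyp⟩ := hsurj W₀ hW₀ ⟨x, hxW₀⟩
  exact ⟨y, hpre.subset_connectedComponent hxW₀ hyW₀, hyp⟩

end Groth.Agent.Lib.Helper6.P1Fin
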