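import Groth.Agent.Lib.Helper6.GeomH0
import Groth.Agent.Lib.Helper28.ProjSpaceBasic
import Mathlib

/-!
# Families of integral varieties over an algebraically closed field: `h⁰(X_y, O) = 1` (helper6)
-/

set_option backward.isDefEq.respectTransparency.types false
set_option autoImplicit false
set_option linter.style.haveILetI false
set_option linter.unusedSectionVars false
universe u
open CategoryTheory CategoryTheory.Limits AlgebraicGeometry Opposite TopologicalSpace TensorProduct

noncomputable section
namespace Groth.Agent.Lib.Helper6.PicAlgClosed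

open Groth.Agent.Lib.Helper28 Groth.Agent.Lib.Helper28.QCohLoc
  Groth.Agent.Lib.Helper28.GenLocus Groth.Agent.Lib.Helper28.PullbackInv
  Groth.Agent.Lib.Helper28.HomMod

section ResidueField

/-- the residue field at a closed point of a scheme locally of finite type over an algebraically closed field is
algebraically closed -/
theorem isAlgClosed_residueField (k : Type u) [Field k] [IsAlgClosed k] {Y : Scheme.{u}}
    (g : Y ⟶ Spec (CommRingCat.of k)) [LocallyOfFiniteType g] (z : Y) (hz : IsClosed ({z} : Set Y)) :
    IsAlgClosed (Y.residueField z) := by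
  haveI : JacobsonSpace Y := LocallyOfFiniteType.jacobsonSpace g
  let φ : CommRingCat.of k ⟶ Y.residueField z := Spec.preimage (Y.fromSpecResidueField z ≫ g)
  have hφ : Spec.map φ = Y.fromSpecResidueField z ≫ g := Spec.map_preimage _
  have hfin : IsFinite (Y.fromSpecResidueField z ≫ g) := by
    rw [isClosed_singleton_iff_isClosedImmersion] at hz
    rw [isFinite_iff_locallyOfFiniteType_of_jacobsonSpace]
    infer_instance
  have hint : φ.hom.IsIntegral := by
    have : IsIntegralHom (Spec.map φ) := by rw [hφ]; infer_instance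
    exact (IsIntegralHom.SpecMap_iff).1 this
  letI : Algebra k (Y.residueField z) := φ.hom.toAlgebra
  haveI : Algebra.IsIntegral k (Y.residueField z) := ⟨hint⟩
  have hb : Function.Bijective (algebraMap k (Y.residueField z)) :=
    IsAlgClosed.algebraMap_bijective_of_isIntegral
  exact IsAlgClosed.of_ringEquiv k (Y.residueField z) (RingEquiv.ofBijective _ hb)

end ResidueField

section H0

variable {X Y : Scheme.{u}} (f : X ⟶ Y) [IsProper f] [Flat f]
  (hint : ∀ y : Y, IsIntegral (f.fiber y))

include hint in
theorem fiberRank_structure_closed (k : Type u) [Field k] [IsAlgClosed k]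
    (g : Y ⟶ Spec (CommRingCat.of k)) [LocallyOfFiniteType g] (z : Y) (hz : IsClosed ({z} : Set Y)) :
    CohIII.fiberRank f (Coh.structureModule X) 0 z = 1 := by
  haveI := isAlgClosed_residueField k g z hz
  haveI := hint z
  letI : (f.fiber z).Over (Spec (CommRingCat.of ↑(Y.residueField z))) :=
    ⟨f.fiberToSpecResidueField z⟩
  haveI : IsProper ((f.fiber z) ↘ Spec (CommRingCat.of ↑(Y.residueField z))) :=
    inferInstanceAs (IsProper (f.fiberToSpecResidueField z))
  unfold CohIII.fiberRank
  let e1 : CohIII.fiberH f (Coh.structureModule X) z 0 ≃ₗ[Y.residueField z]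
      Coh.HH (f.fiber z) (Coh.structureModule (f.fiber z)) 0 :=
    ((Groth.Agent.Lib.Helper4.HHFun.HHfun (Y.residueField z) (X := f.fiber z) 0).mapIso
      (Groth.Agent.Lib.Helper16.RS.pullbackUnitIso (f.fiberι z))).toLinearEquiv
  rw [e1.finrank_eq]
  exact Groth.Agent.Lib.Helper6.GeomH0.finrank_HH_zero_eq_one (Y.residueField z) (f.fiber z)

include hint in
/-- **`h⁰(X_y, O) = 1` for all `y`** -/
theorem finrank_fibre_functions_eq_one (k : Type u) [Field k] [IsAlgClosed k]
    (g : Y ⟶ Spec (CommRingCat.of k)) [LocallyOfFiniteType g] (y : Y) :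
    Module.finrank (Y.residueField y) Γ(f.fiber y, ⊤) = 1 := by
  haveI : IsLocallyNoetherian Y := LocallyOfFiniteType.isLocallyNoetherian g
  haveI : JacobsonSpace Y := LocallyOfFiniteType.jacobsonSpace g
  have hO : PicF.IsInvertible (Coh.structureModule X) :=
    isInvertible_of_isGen _ fun x => ⟨⊤, oneSec X ⊤, trivial, isGen_oneSec ⊤⟩
  have husc := Groth.Agent.Lib.Helper6.FibreUSC.upperSemicontinuous_fiberRank f (Coh.structureModule X) hO 0
  have hcl : IsClosed ((fun y => CohIII.fiberRank f (Coh.structureModule X) 0 y) ⁻¹' Set.Ici 2) :=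
    (upperSemicontinuous_iff_isClosed_preimage.1 husc) 2
  have hempty : (fun y => CohIII.fiberRank f (Coh.structureModule X) 0 y) ⁻¹' Set.Ici 2 = ∅ := by
    by_contra hne
    have h1 := JacobsonSpace.closure_inter_closedPoints hcl
    have h2 : (((fun y => CohIII.fiberRank f (Coh.structureModule X) 0 y) ⁻¹' Set.Ici 2) ∩
        closedPoints Y).Nonempty := by
      by_contra h
      rw [Set.not_nonempty_iff_eq_empty] at h
      rw [h, closure_empty] at h1
      exact hne h1.symm
    obtain ⟨z, hz2, hz⟩ := h2
    have h3 := fiberRank_structure_closed f hint k g z hz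
    have h4 : 2 ≤ CohIII.fiberRank f (Coh.structureModule X) 0 z := hz2
    omega
  have hle : CohIII.fiberRank f (Coh.structureModule X) 0 y ≤ 1 := by
    by_contra h
    have : y ∈ (fun y => CohIII.fiberRank f (Coh.structureModule X) 0 y) ⁻¹' Set.Ici 2 := by
      show 2 ≤ CohIII.fiberRank f (Coh.structureModule X) 0 y
      omega
    rw [hempty] at this
    exact this
  haveI := hint y
  have hge : 1 ≤ CohIII.fiberRank f (Coh.structureModule X) 0 y := by
    have hP : PicF.IsInvertible (CohIII.fiberMod f (Coh.structureModule X) y) := isInvertible_pullback _ hO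
    haveI : IsDomain Γ(f.fiber y, ⊤) := inferInstance
    obtain ⟨s, hs⟩ := Groth.Agent.Lib.Helper6.FibreTriv.exists_section_ne_zero_of_iso _
      (Groth.Agent.Lib.Helper16.RS.pullbackUnitIso (f.fiberι y))
    exact Groth.Agent.Lib.Helper6.FibreTriv.one_le_fiberRank_of_section f y _
      (Groth.Agent.Lib.Helper6.K0Op.isCoh_of_isInvertible _ hP) s hs
  rw [← Groth.Agent.Lib.Helper6.PicReduced.fiberRank_zero_eq_of_iso f (Coh.structureModule X) y
    (Groth.Agent.Lib.Helper16.RS.pullbackUnitIso (f.fiberι y))]
  omega

end H0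

section Final

variable {X Y : Scheme.{u}} [IsIntegral Y] (f : X ⟶ Y) [IsProper f] [Flat f]
  (hint : ∀ y : Y, IsIntegral (f.fiber y))

include hint in
/-- **S10925** (for a proper flat `f`) -/
theorem pushforward_invertible_and_counit_isIso (k : Type u) [Field k] [IsAlgClosed k]
    (g : Y ⟶ Spec (CommRingCat.of k)) [LocallyOfFiniteType g] (E : X.Modules) (hE : PicF.IsInvertible E)
    (htriv : ∀ y : Y, Nonempty ((Scheme.Modules.pullback (f.fiberι y)).obj E ≅ Coh.structureModule (f.fiber y))) :
    PicF.IsInvertible ((Scheme.Modules.pushforward f).obj E) ∧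
      IsIso ((Scheme.Modules.pullbackPushforwardAdjunction f).counit.app E) := by
  haveI : IsLocallyNoetherian Y := LocallyOfFiniteType.isLocallyNoetherian g
  exact Groth.Agent.Lib.Helper6.PicReduced.main f (finrank_fibre_functions_eq_one f hint k g) E hE htriv

include hint in
/-- **S10926** (for a proper flat `f`) -/
theorem exists_iso_tensor_pullback (k : Type u) [Field k] [IsAlgClosed k]
    (g : Y ⟶ Spec (CommRingCat.of k)) [LocallyOfFiniteType g] (L M : X.Modules) (hL : PicF.IsInvertible L) (hM : PicF.IsInvertible M)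
    (hLM : ∀ y : Y, Nonempty ((Scheme.Modules.pullback (f.fiberι y)).obj L ≅
      (Scheme.Modules.pullback (f.fiberι y)).obj M)) :
    ∃ E : Y.Modules, PicF.IsInvertible E ∧
      Nonempty (L ≅ CohB1.tensorMod M ((Scheme.Modules.pullback f).obj E)) := by
  have hK : PicF.IsInvertible (dual M) := isInvertible_dual hM
  have hN : PicF.IsInvertible (CohB1.tensorMod L (dual M)) := isInvertible_tensorMod hL hK
  have htriv : ∀ y : Y, Nonempty ((Scheme.Modules.pullback (f.fiberι y)).obj (CohB1.tensorMod L (dual M)) ≅
      Coh.structureModule (f.fiber y)) := fun y => by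
    obtain ⟨α⟩ := hLM y
    exact Groth.Agent.Lib.Helper6.InvDual.nonempty_pullback_tensor_dual_iso (f.fiberι y) M L hM hL ⟨α.symm⟩
  obtain ⟨h1, h2⟩ := pushforward_invertible_and_counit_isIso f hint k g _ hN htriv
  haveI := h2
  refine ⟨_, h1, ?_⟩
  obtain ⟨μ⟩ := Groth.Agent.Lib.Helper6.InvDual.nonempty_iso_tensor_dual_tensor M L hM
  exact ⟨μ ≪≫ Groth.Agent.Lib.Helper6.K0Inv.braidIso _ _ ≪≫
    PicGrp.tensorModIso (Iso.refl M)
      (asIso ((Scheme.Modules.pullbackPushforwardAdjunction f).counit.app (CohB1.tensorMod L (dual M)))).symm⟩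

end Final

end Groth.Agent.Lib.Helper6.PicAlgClosed
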