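import Groth.Agent.Lib.Helper6.PicSpread
import Groth.Agent.Lib.Helper6.PicFibreA
import Mathlib

/-!
# Invertible modules isomorphic on a fibre are isomorphic near the fibre (helper6)

`f : X ⟶ Y` proper flat, `Y` locally noetherian, `H^1(X_y, O_{X_y}) = 0`, `L`, `M` invertible with `L_y ≅ M_y`:
then `L ≅ M` over `f⁻¹ U` for an open neighbourhood `U` of `y`.
-/

set_option backward.isDefEq.respectTransparency.types false
set_option autoImplicit false
set_option linter.style.haveILetI false
set_option linter.unusedSectionVars false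
universe u
open CategoryTheory CategoryTheory.Limits AlgebraicGeometry Opposite TopologicalSpace TensorProduct

noncomputable section
namespace Groth.Agent.Lib.Helper6.PicNear

open Groth.Agent.Lib.Helper28 Groth.Agent.Lib.Helper28.QCohLoc Groth.Agent.Lib.Helper28.GenLocus
  Groth.Agent.Lib.Helper28.PullbackInv Groth.Agent.Lib.Helper28.HomMod

variable {X Y : Scheme.{u}} (f : X ⟶ Y) [IsProper f] [Flat f] [IsLocallyNoetherian Y] (y : Y)

/-- the local form: triviality over `X ×_Y Spec O_{Y,y}` -/
theorem nonempty_iso_over_stalk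
    (h1 : Subsingleton (Coh.HH (f.fiber y) (Coh.structureModule (f.fiber y)) 1))
    (L M : X.Modules) (hL : PicF.IsInvertible L) (hM : PicF.IsInvertible M)
    (hy : Nonempty (CohIII.fiberMod f L y ≅ CohIII.fiberMod f M y)) :
    Nonempty ((Scheme.Modules.pullback (pullback.fst f (Y.fromSpecStalk y))).obj (CohB1.tensorMod M (dual L)) ≅
      Coh.structureModule (pullback f (Y.fromSpecStalk y))) := by
  have hK : PicF.IsInvertible (dual L) := isInvertible_dual hL
  have hN : PicF.IsInvertible (CohB1.tensorMod M (dual L)) := isInvertible_tensorMod hM hK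
  set N := CohB1.tensorMod M (dual L) with hNdef
  set g : Spec (Y.presheaf.stalk y) ⟶ Y := Y.fromSpecStalk y with hg
  set g' := pullback.fst f g with hg'
  set f' : pullback f g ⟶ Spec (CommRingCat.of (Y.presheaf.stalk y)) := pullback.snd f g with hf'
  haveI : IsProper f' := by rw [hf']; infer_instance
  haveI : Flat f' := by rw [hf']; infer_instance
  set ρ : Spec (CommRingCat.of (IsLocalRing.ResidueField (Y.presheaf.stalk y))) ⟶
      Spec (CommRingCat.of (Y.presheaf.stalk y)) :=
    Spec.map (CommRingCat.ofHom (IsLocalRing.residue (Y.presheaf.stalk y))) with hρ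
  set q : pullback f' ρ ⟶ X := pullback.fst f' ρ ≫ g' with hq
  -- the square over the residue field
  letI : (pullback f' ρ).Over (Spec (CommRingCat.of (IsLocalRing.ResidueField (Y.presheaf.stalk y)))) :=
    ⟨pullback.snd f' ρ⟩
  have hsq : IsPullback q (pullback f' ρ ↘ Spec (CommRingCat.of (IsLocalRing.ResidueField (Y.presheaf.stalk y))))
      f (ρ ≫ g) :=
    (IsPullback.of_hasPullback f' ρ).paste_horiz (IsPullback.of_hasPullback f g)
  have hpt : (ρ ≫ g) (IsLocalRing.closedPoint (IsLocalRing.ResidueField (Y.presheaf.stalk y))) = y := by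
    rw [Scheme.Hom.comp_apply]
    have h2 : ρ (IsLocalRing.closedPoint (IsLocalRing.ResidueField (Y.presheaf.stalk y))) =
        IsLocalRing.closedPoint (Y.presheaf.stalk y) := by
      apply PrimeSpectrum.ext
      change Ideal.comap (IsLocalRing.residue (Y.presheaf.stalk y))
        (IsLocalRing.maximalIdeal (IsLocalRing.ResidueField (Y.presheaf.stalk y))) =
          IsLocalRing.maximalIdeal (Y.presheaf.stalk y)
      rw [IsLocalRing.maximalIdeal_eq_bot, ← RingHom.ker_eq_comap_bot, IsLocalRing.ker_residue]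
    rw [h2]
    exact Scheme.fromSpecStalk_closedPoint
  haveI : (Coh.structureModule X).IsQuasicoherent :=
    Groth.Agent.Lib.Helper28.InvQC.isQuasicoherent_of_isInvertible _
      (Groth.Agent.Lib.Helper28.GenLocus.isInvertible_of_isGen _ fun x =>
        ⟨⊤, oneSec X ⊤, trivial, isGen_oneSec ⊤⟩)
  -- vanishing of `H^1` of the closed fibre of `f'`
  have hv1 : Subsingleton (CohIII.fiberH f (Coh.structureModule X) y 1) :=
    Groth.Agent.Lib.Helper4.VanClass.subsingleton_HH_of_iso
      (Groth.Agent.Lib.Helper16.RS.pullbackUnitIso (f.fiberι y)).symm 1 h1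
  have hv2 : Subsingleton (Coh.HH (pullback f' ρ) ((Scheme.Modules.pullback q).obj (Coh.structureModule X)) 1) := by
    refine (Groth.Agent.Lib.Helper6.FibreGlue.subsingleton_iff_of_point f (Coh.structureModule X) 1
      (IsLocalRing.ResidueField (Y.presheaf.stalk y)) (ρ ≫ g) _ q hsq).2 ?_
    rw [hpt]
    exact hv1
  have hv3 : Subsingleton (Coh.HH (pullback f' ρ) (Coh.structureModule _) 1) :=
    Groth.Agent.Lib.Helper4.VanClass.subsingleton_HH_of_iso
      (Groth.Agent.Lib.Helper16.RS.pullbackUnitIso q) 1 hv2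
  have hinj := Groth.Agent.Lib.Helper6.PicFibre.picPullbackInjective (Y.presheaf.stalk y) f' hv3
  -- the inverse image of `N` on the closed fibre is trivial
  have hw : q ≫ f = pullback.snd f' ρ ≫ Y.fromSpecResidueField y := by
    rw [hq, Category.assoc, hg', pullback.condition, ← hf', ← Category.assoc, pullback.condition, Category.assoc]
    rfl
  let t : pullback f' ρ ⟶ f.fiber y := pullback.lift q (pullback.snd f' ρ) hw
  have ht : t ≫ f.fiberι y = q := pullback.lift_fst _ _ _
  have hqLM := Groth.Agent.Lib.Helper6.InvDual.nonempty_pullback_iso_of_fac (f.fiberι y) t q ht L M hy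
  obtain ⟨ν⟩ := Groth.Agent.Lib.Helper6.InvDual.nonempty_pullback_tensor_dual_iso q L M hL hM hqLM
  refine hinj ((Scheme.Modules.pullback g').obj N) (isInvertible_pullback g' hN) ?_
  exact ⟨(Scheme.Modules.pullbackComp (pullback.fst f' ρ) g').app N ≪≫ ν⟩

/-- **S2388** -/
theorem main
    (h1 : Subsingleton (Coh.HH (f.fiber y) (Coh.structureModule (f.fiber y)) 1))
    (L M : X.Modules) (hL : PicF.IsInvertible L) (hM : PicF.IsInvertible M)
    (hy : Nonempty (CohIII.fiberMod f L y ≅ CohIII.fiberMod f M y)) :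
    ∃ U : Y.Opens, y ∈ U ∧ Nonempty (L.restrict (f ⁻¹ᵁ U).ι ≅ M.restrict (f ⁻¹ᵁ U).ι) := by
  have hK : PicF.IsInvertible (dual L) := isInvertible_dual hL
  have hN : PicF.IsInvertible (CohB1.tensorMod M (dual L)) := isInvertible_tensorMod hM hK
  obtain ⟨ε⟩ := nonempty_iso_over_stalk f y h1 L M hL hM hy
  obtain ⟨U, n, hyU, hn⟩ := Groth.Agent.Lib.Helper6.PicSpread.exists_open_isGen f y _ hN ε
  refine ⟨U, hyU, ?_⟩
  have hν := Groth.Agent.Lib.Helper6.PicSpread.nonempty_pullback_iso_of_isGen _ (f ⁻¹ᵁ U) n hn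
  obtain ⟨α⟩ := Groth.Agent.Lib.Helper6.InvDual.nonempty_pullback_iso_of_tensor_dual (f ⁻¹ᵁ U).ι L M hL hM hν
  exact ⟨(Scheme.Modules.restrictFunctorIsoPullback (f ⁻¹ᵁ U).ι).app L ≪≫ α ≪≫
    ((Scheme.Modules.restrictFunctorIsoPullback (f ⁻¹ᵁ U).ι).app M).symm⟩

end Groth.Agent.Lib.Helper6.PicNear
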