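import Groth.Agent.Lib.Helper6.GeomH0
import Mathlib

/-!
# The seesaw principle over a reduced Jacobson base (helper6)
-/

set_option backward.isDefEq.respectTransparency.types false
set_option autoImplicit false
set_option linter.style.haveILetI false
set_option linter.unusedSectionVars false
universe u
open CategoryTheory CategoryTheory.Limits AlgebraicGeometry Opposite TopologicalSpace TensorProduct

noncomputable section
namespace Groth.Agent.Lib.Helper6.PicSeesaw

open Groth.Agent.Lib.Helper28 Groth.Agent.Lib.Helper28.QCohLoc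
  Groth.Agent.Lib.Helper28.GenLocus Groth.Agent.Lib.Helper28.PullbackInv
  Groth.Agent.Lib.Helper28.HomMod

variable {X Y : Scheme.{u}} (f : X ⟶ Y)

theorem geometricallyConnected_of_geometricallyIntegral [GeometricallyIntegral f] :
    GeometricallyConnected f :=
  ⟨fun K _ y Z fst snd h => by
    haveI : IsIntegral Z := GeometricallyIntegral.geometrically_isIntegral y fst snd h
    infer_instance⟩

variable [IsProper f] [Flat f] [IsLocallyNoetherian Y] [IsReduced Y]

/-- fibrewise isomorphic invertible modules differ by a module from the base -/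
theorem exists_iso_tensor_pullback_of_fibrewise
    (h0 : ∀ y : Y, Module.finrank (Y.residueField y) Γ(f.fiber y, ⊤) = 1)
    (L M : X.Modules) (hL : PicF.IsInvertible L) (hM : PicF.IsInvertible M)
    (htriv : ∀ y : Y, Nonempty ((Scheme.Modules.pullback (f.fiberι y)).obj (CohB1.tensorMod L (dual M)) ≅
      Coh.structureModule (f.fiber y))) :
    ∃ E : Y.Modules, PicF.IsInvertible E ∧
      Nonempty (L ≅ CohB1.tensorMod M ((Scheme.Modules.pullback f).obj E)) := by
  have hK : PicF.IsInvertible (dual M) := isInvertible_dual hM
  have hN : PicF.IsInvertible (CohB1.tensorMod L (dual M)) := isInvertible_tensorMod hL hK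
  obtain ⟨h1, h2⟩ := Groth.Agent.Lib.Helper6.PicReduced.main f h0 _ hN htriv
  haveI := h2
  refine ⟨_, h1, ?_⟩
  obtain ⟨μ⟩ := Groth.Agent.Lib.Helper6.InvDual.nonempty_iso_tensor_dual_tensor M L hM
  exact ⟨μ ≪≫ Groth.Agent.Lib.Helper6.K0Inv.braidIso _ _ ≪≫
    PicGrp.tensorModIso (Iso.refl M)
      (asIso ((Scheme.Modules.pullbackPushforwardAdjunction f).counit.app (CohB1.tensorMod L (dual M)))).symm⟩

/-- **seesaw**: isomorphic on the fibres over the closed points of a Jacobson base -/
theorem seesaw_closedPoints [GeometricallyIntegral f] [JacobsonSpace Y]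
    (L M : X.Modules) (hL : PicF.IsInvertible L) (hM : PicF.IsInvertible M)
    (h : ∀ y : Y, IsClosed ({y} : Set Y) →
      Nonempty ((Scheme.Modules.pullback (f.fiberι y)).obj L ≅ (Scheme.Modules.pullback (f.fiberι y)).obj M)) :
    ∃ E : Y.Modules, PicF.IsInvertible E ∧
      Nonempty (L ≅ CohB1.tensorMod M ((Scheme.Modules.pullback f).obj E)) := by
  have hK : PicF.IsInvertible (dual M) := isInvertible_dual hM
  have hN : PicF.IsInvertible (CohB1.tensorMod L (dual M)) := isInvertible_tensorMod hL hK
  haveI := geometricallyConnected_of_geometricallyIntegral f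
  have hgeo : ∀ (K : Type u) [Field K] (x : Spec (CommRingCat.of K) ⟶ Y), IsIntegral (pullback f x) :=
    fun K _ x => GeometricallyIntegral.geometrically_isIntegral x (pullback.fst f x) (pullback.snd f x)
      (IsPullback.of_hasPullback f x)
  have hcl := Groth.Agent.Lib.Helper6.FibreTriv.isClosed_trivial_locus f hgeo _ hN
  have hall : {y : Y | Nonempty (CohIII.fiberMod f (CohB1.tensorMod L (dual M)) y ≅
      Coh.structureModule (f.fiber y))} = Set.univ := by
    have h1 : closedPoints Y ⊆ {y : Y | Nonempty (CohIII.fiberMod f (CohB1.tensorMod L (dual M)) y ≅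
        Coh.structureModule (f.fiber y))} := by
      intro y hy
      obtain ⟨α⟩ := h y hy
      exact Groth.Agent.Lib.Helper6.InvDual.nonempty_pullback_tensor_dual_iso (f.fiberι y) M L hM hL ⟨α.symm⟩
    have h2 := closure_mono h1
    rw [closure_closedPoints, hcl.closure_eq] at h2
    exact Set.eq_univ_of_univ_subset h2
  refine exists_iso_tensor_pullback_of_fibrewise f
    (fun y => Groth.Agent.Lib.Helper6.GeomH0.finrank_fibre_functions_eq_one f y) L M hL hM fun y => ?_
  have : y ∈ {y : Y | Nonempty (CohIII.fiberMod f (CohB1.tensorMod L (dual M)) y ≅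
      Coh.structureModule (f.fiber y))} := by rw [hall]; trivial
  exact this

end Groth.Agent.Lib.Helper6.PicSeesaw
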