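import Groth.Agent.Lib.Helper6.PicSpread
import Groth.Agent.Lib.Helper17.GGStalk
import Groth.Agent.Lib.Helper28.AmpleGG
import Groth.Agent.Lib.Helper28.RestrictGen
import Mathlib

/-!
# Spreading out global generation of an invertible module from the local ring of a point (helper6)
-/

set_option backward.isDefEq.respectTransparency.types false
set_option autoImplicit false
set_option linter.style.haveILetI false
set_option linter.unusedSectionVars false
universe u
open CategoryTheory CategoryTheory.Limits AlgebraicGeometry Opposite TopologicalSpace TensorProduct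

noncomputable section
namespace Groth.Agent.Lib.Helper6.PicSpreadGG

open Groth.Agent.Lib.Helper28 Groth.Agent.Lib.Helper28.QCohLoc Groth.Agent.Lib.Helper28.GenLocus
  Groth.Agent.Lib.Helper28.PullbackInv Groth.Agent.Lib.Helper17.FlatMV Groth.Agent.Lib.Helper17.FlatBC
  Groth.Agent.Lib.Helper17.InvDescLoc Groth.Agent.Lib.Helper21.ThickDict Groth.Agent.Lib.Helper6.PicSpread

variable {X Y : Scheme.{u}} (f : X ⟶ Y) [IsProper f] (y : Y)

/-- a global section of the inverse image of `N` on `X ×_Y Spec O_{Y,y}` generating at a point `p'` comes, up to a unit,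
from a section of `N` over `f⁻¹ V` which generates near the image of `p'` -/
theorem exists_section_isGen_nbhd (N : X.Modules) (hN : PicF.IsInvertible N)
    {V : Y.Opens} (hV : IsAffineOpen V) (hyV : y ∈ V)
    (T : Coh.structureModule (pullback f (Y.fromSpecStalk y)) ⟶
      (Scheme.Modules.pullback (pullback.fst f (Y.fromSpecStalk y))).obj N)
    (p' : ↥(pullback f (Y.fromSpecStalk y))) (hp'T : p' ∈ CohB1.genLocus _ T)
    (hp'V : pullback.fst f (Y.fromSpecStalk y) p' ∈ f ⁻¹ᵁ V) :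
    ∃ (n : Γ(N, f ⁻¹ᵁ V)) (O : X.Opens) (hO : O ≤ f ⁻¹ᵁ V),
      pullback.fst f (Y.fromSpecStalk y) p' ∈ O ∧ IsGen N O (res N hO n) := by
  haveI : N.IsQuasicoherent := Groth.Agent.Lib.Helper28.InvQC.isQuasicoherent_of_isInvertible N hN
  revert T p'
  set g := Y.fromSpecStalk y with hg
  set g' := pullback.fst f g with hg'
  set f' := pullback.snd f g with hf'
  intro T p' hp'T hp'V
  have h : IsPullback g' f' f g := IsPullback.of_hasPullback f g
  have e : (⊤ : (Spec (Y.presheaf.stalk y)).Opens) ≤ g ⁻¹ᵁ V := top_le_preimage_fromSpecStalk y V hyV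
  have hW' : IsAffineOpen (⊤ : (Spec (Y.presheaf.stalk y)).Opens) := isAffineOpen_top _
  haveI : Flat g := Groth.Agent.Lib.Helper5.StalkBC.flat_fromSpecStalk Y y
  have hflat : (g.appLE V ⊤ e).hom.Flat := Flat.flat_appLE g hV hW' e
  have hUc : IsCompact ((f ⁻¹ᵁ V : X.Opens) : Set X) :=
    QuasiCompact.isCompact_preimage (f := f) _ V.2 hV.isCompact
  have hbij := linBij_of_isCompact f g g' f' h e N hV hW' hflat (f ⁻¹ᵁ V) hUc le_rfl
  set D' : (pullback f g).Opens := pr g' f' (⊤ : (Spec (Y.presheaf.stalk y)).Opens) (f ⁻¹ᵁ V) with hD'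
  obtain ⟨s, n, hs, hsn⟩ := exists_of_linBij (g.appLE V ⊤ e).hom _ hbij (exists_unit_mul_eq y hV hyV e)
    (show SecOver f' (⊤ : (Spec (Y.presheaf.stalk y)).Opens) ((Scheme.Modules.pullback g').obj N) D'
      (pr_le_right g' f' _) from res _ (le_top : D' ≤ ⊤) (secOf T))
  have h1 : res ((Scheme.Modules.pullback g').obj N) (pr_le_left g' f' (f ⁻¹ᵁ V)) (pbs g' N (f ⁻¹ᵁ V) n) =
      (((f'.appLE ⊤ D' (pr_le_right g' f' _)).hom ((g.appLE V ⊤ e).hom s)) •
        res _ (le_top : D' ≤ ⊤) (secOf T) : Γ((Scheme.Modules.pullback g').obj N, D')) := hsn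
  set D'' : (pullback f g).Opens := D' ⊓ CohB1.genLocus _ T with hD''
  have hD''1 : D'' ≤ D' := inf_le_left
  have hD''2 : D'' ≤ CohB1.genLocus _ T := inf_le_right
  have hgenT : IsGen ((Scheme.Modules.pullback g').obj N) D'' (res _ (le_top : D'' ≤ ⊤) (secOf T)) := by
    have := (isGen_genLocus T).res hD''2
    rw [res_res] at this
    exact this
  have hgen : IsGen ((Scheme.Modules.pullback g').obj N) D''
      (res _ (hD''1.trans (pr_le_left g' f' (f ⁻¹ᵁ V))) (pbs g' N (f ⁻¹ᵁ V) n)) := by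
    have h2 : res ((Scheme.Modules.pullback g').obj N) (hD''1.trans (pr_le_left g' f' (f ⁻¹ᵁ V)))
        (pbs g' N (f ⁻¹ᵁ V) n) =
        (resO hD''1 ((f'.appLE ⊤ D' (pr_le_right g' f' _)).hom ((g.appLE V ⊤ e).hom s)) •
          res _ (le_top : D'' ≤ ⊤) (secOf T) : Γ((Scheme.Modules.pullback g').obj N, D'')) := by
      rw [← res_res _ (pr_le_left g' f' (f ⁻¹ᵁ V)) hD''1, h1, res_smul, res_res]
    rw [h2]
    exact IsGen.smul_unit hgenT _ ((hs.map _).map _)
  have hp'D : p' ∈ D'' := ⟨⟨hp'V, trivial⟩, hp'T⟩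
  obtain ⟨O, hO, hpO, hOgen⟩ := exists_isGen_nbhd_of_isGen_pbs g' N hN (f ⁻¹ᵁ V) n D''
    (hD''1.trans (pr_le_left g' f' (f ⁻¹ᵁ V))) hgen p' hp'D
  exact ⟨n, O, hO, hpO, hOgen⟩

/-- **S12489**: global generation spreads out from `X ×_Y Spec O_{Y,y}` -/
theorem main (L : X.Modules) (hL : PicF.IsInvertible L)
    (h : Curv2.IsGloballyGenerated
      ((Scheme.Modules.pullback (pullback.fst f (Y.fromSpecStalk y))).obj L)) :
    ∃ V : Y.Opens, y ∈ V ∧ Curv2.IsGloballyGenerated (L.restrict (f ⁻¹ᵁ V).ι) := by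
  obtain ⟨V, hV, hyV, -⟩ := Opens.isBasis_iff_nbhd.mp Y.isBasis_affineOpens
    (show y ∈ (⊤ : Y.Opens) from trivial)
  have hL' : PicF.IsInvertible ((Scheme.Modules.pullback (pullback.fst f (Y.fromSpecStalk y))).obj L) :=
    isInvertible_pullback _ hL
  -- local data at the points of the fibre
  have hloc : ∀ x : X, f x = y → ∃ (n : Γ(L, f ⁻¹ᵁ V)) (O : X.Opens) (hO : O ≤ f ⁻¹ᵁ V),
      x ∈ O ∧ IsGen L O (res L hO n) := by
    intro x hx
    have hgy : (Y.fromSpecStalk y) (IsLocalRing.closedPoint (Y.presheaf.stalk y)) = y :=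
      Scheme.fromSpecStalk_closedPoint
    obtain ⟨p', hp'1, -⟩ := Scheme.Pullback.exists_preimage_pullback (f := f) (g := Y.fromSpecStalk y) x
      (IsLocalRing.closedPoint (Y.presheaf.stalk y)) (hx.trans hgy.symm)
    obtain ⟨T, hT⟩ := Groth.Agent.Lib.Helper17.GGStalk.exists_mem_genLocus _ hL' h p'
    have hp'V : pullback.fst f (Y.fromSpecStalk y) p' ∈ f ⁻¹ᵁ V := by
      show f (pullback.fst f (Y.fromSpecStalk y) p') ∈ V
      rw [hp'1, hx]
      exact hyV
    obtain ⟨n, O, hO, hpO, hOgen⟩ := exists_section_isGen_nbhd f y L hL hV hyV T p' hT hp'V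
    rw [hp'1] at hpO
    exact ⟨n, O, hO, hpO, hOgen⟩
  -- the open set of points near which some section over `f⁻¹ V` generates
  let G : X.Opens := sSup {O : X.Opens | ∃ (n : Γ(L, f ⁻¹ᵁ V)) (hO : O ≤ f ⁻¹ᵁ V), IsGen L O (res L hO n)}
  have hfib : ∀ x : X, f x = y → x ∈ G := by
    intro x hx
    obtain ⟨n, O, hO, hxO, hOgen⟩ := hloc x hx
    exact (le_sSup (show O ∈ {O : X.Opens | ∃ (n : Γ(L, f ⁻¹ᵁ V)) (hO : O ≤ f ⁻¹ᵁ V),
      IsGen L O (res L hO n)} from ⟨n, hO, hOgen⟩)) hxO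
  have hclosed : IsClosed (f '' ((G : Set X)ᶜ)) := f.isClosedMap _ G.2.isClosed_compl
  let U₀ : Y.Opens := ⟨(f '' ((G : Set X)ᶜ))ᶜ, hclosed.isOpen_compl⟩
  have hyU₀ : y ∈ U₀ := by
    rintro ⟨x, hxG, hxy⟩
    exact hxG (hfib x hxy)
  refine ⟨V ⊓ U₀, ⟨hyV, hyU₀⟩, ?_⟩
  set W : X.Opens := f ⁻¹ᵁ (V ⊓ U₀) with hW
  have hWV : W ≤ f ⁻¹ᵁ V := f.preimage_mono inf_le_left
  have hle : W ≤ G := by
    intro x hx
    by_contra hxG
    exact hx.2 ⟨x, hxG, rfl⟩
  refine Groth.Agent.Lib.Helper28.GenLocus.isGloballyGenerated_of_cover _ ?_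
  intro z
  obtain ⟨O, ⟨n, hO, hOgen⟩, hzO⟩ := Opens.mem_sSup.1 (hle (show W.ι z ∈ W from z.2))
  have htop : W.ι ''ᵁ (⊤ : W.toScheme.Opens) ≤ f ⁻¹ᵁ V := by
    rw [Scheme.Opens.ι_image_top]
    exact hWV
  let τ : Γ(L.restrict W.ι, ⊤) := (show Γ(L, W.ι ''ᵁ ⊤) from res L htop n)
  refine ⟨TwistGen.ofSection _ τ, ?_⟩
  set Gz : W.toScheme.Opens := W.ι ⁻¹ᵁ O with hGz
  have hGzO : W.ι ''ᵁ Gz ≤ O := by
    rintro _ ⟨w, hw, rfl⟩
    exact hw
  have hgen1 : IsGen L (W.ι ''ᵁ Gz) (res L (hGzO.trans hO) n) := by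
    have := hOgen.res hGzO
    rw [res_res] at this
    exact this
  have hgen2 := isGen_restrict_of_isGen L W (V := Gz) _ hgen1
  have hgen3 : IsGen (L.restrict W.ι) Gz
      (res (L.restrict W.ι) (le_top : Gz ≤ ⊤) (secOf (TwistGen.ofSection (L.restrict W.ι) τ))) := by
    rw [secOf_ofSection]
    have : res (L.restrict W.ι) (le_top : Gz ≤ ⊤) τ =
        (show Γ(L.restrict W.ι, Gz) from res L (hGzO.trans hO) n) := by
      rw [restrict_res]
      show res L (W.ι.image_mono (le_top : Gz ≤ ⊤)) (res L htop n) = res L (hGzO.trans hO) n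
      rw [res_res]
    rw [this]
    exact hgen2
  exact (le_genLocus_of_isGen_res _ Gz hgen3) (show z ∈ Gz from hzO)

end Groth.Agent.Lib.Helper6.PicSpreadGG
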