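import Groth.Agent.Lib.Helper6.PnBridge
import Groth.Agent.Lib.Helper6.FibreTriv
import Groth.Agent.Lib.Helper28.TwistCov
import Mathlib

/-!
# The bridge isomorphism is compatible with all twists (helper6)
-/

set_option backward.isDefEq.respectTransparency.types false
set_option autoImplicit false
set_option linter.style.haveILetI false
set_option linter.unusedSectionVars false
universe u
open CategoryTheory CategoryTheory.Limits AlgebraicGeometry Opposite TopologicalSpace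

noncomputable section
namespace Groth.Agent.Lib.Helper6.PnBridge

open Groth.Agent.Lib.Helper28 Groth.Agent.Lib.Helper28.QCohLoc Groth.Agent.Lib.Helper28.GenLocus
  Groth.Agent.Lib.Helper28.PullbackInv Groth.Agent.Lib.Helper4.Bridge Groth.Agent.Lib.Helper28.HomMod

section Family

variable {T : Scheme.{u}} (F₁ F₂ : ℤ → T.Modules)

/-- two `ℤ`-indexed multiplicative families of invertible modules agreeing in degree one agree in all degrees -/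
theorem family_iso
    (inv₁ : ∀ d, PicF.IsInvertible (F₁ d))
    (mul₁ : ∀ m n, Nonempty (CohB1.tensorMod (F₁ m) (F₁ n) ≅ F₁ (m + n)))
    (mul₂ : ∀ m n, Nonempty (CohB1.tensorMod (F₂ m) (F₂ n) ≅ F₂ (m + n)))
    (zero₁ : Nonempty (F₁ 0 ≅ Coh.structureModule T))
    (zero₂ : Nonempty (F₂ 0 ≅ Coh.structureModule T))
    (one : Nonempty (F₁ 1 ≅ F₂ 1)) (d : ℤ) : Nonempty (F₁ d ≅ F₂ d) := by
  have hnat : ∀ n : ℕ, Nonempty (F₁ (n : ℤ) ≅ F₂ (n : ℤ)) := by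
    intro n
    induction n with
    | zero =>
      obtain ⟨z₁⟩ := zero₁
      obtain ⟨z₂⟩ := zero₂
      rw [Nat.cast_zero]
      exact ⟨z₁ ≪≫ z₂.symm⟩
    | succ n ih =>
      obtain ⟨α⟩ := ih
      obtain ⟨β⟩ := one
      obtain ⟨m₁⟩ := mul₁ (n : ℤ) 1
      obtain ⟨m₂⟩ := mul₂ (n : ℤ) 1
      rw [Nat.cast_succ]
      exact ⟨m₁.symm ≪≫ PicGrp.tensorModIso α β ≪≫ m₂⟩
  rcases Int.eq_nat_or_neg d with ⟨n, rfl | rfl⟩
  · exact hnat n
  · obtain ⟨α⟩ := hnat n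
    obtain ⟨z₁⟩ := zero₁
    obtain ⟨z₂⟩ := zero₂
    obtain ⟨m₁⟩ := mul₁ (n : ℤ) (-(n : ℤ))
    obtain ⟨m₂⟩ := mul₂ (n : ℤ) (-(n : ℤ))
    rw [add_neg_cancel] at m₁ m₂
    obtain ⟨q₁⟩ := Groth.Agent.Lib.Helper6.FibreTriv.nonempty_iso_dual_of_tensor_iso (F₁ (n : ℤ)) (F₁ (-(n : ℤ)))
      (inv₁ _) (m₁ ≪≫ z₁)
    obtain ⟨q₂⟩ := Groth.Agent.Lib.Helper6.FibreTriv.nonempty_iso_dual_of_tensor_iso (F₁ (n : ℤ)) (F₂ (-(n : ℤ)))
      (inv₁ _) (PicGrp.tensorModIso α (Iso.refl _) ≪≫ m₂ ≪≫ z₂)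
    exact ⟨q₁ ≪≫ q₂.symm⟩

end Family

section Twists

variable {R₁ A₁ : Type u} [CommRing R₁] [CommRing A₁] [Algebra R₁ A₁] (𝒜₁ : ℕ → Submodule R₁ A₁) [GradedAlgebra 𝒜₁]
  {R₂ A₂ : Type u} [CommRing R₂] [CommRing A₂] [Algebra R₂ A₂] (𝒜₂ : ℕ → Submodule R₂ A₂) [GradedAlgebra 𝒜₂]
  (hcov₁ : ∀ x : Proj 𝒜₁, ∃ f : A₁, f ∈ 𝒜₁ 1 ∧ x ∈ Proj.basicOpen 𝒜₁ f)
  (hcov₂ : ∀ x : Proj 𝒜₂, ∃ f : A₂, f ∈ 𝒜₂ 1 ∧ x ∈ Proj.basicOpen 𝒜₂ f)
  {T : Scheme.{u}} (a : T ⟶ Proj 𝒜₁) (b : T ⟶ Proj 𝒜₂)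

include hcov₁ in
theorem pullback_twist_mul (m n : ℤ) :
    Nonempty (CohB1.tensorMod ((Scheme.Modules.pullback a).obj (Twist.twist 𝒜₁ m))
      ((Scheme.Modules.pullback a).obj (Twist.twist 𝒜₁ n)) ≅
        (Scheme.Modules.pullback a).obj (Twist.twist 𝒜₁ (m + n))) := by
  obtain ⟨ψ, -⟩ := exists_pullback_tensorMod_iso a (TwistCov.isInvertible_twist 𝒜₁ hcov₁ m)
    (TwistCov.isInvertible_twist 𝒜₁ hcov₁ n)
  obtain ⟨μ⟩ := TwistCov.nonempty_tensor_iso 𝒜₁ hcov₁ m n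
  exact ⟨ψ.symm ≪≫ (Scheme.Modules.pullback a).mapIso μ⟩

include hcov₁ in
theorem pullback_twist_zero :
    Nonempty ((Scheme.Modules.pullback a).obj (Twist.twist 𝒜₁ 0) ≅ Coh.structureModule T) := by
  obtain ⟨z⟩ := TwistCov.nonempty_twist_zero_iso 𝒜₁ hcov₁
  rw [Nat.cast_zero] at z
  exact ⟨(Scheme.Modules.pullback a).mapIso z ≪≫ Groth.Agent.Lib.Helper16.RS.pullbackUnitIso a⟩

include hcov₁ hcov₂ in
/-- if `a^* O(1) ≅ b^* O(1)` then `a^* O(d) ≅ b^* O(d)` for all `d` -/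
theorem pullback_twist_iso
    (one : Nonempty ((Scheme.Modules.pullback a).obj (Twist.twist 𝒜₁ 1) ≅
      (Scheme.Modules.pullback b).obj (Twist.twist 𝒜₂ 1))) (d : ℤ) :
    Nonempty ((Scheme.Modules.pullback a).obj (Twist.twist 𝒜₁ d) ≅
      (Scheme.Modules.pullback b).obj (Twist.twist 𝒜₂ d)) :=
  family_iso (fun d => (Scheme.Modules.pullback a).obj (Twist.twist 𝒜₁ d))
    (fun d => (Scheme.Modules.pullback b).obj (Twist.twist 𝒜₂ d))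
    (fun d => isInvertible_pullback a (TwistCov.isInvertible_twist 𝒜₁ hcov₁ d))
    (pullback_twist_mul 𝒜₁ hcov₁ a) (pullback_twist_mul 𝒜₂ hcov₂ b)
    (pullback_twist_zero 𝒜₁ hcov₁ a) (pullback_twist_zero 𝒜₂ hcov₂ b) one d

end Twists

variable (N : ℕ) (B : Type u) [CommRing B]

/-- **the bridge isomorphism, with all twists** -/
theorem exists_iso_all :
    ∃ (e : CohB1.ProjSpaceOver N (SB B) ≅ CohB1.ProjSpace N B),
      e.hom ≫ CohB1.ProjSpace.toSpec N B = CohB1.ProjSpaceOver.toBase N (SB B) ∧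
      ∀ d : ℤ, Nonempty ((Scheme.Modules.pullback e.hom).obj (Twist.twistProjSpace N B d) ≅
        Twist.twistOver N (SB B) d) := by
  obtain ⟨e, he, h1⟩ := exists_iso N B
  exact ⟨e, he, fun d => pullback_twist_iso (CohB1.polyGrading N B) (gZ N)
    (VeryAmpleImm.projSpace_cover N B) (VeryAmpleImm.projSpace_cover N Zu) e.hom (pr₁ N (SB B)) h1 d⟩

end Groth.Agent.Lib.Helper6.PnBridge
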