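import Groth.Agent.Lib.Helper6.PnFlat
import Mathlib

/-!
# Projective bundles obtained by base change from `P^r_ℤ` (helper6)

A pair `q : X ⟶ P^r_ℤ`, `f : X ⟶ T` forming a cartesian square over `Spec ℤ` exhibits `X` as projective `r`-space
over `T`, with twists `q^* O(d)`.  Such pairs are stable under base change, so the fibres, the stages of a Noetherian
approximation, etc. are again of this form.
-/

set_option backward.isDefEq.respectTransparency.types false
set_option autoImplicit false
set_option linter.style.haveILetI false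
set_option linter.unusedSectionVars false
universe u
open CategoryTheory CategoryTheory.Limits AlgebraicGeometry Opposite TopologicalSpace

noncomputable section
namespace Groth.Agent.Lib.Helper6.PnBun

open Groth.Agent.Lib.Helper28 Groth.Agent.Lib.Helper28.QCohLoc Groth.Agent.Lib.Helper28.GenLocus
  Groth.Agent.Lib.Helper28.PullbackInv Groth.Agent.Lib.Helper28.HomMod
open Groth.Agent.Lib.Helper4.Bridge Groth.Agent.Lib.Helper6.PnChart Groth.Agent.Lib.Helper6.PnFlat

variable (r : ℕ) {X T : Scheme.{u}} (q : X ⟶ Proj (gZ r)) (f : X ⟶ T)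

/-- `(q, f)` exhibits `X` as projective `r`-space over `T` -/
def IsBun : Prop :=
  IsPullback q f (CohB1.ProjSpace.toSpec r Zu) (specULiftZIsTerminal.from T)

/-- the twisting sheaves of a bundle -/
abbrev tw (d : ℤ) : X.Modules := (Scheme.Modules.pullback q).obj (Twist.twistProjSpace r Zu d)

theorem isBun_over (Y : Scheme.{u}) : IsBun r (pr₁ r Y) (π r Y) := IsPullback.of_hasPullback _ _

theorem tw_over (Y : Scheme.{u}) (d : ℤ) : tw r (pr₁ r Y) d = Twist.twistOver r Y d := rfl

variable {r q f}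

/-- stability under base change -/
theorem IsBun.baseChange (h : IsBun r q f) {X' T' : Scheme.{u}} (g' : X' ⟶ X) (f' : X' ⟶ T') (g : T' ⟶ T)
    (h' : IsPullback g' f' f g) : IsBun r (g' ≫ q) f' := by
  have h3 := h'.paste_horiz h
  have : g ≫ specULiftZIsTerminal.from T = specULiftZIsTerminal.from T' :=
    specULiftZIsTerminal.hom_ext _ _
  rwa [this] at h3

/-- a bundle is isomorphic to the standard one -/
theorem IsBun.exists_iso (h : IsBun r q f) :
    ∃ χ : X ≅ CohB1.ProjSpaceOver r T, χ.hom ≫ pr₁ r T = q ∧ χ.hom ≫ π r T = f :=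
  ⟨h.isoPullback, h.isoPullback_hom_fst, h.isoPullback_hom_snd⟩

/-- twists and composition -/
def twComp {X' : Scheme.{u}} (g' : X' ⟶ X) (d : ℤ) :
    (Scheme.Modules.pullback g').obj (tw r q d) ≅ tw r (g' ≫ q) d :=
  (Scheme.Modules.pullbackComp g' q).app (Twist.twistProjSpace r Zu d)

/-- twists and equal morphisms -/
def twCongr {q' : X ⟶ Proj (gZ r)} (e : q = q') (d : ℤ) : tw r q d ≅ tw r q' d :=
  (Scheme.Modules.pullbackCongr e).app (Twist.twistProjSpace r Zu d)

theorem isInvertible_tw (q : X ⟶ Proj (gZ r)) (d : ℤ) : PicF.IsInvertible (tw r q d) :=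
  isInvertible_pullback _ (TwistCov.isInvertible_twist (gZ r) (VeryAmpleImm.projSpace_cover r Zu) d)

theorem nonempty_tw_mul (q : X ⟶ Proj (gZ r)) (m n : ℤ) :
    Nonempty (CohB1.tensorMod (tw r q m) (tw r q n) ≅ tw r q (m + n)) :=
  Groth.Agent.Lib.Helper6.PnBridge.pullback_twist_mul (gZ r) (VeryAmpleImm.projSpace_cover r Zu) q m n

theorem nonempty_tw_zero (q : X ⟶ Proj (gZ r)) :
    Nonempty (tw r q 0 ≅ Coh.structureModule X) :=
  Groth.Agent.Lib.Helper6.PnBridge.pullback_twist_zero (gZ r) (VeryAmpleImm.projSpace_cover r Zu) q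

/-- **charts**: a bundle over `Spec B` is `Proj B[T]`, compatibly with twists -/
theorem IsBun.exists_chart {B : Type u} [CommRing B] {f : X ⟶ SB B} (h : IsBun r q f) :
    ∃ θ : X ≅ CohB1.ProjSpace r B, θ.hom ≫ CohB1.ProjSpace.toSpec r B = f ∧
      ∀ d : ℤ, Nonempty (tw r q d ≅
        (Scheme.Modules.pullback θ.hom).obj (Twist.twistProjSpace r B d)) := by
  obtain ⟨χ, hχ, hχ2⟩ := h.exists_iso
  obtain ⟨e, he1, he⟩ := Groth.Agent.Lib.Helper6.PnBridge.exists_iso_all r B
  refine ⟨χ ≪≫ e, ?_, fun d => ?_⟩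
  · rw [Iso.trans_hom, Category.assoc, he1, hχ2]
  obtain ⟨κ⟩ := he d
  exact ⟨(Scheme.Modules.pullbackCongr hχ.symm).app (Twist.twistProjSpace r Zu d) ≪≫
    ((Scheme.Modules.pullbackComp χ.hom (pr₁ r (SB B))).app (Twist.twistProjSpace r Zu d)).symm ≪≫
    (Scheme.Modules.pullback χ.hom).mapIso κ.symm ≪≫
    (Scheme.Modules.pullbackComp χ.hom e.hom).app (Twist.twistProjSpace r B d)⟩

section Props

variable (h : IsBun r q f)
include h

theorem IsBun.isProper : IsProper f :=
  MorphismProperty.of_isPullback (P := @IsProper) h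
    (Groth.Agent.Lib.Helper28.ProjSpaceBasic.isProper_toSpec r Zu)

theorem IsBun.flat : Flat f := by
  have : Flat (CohB1.ProjSpace.toSpec r Zu.{u}) := inferInstance
  exact MorphismProperty.of_isPullback (P := @Flat) h this

theorem IsBun.lfp : LocallyOfFinitePresentation f := by
  have : LocallyOfFinitePresentation (CohB1.ProjSpace.toSpec r Zu.{u}) := inferInstance
  exact MorphismProperty.of_isPullback (P := @LocallyOfFinitePresentation) h this

/-- the fibres are bundles over the residue fields -/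
theorem IsBun.fibre (t : T) : IsBun r (f.fiberι t ≫ q) (f.fiberToSpecResidueField t) :=
  h.baseChange _ _ _ (IsPullback.of_hasPullback _ _)

/-- the fibre of a bundle at `t` is `P^r_{κ(t)}`, compatibly with twists -/
theorem IsBun.exists_fibre_chart (t : T) :
    ∃ θ : f.fiber t ≅ CohB1.ProjSpace r (T.residueField t),
      θ.hom ≫ CohB1.ProjSpace.toSpec r (T.residueField t) = f.fiberToSpecResidueField t ∧
      ∀ d : ℤ, Nonempty (CohIII.fiberMod f (tw r q d) t ≅
        (Scheme.Modules.pullback θ.hom).obj (Twist.twistProjSpace r (T.residueField t) d)) := by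
  obtain ⟨θ, hθ, hd⟩ := (h.fibre t).exists_chart (B := T.residueField t)
  refine ⟨θ, hθ, fun d => ?_⟩
  obtain ⟨α⟩ := hd d
  exact ⟨twComp (f.fiberι t) d ≪≫ α⟩

/-- `H^1(X_t, O) = 0` for the fibres of a bundle -/
theorem IsBun.subsingleton_HH_one_fibre (t : T) :
    Subsingleton (Coh.HH (f.fiber t) (Coh.structureModule (f.fiber t)) 1) := by
  obtain ⟨θ, -, -⟩ := h.exists_fibre_chart t
  obtain ⟨z⟩ := Groth.Agent.Lib.Helper6.PnBridge.pullback_twist_zero
    (CohB1.polyGrading r (T.residueField t)) (VeryAmpleImm.projSpace_cover r (T.residueField t)) θ.hom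
  haveI : (Twist.twistProjSpace r (T.residueField t) 0).IsQuasicoherent :=
    Groth.Agent.Lib.Helper2.ProjCoh5.isQCoh_twist r (T.residueField t) 0
  refine subsingleton_HH_of_scheme_iso θ (Twist.twistProjSpace r (T.residueField t) 0) _ z.symm 1
    (Groth.Agent.Lib.Helper2.ProjCoh5.subsingleton_HH r (T.residueField t) 0 1 (by simp) ?_)
  rintro ⟨-, h'⟩
  have : (0 : ℤ) ≤ (r : ℤ) := Int.natCast_nonneg r
  omega

/-- an invertible module on a bundle restricts to some `O(n)` on each fibre -/
theorem IsBun.exists_twist_fibre (t : T) (L : X.Modules) (hL : PicF.IsInvertible L) :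
    ∃ n : ℤ, Nonempty (CohIII.fiberMod f L t ≅ CohIII.fiberMod f (tw r q n) t) := by
  obtain ⟨θ, -, hθ⟩ := h.exists_fibre_chart t
  have h1 : PicF.IsInvertible (CohIII.fiberMod f L t) := isInvertible_pullback _ hL
  have h2 : PicF.IsInvertible ((Scheme.Modules.pullback θ.inv).obj (CohIII.fiberMod f L t)) :=
    isInvertible_pullback _ h1
  obtain ⟨n, ⟨α⟩⟩ := Groth.Agent.S1697.result (T.residueField t) r _ h2
  obtain ⟨β⟩ := hθ n
  refine ⟨n, ⟨?_ ≪≫ (Scheme.Modules.pullback θ.hom).mapIso α ≪≫ β.symm⟩⟩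
  exact ((Scheme.Modules.pullbackId _).app _).symm ≪≫
    (Scheme.Modules.pullbackCongr (θ.hom_inv_id).symm).app _ ≪≫
    ((Scheme.Modules.pullbackComp θ.hom θ.inv).app _).symm

/-- on a fibre of positive dimension, the twists are pairwise non-isomorphic -/
theorem IsBun.twist_fibre_injective (t : T) (hr : 1 ≤ r) (m n : ℤ)
    (hmn : Nonempty (CohIII.fiberMod f (tw r q m) t ≅ CohIII.fiberMod f (tw r q n) t)) : m = n := by
  obtain ⟨θ, -, hθ⟩ := h.exists_fibre_chart t
  obtain ⟨α⟩ := hmn
  obtain ⟨β₁⟩ := hθ m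
  obtain ⟨β₂⟩ := hθ n
  let γ : (Scheme.Modules.pullback θ.hom).obj (Twist.twistProjSpace r (T.residueField t) m) ≅
      (Scheme.Modules.pullback θ.hom).obj (Twist.twistProjSpace r (T.residueField t) n) :=
    β₁.symm ≪≫ α ≪≫ β₂
  have key : ∀ G : (CohB1.ProjSpace r (T.residueField t)).Modules,
      Nonempty ((Scheme.Modules.pullback θ.inv).obj ((Scheme.Modules.pullback θ.hom).obj G) ≅ G) :=
    fun G => ⟨(Scheme.Modules.pullbackComp θ.inv θ.hom).app G ≪≫
      (Scheme.Modules.pullbackCongr (θ.inv_hom_id)).app G ≪≫ (Scheme.Modules.pullbackId _).app G⟩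
  obtain ⟨k₁⟩ := key (Twist.twistProjSpace r (T.residueField t) m)
  obtain ⟨k₂⟩ := key (Twist.twistProjSpace r (T.residueField t) n)
  exact Groth.Agent.Lib.Helper17.PnPicUniq.twist_injective (n := r) (R := T.residueField t) hr m n
    (k₁.symm ≪≫ (Scheme.Modules.pullback θ.inv).mapIso γ ≪≫ k₂)

/-- the geometric fibres are integral -/
theorem IsBun.geometric_fibres (K : Type u) [Field K] [IsAlgClosed K] (g : Spec (CommRingCat.of K) ⟶ T) :
    IsReduced (pullback f g) ∧ ConnectedSpace ↥(pullback f g) := by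
  obtain ⟨θ, -, -⟩ := (h.baseChange (pullback.fst f g) (pullback.snd f g) g
    (IsPullback.of_hasPullback _ _)).exists_chart (B := K)
  haveI : Nonempty ↥(pullback f g) := Nonempty.map θ.inv inferInstance
  haveI : IsIntegral (pullback f g) := isIntegral_of_isOpenImmersion θ.hom
  exact ⟨inferInstance, inferInstance⟩

/-- `O_T(V) = O_X(f⁻¹ V)` for every open `V` -/
theorem IsBun.isIso_app (V : T.Opens) : IsIso (f.app V) := by
  haveI := h.isProper
  haveI := h.flat
  haveI := h.lfp
  exact Groth.Agent.Lib.helper11.H0.isIso_app_of_geometric f h.geometric_fibres V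

end Props

end Groth.Agent.Lib.Helper6.PnBun
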