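import Groth.Agent.Lib.Helper6.PnPicA
import Groth.Agent.Lib.Helper17.PnTwist
import Groth.Agent.S5683
import Mathlib

/-!
# Invertible modules on `P^r_Y`, `Y` locally noetherian and connected (helper6)

`L ≅ π^* L' ⊗ O(n)`, with `n` and `L'` unique when `r ≥ 1`.
-/

set_option backward.isDefEq.respectTransparency.types false
set_option autoImplicit false
set_option linter.style.haveILetI false
set_option linter.unusedSectionVars false
universe u
open CategoryTheory CategoryTheory.Limits AlgebraicGeometry Opposite TopologicalSpace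

noncomputable section
namespace Groth.Agent.Lib.Helper6.PnPicB

open Groth.Agent.Lib.Helper28 Groth.Agent.Lib.Helper28.QCohLoc Groth.Agent.Lib.Helper28.GenLocus
  Groth.Agent.Lib.Helper28.PullbackInv Groth.Agent.Lib.Helper28.HomMod
open Groth.Agent.Lib.Helper4.Bridge Groth.Agent.Lib.Helper6.PnChart Groth.Agent.Lib.Helper6.PnFibre
  Groth.Agent.Lib.Helper6.PnFlat Groth.Agent.Lib.Helper6.PicReduced Groth.Agent.Lib.Helper6.PnPicA

section Zero

/-- on `P^0_R` all twists are trivial -/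
theorem nonempty_twist_iso_zero (R : Type u) [CommRing R] (d : ℤ) :
    Nonempty (Twist.twistProjSpace 0 R d ≅ Coh.structureModule (CohB1.ProjSpace 0 R)) := by
  have hX : (MvPolynomial.X 0 : MvPolynomial (Fin (0 + 1)) R) ∈ CohB1.polyGrading 0 R 1 :=
    MvPolynomial.isHomogeneous_X R 0
  have hle : (⊤ : (Proj (CohB1.polyGrading 0 R)).Opens) ≤
      Proj.basicOpen (CohB1.polyGrading 0 R) (MvPolynomial.X 0 : MvPolynomial (Fin (0 + 1)) R) := by
    intro x _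
    obtain ⟨j, hj⟩ := Segre5.cover_of_adjoin (CohB1.polyGrading 0 R)
      (fun k : Fin (0 + 1) => (MvPolynomial.X k : MvPolynomial (Fin (0 + 1)) R))
      (fun k => MvPolynomial.isHomogeneous_X R k) (MvPolynomial.adjoin_range_X) x
    have : j = 0 := Fin.ext (by have := j.2; omega)
    subst this
    exact hj
  exact Groth.Agent.Lib.Helper6.PicSpread.nonempty_iso_of_isGen_top _ _
    ((Groth.Agent.Lib.Helper17.PnTwist.isGen_gen (CohB1.polyGrading 0 R) hX d).res hle)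

/-- on `P^0_Y` all twists are trivial -/
theorem nonempty_twistOver_iso_zero (Y : Scheme.{u}) (d : ℤ) :
    Nonempty (Twist.twistOver 0 Y d ≅ Coh.structureModule (CohB1.ProjSpaceOver 0 Y)) := by
  obtain ⟨z⟩ := nonempty_twist_iso_zero Zu d
  exact ⟨(Scheme.Modules.pullback (pr₁ 0 Y)).mapIso z ≪≫ Groth.Agent.Lib.Helper16.RS.pullbackUnitIso _⟩

end Zero

variable {r : ℕ} {Y : Scheme.{u}} (L : (CohB1.ProjSpaceOver r Y).Modules) (hL : PicF.IsInvertible L)

include hL in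
/-- the degree on the fibres is constant -/
theorem exists_n [IsLocallyNoetherian Y] [ConnectedSpace Y] :
    ∃ n : ℤ, ∀ y : Y, Nonempty (CohIII.fiberMod (π r Y) (Twist.twistOver r Y n) y ≅
      CohIII.fiberMod (π r Y) L y) := by
  rcases Nat.eq_zero_or_pos r with h0 | hpos
  · subst h0
    refine ⟨0, fun y => ?_⟩
    obtain ⟨m, ⟨α⟩⟩ := exists_twist_fibre 0 Y y L hL
    obtain ⟨z₁⟩ := nonempty_twistOver_iso_zero Y m
    obtain ⟨z₂⟩ := nonempty_twistOver_iso_zero Y 0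
    exact ⟨(Scheme.Modules.pullback ((π 0 Y).fiberι y)).mapIso (z₂ ≪≫ z₁.symm) ≪≫ α.symm⟩
  · have hex : ∀ y : Y, ∃ n : ℤ, Nonempty (CohIII.fiberMod (π r Y) L y ≅
        CohIII.fiberMod (π r Y) (Twist.twistOver r Y n) y) := fun y => exists_twist_fibre r Y y L hL
    choose n hn using hex
    have hlc : IsLocallyConstant n := by
      rw [IsLocallyConstant.iff_exists_open]
      intro y
      obtain ⟨α⟩ := hn y
      obtain ⟨U, σ, hyU, hσ⟩ := near L hL y (n y) ⟨α.symm⟩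
      refine ⟨U.1, U.2, hyU, fun y' hy' => ?_⟩
      obtain ⟨β⟩ := fibre_iso_of_isGen L hL (n y) U σ hσ y' hy'
      obtain ⟨γ⟩ := hn y'
      exact (twist_fibre_injective r Y y' hpos (n y) (n y') ⟨β ≪≫ γ⟩).symm
    obtain ⟨y₀⟩ := (inferInstance : Nonempty Y)
    refine ⟨n y₀, fun y => ?_⟩
    obtain ⟨α⟩ := hn y
    rw [← hlc.apply_eq_of_preconnectedSpace y y₀]
    exact ⟨α.symm⟩

include hL in
/-- **existence** -/
theorem existence [IsLocallyNoetherian Y] [ConnectedSpace Y] :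
    ∃ (L' : Y.Modules) (n : ℤ), PicF.IsInvertible L' ∧
      Nonempty (L ≅ CohB1.tensorMod ((Scheme.Modules.pullback (π r Y)).obj L') (Twist.twistOver r Y n)) := by
  obtain ⟨n, hn⟩ := exists_n L hL
  have hgood : ∀ y : Y, ∃ (V : Y.Opens) (σ : Γ(Nn L n, π r Y ⁻¹ᵁ V)), y ∈ V ∧
      IsGen (Nn L n) (π r Y ⁻¹ᵁ V) σ ∧ ∀ W : Y.Opens, W ≤ V → Function.Bijective ((π r Y).app W) := by
    intro y
    obtain ⟨U, σ, hyU, hσ⟩ := near L hL y n (hn y)
    exact ⟨U, σ, hyU, hσ, fun W _ => ConcreteCategory.bijective_of_isIso ((π r Y).app W)⟩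
  obtain ⟨hinv, hiso⟩ := main_of_good (π r Y) (Nn L n) hgood
  haveI := hiso
  obtain ⟨κ⟩ := Groth.Agent.Lib.Helper6.InvDual.nonempty_iso_tensor_dual_tensor (Twist.twistOver r Y n) L
    (isInvertible_twistOver r Y n)
  exact ⟨_, n, hinv, ⟨κ ≪≫ PicGrp.tensorModIso
    (asIso ((Scheme.Modules.pullbackPushforwardAdjunction (π r Y)).counit.app (Nn L n))).symm (Iso.refl _)⟩⟩

section Cancel

variable {X : Scheme.{u}}

/-- `(M ⊗ L) ⊗ L^∨ ≅ M` for an invertible module `L` -/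
theorem nonempty_tensor_tensor_dual_iso (L M : X.Modules) (hL : PicF.IsInvertible L) :
    Nonempty (CohB1.tensorMod (CohB1.tensorMod M L) (dual L) ≅ M) := by
  obtain ⟨κ⟩ := Groth.Agent.Lib.Helper6.InvDual.nonempty_tensor_dual_iso L hL
  obtain ⟨u⟩ := Groth.Agent.Lib.Helper28.InvQC.nonempty_unit_tensor_iso M
  have b1 : CohB1.tensorMod M (Coh.structureModule X) ≅ CohB1.tensorMod (Coh.structureModule X) M :=
    Groth.Agent.Lib.Helper6.K0Inv.braidIso M (Coh.structureModule X)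
  have t1 : CohB1.tensorMod M (CohB1.tensorMod L (dual L)) ≅ CohB1.tensorMod M (Coh.structureModule X) :=
    PicGrp.tensorModIso (Iso.refl M) κ
  have a : CohB1.tensorMod (CohB1.tensorMod M L) (dual L) ≅ CohB1.tensorMod M (CohB1.tensorMod L (dual L)) :=
    Groth.Agent.Lib.Helper16.TA.assocIso M L (dual L)
  exact ⟨a ≪≫ t1 ≪≫ b1 ≪≫ u⟩

/-- cancellation of an invertible factor -/
theorem nonempty_iso_of_tensor_iso (L A B : X.Modules) (hL : PicF.IsInvertible L)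
    (e : CohB1.tensorMod A L ≅ CohB1.tensorMod B L) : Nonempty (A ≅ B) := by
  obtain ⟨c₁⟩ := nonempty_tensor_tensor_dual_iso L A hL
  obtain ⟨c₂⟩ := nonempty_tensor_tensor_dual_iso L B hL
  exact ⟨c₁.symm ≪≫ PicGrp.tensorModIso e (Iso.refl _) ≪≫ c₂⟩

end Cancel

/-- the fibres of `π^* L₁ ⊗ O(n)` are those of `O(n)` -/
theorem fiberMod_pullback_tensor_twist (L₁ : Y.Modules) (h₁ : PicF.IsInvertible L₁) (n : ℤ) (y : Y) :
    Nonempty (CohIII.fiberMod (π r Y)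
      (CohB1.tensorMod ((Scheme.Modules.pullback (π r Y)).obj L₁) (Twist.twistOver r Y n)) y ≅
        CohIII.fiberMod (π r Y) (Twist.twistOver r Y n) y) := by
  obtain ⟨ψ, -⟩ := exists_pullback_tensorMod_iso ((π r Y).fiberι y) (isInvertible_pullback (π r Y) h₁)
    (isInvertible_twistOver r Y n)
  obtain ⟨τ⟩ := nonempty_fiberMod_pullback_iso (π r Y) L₁ h₁ y
  obtain ⟨u⟩ := Groth.Agent.Lib.Helper28.InvQC.nonempty_unit_tensor_iso
    (CohIII.fiberMod (π r Y) (Twist.twistOver r Y n) y)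
  exact ⟨ψ ≪≫ PicGrp.tensorModIso τ (Iso.refl _) ≪≫ u⟩

/-- **uniqueness**, in positive relative dimension -/
theorem uniqueness (hr : 1 ≤ r) [Nonempty Y] (L₁ L₂ : Y.Modules) (n₁ n₂ : ℤ)
    (h₁ : PicF.IsInvertible L₁) (h₂ : PicF.IsInvertible L₂)
    (e₁ : Nonempty (L ≅ CohB1.tensorMod ((Scheme.Modules.pullback (π r Y)).obj L₁) (Twist.twistOver r Y n₁)))
    (e₂ : Nonempty (L ≅ CohB1.tensorMod ((Scheme.Modules.pullback (π r Y)).obj L₂) (Twist.twistOver r Y n₂))) :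
    n₁ = n₂ ∧ Nonempty (L₁ ≅ L₂) := by
  obtain ⟨e₁⟩ := e₁
  obtain ⟨e₂⟩ := e₂
  obtain ⟨y₀⟩ := (inferInstance : Nonempty Y)
  have hn : n₁ = n₂ := by
    obtain ⟨φ₁⟩ := fiberMod_pullback_tensor_twist (r := r) L₁ h₁ n₁ y₀
    obtain ⟨φ₂⟩ := fiberMod_pullback_tensor_twist (r := r) L₂ h₂ n₂ y₀
    exact twist_fibre_injective r Y y₀ hr n₁ n₂
      ⟨φ₁.symm ≪≫ (Scheme.Modules.pullback ((π r Y).fiberι y₀)).mapIso (e₁.symm ≪≫ e₂) ≪≫ φ₂⟩
  subst hn
  refine ⟨rfl, ?_⟩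
  obtain ⟨α⟩ := nonempty_iso_of_tensor_iso (Twist.twistOver r Y n₁) _ _ (isInvertible_twistOver r Y n₁)
    (e₁.symm ≪≫ e₂)
  have htriv := Groth.Agent.Lib.Helper6.InvDual.nonempty_pullback_tensor_dual_iso (π r Y) L₂ L₁ h₂ h₁ ⟨α.symm⟩
  obtain ⟨β⟩ := Groth.Agent.S5683.result (π r Y)
    (fun U => ConcreteCategory.bijective_of_isIso ((π r Y).app U)) (CohB1.tensorMod L₁ (dual L₂))
    (isInvertible_tensorMod h₁ (isInvertible_dual h₂)) htriv
  obtain ⟨κ⟩ := Groth.Agent.Lib.Helper6.InvDual.nonempty_iso_tensor_dual_tensor L₂ L₁ h₂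
  obtain ⟨u⟩ := Groth.Agent.Lib.Helper28.InvQC.nonempty_unit_tensor_iso L₂
  exact ⟨κ ≪≫ PicGrp.tensorModIso β (Iso.refl _) ≪≫ u⟩

end Groth.Agent.Lib.Helper6.PnPicB
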