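import Groth.Agent.Lib.Helper6.PnBun
import Groth.Agent.Lib.Helper6.PnPicB
import Mathlib

/-!
# Invertible modules on projective bundles (helper6)

`L ≅ f^* L' ⊗ O(n)` on a bundle over a connected base, given the local statement `HasNear` (which holds over locally
noetherian bases by `PicNear`); uniqueness in positive relative dimension.
-/

set_option backward.isDefEq.respectTransparency.types false
set_option autoImplicit false
set_option linter.style.haveILetI false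
set_option linter.unusedSectionVars false
universe u
open CategoryTheory CategoryTheory.Limits AlgebraicGeometry Opposite TopologicalSpace

noncomputable section
namespace Groth.Agent.Lib.Helper6.PnBun

open Groth.Agent.Lib.Helper28 Groth.Agent.Lib.Helper28.QCohLoc Groth.Agent.Lib.Helper28.GenLocus
  Groth.Agent.Lib.Helper28.PullbackInv Groth.Agent.Lib.Helper28.HomMod
open Groth.Agent.Lib.Helper4.Bridge Groth.Agent.Lib.Helper6.PnChart Groth.Agent.Lib.Helper6.PnFlat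
  Groth.Agent.Lib.Helper6.PicReduced Groth.Agent.Lib.Helper6.PnPicA Groth.Agent.Lib.Helper6.PnPicB

variable {r : ℕ} {X T : Scheme.{u}} (q : X ⟶ Proj (gZ r)) (f : X ⟶ T)

/-- `L ⊗ O(n)^∨` -/
abbrev Nq (L : X.Modules) (n : ℤ) : X.Modules := CohB1.tensorMod L (dual (tw r q n))

variable {q}

theorem isInvertible_Nq {L : X.Modules} (hL : PicF.IsInvertible L) (n : ℤ) : PicF.IsInvertible (Nq q L n) :=
  isInvertible_tensorMod hL (isInvertible_dual (isInvertible_tw q n))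

variable (q)

/-- the local statement: if `L_t ≅ O(n)_t` then `L ⊗ O(n)^∨` is generated by a section over `f⁻¹ U`, `U ∋ t` -/
def HasNear : Prop :=
  ∀ (L : X.Modules), PicF.IsInvertible L → ∀ (t : T) (n : ℤ),
    Nonempty (CohIII.fiberMod f (tw r q n) t ≅ CohIII.fiberMod f L t) →
      ∃ (U : T.Opens) (σ : Γ(Nq q L n, f ⁻¹ᵁ U)), t ∈ U ∧ IsGen (Nq q L n) (f ⁻¹ᵁ U) σ

variable {q f}

/-- over a locally noetherian base -/
theorem IsBun.hasNear_of_noeth (h : IsBun r q f) [IsLocallyNoetherian T] : HasNear q f := by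
  intro L hL t n hy
  haveI := h.isProper
  haveI := h.flat
  obtain ⟨ε⟩ := Groth.Agent.Lib.Helper6.PicNear.nonempty_iso_over_stalk f t
    (h.subsingleton_HH_one_fibre t) (tw r q n) L (isInvertible_tw q n) hL hy
  exact Groth.Agent.Lib.Helper6.PicSpread.exists_open_isGen f t _ (isInvertible_Nq hL n) ε

/-- over such a `U`, all fibres of `L` are `O(n)` -/
theorem fibre_iso_of_isGen' {L : X.Modules} (hL : PicF.IsInvertible L) (n : ℤ) (U : T.Opens)
    (σ : Γ(Nq q L n, f ⁻¹ᵁ U)) (hσ : IsGen (Nq q L n) (f ⁻¹ᵁ U) σ) (t' : T) (ht' : t' ∈ U) :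
    Nonempty (CohIII.fiberMod f (tw r q n) t' ≅ CohIII.fiberMod f L t') := by
  have hν := Groth.Agent.Lib.Helper6.PicSpread.nonempty_pullback_iso_of_isGen _ (f ⁻¹ᵁ U) σ hσ
  have α := Groth.Agent.Lib.Helper6.InvDual.nonempty_pullback_iso_of_tensor_dual (f ⁻¹ᵁ U).ι
    (tw r q n) L (isInvertible_tw q n) hL hν
  have hrange : Set.range (f.fiberι t') ⊆ Set.range (f ⁻¹ᵁ U).ι := by
    rw [Scheme.Hom.range_fiberι, Scheme.Opens.range_ι]
    intro x hx
    have : f x = t' := hx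
    show f x ∈ U
    rw [this]
    exact ht'
  let t : f.fiber t' ⟶ (f ⁻¹ᵁ U : X.Opens) :=
    IsOpenImmersion.lift (f ⁻¹ᵁ U).ι (f.fiberι t') hrange
  have ht : t ≫ (f ⁻¹ᵁ U).ι = f.fiberι t' := IsOpenImmersion.lift_fac _ _ _
  exact Groth.Agent.Lib.Helper6.InvDual.nonempty_pullback_iso_of_fac (f ⁻¹ᵁ U).ι t _ ht _ _ α

/-- the degree on the fibres is constant -/
theorem IsBun.exists_n (h : IsBun r q f) (hnear : HasNear q f) (hr : 1 ≤ r) [ConnectedSpace T]
    (L : X.Modules) (hL : PicF.IsInvertible L) :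
    ∃ n : ℤ, ∀ t : T, Nonempty (CohIII.fiberMod f (tw r q n) t ≅ CohIII.fiberMod f L t) := by
  have hex : ∀ t : T, ∃ n : ℤ, Nonempty (CohIII.fiberMod f L t ≅
      CohIII.fiberMod f (tw r q n) t) := fun t => h.exists_twist_fibre t L hL
  choose n hn using hex
  have hlc : IsLocallyConstant n := by
    rw [IsLocallyConstant.iff_exists_open]
    intro t
    obtain ⟨α⟩ := hn t
    obtain ⟨U, σ, htU, hσ⟩ := hnear L hL t (n t) ⟨α.symm⟩
    refine ⟨U.1, U.2, htU, fun t' ht' => ?_⟩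
    obtain ⟨β⟩ := fibre_iso_of_isGen' hL (n t) U σ hσ t' ht'
    obtain ⟨γ⟩ := hn t'
    exact (h.twist_fibre_injective t' hr (n t) (n t') ⟨β ≪≫ γ⟩).symm
  obtain ⟨t₀⟩ := (inferInstance : Nonempty T)
  refine ⟨n t₀, fun t => ?_⟩
  obtain ⟨α⟩ := hn t
  rw [← hlc.apply_eq_of_preconnectedSpace t t₀]
  exact ⟨α.symm⟩

/-- **existence** -/
theorem IsBun.existence (h : IsBun r q f) (hnear : HasNear q f) (hr : 1 ≤ r) [ConnectedSpace T]
    (L : X.Modules) (hL : PicF.IsInvertible L) :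
    ∃ (L' : T.Modules) (n : ℤ), PicF.IsInvertible L' ∧
      Nonempty (L ≅ CohB1.tensorMod ((Scheme.Modules.pullback f).obj L') (tw r q n)) := by
  obtain ⟨n, hn⟩ := h.exists_n hnear hr L hL
  have hgood : ∀ t : T, ∃ (V : T.Opens) (σ : Γ(Nq q L n, f ⁻¹ᵁ V)), t ∈ V ∧
      IsGen (Nq q L n) (f ⁻¹ᵁ V) σ ∧ ∀ W : T.Opens, W ≤ V → Function.Bijective (f.app W) := by
    intro t
    obtain ⟨U, σ, htU, hσ⟩ := hnear L hL t n (hn t)
    refine ⟨U, σ, htU, hσ, fun W _ => ?_⟩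
    haveI := h.isIso_app W
    exact ConcreteCategory.bijective_of_isIso (f.app W)
  obtain ⟨hinv, hiso⟩ := main_of_good f (Nq q L n) hgood
  haveI := hiso
  obtain ⟨κ⟩ := Groth.Agent.Lib.Helper6.InvDual.nonempty_iso_tensor_dual_tensor (tw r q n) L
    (isInvertible_tw q n)
  exact ⟨_, n, hinv, ⟨κ ≪≫ PicGrp.tensorModIso
    (asIso ((Scheme.Modules.pullbackPushforwardAdjunction f).counit.app (Nq q L n))).symm (Iso.refl _)⟩⟩

/-- the fibres of `f^* L₁ ⊗ O(n)` are those of `O(n)` -/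
theorem fiberMod_pullback_tensor_tw (L₁ : T.Modules) (h₁ : PicF.IsInvertible L₁) (n : ℤ) (t : T) :
    Nonempty (CohIII.fiberMod f
      (CohB1.tensorMod ((Scheme.Modules.pullback f).obj L₁) (tw r q n)) t ≅
        CohIII.fiberMod f (tw r q n) t) := by
  obtain ⟨ψ, -⟩ := exists_pullback_tensorMod_iso (f.fiberι t) (isInvertible_pullback f h₁)
    (isInvertible_tw q n)
  obtain ⟨τ⟩ := nonempty_fiberMod_pullback_iso f L₁ h₁ t
  obtain ⟨u⟩ := Groth.Agent.Lib.Helper28.InvQC.nonempty_unit_tensor_iso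
    (CohIII.fiberMod f (tw r q n) t)
  exact ⟨ψ ≪≫ PicGrp.tensorModIso τ (Iso.refl _) ≪≫ u⟩

/-- **uniqueness**, in positive relative dimension -/
theorem IsBun.uniqueness (h : IsBun r q f) (hr : 1 ≤ r) [Nonempty T] (L₁ L₂ : T.Modules) (n₁ n₂ : ℤ)
    (h₁ : PicF.IsInvertible L₁) (h₂ : PicF.IsInvertible L₂)
    (e : Nonempty (CohB1.tensorMod ((Scheme.Modules.pullback f).obj L₁) (tw r q n₁) ≅
      CohB1.tensorMod ((Scheme.Modules.pullback f).obj L₂) (tw r q n₂))) :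
    n₁ = n₂ ∧ Nonempty (L₁ ≅ L₂) := by
  obtain ⟨e⟩ := e
  obtain ⟨t₀⟩ := (inferInstance : Nonempty T)
  have hn : n₁ = n₂ := by
    obtain ⟨φ₁⟩ := fiberMod_pullback_tensor_tw (q := q) (f := f) L₁ h₁ n₁ t₀
    obtain ⟨φ₂⟩ := fiberMod_pullback_tensor_tw (q := q) (f := f) L₂ h₂ n₂ t₀
    exact h.twist_fibre_injective t₀ hr n₁ n₂
      ⟨φ₁.symm ≪≫ (Scheme.Modules.pullback (f.fiberι t₀)).mapIso e ≪≫ φ₂⟩
  subst hn
  refine ⟨rfl, ?_⟩
  obtain ⟨α⟩ := nonempty_iso_of_tensor_iso (tw r q n₁) _ _ (isInvertible_tw q n₁) e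
  have htriv := Groth.Agent.Lib.Helper6.InvDual.nonempty_pullback_tensor_dual_iso f L₂ L₁ h₂ h₁ ⟨α.symm⟩
  obtain ⟨β⟩ := Groth.Agent.S5683.result f
    (fun U => by
      haveI := h.isIso_app U
      exact ConcreteCategory.bijective_of_isIso (f.app U)) (CohB1.tensorMod L₁ (dual L₂))
    (isInvertible_tensorMod h₁ (isInvertible_dual h₂)) htriv
  obtain ⟨κ⟩ := Groth.Agent.Lib.Helper6.InvDual.nonempty_iso_tensor_dual_tensor L₂ L₁ h₂
  obtain ⟨u⟩ := Groth.Agent.Lib.Helper28.InvQC.nonempty_unit_tensor_iso L₂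
  exact ⟨κ ≪≫ PicGrp.tensorModIso β (Iso.refl _) ≪≫ u⟩

end Groth.Agent.Lib.Helper6.PnBun
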