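import Groth.Agent.Lib.Helper6.PnBridge2
import Groth.Agent.Lib.Helper8.IsoTransport
import Groth.Agent.Lib.Helper2.Bridge2
import Groth.Agent.Lib.Helper4.VanClass
import Groth.Agent.Lib.Helper2.ProjCoh5
import Mathlib

/-!
# Projective space over a scheme, over an affine open of the base (helper6)

For an affine open `W` of `Y`, the open `π⁻¹ W` of `P^r_Y` is `Proj Γ(W)[T]`, compatibly with all twists.
-/

set_option backward.isDefEq.respectTransparency.types false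
set_option autoImplicit false
set_option linter.style.haveILetI false
set_option linter.unusedSectionVars false
universe u
open CategoryTheory CategoryTheory.Limits AlgebraicGeometry Opposite TopologicalSpace

noncomputable section
namespace Groth.Agent.Lib.Helper6.PnChart

open Groth.Agent.Lib.Helper28 Groth.Agent.Lib.Helper28.QCohLoc Groth.Agent.Lib.Helper28.GenLocus
  Groth.Agent.Lib.Helper28.PullbackInv Groth.Agent.Lib.Helper4.Bridge

section Transport

variable {X Z : Scheme.{u}}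

/-- cohomology vanishing is transported along an isomorphism of schemes -/
theorem subsingleton_HH_of_scheme_iso (θ : X ≅ Z) (G : Z.Modules) [G.IsQuasicoherent] (F : X.Modules)
    (α : F ≅ (Scheme.Modules.pullback θ.hom).obj G) (i : ℕ) (h : Subsingleton (Coh.HH Z G i)) :
    Subsingleton (Coh.HH X F i) := by
  obtain ⟨e, -⟩ := Groth.Agent.Lib.Helper2.Bridge2.exists_natural_equiv θ.inv i
  have h1 : Subsingleton (Coh.HH X ((Scheme.Modules.pushforward θ.inv).obj G) i) :=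
    (e G inferInstance).toEquiv.subsingleton
  have h2 : Subsingleton (Coh.HH X ((Scheme.Modules.pullback θ.hom).obj G) i) :=
    Groth.Agent.Lib.Helper4.VanClass.subsingleton_HH_of_iso
      ((Groth.Agent.Lib.Helper8.IsoTransport.pullbackIsoPush θ).app G).symm i h1
  exact Groth.Agent.Lib.Helper4.VanClass.subsingleton_HH_of_iso α.symm i h2

end Transport

variable (r : ℕ) (Y : Scheme.{u})

/-- the projection `P^r_Y ⟶ P^r_ℤ` -/
abbrev prZ : CohB1.ProjSpaceOver r Y ⟶ Proj (gZ r) := pr₁ r Y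

/-- the structure morphism -/
abbrev π : CohB1.ProjSpaceOver r Y ⟶ Y := CohB1.ProjSpaceOver.toBase r Y

variable {Y}

/-- **charts**: over an affine open `W` of the base, `P^r_Y` is `Proj Γ(W)[T]`, compatibly with twists. -/
theorem exists_chart (W : Y.Opens) (hW : IsAffineOpen W) :
    ∃ θ : ((π r Y ⁻¹ᵁ W : (CohB1.ProjSpaceOver r Y).Opens) : Scheme.{u}) ≅ CohB1.ProjSpace r Γ(↑W, ⊤),
      ∀ d : ℤ, Nonempty ((Twist.twistOver r Y d).restrict (π r Y ⁻¹ᵁ W).ι ≅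
        (Scheme.Modules.pullback θ.hom).obj (Twist.twistProjSpace r Γ(↑W, ⊤) d)) := by
  haveI : IsAffine (W : Scheme.{u}) := hW
  let B : Type u := Γ(↑W, ⊤)
  let ε : (W : Scheme.{u}) ≅ SB B := (W : Scheme.{u}).isoSpec
  have h1 : IsPullback (π r Y ⁻¹ᵁ W).ι (π r Y ∣_ W) (π r Y) W.ι := (isPullback_morphismRestrict _ _).flip
  have h2 : IsPullback (prZ r Y) (π r Y) (CohB1.ProjSpace.toSpec r Zu) (specULiftZIsTerminal.from Y) :=
    IsPullback.of_hasPullback _ _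
  have h3 := h1.paste_horiz h2
  have h4 : IsPullback ((π r Y ⁻¹ᵁ W).ι ≫ prZ r Y) (π r Y ∣_ W ≫ ε.hom) (CohB1.ProjSpace.toSpec r Zu)
      (specULiftZIsTerminal.from (SB B)) :=
    h3.of_iso (Iso.refl _) (Iso.refl _) ε (Iso.refl _) (by simp) (by simp)
      (by simp) (specULiftZIsTerminal.hom_ext _ _)
  let χ : ((π r Y ⁻¹ᵁ W : (CohB1.ProjSpaceOver r Y).Opens) : Scheme.{u}) ≅ CohB1.ProjSpaceOver r (SB B) :=
    h4.isoPullback
  have hχ : χ.hom ≫ pr₁ r (SB B) = (π r Y ⁻¹ᵁ W).ι ≫ prZ r Y := h4.isoPullback_hom_fst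
  obtain ⟨e, -, he⟩ := Groth.Agent.Lib.Helper6.PnBridge.exists_iso_all r B
  refine ⟨χ ≪≫ e, fun d => ?_⟩
  obtain ⟨κ⟩ := he d
  -- `F|_{π⁻¹W} ≅ ι^* pr^* O(d) ≅ (ι ≫ pr)^* O(d) = (χ ≫ pr')^* O(d) ≅ χ^* pr'^* O(d) ≅ χ^* e^* O_B(d) ≅ (χ ≫ e)^* O_B(d)`
  exact ⟨(Scheme.Modules.restrictFunctorIsoPullback (π r Y ⁻¹ᵁ W).ι).app (Twist.twistOver r Y d) ≪≫
    (Scheme.Modules.pullbackComp (π r Y ⁻¹ᵁ W).ι (prZ r Y)).app (Twist.twistProjSpace r Zu d) ≪≫
    (Scheme.Modules.pullbackCongr hχ.symm).app (Twist.twistProjSpace r Zu d) ≪≫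
    ((Scheme.Modules.pullbackComp χ.hom (pr₁ r (SB B))).app (Twist.twistProjSpace r Zu d)).symm ≪≫
    (Scheme.Modules.pullback χ.hom).mapIso κ.symm ≪≫
    (Scheme.Modules.pullbackComp χ.hom e.hom).app (Twist.twistProjSpace r B d)⟩

/-- vanishing of the cohomology of `O(d)` over the inverse image of an affine open -/
theorem subsingleton_HH_restrict (W : Y.Opens) (hW : IsAffineOpen W) (d : ℤ) (i : ℕ)
    (h₀ : ¬ (i = 0 ∧ 0 ≤ d)) (hn : ¬ (i = r ∧ d ≤ -((r : ℤ) + 1))) :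
    Subsingleton (Coh.HH ((π r Y ⁻¹ᵁ W : (CohB1.ProjSpaceOver r Y).Opens) : Scheme.{u})
      ((Twist.twistOver r Y d).restrict (π r Y ⁻¹ᵁ W).ι) i) := by
  obtain ⟨θ, hθ⟩ := exists_chart r W hW
  obtain ⟨α⟩ := hθ d
  haveI : (Twist.twistProjSpace r Γ(↑W, ⊤) d).IsQuasicoherent :=
    Groth.Agent.Lib.Helper2.ProjCoh5.isQCoh_twist r Γ(↑W, ⊤) d
  exact subsingleton_HH_of_scheme_iso θ _ _ α i
    (Groth.Agent.Lib.Helper2.ProjCoh5.subsingleton_HH r Γ(↑W, ⊤) d i h₀ hn)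

end Groth.Agent.Lib.Helper6.PnChart
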