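import Groth.Agent.Lib.Helper6.PnChart
import Mathlib

/-!
# Base change of projective space over a scheme to an affine scheme (helper6)

For a cartesian square `P' → P^r_Y`, `P' → Spec B` over `Spec B → Y`, `P' ≅ Proj B[T]` compatibly with twists.
-/

set_option backward.isDefEq.respectTransparency.types false
set_option autoImplicit false
set_option linter.style.haveILetI false
set_option linter.unusedSectionVars false
universe u
open CategoryTheory CategoryTheory.Limits AlgebraicGeometry Opposite TopologicalSpace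

noncomputable section
namespace Groth.Agent.Lib.Helper6.PnFibre

open Groth.Agent.Lib.Helper4.Bridge Groth.Agent.Lib.Helper6.PnChart

variable (r : ℕ) {Y : Scheme.{u}}

/-- **charts for a base change to an affine scheme** -/
theorem exists_chart_of_isPullback {P' : Scheme.{u}} (B : Type u) [CommRing B]
    (g' : P' ⟶ CohB1.ProjSpaceOver r Y) (p : P' ⟶ SB B) (g : SB B ⟶ Y)
    (h : IsPullback g' p (π r Y) g) :
    ∃ θ : P' ≅ CohB1.ProjSpace r B, θ.hom ≫ CohB1.ProjSpace.toSpec r B = p ∧
      ∀ d : ℤ, Nonempty ((Scheme.Modules.pullback g').obj (Twist.twistOver r Y d) ≅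
        (Scheme.Modules.pullback θ.hom).obj (Twist.twistProjSpace r B d)) := by
  have h2 : IsPullback (prZ r Y) (π r Y) (CohB1.ProjSpace.toSpec r Zu) (specULiftZIsTerminal.from Y) :=
    IsPullback.of_hasPullback _ _
  have h3 := h.paste_horiz h2
  have h4 : IsPullback (g' ≫ prZ r Y) p (CohB1.ProjSpace.toSpec r Zu)
      (specULiftZIsTerminal.from (SB B)) := by
    have : g ≫ specULiftZIsTerminal.from Y = specULiftZIsTerminal.from (SB B) :=
      specULiftZIsTerminal.hom_ext _ _
    rwa [this] at h3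
  let χ : P' ≅ CohB1.ProjSpaceOver r (SB B) := h4.isoPullback
  have hχ : χ.hom ≫ pr₁ r (SB B) = g' ≫ prZ r Y := h4.isoPullback_hom_fst
  have hχ2 : χ.hom ≫ CohB1.ProjSpaceOver.toBase r (SB B) = p := h4.isoPullback_hom_snd
  obtain ⟨e, he1, he⟩ := Groth.Agent.Lib.Helper6.PnBridge.exists_iso_all r B
  refine ⟨χ ≪≫ e, ?_, fun d => ?_⟩
  · rw [Iso.trans_hom, Category.assoc, he1, hχ2]
  obtain ⟨κ⟩ := he d
  exact ⟨(Scheme.Modules.pullbackComp g' (prZ r Y)).app (Twist.twistProjSpace r Zu d) ≪≫
    (Scheme.Modules.pullbackCongr hχ.symm).app (Twist.twistProjSpace r Zu d) ≪≫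
    ((Scheme.Modules.pullbackComp χ.hom (pr₁ r (SB B))).app (Twist.twistProjSpace r Zu d)).symm ≪≫
    (Scheme.Modules.pullback χ.hom).mapIso κ.symm ≪≫
    (Scheme.Modules.pullbackComp χ.hom e.hom).app (Twist.twistProjSpace r B d)⟩

end Groth.Agent.Lib.Helper6.PnFibre
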