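import Groth.Agent.Lib.Helper6.PnFibre
import Groth.Agent.Lib.Helper17.PnPicUniq
import Groth.Agent.S1697
import Mathlib

/-!
# The fibres of `P^r_Y → Y` (helper6)
-/

set_option backward.isDefEq.respectTransparency.types false
set_option autoImplicit false
set_option linter.style.haveILetI false
set_option linter.unusedSectionVars false
universe u
open CategoryTheory CategoryTheory.Limits AlgebraicGeometry Opposite TopologicalSpace

noncomputable section
namespace Groth.Agent.Lib.Helper6.PnFibre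

open Groth.Agent.Lib.Helper28 Groth.Agent.Lib.Helper28.QCohLoc Groth.Agent.Lib.Helper28.GenLocus
  Groth.Agent.Lib.Helper28.PullbackInv
open Groth.Agent.Lib.Helper4.Bridge Groth.Agent.Lib.Helper6.PnChart

variable (r : ℕ) (Y : Scheme.{u}) (y : Y)

/-- the fibre of `P^r_Y → Y` at `y` is `P^r_{κ(y)}`, compatibly with twists -/
theorem exists_fibre_chart :
    ∃ θ : (π r Y).fiber y ≅ CohB1.ProjSpace r (Y.residueField y),
      θ.hom ≫ CohB1.ProjSpace.toSpec r (Y.residueField y) = (π r Y).fiberToSpecResidueField y ∧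
      ∀ d : ℤ, Nonempty (CohIII.fiberMod (π r Y) (Twist.twistOver r Y d) y ≅
        (Scheme.Modules.pullback θ.hom).obj (Twist.twistProjSpace r (Y.residueField y) d)) :=
  exists_chart_of_isPullback r (Y.residueField y) ((π r Y).fiberι y)
    ((π r Y).fiberToSpecResidueField y) (Y.fromSpecResidueField y) (IsPullback.of_hasPullback _ _)

/-- `H^1(X_y, O) = 0` for the fibres of projective space -/
theorem subsingleton_HH_one_fibre :
    Subsingleton (Coh.HH ((π r Y).fiber y) (Coh.structureModule ((π r Y).fiber y)) 1) := by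
  obtain ⟨θ, -, -⟩ := exists_fibre_chart r Y y
  obtain ⟨z⟩ := Groth.Agent.Lib.Helper6.PnBridge.pullback_twist_zero
    (CohB1.polyGrading r (Y.residueField y)) (VeryAmpleImm.projSpace_cover r (Y.residueField y)) θ.hom
  haveI : (Twist.twistProjSpace r (Y.residueField y) 0).IsQuasicoherent :=
    Groth.Agent.Lib.Helper2.ProjCoh5.isQCoh_twist r (Y.residueField y) 0
  refine subsingleton_HH_of_scheme_iso θ (Twist.twistProjSpace r (Y.residueField y) 0) _ z.symm 1
    (Groth.Agent.Lib.Helper2.ProjCoh5.subsingleton_HH r (Y.residueField y) 0 1 (by simp) ?_)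
  rintro ⟨-, h⟩
  have : (0 : ℤ) ≤ (r : ℤ) := Int.natCast_nonneg r
  omega

/-- an invertible module on `P^r_Y` restricts to some `O(n)` on each fibre -/
theorem exists_twist_fibre (L : (CohB1.ProjSpaceOver r Y).Modules) (hL : PicF.IsInvertible L) :
    ∃ n : ℤ, Nonempty (CohIII.fiberMod (π r Y) L y ≅
      CohIII.fiberMod (π r Y) (Twist.twistOver r Y n) y) := by
  obtain ⟨θ, -, hθ⟩ := exists_fibre_chart r Y y
  have h1 : PicF.IsInvertible (CohIII.fiberMod (π r Y) L y) := isInvertible_pullback _ hL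
  have h2 : PicF.IsInvertible ((Scheme.Modules.pullback θ.inv).obj (CohIII.fiberMod (π r Y) L y)) :=
    isInvertible_pullback _ h1
  obtain ⟨n, ⟨α⟩⟩ := Groth.Agent.S1697.result (Y.residueField y) r _ h2
  obtain ⟨β⟩ := hθ n
  refine ⟨n, ⟨?_ ≪≫ (Scheme.Modules.pullback θ.hom).mapIso α ≪≫ β.symm⟩⟩
  exact ((Scheme.Modules.pullbackId _).app _).symm ≪≫
    (Scheme.Modules.pullbackCongr (θ.hom_inv_id).symm).app _ ≪≫
    ((Scheme.Modules.pullbackComp θ.hom θ.inv).app _).symm

/-- on a fibre of positive dimension, the twists are pairwise non-isomorphic -/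
theorem twist_fibre_injective (hr : 1 ≤ r) (m n : ℤ)
    (h : Nonempty (CohIII.fiberMod (π r Y) (Twist.twistOver r Y m) y ≅
      CohIII.fiberMod (π r Y) (Twist.twistOver r Y n) y)) : m = n := by
  obtain ⟨θ, -, hθ⟩ := exists_fibre_chart r Y y
  obtain ⟨α⟩ := h
  obtain ⟨β₁⟩ := hθ m
  obtain ⟨β₂⟩ := hθ n
  -- transport along `θ`
  let γ : (Scheme.Modules.pullback θ.hom).obj (Twist.twistProjSpace r (Y.residueField y) m) ≅
      (Scheme.Modules.pullback θ.hom).obj (Twist.twistProjSpace r (Y.residueField y) n) :=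
    β₁.symm ≪≫ α ≪≫ β₂
  have key : ∀ G : (CohB1.ProjSpace r (Y.residueField y)).Modules,
      Nonempty ((Scheme.Modules.pullback θ.inv).obj ((Scheme.Modules.pullback θ.hom).obj G) ≅ G) :=
    fun G => ⟨(Scheme.Modules.pullbackComp θ.inv θ.hom).app G ≪≫
      (Scheme.Modules.pullbackCongr (θ.inv_hom_id)).app G ≪≫ (Scheme.Modules.pullbackId _).app G⟩
  obtain ⟨k₁⟩ := key (Twist.twistProjSpace r (Y.residueField y) m)
  obtain ⟨k₂⟩ := key (Twist.twistProjSpace r (Y.residueField y) n)
  exact Groth.Agent.Lib.Helper17.PnPicUniq.twist_injective (n := r) (R := Y.residueField y) hr m n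
    (k₁.symm ≪≫ (Scheme.Modules.pullback θ.inv).mapIso γ ≪≫ k₂)

end Groth.Agent.Lib.Helper6.PnFibre
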