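import Groth.Agent.Lib.Helper6.PnSerreMap
import Groth.Agent.Lib.Helper13.SpecFGLimit
import Groth.Agent.Lib.Helper22.LimBaseChange
import Mathlib

/-!
# Noetherian approximation of invertible modules on projective space over an affine base (helper6)

`P^r_A = lim P^r_{A_s}` over the finitely generated subrings `A_s` of `A`, and every invertible module on `P^r_A` comes
from a stage (via a morphism to a projective space over `ℤ` classified by a twist of the module).
-/

set_option backward.isDefEq.respectTransparency.types false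
set_option autoImplicit false
set_option linter.style.haveILetI false
set_option linter.unusedSectionVars false
universe u
open CategoryTheory CategoryTheory.Limits AlgebraicGeometry Opposite TopologicalSpace

noncomputable section
namespace Groth.Agent.Lib.Helper6.PnLimit

open Groth.Agent.Lib.Helper28 Groth.Agent.Lib.Helper28.QCohLoc Groth.Agent.Lib.Helper28.GenLocus
  Groth.Agent.Lib.Helper28.PullbackInv Groth.Agent.Lib.Helper28.HomMod
open Groth.Agent.Lib.Helper4.Bridge Groth.Agent.Lib.Helper6.PnChart Groth.Agent.Lib.Helper6.PnFlat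
  Groth.Agent.Lib.Helper6.PnBun Groth.Agent.Lib.Helper13.SpecFG Groth.Agent.Lib.Helper22

variable (r : ℕ) (A : Type u) [CommRing A]

/-- the terminal index -/
abbrev i₀ : (Finset A)ᵒᵖ := op ∅

/-- the bottom stage of the base -/
abbrev Y₀ : Scheme.{u} := (specDiag A).obj (i₀ A)

/-- the diagram of the `P^r_{A_s}` -/
abbrev D : Over (i₀ A) ⥤ Scheme.{u} := bcDiag (specDiag A) (i₀ A) (π r (Y₀ A))

/-- its limit cone, with vertex `P^r_A` -/
abbrev c : Cone (D r A) := bcCone (specDiag A) (specCone A) (i₀ A) (π r (Y₀ A))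

/-- it is a limit cone -/
def hc : IsLimit (c r A) := bcIsLimit (specDiag A) (specIsLimit A) (i₀ A) (π r (Y₀ A))

/-- the stages: map to `P^r_ℤ` -/
abbrev qj (j : Over (i₀ A)) : (D r A).obj j ⟶ Proj (gZ r) :=
  pullback.snd ((specDiag A).map j.hom) (π r (Y₀ A)) ≫ pr₁ r (Y₀ A)

/-- the stages: structure map -/
abbrev fj (j : Over (i₀ A)) : (D r A).obj j ⟶ (specDiag A).obj j.left :=
  pullback.fst ((specDiag A).map j.hom) (π r (Y₀ A))

theorem isBun_stage (j : Over (i₀ A)) : IsBun r (qj r A j) (fj r A j) :=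
  (isBun_over r (Y₀ A)).baseChange _ _ _ (IsPullback.of_hasPullback _ _).flip

/-- the limit: map to `P^r_ℤ` -/
abbrev qlim : (c r A).pt ⟶ Proj (gZ r) :=
  pullback.snd ((specCone A).π.app (i₀ A)) (π r (Y₀ A)) ≫ pr₁ r (Y₀ A)

/-- the limit: structure map -/
abbrev flim : (c r A).pt ⟶ SB A :=
  pullback.fst ((specCone A).π.app (i₀ A)) (π r (Y₀ A))

theorem isBun_limit : IsBun r (qlim r A) (flim r A) :=
  (isBun_over r (Y₀ A)).baseChange _ _ _ (IsPullback.of_hasPullback _ _).flip

theorem π_qj (j : Over (i₀ A)) : (c r A).π.app j ≫ qj r A j = qlim r A := by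
  have := bcCone_π_snd (specDiag A) (specCone A) (i₀ A) (π r (Y₀ A)) j
  rw [← Category.assoc, this]

theorem π_fj (j : Over (i₀ A)) :
    (c r A).π.app j ≫ fj r A j = flim r A ≫ (specCone A).π.app j.left :=
  bcCone_π_fst (specDiag A) (specCone A) (i₀ A) (π r (Y₀ A)) j

instance (s : (Finset A)ᵒᵖ) : IsNoetherianRing (Algebra.adjoin ℤ ((s.unop : Finset A) : Set A)) := by
  haveI : Algebra.FiniteType ℤ (Algebra.adjoin ℤ ((s.unop : Finset A) : Set A)) :=
    (Subalgebra.fg_iff_finiteType _).1 (Subalgebra.fg_adjoin_finset _)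
  exact Algebra.FiniteType.isNoetherianRing ℤ _

instance (s : (Finset A)ᵒᵖ) : IsLocallyNoetherian ((specDiag A).obj s) := by
  rw [specDiag_obj]
  infer_instance

instance compact_stage (j : Over (i₀ A)) : CompactSpace ↥((D r A).obj j) := by
  haveI := (isBun_stage r A j).isProper
  exact QuasiCompact.compactSpace_of_compactSpace (fj r A j)

instance qs_stage (j : Over (i₀ A)) : QuasiSeparatedSpace ↥((D r A).obj j) := by
  haveI := (isBun_stage r A j).isProper
  exact quasiSeparatedSpace_of_quasiSeparated (fj r A j)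

/-- a morphism from `P^r_A` to a projective space over `ℤ` factors through a stage -/
theorem exists_factor (N : ℕ) (φ : (c r A).pt ⟶ CohB1.ProjSpace N Zu) :
    ∃ (j : Over (i₀ A)) (g : (D r A).obj j ⟶ CohB1.ProjSpace N Zu), (c r A).π.app j ≫ g = φ := by
  let t : D r A ⟶ (Functor.const _).obj (Spec (CommRingCat.of Zu)) :=
    { app := fun j => specULiftZIsTerminal.from _
      naturality := fun _ _ _ => specULiftZIsTerminal.hom_ext _ _ }
  haveI : LocallyOfFinitePresentation (CohB1.ProjSpace.toSpec N Zu.{u}) := inferInstance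
  obtain ⟨j, g, hg, -⟩ := Scheme.exists_π_app_comp_eq_of_locallyOfFinitePresentation (D r A) t
    (CohB1.ProjSpace.toSpec N Zu) (c r A) (hc r A) φ
    (by ext j : 2; exact specULiftZIsTerminal.hom_ext _ _)
  exact ⟨j, g, hg⟩

/-- `(M ⊗ O(m)) ⊗ O(-m) ≅ M` -/
theorem nonempty_tw_cancel {X : Scheme.{u}} (q : X ⟶ Proj (gZ r)) (M : X.Modules) (m : ℤ) :
    Nonempty (CohB1.tensorMod (CohB1.tensorMod M (tw r q m)) (tw r q (-m)) ≅ M) := by
  obtain ⟨μ⟩ := nonempty_tw_mul q m (-m)
  obtain ⟨z⟩ := nonempty_tw_zero q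
  rw [add_neg_cancel] at μ
  obtain ⟨u⟩ := Groth.Agent.Lib.Helper28.InvQC.nonempty_unit_tensor_iso M
  have b1 : CohB1.tensorMod M (Coh.structureModule X) ≅ CohB1.tensorMod (Coh.structureModule X) M :=
    Groth.Agent.Lib.Helper6.K0Inv.braidIso M (Coh.structureModule X)
  have t1 : CohB1.tensorMod M (CohB1.tensorMod (tw r q m) (tw r q (-m))) ≅
      CohB1.tensorMod M (Coh.structureModule X) :=
    PicGrp.tensorModIso (Iso.refl M) (μ ≪≫ z)
  have a : CohB1.tensorMod (CohB1.tensorMod M (tw r q m)) (tw r q (-m)) ≅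
      CohB1.tensorMod M (CohB1.tensorMod (tw r q m) (tw r q (-m))) :=
    Groth.Agent.Lib.Helper16.TA.assocIso M (tw r q m) (tw r q (-m))
  exact ⟨a ≪≫ t1 ≪≫ b1 ≪≫ u⟩

/-- **every invertible module on `P^r_A` comes from a stage** -/
theorem exists_descent (L : (c r A).pt.Modules) (hL : PicF.IsInvertible L) :
    ∃ (j : Over (i₀ A)) (Lj : ((D r A).obj j).Modules), PicF.IsInvertible Lj ∧
      Nonempty ((Scheme.Modules.pullback ((c r A).π.app j)).obj Lj ≅ L) := by
  obtain ⟨m, N, φ, ⟨τ⟩⟩ := Groth.Agent.Lib.Helper6.PnSerre.exists_map_twist_bun (isBun_limit r A) L hL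
  obtain ⟨j, g, hg⟩ := exists_factor r A N φ
  have hO1 : PicF.IsInvertible (Twist.twistProjSpace N Zu 1) :=
    TwistCov.isInvertible_twist (CohB1.polyGrading N Zu) (VeryAmpleImm.projSpace_cover N Zu) 1
  have hgO : PicF.IsInvertible ((Scheme.Modules.pullback g).obj (Twist.twistProjSpace N Zu 1)) :=
    isInvertible_pullback g hO1
  refine ⟨j, CohB1.tensorMod ((Scheme.Modules.pullback g).obj (Twist.twistProjSpace N Zu 1))
    (tw r (qj r A j) (-(m : ℤ))), isInvertible_tensorMod hgO (isInvertible_tw _ _), ?_⟩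
  obtain ⟨ψ, -⟩ := exists_pullback_tensorMod_iso ((c r A).π.app j) hgO
    (isInvertible_tw (qj r A j) (-(m : ℤ)))
  let e1 : (Scheme.Modules.pullback ((c r A).π.app j)).obj
      ((Scheme.Modules.pullback g).obj (Twist.twistProjSpace N Zu 1)) ≅
        CohB1.tensorMod L (tw r (qlim r A) (m : ℤ)) :=
    (Scheme.Modules.pullbackComp ((c r A).π.app j) g).app _ ≪≫
      (Scheme.Modules.pullbackCongr hg).app _ ≪≫ τ
  let e2 : (Scheme.Modules.pullback ((c r A).π.app j)).obj (tw r (qj r A j) (-(m : ℤ))) ≅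
      tw r (qlim r A) (-(m : ℤ)) :=
    twComp ((c r A).π.app j) (-(m : ℤ)) ≪≫ twCongr (π_qj r A j) (-(m : ℤ))
  obtain ⟨κ⟩ := nonempty_tw_cancel r (qlim r A) L (m : ℤ)
  exact ⟨ψ ≪≫ PicGrp.tensorModIso e1 e2 ≪≫ κ⟩

/-- the local statement for the limit bundle `P^r_A → Spec A`, `A` an arbitrary ring -/
theorem hasNear'_limit : HasNear' (qlim r A) (flim r A) := by
  intro L hL t
  obtain ⟨j, Lj, hLj, ⟨e⟩⟩ := exists_descent r A L hL
  have hN : HasNear' (qj r A j) (fj r A j) := (isBun_stage r A j).hasNear'_of_noeth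
  obtain ⟨n, Uj, σj, hz, hσj⟩ := hN Lj hLj (((specCone A).π.app j.left) t)
  obtain ⟨σ', hσ'⟩ := exists_isGen_pullback ((c r A).π.app j) (qlim r A) (π_qj r A j) Lj hLj n _ σj hσj
  obtain ⟨σ, hσ⟩ := exists_isGen_of_iso (PicGrp.tensorModIso e (Iso.refl (tw r (qlim r A) (-n)))) _ σ' hσ'
  have hU : (c r A).π.app j ⁻¹ᵁ (fj r A j ⁻¹ᵁ Uj) =
      flim r A ⁻¹ᵁ ((specCone A).π.app j.left ⁻¹ᵁ Uj) := by
    rw [← Scheme.Hom.comp_preimage, ← Scheme.Hom.comp_preimage, π_fj]
  refine ⟨n, (specCone A).π.app j.left ⁻¹ᵁ Uj, ?_⟩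
  rw [← hU]
  exact ⟨σ, hz, hσ⟩

end Groth.Agent.Lib.Helper6.PnLimit
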