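import Groth.Agent.Lib.Helper6.PnBunPic
import Groth.Agent.Lib.Helper28.RestrictGen
import Mathlib

/-!
# The local structure of invertible modules on a projective bundle: formal properties (helper6)

`HasNear' q f`: every invertible module on the bundle is, locally over the base, of the form `O(n)` up to a module
generated by one section.  Invariance under isomorphisms of bundles, the locally noetherian case, passage from affine
opens of the base to the whole base, and the implication `HasNear' → HasNear` in positive relative dimension.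
-/

set_option backward.isDefEq.respectTransparency.types false
set_option autoImplicit false
set_option linter.style.haveILetI false
set_option linter.unusedSectionVars false
universe u
open CategoryTheory CategoryTheory.Limits AlgebraicGeometry Opposite TopologicalSpace

noncomputable section
namespace Groth.Agent.Lib.Helper6.PnBun

open Groth.Agent.Lib.Helper28 Groth.Agent.Lib.Helper28.QCohLoc Groth.Agent.Lib.Helper28.GenLocus
  Groth.Agent.Lib.Helper28.PullbackInv Groth.Agent.Lib.Helper28.HomMod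
open Groth.Agent.Lib.Helper4.Bridge Groth.Agent.Lib.Helper6.PnChart Groth.Agent.Lib.Helper6.PnFlat
  Groth.Agent.Lib.Helper6.PicReduced Groth.Agent.Lib.Helper6.PnPicA Groth.Agent.Lib.Helper6.PnPicB

variable {r : ℕ} {X T : Scheme.{u}} (q : X ⟶ Proj (gZ r)) (f : X ⟶ T)

/-- `L ⊗ O(-n)` -/
abbrev Nt (L : X.Modules) (n : ℤ) : X.Modules := CohB1.tensorMod L (tw r q (-n))

/-- the local statement, without reference to the fibres -/
def HasNear' : Prop :=
  ∀ (L : X.Modules), PicF.IsInvertible L → ∀ t : T,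
    ∃ (n : ℤ) (U : T.Opens) (σ : Γ(Nt q L n, f ⁻¹ᵁ U)), t ∈ U ∧ IsGen (Nt q L n) (f ⁻¹ᵁ U) σ

variable {q f}

/-- `O(-n) ≅ O(n)^∨` -/
theorem nonempty_tw_neg_iso_dual (q : X ⟶ Proj (gZ r)) (n : ℤ) : Nonempty (tw r q (-n) ≅ dual (tw r q n)) := by
  obtain ⟨μ⟩ := nonempty_tw_mul q n (-n)
  obtain ⟨z⟩ := nonempty_tw_zero q
  rw [add_neg_cancel] at μ
  exact Groth.Agent.Lib.Helper6.FibreTriv.nonempty_iso_dual_of_tensor_iso _ _ (isInvertible_tw q n) (μ ≪≫ z)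

/-- `L ⊗ O(-n) ≅ L ⊗ O(n)^∨` -/
theorem nonempty_Nt_iso_Nq (q : X ⟶ Proj (gZ r)) (L : X.Modules) (n : ℤ) : Nonempty (Nt q L n ≅ Nq q L n) := by
  obtain ⟨e⟩ := nonempty_tw_neg_iso_dual q n
  exact ⟨PicGrp.tensorModIso (Iso.refl L) e⟩

/-- in positive relative dimension the fibrewise form follows -/
theorem IsBun.hasNear_of_hasNear' (h : IsBun r q f) (hr : 1 ≤ r) (hn : HasNear' q f) : HasNear q f := by
  intro L hL t n hy
  obtain ⟨n', U, σ, htU, hσ⟩ := hn L hL t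
  obtain ⟨e⟩ := nonempty_Nt_iso_Nq q L n'
  have hσ' := VeryAmpleImm.isGen_app_iso e hσ
  obtain ⟨β⟩ := fibre_iso_of_isGen' hL n' U _ hσ' t htU
  obtain ⟨γ⟩ := hy
  have : n' = n := h.twist_fibre_injective t hr n' n ⟨β ≪≫ γ.symm⟩
  subst this
  exact ⟨U, _, htU, hσ'⟩

/-- over a locally noetherian base -/
theorem IsBun.hasNear'_of_noeth (h : IsBun r q f) [IsLocallyNoetherian T] : HasNear' q f := by
  intro L hL t
  obtain ⟨n, ⟨α⟩⟩ := h.exists_twist_fibre t L hL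
  obtain ⟨U, σ, htU, hσ⟩ := h.hasNear_of_noeth L hL t n ⟨α.symm⟩
  obtain ⟨e⟩ := nonempty_Nt_iso_Nq q L n
  exact ⟨n, U, _, htU, VeryAmpleImm.isGen_app_iso e.symm hσ⟩

section Transport

variable {X' : Scheme.{u}}

/-- the inverse image of `L ⊗ O(-n)` -/
theorem nonempty_pullback_Nt_iso (g' : X' ⟶ X) (q' : X' ⟶ Proj (gZ r)) (hq : g' ≫ q = q')
    (L : X.Modules) (hL : PicF.IsInvertible L) (n : ℤ) :
    Nonempty ((Scheme.Modules.pullback g').obj (Nt q L n) ≅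
      Nt q' ((Scheme.Modules.pullback g').obj L) n) := by
  obtain ⟨ψ, -⟩ := exists_pullback_tensorMod_iso g' hL (isInvertible_tw q (-n))
  exact ⟨ψ ≪≫ PicGrp.tensorModIso (Iso.refl _) (twComp g' (-n) ≪≫ twCongr hq (-n))⟩

/-- generators pull back -/
theorem exists_isGen_pullback (g' : X' ⟶ X) (q' : X' ⟶ Proj (gZ r)) (hq : g' ≫ q = q')
    (L : X.Modules) (hL : PicF.IsInvertible L) (n : ℤ) (V : X.Opens) (σ : Γ(Nt q L n, V))
    (hσ : IsGen (Nt q L n) V σ) :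
    ∃ σ' : Γ(Nt q' ((Scheme.Modules.pullback g').obj L) n, g' ⁻¹ᵁ V),
      IsGen (Nt q' ((Scheme.Modules.pullback g').obj L) n) (g' ⁻¹ᵁ V) σ' := by
  obtain ⟨e⟩ := nonempty_pullback_Nt_iso g' q' hq L hL n
  exact ⟨_, VeryAmpleImm.isGen_app_iso e (isGen_pbs hσ)⟩

/-- transport of generators along an isomorphism of modules -/
theorem exists_isGen_of_iso {M M' : X.Modules} (e : M ≅ M') (V : X.Opens) (σ : Γ(M, V)) (hσ : IsGen M V σ) :
    ∃ σ' : Γ(M', V), IsGen M' V σ' :=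
  ⟨_, VeryAmpleImm.isGen_app_iso e hσ⟩

end Transport

/-- invariance under isomorphisms of bundles -/
theorem hasNear'_of_iso {X' : Scheme.{u}} {q' : X' ⟶ Proj (gZ r)} {f' : X' ⟶ T} (u : X ≅ X')
    (hq : u.hom ≫ q' = q) (hf : u.hom ≫ f' = f) (hn : HasNear' q' f') : HasNear' q f := by
  intro L hL t
  have hL' : PicF.IsInvertible ((Scheme.Modules.pullback u.inv).obj L) := isInvertible_pullback _ hL
  obtain ⟨n, U, σ', htU, hσ'⟩ := hn _ hL' t
  obtain ⟨σ'', hσ''⟩ := exists_isGen_pullback u.hom q hq _ hL' n _ σ' hσ'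
  have e : (Scheme.Modules.pullback u.hom).obj ((Scheme.Modules.pullback u.inv).obj L) ≅ L :=
    (Scheme.Modules.pullbackComp u.hom u.inv).app L ≪≫
      (Scheme.Modules.pullbackCongr u.hom_inv_id).app L ≪≫ (Scheme.Modules.pullbackId _).app L
  obtain ⟨σ, hσ⟩ := exists_isGen_of_iso (PicGrp.tensorModIso e (Iso.refl (tw r q (-n)))) _ σ'' hσ''
  have hU : u.hom ⁻¹ᵁ (f' ⁻¹ᵁ U) = f ⁻¹ᵁ U := by
    rw [← hf, Scheme.Hom.comp_preimage]
  refine ⟨n, U, ?_⟩
  rw [← hU]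
  exact ⟨σ, htU, hσ⟩

end Groth.Agent.Lib.Helper6.PnBun

namespace Groth.Agent.Lib.Helper6.PnBun

open Groth.Agent.Lib.Helper28 Groth.Agent.Lib.Helper28.QCohLoc Groth.Agent.Lib.Helper28.GenLocus
  Groth.Agent.Lib.Helper28.PullbackInv Groth.Agent.Lib.Helper28.HomMod
open Groth.Agent.Lib.Helper4.Bridge Groth.Agent.Lib.Helper6.PnChart Groth.Agent.Lib.Helper6.PnFlat

variable {r : ℕ} {X T : Scheme.{u}} {q : X ⟶ Proj (gZ r)} {f : X ⟶ T}

/-- passage from affine bases to arbitrary bases -/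
theorem IsBun.hasNear'_of_affine (h : IsBun r q f)
    (H : ∀ (A : Type u) [CommRing A] {X' : Scheme.{u}} (q' : X' ⟶ Proj (gZ r)) (f' : X' ⟶ SB A),
      IsBun r q' f' → HasNear' q' f') : HasNear' q f := by
  intro L hL t
  obtain ⟨W, hW, htW⟩ : ∃ W : T.Opens, IsAffineOpen W ∧ t ∈ W := by
    obtain ⟨W, hW, htW, -⟩ := Opens.isBasis_iff_nbhd.mp T.isBasis_affineOpens
      (show t ∈ (⊤ : T.Opens) from trivial)
    exact ⟨W, hW, htW⟩
  haveI : IsAffine (W : Scheme.{u}) := hW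
  let A : Type u := Γ(↑W, ⊤)
  let ε : (W : Scheme.{u}) ≅ SB A := (W : Scheme.{u}).isoSpec
  let ι : ((f ⁻¹ᵁ W : X.Opens) : Scheme.{u}) ⟶ X := (f ⁻¹ᵁ W).ι
  let f' : ((f ⁻¹ᵁ W : X.Opens) : Scheme.{u}) ⟶ SB A := f ∣_ W ≫ ε.hom
  have h1 : IsPullback ι (f ∣_ W) f W.ι := (isPullback_morphismRestrict _ _).flip
  have h1' : IsPullback ι f' f (ε.inv ≫ W.ι) :=
    h1.of_iso (Iso.refl _) (Iso.refl _) ε (Iso.refl _) (by simp) (by simp [f']) (by simp) (by simp)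
  have hb : IsBun r (ι ≫ q) f' := h.baseChange ι f' (ε.inv ≫ W.ι) h1'
  have hn := H A (ι ≫ q) f' hb
  obtain ⟨n, U', σ', ht'U', hσ'⟩ := hn ((Scheme.Modules.pullback ι).obj L)
    (isInvertible_pullback ι hL) (ε.hom ⟨t, htW⟩)
  obtain ⟨e₁⟩ := nonempty_pullback_Nt_iso ι (ι ≫ q) rfl L hL n
  let e₂ := (Scheme.Modules.restrictFunctorIsoPullback ι).app (Nt q L n)
  obtain ⟨σ₂, hσ₂⟩ := exists_isGen_of_iso (e₁.symm ≪≫ e₂.symm) _ σ' hσ'
  have hσ₃ := isGen_of_isGen_restrict (Nt q L n) (f ⁻¹ᵁ W) σ₂ hσ₂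
  let U'' : (W : Scheme.{u}).Opens := ε.hom ⁻¹ᵁ U'
  have hopen : (f ⁻¹ᵁ W).ι ''ᵁ (f' ⁻¹ᵁ U') = f ⁻¹ᵁ (W.ι ''ᵁ U'') := by
    rw [← image_morphismRestrict_preimage]
    rfl
  refine ⟨n, W.ι ''ᵁ U'', ?_⟩
  rw [← hopen]
  exact ⟨_, ⟨⟨t, htW⟩, ht'U', rfl⟩, hσ₃⟩

end Groth.Agent.Lib.Helper6.PnBun
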