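import Groth.Agent.Lib.Helper6.PnLimit
import Mathlib

/-!
# Invertible modules on projective space over an arbitrary connected base (helper6)

`Pic(P^r_S) = Pic(S) × ℤ` for `S` connected and `r ≥ 1`, by Noetherian approximation.
-/

set_option backward.isDefEq.respectTransparency.types false
set_option autoImplicit false
set_option linter.style.haveILetI false
set_option linter.unusedSectionVars false
universe u
open CategoryTheory CategoryTheory.Limits AlgebraicGeometry Opposite TopologicalSpace

noncomputable section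
namespace Groth.Agent.Lib.Helper6.PnPicGen

open Groth.Agent.Lib.Helper4.Bridge Groth.Agent.Lib.Helper6.PnChart Groth.Agent.Lib.Helper6.PnBun
  Groth.Agent.Lib.Helper6.PnLimit

variable {r : ℕ}

/-- the local statement for every bundle over an affine base -/
theorem hasNear'_affine (A : Type u) [CommRing A] {X' : Scheme.{u}} (q' : X' ⟶ Proj (gZ r))
    (f' : X' ⟶ SB A) (h : IsBun r q' f') : HasNear' q' f' := by
  obtain ⟨χ, hχ1, hχ2⟩ := h.exists_iso
  obtain ⟨χ', h1, h2⟩ := (isBun_limit r A).exists_iso
  refine hasNear'_of_iso (χ ≪≫ χ'.symm) ?_ ?_ (hasNear'_limit r A)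
  · rw [Iso.trans_hom, Iso.symm_hom, Category.assoc, ← h1, Iso.inv_hom_id_assoc, hχ1]
  · rw [Iso.trans_hom, Iso.symm_hom, Category.assoc, ← h2, Iso.inv_hom_id_assoc, hχ2]

/-- the local statement for every bundle -/
theorem IsBun.hasNear' {X T : Scheme.{u}} {q : X ⟶ Proj (gZ r)} {f : X ⟶ T} (h : IsBun r q f) :
    HasNear' q f :=
  h.hasNear'_of_affine (fun A _ _ q' f' h' => hasNear'_affine A q' f' h')

/-- **`Pic(P^r_S) = Pic(S) × ℤ`** for `S` connected and `r ≥ 1` -/
theorem main (S : Scheme.{u}) [ConnectedSpace S] (r : ℕ) (hr : 1 ≤ r) :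
    (∀ N : (CohB1.ProjSpaceOver r S).Modules, PicF.IsInvertible N →
      ∃ (L : S.Modules) (d : ℤ), PicF.IsInvertible L ∧
        Nonempty (N ≅ CohB1.tensorMod ((Scheme.Modules.pullback (CohB1.ProjSpaceOver.toBase r S)).obj L)
          (Twist.twistOver r S d))) ∧
    (∀ (L L' : S.Modules) (d d' : ℤ), PicF.IsInvertible L → PicF.IsInvertible L' →
      Nonempty (CohB1.tensorMod ((Scheme.Modules.pullback (CohB1.ProjSpaceOver.toBase r S)).obj L)
          (Twist.twistOver r S d) ≅
        CohB1.tensorMod ((Scheme.Modules.pullback (CohB1.ProjSpaceOver.toBase r S)).obj L')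
          (Twist.twistOver r S d')) →
      d = d' ∧ Nonempty (L ≅ L')) := by
  have h := isBun_over r S
  have hnear := h.hasNear_of_hasNear' hr (IsBun.hasNear' h)
  exact ⟨fun N hN => h.existence hnear hr N hN,
    fun L L' d d' hL hL' e => h.uniqueness hr L L' d d' hL hL' e⟩

end Groth.Agent.Lib.Helper6.PnPicGen
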