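import Groth.Agent.Lib.Helper8.P1Facts
import Groth.Agent.S10829
import Groth.Agent.Lib.Helper6.ExtShCodim
import Groth.Agent.Lib.Helper28.ProjSpaceBasic
import Mathlib

/-!
# Projective space over a field: regular local rings, equidimensionality
-/

set_option autoImplicit false
set_option linter.style.haveILetI false
set_option linter.unusedSectionVars false
set_option linter.unusedVariables false
set_option backward.isDefEq.respectTransparency.types false

universe u

open CategoryTheory CategoryTheory.Limits AlgebraicGeometry Opposite TopologicalSpace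

namespace Groth.Agent.Lib.Helper6.PnRegular

/-- the stalks at points of an affine open with regular coordinate ring are regular local rings -/
theorem isRegularLocalRing_stalk_of_isAffineOpen {X : Scheme.{u}} {U : X.Opens}
    (hU : IsAffineOpen U) [IsRegularRing Γ(X, U)] (x : X) (hx : x ∈ U) :
    IsRegularLocalRing (X.presheaf.stalk x) := by
  letI := X.presheaf.algebra_section_stalk ⟨x, hx⟩
  haveI := hU.isLocalization_stalk ⟨x, hx⟩
  let p := (hU.primeIdealOf ⟨x, hx⟩).asIdeal
  let e : Localization.AtPrime p ≃ₐ[Γ(X, U)] X.presheaf.stalk x :=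
    IsLocalization.algEquiv p.primeCompl _ _
  exact IsRegularLocalRing.of_ringEquiv e.toRingEquiv

variable (n : ℕ) (k : Type u) [Field k]

/-- the local rings of projective space over a field are regular -/
theorem isRegularLocalRing_stalk_projSpace (x : CohB1.ProjSpace n k) :
    IsRegularLocalRing ((CohB1.ProjSpace n k).presheaf.stalk x) := by
  obtain ⟨i, hx⟩ := Groth.Agent.Lib.Helper8.P1Facts.exists_mem_chart n k x
  have hX1 : (MvPolynomial.X i : MvPolynomial (Fin (n + 1)) k) ∈ CohB1.polyGrading n k 1 :=
    MvPolynomial.isHomogeneous_X k i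
  have hU : IsAffineOpen (Proj.basicOpen (CohB1.polyGrading n k) (MvPolynomial.X i)) :=
    Proj.isAffineOpen_basicOpen (CohB1.polyGrading n k) _ hX1 one_pos
  let e := Proj.basicOpenIsoAway (CohB1.polyGrading n k) (MvPolynomial.X i) hX1 one_pos
  obtain ⟨e'⟩ := Groth.Agent.Lib.Helper17.PnUFD.nonempty_awayEquiv n k i
  haveI : IsRegularRing (MvPolynomial (Fin n) k) := inferInstance
  haveI : IsRegularRing Γ(Proj (CohB1.polyGrading n k),
      Proj.basicOpen (CohB1.polyGrading n k) (MvPolynomial.X i)) :=
    IsRegularRing.of_ringEquiv (e'.symm.trans e.commRingCatIsoToRingEquiv)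
  exact isRegularLocalRing_stalk_of_isAffineOpen hU x hx

/-- projective space is equidimensional of dimension `n` -/
theorem dim_irreducibleComponents_projSpace (Z : Set ↥(CohB1.ProjSpace n k))
    (hZ : Z ∈ irreducibleComponents ↥(CohB1.ProjSpace n k)) :
    topologicalKrullDim ↥Z = (n : WithBot ℕ∞) := by
  haveI : IrreducibleSpace ↥(CohB1.ProjSpace n k) := inferInstance
  rw [irreducibleComponents_eq_singleton, Set.mem_singleton_iff] at hZ
  subst hZ
  rw [← Groth.Agent.S10829.result k n]
  exact (IsHomeomorph.topologicalKrullDim_eq _ (Homeomorph.Set.univ _).isHomeomorph)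

/-- **vanishing of `ℰxt^i(ι_* O_X, E)` below the codimension on projective space** -/
theorem isZero_extSh_push_structure_projSpace {X : Scheme.{u}} (ι : X ⟶ CohB1.ProjSpace n k)
    [IsClosedImmersion ι] (r : ℕ)
    (hr : topologicalKrullDim ↥X + (r : WithBot ℕ∞) ≤ (n : WithBot ℕ∞))
    (E : (CohB1.ProjSpace n k).Modules) (hE : FlatMod.IsFinLocFree E)
    [ModSite.HasSheafHom (O := (CohB1.ProjSpace n k).sheaf)
      ((Scheme.Modules.pushforward ι).obj (Coh.structureModule X))]
    [HasInjectiveResolutions (ModSite.Mod (CohB1.ProjSpace n k).sheaf)] (i : ℕ) (hi : i < r) :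
    IsZero ((ModSite.extSh (O := (CohB1.ProjSpace n k).sheaf)
      ((Scheme.Modules.pushforward ι).obj (Coh.structureModule X)) i).obj E) := by
  haveI : IsProper (CohB1.ProjSpace n k ↘ Spec (CommRingCat.of k)) :=
    Groth.Agent.Lib.Helper28.ProjSpaceBasic.isProper_toSpec n k
  exact ExtShCodim.isZero_extSh_push_structure_codim k (CohB1.ProjSpace n k)
    (isRegularLocalRing_stalk_projSpace n k) n r (dim_irreducibleComponents_projSpace n k)
    ι hr E hE i hi

end Groth.Agent.Lib.Helper6.PnRegular
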