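import Groth.Agent.Lib.Helper6.PnNear
import Groth.Agent.Lib.Helper28.TwistNegGen
import Groth.Agent.Lib.Helper2.SerreFin2
import Groth.Agent.Lib.Helper6.K0Op
import Mathlib

/-!
# A twist of an invertible module on `Proj A[T]` is the inverse image of `O(1)` under a morphism to `P^N_ℤ` (helper6)
-/

set_option backward.isDefEq.respectTransparency.types false
set_option autoImplicit false
set_option linter.style.haveILetI false
set_option linter.unusedSectionVars false
universe u
open CategoryTheory CategoryTheory.Limits AlgebraicGeometry Opposite TopologicalSpace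

noncomputable section
namespace Groth.Agent.Lib.Helper6.PnSerre

open Groth.Agent.Lib.Helper28 Groth.Agent.Lib.Helper28.QCohLoc Groth.Agent.Lib.Helper28.GenLocus
  Groth.Agent.Lib.Helper28.PullbackInv Groth.Agent.Lib.Helper28.HomMod Groth.Agent.Lib.Helper28.TensorGen
open Groth.Agent.Lib.Helper4.Bridge

section Cover

variable {X : Scheme.{u}} {M : X.Modules}

theorem coef_zero {U : X.Opens} {g : Γ(M, U)} (hg : IsGen M U g) {V : X.Opens} (hV : V ≤ U) :
    hg.coef hV (0 : Γ(M, V)) = 0 := by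
  apply hg.coef_eq
  rw [zero_smul]

/-- a locally generating family of sections of an invertible module: at every point one of them generates -/
theorem cover_of_locGen (hM : PicF.IsInvertible M) {ι : Type*} (σ : ι → (Coh.structureModule X ⟶ M))
    (h : LocGen σ) (x : X) : ∃ a, x ∈ CohB1.genLocus M (σ a) := by
  obtain ⟨U, g, hxU, hg⟩ := exists_isGen M hM x
  obtain ⟨V, hV, hxV, hmem⟩ := h U g x hxU
  let ra : ι → Γ(X, U) := fun a => hg.coef le_rfl (res M (le_top : U ≤ ⊤) (secOf (σ a)))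
  by_contra hne
  push Not at hne
  have hnu : ∀ a, ¬ IsUnit (X.presheaf.germ V x hxV (resO hV (ra a))) := by
    intro a hu
    apply hne a
    have h1 : x ∈ X.basicOpen (resO hV (ra a)) := (X.mem_basicOpen _ x hxV).2 hu
    have h1' : x ∈ V ⊓ X.basicOpen (ra a) := by
      have := Scheme.basicOpen_res X (ra a) (homOfLE hV).op
      rw [← this]
      exact h1
    have h2 : x ∈ X.basicOpen (ra a) := h1'.2
    rw [← genLocus_inf_eq_coef (σ a) U g hg] at h2
    exact h2.1
  have key : ∀ y ∈ genRange σ V,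
      X.presheaf.germ V x hxV (hg.coef hV y) ∈ IsLocalRing.maximalIdeal (X.presheaf.stalk x) := by
    intro y hy
    refine genRange_induction σ V
      (P := fun y => X.presheaf.germ V x hxV (hg.coef hV y) ∈
        IsLocalRing.maximalIdeal (X.presheaf.stalk x)) ?_ ?_ ?_ hy
    · intro a c
      have h3 : (σ a).app V c = ((show Γ(X, V) from c) • res M (le_top : V ≤ ⊤) (secOf (σ a)) : Γ(M, V)) :=
        app_eq_smul (σ a) V c
      have h4 : hg.coef hV (res M (le_top : V ≤ ⊤) (secOf (σ a))) = resO hV (ra a) := by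
        have := hg.coef_res le_rfl hV (res M (le_top : U ≤ ⊤) (secOf (σ a)))
        rw [res_res] at this
        exact this
      rw [h3, hg.coef_smul_left, h4, map_mul]
      exact Ideal.mul_mem_left _ _ ((IsLocalRing.mem_maximalIdeal _).2 (hnu a))
    · rw [coef_zero, map_zero]
      exact zero_mem _
    · intro y y' hy hy'
      rw [hg.coef_add, map_add]
      exact add_mem hy hy'
  have h5 := key _ hmem
  rw [hg.coef_res_self, map_one] at h5
  exact (IsLocalRing.mem_maximalIdeal _).1 h5 isUnit_one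

end Cover

section Proj

open Groth.Agent.Lib.Helper2.ProjCoh3 Groth.Agent.Lib.Helper2.SerreFin2

variable (r : ℕ) (A : Type u) [CommRing A]

/-- **Serre**: for an invertible module `F` on `Proj A[T]` (`A` any ring), some twist `F(m)` is the inverse image
of `O(1)` under a morphism to a projective space over `ℤ`. -/
theorem exists_map_twist (F : (CohB1.ProjSpace r A).Modules) (hF : PicF.IsInvertible F) :
    ∃ (m : ℕ) (N : ℕ) (φ : CohB1.ProjSpace r A ⟶ CohB1.ProjSpace N Zu),
      Nonempty ((Scheme.Modules.pullback φ).obj (Twist.twistProjSpace N Zu 1) ≅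
        CohB1.tensorMod F (Twist.twistProjSpace r A (m : ℤ))) := by
  have hcoh := Groth.Agent.Lib.Helper6.K0Op.isCoh_of_isInvertible F hF
  let F' : (Proj (gr r A)).Modules := F
  haveI : F'.IsQuasicoherent := hcoh.1
  haveI : SheafOfModules.IsFiniteType.{u} (R := (Proj (gr r A)).ringCatSheaf) F' := hcoh.2
  obtain ⟨n₀, hn₀⟩ := Groth.Agent.Lib.Helper28.GammaStar.exists_locGen_twistNeg (𝒜 := gr r A)
    (s := vars r A) (F := F') (vars_mem r A) (irrelevant_eq_span r A)
  obtain ⟨k, φ, hφ⟩ := hn₀ n₀ le_rfl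
  have hgen := Groth.Agent.Lib.Helper28.GammaStar.hgen_of_span (vars_mem r A) (irrelevant_eq_span r A)
  obtain ⟨ψ₁⟩ := TwistMul.nonempty_tensor_iso (gr r A) hgen (-(n₀ : ℤ)) (n₀ : ℤ)
  obtain ⟨ψ₀⟩ := TwistInv.nonempty_twist_zero_iso (gr r A) hgen
  have h0 : -(n₀ : ℤ) + (n₀ : ℤ) = ((0 : ℕ) : ℤ) := by simp
  rw [h0] at ψ₁
  let ψ : Coh.structureModule (Proj (gr r A)) ⟶
      CohB1.tensorMod (Twist.twist (gr r A) (-(n₀ : ℤ))) (Twist.twist (gr r A) (n₀ : ℤ)) := ψ₀.inv ≫ ψ₁.inv
  have hL := (hφ.tensor (Twist.twist (gr r A) (n₀ : ℤ))).iso_comp ψ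
  let M : (Proj (gr r A)).Modules := CohB1.tensorMod F' (Twist.twist (gr r A) (n₀ : ℤ))
  have hM : PicF.IsInvertible M :=
    isInvertible_tensorMod hF (TwistCov.isInvertible_twist (gr r A) (VeryAmpleImm.projSpace_cover r A) _)
  let σ : Fin k → (Coh.structureModule (Proj (gr r A)) ⟶ M) :=
    fun a => ψ ≫ LimSh.tensorModMap (φ a) (Twist.twist (gr r A) (n₀ : ℤ))
  have hcov := cover_of_locGen hM σ hL
  let s : Fin (k + 1) → (Coh.structureModule (Proj (gr r A)) ⟶ M) :=
    fun i => Fin.lastCases 0 (fun a => σ a) i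
  have hcov' : ∀ x : Proj (gr r A), ∃ a, x ∈ CohB1.genLocus M (s a) := by
    intro x
    obtain ⟨a, ha⟩ := hcov x
    refine ⟨a.castSucc, ?_⟩
    have : s a.castSucc = σ a := Fin.lastCases_castSucc _
    rw [this]
    exact ha
  obtain ⟨r₀, τ, -⟩ := VeryAmpleImm.exists_map_to_projSpace hM k s hcov'
  rw [Nat.cast_one] at τ
  exact ⟨n₀, k, r₀, ⟨τ⟩⟩

end Proj

section Bun

open Groth.Agent.Lib.Helper6.PnBun

variable {r : ℕ} {X : Scheme.{u}} {q : X ⟶ Proj (gZ r)} {B : Type u} [CommRing B] {f : X ⟶ SB B}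

/-- the same on a bundle over an affine base -/
theorem exists_map_twist_bun (h : IsBun r q f) (L : X.Modules) (hL : PicF.IsInvertible L) :
    ∃ (m : ℕ) (N : ℕ) (φ : X ⟶ CohB1.ProjSpace N Zu),
      Nonempty ((Scheme.Modules.pullback φ).obj (Twist.twistProjSpace N Zu 1) ≅
        CohB1.tensorMod L (tw r q (m : ℤ))) := by
  obtain ⟨θ, -, hθ⟩ := h.exists_chart
  have hF : PicF.IsInvertible ((Scheme.Modules.pullback θ.inv).obj L) := isInvertible_pullback _ hL
  obtain ⟨m, N, φ₀, ⟨τ₀⟩⟩ := exists_map_twist r B _ hF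
  obtain ⟨α⟩ := hθ (m : ℤ)
  obtain ⟨ψ, -⟩ := exists_pullback_tensorMod_iso θ.hom hF
    (TwistCov.isInvertible_twist (CohB1.polyGrading r B) (VeryAmpleImm.projSpace_cover r B) (m : ℤ))
  have e : (Scheme.Modules.pullback θ.hom).obj ((Scheme.Modules.pullback θ.inv).obj L) ≅ L :=
    (Scheme.Modules.pullbackComp θ.hom θ.inv).app L ≪≫
      (Scheme.Modules.pullbackCongr θ.hom_inv_id).app L ≪≫ (Scheme.Modules.pullbackId _).app L
  refine ⟨m, N, θ.hom ≫ φ₀, ⟨?_⟩⟩
  exact ((Scheme.Modules.pullbackComp θ.hom φ₀).app _).symm ≪≫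
    (Scheme.Modules.pullback θ.hom).mapIso τ₀ ≪≫ ψ ≪≫ PicGrp.tensorModIso e α.symm

end Bun

end Groth.Agent.Lib.Helper6.PnSerre
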