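import Mathlib.CategoryTheory.Triangulated.Pretriangulated
import Mathlib.CategoryTheory.Triangulated.Triangulated
import Mathlib.Tactic.Ring
import Mathlib.Tactic.Linarith

/-!
# Helpers for Postnikov systems in triangulated categories (helper6)

* `exact_shift_left`, `exact_shift_right`: exactness of `Hom` on shifted distinguished triangles,
  phrased with iterated shifts `A⟦1⟧⟦m⟧` so that no sign/commutation isomorphisms appear.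
* `eIso s : A⟦1⟧⟦s-1⟧ ≅ A⟦s⟧`.
* `hom_from_Y_eq_zero`, `hom_to_Y_eq_zero`: dévissage of `Hom(Y_m⟦s⟧, Z)` and `Hom(W, Y_m⟦s⟧)`
  for a Postnikov tower `Y_{k+1} → X_{k+1} → Y_k → Y_{k+1}⟦1⟧`.
* `comp_eq_zero_of_tower`: a family `w_k : Y_k ⟶ Y'_k` compatible with the connecting maps and with
  `w_0 = 0` is killed by every map to an object `Z` receiving no maps from the `X_i⟦i+s-m⟧`.
-/

universe v u

namespace Groth.Agent.Lib.Helper6.Postnikov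

open CategoryTheory Category Limits Pretriangulated

variable {D : Type u} [Category.{v} D] [Preadditive D] [HasZeroObject D] [HasShift D ℤ]
    [∀ n : ℤ, (shiftFunctor D n).Additive] [Pretriangulated D]

lemma exact_shift_left {A B C Z : D} (f : A ⟶ B) (g : B ⟶ C) (h : C ⟶ A⟦(1 : ℤ)⟧)
    (hT : Triangle.mk f g h ∈ distTriang D) (m : ℤ) (φ : (A⟦(1 : ℤ)⟧)⟦m⟧ ⟶ Z)
    (hφ : h⟦m⟧' ≫ φ = 0) : ∃ ψ : (B⟦(1 : ℤ)⟧)⟦m⟧ ⟶ Z, φ = (f⟦(1 : ℤ)⟧')⟦m⟧' ≫ ψ := by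
  have hT' := Triangle.shift_distinguished _ (rot_of_distTriang _ hT) m
  obtain ⟨ψ, hψ⟩ : ∃ ψ : (B⟦m⟧)⟦(1 : ℤ)⟧ ⟶ Z,
      φ = (m.negOnePow • ((-f⟦(1 : ℤ)⟧')⟦m⟧' ≫ (shiftFunctorComm D 1 m).hom.app B)) ≫ ψ :=
    Triangle.yoneda_exact₃ _ hT' φ (by
      change (m.negOnePow • h⟦m⟧') ≫ φ = 0
      rw [Linear.units_smul_comp, hφ, smul_zero])
  refine ⟨-(m.negOnePow • ((shiftFunctorComm D 1 m).hom.app B ≫ ψ)), ?_⟩
  rw [hψ]
  simp only [Functor.map_neg, Preadditive.neg_comp, Preadditive.comp_neg, Linear.units_smul_comp,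
    Linear.comp_units_smul, Category.assoc, smul_neg]

lemma exact_shift_right {A B C W : D} (f : A ⟶ B) (g : B ⟶ C) (h : C ⟶ A⟦(1 : ℤ)⟧)
    (hT : Triangle.mk f g h ∈ distTriang D) (m : ℤ) (φ : W ⟶ (A⟦(1 : ℤ)⟧)⟦m⟧)
    (hφ : φ ≫ (f⟦(1 : ℤ)⟧')⟦m⟧' = 0) : ∃ ψ : W ⟶ C⟦m⟧, φ = ψ ≫ h⟦m⟧' := by
  have hT' := Triangle.shift_distinguished _ (rot_of_distTriang _ hT) m
  obtain ⟨ψ, hψ⟩ : ∃ ψ : W ⟶ C⟦m⟧, φ = ψ ≫ (m.negOnePow • h⟦m⟧') :=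
    Triangle.coyoneda_exact₃ _ hT' φ (by
      change φ ≫ (m.negOnePow • ((-f⟦(1 : ℤ)⟧')⟦m⟧' ≫ (shiftFunctorComm D 1 m).hom.app B)) = 0
      rw [Linear.comp_units_smul, Functor.map_neg, Preadditive.neg_comp, Preadditive.comp_neg,
        reassoc_of% hφ, zero_comp, neg_zero, smul_zero])
  refine ⟨m.negOnePow • ψ, ?_⟩
  rw [hψ, Linear.comp_units_smul, Linear.units_smul_comp]

variable (D) in
/-- The natural isomorphism `A⟦1⟧⟦s-1⟧ ≅ A⟦s⟧`. -/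
noncomputable def eIso (s : ℤ) :
    shiftFunctor D (1 : ℤ) ⋙ shiftFunctor D (s - 1) ≅ shiftFunctor D s :=
  (shiftFunctorAdd' D 1 (s - 1) s (by omega)).symm

@[reassoc]
lemma eIso_hom_naturality (s : ℤ) {A B : D} (f : A ⟶ B) :
    (f⟦(1 : ℤ)⟧')⟦s - 1⟧' ≫ (eIso D s).hom.app B = (eIso D s).hom.app A ≫ f⟦s⟧' :=
  (eIso D s).hom.naturality f

@[reassoc]
lemma eIso_inv_naturality (s : ℤ) {A B : D} (f : A ⟶ B) :
    f⟦s⟧' ≫ (eIso D s).inv.app B = (eIso D s).inv.app A ≫ (f⟦(1 : ℤ)⟧')⟦s - 1⟧' :=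
  (eIso D s).inv.naturality f

omit [Preadditive D] [HasZeroObject D] [∀ n : ℤ, (shiftFunctor D n).Additive] [Pretriangulated D] in
/-- `Hom(A⟦u⟧, B) = 0` implies `Hom(A, B⟦t⟧) = 0` when `t + u = 0`. -/
lemma hom_shift_eq_zero [HasZeroMorphisms D] [∀ n : ℤ, (shiftFunctor D n).PreservesZeroMorphisms]
    {A B : D} (u t : ℤ) (h : t + u = 0)
    (hAB : ∀ ψ : A⟦u⟧ ⟶ B, ψ = 0) (ψ : A ⟶ B⟦t⟧) : ψ = 0 := by
  have h1 := hAB (ψ⟦u⟧' ≫ (shiftFunctorCompIsoId D t u h).hom.app B)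
  have h2 : ψ⟦u⟧' = 0 :=
    (cancel_mono ((shiftFunctorCompIsoId D t u h).hom.app B)).1 (by rw [h1, zero_comp])
  exact (shiftFunctor D u).map_injective (by rw [h2, Functor.map_zero])

omit [Preadditive D] [HasZeroObject D] [∀ n : ℤ, (shiftFunctor D n).Additive] [Pretriangulated D] in
/-- `Hom(A⟦u'⟧, B) = 0` implies `Hom(A⟦u⟧, B⟦t⟧) = 0` when `u' + t = u`. -/
lemma hom_shift_shift_eq_zero [HasZeroMorphisms D]
    [∀ n : ℤ, (shiftFunctor D n).PreservesZeroMorphisms]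
    {A B : D} (u t u' : ℤ) (h : u' + t = u)
    (hAB : ∀ ψ : A⟦u'⟧ ⟶ B, ψ = 0) (ψ : A⟦u⟧ ⟶ B⟦t⟧) : ψ = 0 := by
  have h1 := hAB ((shiftFunctorAdd' D u (-t) u' (by omega)).hom.app A ≫ ψ⟦-t⟧' ≫
    (shiftFunctorCompIsoId D t (-t) (by omega)).hom.app B)
  have h2 : ψ⟦-t⟧' = 0 := by
    have h3 : ψ⟦-t⟧' ≫ (shiftFunctorCompIsoId D t (-t) (by omega)).hom.app B = 0 :=
      (cancel_epi ((shiftFunctorAdd' D u (-t) u' (by omega)).hom.app A)).1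
        (by rw [h1, comp_zero])
    exact (cancel_mono ((shiftFunctorCompIsoId D t (-t) (by omega)).hom.app B)).1
      (by rw [h3, zero_comp])
  exact (shiftFunctor D (-t)).map_injective (by rw [h2, Functor.map_zero])

section Tower

variable (Xo : ℕ → D) (Y : ℕ → D) (a : ∀ k, Y k ⟶ Xo k) (b : ∀ k, Xo (k + 1) ⟶ Y k)
  (c : ∀ k, Y k ⟶ (Y (k + 1))⟦(1 : ℤ)⟧) (n : ℕ)

include a b c in
lemma hom_from_Y_eq_zero (h0 : IsIso (a 0))
    (hP : ∀ k, k < n → Triangle.mk (a (k + 1)) (b k) (c k) ∈ distTriang D)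
    (m : ℕ) (hm : m ≤ n) : ∀ (s : ℤ) (Z : D),
    (∀ i, i ≤ m → ∀ t : ℤ, t = s - m + i → ∀ ψ : (Xo i)⟦t⟧ ⟶ Z, ψ = 0) →
    ∀ ψ : (Y m)⟦s⟧ ⟶ Z, ψ = 0 := by
  induction m with
  | zero =>
    intro s Z hZ ψ
    have h1 := hZ 0 le_rfl s (by simp) ((inv (a 0))⟦s⟧' ≫ ψ)
    calc ψ = (a 0)⟦s⟧' ≫ (inv (a 0))⟦s⟧' ≫ ψ := by
          rw [← Functor.map_comp_assoc, IsIso.hom_inv_id, CategoryTheory.Functor.map_id, id_comp]
      _ = 0 := by rw [h1, comp_zero]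
  | succ m ih =>
    intro s Z hZ ψ
    have hT := hP m (by omega)
    have h1 : (c m)⟦s - 1⟧' ≫ (eIso D s).hom.app (Y (m + 1)) ≫ ψ = 0 :=
      ih (by omega) (s - 1) Z
        (fun i hi t ht ψ' => hZ i (by omega) t (by push_cast; omega) ψ') _
    obtain ⟨χ, hχ⟩ := exact_shift_left _ _ _ hT (s - 1) _ h1
    have hχ0 : χ = 0 := by
      have h2 := hZ (m + 1) le_rfl s (by push_cast; ring) ((eIso D s).inv.app _ ≫ χ)
      calc χ = (eIso D s).hom.app _ ≫ (eIso D s).inv.app _ ≫ χ := by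
            rw [Iso.hom_inv_id_app_assoc]
        _ = 0 := by rw [h2, comp_zero]
    rw [hχ0, comp_zero] at hχ
    calc ψ = (eIso D s).inv.app _ ≫ (eIso D s).hom.app _ ≫ ψ := by
          rw [Iso.inv_hom_id_app_assoc]
      _ = 0 := by rw [hχ, comp_zero]

include a b c in
lemma hom_to_Y_eq_zero (h0 : IsIso (a 0))
    (hP : ∀ k, k < n → Triangle.mk (a (k + 1)) (b k) (c k) ∈ distTriang D)
    (m : ℕ) (hm : m ≤ n) : ∀ (s : ℤ) (W : D),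
    (∀ i, i ≤ m → ∀ t : ℤ, t = s - m + i → ∀ ψ : W ⟶ (Xo i)⟦t⟧, ψ = 0) →
    ∀ ψ : W ⟶ (Y m)⟦s⟧, ψ = 0 := by
  induction m with
  | zero =>
    intro s W hW ψ
    have h1 := hW 0 le_rfl s (by simp) (ψ ≫ (a 0)⟦s⟧')
    calc ψ = (ψ ≫ (a 0)⟦s⟧') ≫ (inv (a 0))⟦s⟧' := by
          rw [assoc, ← Functor.map_comp, IsIso.hom_inv_id, CategoryTheory.Functor.map_id, comp_id]
      _ = 0 := by rw [h1, zero_comp]
  | succ m ih =>
    intro s W hW ψ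
    have hT := hP m (by omega)
    have h1 : (ψ ≫ (eIso D s).inv.app (Y (m + 1))) ≫ ((a (m + 1))⟦(1 : ℤ)⟧')⟦s - 1⟧' = 0 := by
      rw [assoc, ← eIso_inv_naturality, ← assoc,
        hW (m + 1) le_rfl s (by push_cast; ring) (ψ ≫ (a (m + 1))⟦s⟧'), zero_comp]
    obtain ⟨χ, hχ⟩ := exact_shift_right _ _ _ hT (s - 1) _ h1
    have hχ0 : χ = 0 :=
      ih (by omega) (s - 1) W
        (fun i hi t ht ψ' => hW i (by omega) t (by push_cast; omega) ψ') χ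
    rw [hχ0, zero_comp] at hχ
    calc ψ = (ψ ≫ (eIso D s).inv.app _) ≫ (eIso D s).hom.app _ := by
          rw [assoc, Iso.inv_hom_id_app, comp_id]
      _ = 0 := by rw [hχ, zero_comp]

variable (qY : ℕ → D) (qc : ∀ k, qY k ⟶ (qY (k + 1))⟦(1 : ℤ)⟧)

include a b c qc in
lemma comp_eq_zero_of_tower
    (hP : ∀ k, k < n → Triangle.mk (a (k + 1)) (b k) (c k) ∈ distTriang D)
    (w : ∀ k, Y k ⟶ qY k) (hw0 : w 0 = 0)
    (hwc : ∀ k, k < n → c k ≫ (w (k + 1))⟦(1 : ℤ)⟧' = w k ≫ qc k)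
    (m : ℕ) (hm : m ≤ n) : ∀ (s : ℤ) (Z : D),
    (∀ i, 1 ≤ i → i ≤ m → ∀ t : ℤ, t = s - m + i → ∀ ψ : (Xo i)⟦t⟧ ⟶ Z, ψ = 0) →
    ∀ ρ : (qY m)⟦s⟧ ⟶ Z, (w m)⟦s⟧' ≫ ρ = 0 := by
  induction m with
  | zero =>
    intro s Z _ ρ
    rw [hw0, Functor.map_zero, zero_comp]
  | succ m ih =>
    intro s Z hZ ρ
    have hT := hP m (by omega)
    have h1 : (c m)⟦s - 1⟧' ≫ (eIso D s).hom.app (Y (m + 1)) ≫ (w (m + 1))⟦s⟧' ≫ ρ = 0 := by
      have h2 := ih (by omega) (s - 1) Z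
        (fun i hi1 hi t ht ψ' => hZ i hi1 (by omega) t (by push_cast; omega) ψ')
        ((qc m)⟦s - 1⟧' ≫ (eIso D s).hom.app (qY (m + 1)) ≫ ρ)
      rw [← eIso_hom_naturality_assoc, ← Functor.map_comp_assoc, hwc m (by omega),
        Functor.map_comp_assoc]
      exact h2
    obtain ⟨χ, hχ⟩ := exact_shift_left _ _ _ hT (s - 1) _ h1
    have hχ0 : χ = 0 := by
      have h2 := hZ (m + 1) (by omega) le_rfl s (by push_cast; ring) ((eIso D s).inv.app _ ≫ χ)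
      calc χ = (eIso D s).hom.app _ ≫ (eIso D s).inv.app _ ≫ χ := by
            rw [Iso.hom_inv_id_app_assoc]
        _ = 0 := by rw [h2, comp_zero]
    rw [hχ0, comp_zero] at hχ
    calc (w (m + 1))⟦s⟧' ≫ ρ
        = (eIso D s).inv.app _ ≫ (eIso D s).hom.app _ ≫ (w (m + 1))⟦s⟧' ≫ ρ := by
          rw [Iso.inv_hom_id_app_assoc]
      _ = 0 := by rw [hχ, comp_zero]

end Tower

end Groth.Agent.Lib.Helper6.Postnikov
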