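import Groth.Agent.Lib.Helper6.GrothSS
import Groth.Agent.Lib.Helper6.ExtRD
import Groth.Agent.Lib.Helper6.CechFamSieve
import Groth.Agent.Lib.Helper6.TotAcyc
import Groth.Agent.Lib.Helper6.CohPresheaf
import Mathlib.CategoryTheory.Preadditive.Yoneda.Limits

/-!
# The spectral sequence `H^p(R, ℋ^q(M)) ⇒ H^{p+q}(aR, M)` (helper6)
-/

universe u

open CategoryTheory Limits Opposite Abelian

namespace Groth.Agent.Lib.Helper6.PresheafSS

open DeltaCompare

section ExtIso

variable {𝒜 : Type*} [Category 𝒜] [Abelian 𝒜] [HasExt.{u} 𝒜]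

/-- `Ext` is invariant under isomorphisms in the first variable -/
noncomputable def extAddEquivOfIso {A A' : 𝒜} (e : A ≅ A') (F : 𝒜) (n : ℕ) :
    Ext A' F n ≃+ Ext A F n where
  toFun x := (Ext.mk₀ e.hom).comp x (zero_add n)
  invFun x := (Ext.mk₀ e.inv).comp x (zero_add n)
  left_inv x := by
    simp [Ext.mk₀_comp_mk₀_assoc, Ext.mk₀_id_comp]
  right_inv x := by
    simp [Ext.mk₀_comp_mk₀_assoc, Ext.mk₀_id_comp]
  map_add' x y := by simp

end ExtIso

variable {C : Type u} [SmallCategory C] (J : GrothendieckTopology C) (R : Cᵒᵖ ⥤ Type u)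

/-- the free abelian `K`-sheaf on a presheaf of sets -/
noncomputable abbrev ZP (K : GrothendieckTopology C) : Sheaf K AddCommGrpCat.{u} :=
  (presheafToSheaf K AddCommGrpCat.{u}).obj (R ⋙ AddCommGrpCat.free.{u})

/-- the canonical map `ℤ_⊥[R] ⟶ ι (ℤ_J[R])` -/
noncomputable def cR : ZP R ⊥ ⟶ (SieveExt.ι J).obj (ZP R J) :=
  ((sheafificationAdjunction ⊥ AddCommGrpCat.{u}).homEquiv (R ⋙ AddCommGrpCat.free.{u})
    ((SieveExt.ι J).obj (ZP R J))).symm
    ((sheafificationAdjunction J AddCommGrpCat.{u}).homEquiv (R ⋙ AddCommGrpCat.free.{u})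
      (ZP R J) (𝟙 _))

lemma compMap_cR (M : Sheaf J AddCommGrpCat.{u}) (τ : ZP R J ⟶ M) :
    CechFamSieve.compMap (SieveExt.ι J) (cR J R) M τ =
      ((sheafificationAdjunction ⊥ AddCommGrpCat.{u}).homEquiv (R ⋙ AddCommGrpCat.free.{u})
        ((SieveExt.ι J).obj M)).symm
      ((sheafificationAdjunction J AddCommGrpCat.{u}).homEquiv (R ⋙ AddCommGrpCat.free.{u})
        M τ) := by
  change cR J R ≫ (SieveExt.ι J).map τ = _
  have key : ∀ (x : R ⋙ AddCommGrpCat.free.{u} ⟶
      (sheafToPresheaf ⊥ AddCommGrpCat.{u}).obj ((SieveExt.ι J).obj (ZP R J))),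
      ((sheafificationAdjunction ⊥ AddCommGrpCat.{u}).homEquiv (R ⋙ AddCommGrpCat.free.{u})
        ((SieveExt.ι J).obj (ZP R J))).symm x ≫ (SieveExt.ι J).map τ =
      ((sheafificationAdjunction ⊥ AddCommGrpCat.{u}).homEquiv (R ⋙ AddCommGrpCat.free.{u})
        ((SieveExt.ι J).obj M)).symm
        (x ≫ (sheafToPresheaf ⊥ AddCommGrpCat.{u}).map ((SieveExt.ι J).map τ)) := fun x =>
    ((sheafificationAdjunction ⊥ AddCommGrpCat.{u}).homEquiv_naturality_right_symm x
      ((SieveExt.ι J).map τ)).symm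
  refine (key _).trans ?_
  refine congrArg ((sheafificationAdjunction ⊥ AddCommGrpCat.{u}).homEquiv
    (R ⋙ AddCommGrpCat.free.{u}) ((SieveExt.ι J).obj M)).symm ?_
  have h := (sheafificationAdjunction J AddCommGrpCat.{u}).homEquiv_naturality_right
    (𝟙 (ZP R J)) τ
  rw [Category.id_comp] at h
  exact h.symm

lemma compMap_cR_bijective (M : Sheaf J AddCommGrpCat.{u}) :
    Function.Bijective (CechFamSieve.compMap (SieveExt.ι J) (cR J R) M) := by
  have : (CechFamSieve.compMap (SieveExt.ι J) (cR J R) M : _ → _) =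
      ((sheafificationAdjunction ⊥ AddCommGrpCat.{u}).homEquiv (R ⋙ AddCommGrpCat.free.{u})
        ((SieveExt.ι J).obj M)).symm ∘
      ((sheafificationAdjunction J AddCommGrpCat.{u}).homEquiv (R ⋙ AddCommGrpCat.free.{u}) M) := by
    funext τ
    exact compMap_cR J R M τ
  rw [this]
  exact (Equiv.bijective _).comp (Equiv.bijective _)

/-- `Hom(ℤ_⊥[R], -)` on presheaves -/
noncomputable abbrev SR : Sheaf (⊥ : GrothendieckTopology C) AddCommGrpCat.{u} ⥤
    AddCommGrpCat.{u} :=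
  preadditiveCoyoneda.obj (op (ZP R ⊥))

instance : PreservesFiniteLimits (SR R) := PreservesLimits.preservesFiniteLimits _

instance : PreservesFiniteLimits (SieveExt.ι J ⋙ SR R) := comp_preservesFiniteLimits _ _

/-- `Hom(ℤ_J[R], M) ≅ Hom(ℤ_⊥[R], ι M)` -/
noncomputable def θA : extFunctorObj (ZP R J) 0 ≅ SieveExt.ι J ⋙ SR R :=
  CechFamSieve.θ0 (ZP R J) ≪≫
    CechFamSieve.coyonedaIso (SieveExt.ι J) (cR J R) (compMap_cR_bijective J R)

/-- the derived functors of `Hom(ℤ_⊥[R], -)` are the `Ext` groups -/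
lemma nonempty_HKbot_iso (N : Sheaf (⊥ : GrothendieckTopology C) AddCommGrpCat.{u}) (p : ℕ) :
    Nonempty (AddCommGrpCat.of (Ext (ZP R ⊥) N p) ≅ ((SR R).rightDerived p).obj N) :=
  ExtRD.nonempty_ext_iso_rightDerived (ZP R ⊥) (SR R) (CechFamSieve.θ0 _) N p

/-- the derived functors of `Hom(ℤ_⊥[R], ι -)` are the `Ext` groups out of `ℤ_J[R]` -/
lemma nonempty_HK_iso (M : Sheaf J AddCommGrpCat.{u}) (n : ℕ) :
    Nonempty (AddCommGrpCat.of (Ext (ZP R J) M n) ≅
      ((SieveExt.ι J ⋙ SR R).rightDerived n).obj M) :=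
  ExtRD.nonempty_ext_iso_rightDerived (ZP R J) (SieveExt.ι J ⋙ SR R) (θA J R) M n

/-- the derived functors of `ι` are the cohomology presheaves -/
lemma nonempty_rightDerived_ι_iso (M : Sheaf J AddCommGrpCat.{u}) (q : ℕ) :
    Nonempty (((SieveExt.ι J).rightDerived q).obj M ≅
      (⟨M.cohomologyPresheaf q, Presheaf.isSheaf_bot _⟩ :
        Sheaf (⊥ : GrothendieckTopology C) AddCommGrpCat.{u})) :=
  delta_compare (fun n => (SieveExt.ι J).rightDerived n)
    (fun n => CohPresheaf.P J n ⋙ (sheafBotEquivalence AddCommGrpCat.{u}).inverse)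
    (Functor.rightDerivedZeroIsoSelf (SieveExt.ι J) ≪≫
      Functor.isoWhiskerRight (CohPresheaf.Piso₀ J).symm _) (fun _ => True) (fun G _ => by
      have hE := ExtAcyc.sesUnder_shortExact G
      have hI : Injective (ExtAcyc.sesUnder G).X₂ := inferInstance
      exact ⟨_, _, (ExtAcyc.sesUnder G).f, (ExtAcyc.sesUnder G).g, trivial,
        RDShift.hasShift_rightDerived _ _ hE
          (fun n => Functor.isZero_rightDerived_obj_injective_succ _ n _),
        RDShift.HasShift.comp_exact (CohPresheaf.hasShift_P _ hE) _⟩) q M trivial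

/-- the free abelian sheaf on `R` is the free abelian sheaf on the sheafification of `R` -/
noncomputable def zpIso : ZP R J ≅ (presheafToSheaf J AddCommGrpCat.{u}).obj
    (((presheafToSheaf J (Type u)).obj R).obj ⋙ AddCommGrpCat.free.{u}) :=
  (TotAcyc.isoAB J).app R

/-- **The spectral sequence** `H^p(R, ℋ^q(M)) ⇒ H^{p+q}(aR, M)`. -/
theorem presheaf_spectralSequence (M : Sheaf J AddCommGrpCat.{u}) :
    ∃ (E : E₂CohomologicalSpectralSequence AddCommGrpCat.{u})
      (a : SpSeq.Abutment E (fun n : ℤ =>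
        if 0 ≤ n then AddCommGrpCat.of (CohCx.HK ((presheafToSheaf J (Type u)).obj R) M n.toNat)
        else AddCommGrpCat.of PUnit.{u + 1})),
      (∀ n, a.IsFinite n) ∧ SpSeq.IsBounded E ∧
      ∀ p q : ℤ, Nonempty ((E.page 2 le_rfl).X (p, q) ≅
        (if 0 ≤ p ∧ 0 ≤ q then
          AddCommGrpCat.of (CohCx.HK (J := (⊥ : GrothendieckTopology C))
            ⟨R, Presheaf.isSheaf_bot _⟩
            ⟨M.cohomologyPresheaf q.toNat, Presheaf.isSheaf_bot _⟩ p.toNat)
         else AddCommGrpCat.of PUnit.{u + 1})) := by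
  refine GrothSS.exists_spectralSequence' (SieveExt.ι J) (SR R)
    (fun Q hQ q hq => by
      have := hQ
      obtain ⟨q', rfl⟩ : ∃ q', q = q' + 1 := ⟨q - 1, by lia⟩
      exact Functor.isZero_rightDerived_obj_injective_succ _ q' _) M _ ?_ ?_ _ ?_ ?_
  · intro n
    obtain ⟨e⟩ := nonempty_HK_iso J R M n
    let e' : AddCommGrpCat.of (Ext (ZP R J) M n) ≅
        AddCommGrpCat.of (CohCx.HK ((presheafToSheaf J (Type u)).obj R) M n) :=
      AddEquiv.toAddCommGrpIso (X := AddCommGrpCat.of (Ext (ZP R J) M n))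
        (Y := AddCommGrpCat.of (CohCx.HK ((presheafToSheaf J (Type u)).obj R) M n))
        (extAddEquivOfIso (zpIso J R) M n).symm
    refine ⟨e.symm ≪≫ e' ≪≫ eqToIso ?_⟩
    simp
  · intro n hn
    rw [if_neg (by lia)]
    exact AddCommGrpCat.isZero_of_subsingleton _
  · intro p q
    obtain ⟨e1⟩ := nonempty_rightDerived_ι_iso J M q
    obtain ⟨e2⟩ := nonempty_HKbot_iso R
      (⟨M.cohomologyPresheaf q, Presheaf.isSheaf_bot _⟩ :
        Sheaf (⊥ : GrothendieckTopology C) AddCommGrpCat.{u}) p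
    refine ⟨((SR R).rightDerived p).mapIso e1 ≪≫ e2.symm ≪≫ eqToIso ?_⟩
    simp
  · intro p q h
    rw [if_neg h]
    exact AddCommGrpCat.isZero_of_subsingleton _

end Groth.Agent.Lib.Helper6.PresheafSS
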