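import Groth.Agent.S0010
import Groth.Agent.S2357
import Groth.Agent.Lib.Helper2.Cover
import Groth.Agent.Lib.Helper2.HLes
import Groth.Agent.Lib.Helper2.HLesLin
import Groth.Agent.Lib.Helper27.ImmNoeth
import Groth.Agent.Lib.Helper28.ResolutionFamily
import Groth.Agent.Lib.Helper28.PullbackAmple
import Groth.Agent.Lib.Helper28.TwistGenDAmple
import Groth.Agent.Lib.Helper28.VeryAmpleImm
import Groth.Agent.Lib.Helper17.CohKer
import Groth.Agent.Lib.Helper17.FFLocFree
import Mathlib

/-!
# Quasi-projective schemes over a field: vanishing for locally free modules implies vanishing for coherent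
modules (helper6)
-/

set_option backward.isDefEq.respectTransparency.types false
set_option autoImplicit false
set_option linter.style.haveILetI false
set_option linter.unusedSectionVars false
universe u
open CategoryTheory CategoryTheory.Limits AlgebraicGeometry Opposite TopologicalSpace

noncomputable section
namespace Groth.Agent.Lib.Helper6.QProjVan

open Groth.Agent.Lib.Helper28

/-- a quasi-projective scheme over a noetherian ring has the resolution property -/
theorem hasResolutionProperty_of_isImmersion (R : Type u) [CommRing R] [IsNoetherianRing R] (N : ℕ)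
    {X : Scheme.{u}} (ι : X ⟶ CohB1.ProjSpace N R) [IsImmersion ι] :
    PerfAux.HasResolutionProperty X := by
  haveI : IsNoetherian (CohB1.ProjSpace N R) := Groth.Agent.S2357.result (CohB1.polyGrading N R)
  haveI : QuasiCompact ι := Groth.Agent.Lib.Helper27.ImmNoeth.quasiCompact_of_isImmersion ι
  haveI : CompactSpace X := QuasiCompact.compactSpace_of_compactSpace ι
  haveI : CompactSpace (Proj (CohB1.polyGrading N R)) :=
    inferInstanceAs (CompactSpace (CohB1.ProjSpace N R))
  have hO1 : CohB1.IsAmple (Twist.twistProjSpace N R ((1 : ℕ) : ℤ)) :=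
    TwistGenD.isAmple_twist_of_cover (CohB1.polyGrading N R) 1 one_pos (VeryAmpleImm.projSpace_cover N R)
  have hL : CohB1.IsAmple ((Scheme.Modules.pullback ι).obj (Twist.twistProjSpace N R ((1 : ℕ) : ℤ))) :=
    PullbackInv.isAmple_pullback_of_isEmbedding ι ι.isEmbedding _ hO1
  apply HomMod.hasResolutionProperty_of_hasAmpleFamily
  refine ⟨inferInstance, fun x => ?_⟩
  obtain ⟨m, s, hx, haff⟩ := hL.2.2 x
  exact ⟨_, m + 1, s, hL.1, by omega, hx, haff⟩

/-- **S10947** -/
theorem subsingleton_HH_of_finLocFree (k : Type u) [Field k] (N : ℕ) {X : Scheme.{u}}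
    (ι : X ⟶ CohB1.ProjSpace N k) [IsImmersion ι] (n : ℕ)
    (h : ∀ E : X.Modules, FlatMod.IsFinLocFree E → ∀ i : ℕ, n < i → Subsingleton (Coh.HH X E i))
    (F : X.Modules) (hF : Coh.IsCoh F) (i : ℕ) (hi : n < i) : Subsingleton (Coh.HH X F i) := by
  haveI : IsNoetherian (CohB1.ProjSpace N k) := Groth.Agent.S2357.result (CohB1.polyGrading N k)
  haveI : QuasiCompact ι := Groth.Agent.Lib.Helper27.ImmNoeth.quasiCompact_of_isImmersion ι
  haveI : CompactSpace X := QuasiCompact.compactSpace_of_compactSpace ι
  haveI : IsLocallyNoetherian X := LocallyOfFiniteType.isLocallyNoetherian ι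
  have hres := hasResolutionProperty_of_isImmersion k N ι
  obtain ⟨t, U, hU, hcov⟩ := Groth.Agent.Lib.Helper2.Cover.exists_finite_affine_cover X
  haveI : IsSeparated (CohB1.ProjSpace.toSpec N k) := by
    have h1 : IsSeparated (Proj.toSpecZero (CohB1.polyGrading N k)) := inferInstance
    have h2 : IsSeparated (Spec.map (CommRingCat.ofHom
      (algebraMap k ↥(CohB1.polyGrading N k 0)))) := inferInstance
    exact MorphismProperty.comp_mem _ _ _ h1 h2
  haveI : IsSeparated (ι ≫ CohB1.ProjSpace.toSpec N k) := inferInstance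
  have hd : ∀ V W : X.Opens, IsAffineOpen V → IsAffineOpen W → IsAffineOpen (V ⊓ W) :=
    fun V W hV hW => Groth.Agent.Lib.Helper2.Cover.isAffineOpen_inf_of_isSeparated
      (ι ≫ CohB1.ProjSpace.toSpec N k) V W hV hW
  have key : ∀ d : ℕ, ∀ j : ℕ, n < j → t ≤ j + d → ∀ G : X.Modules, Coh.IsCoh G →
      Subsingleton (Coh.HH X G j) := by
    intro d
    induction d with
    | zero =>
      intro j _ hjt G hG
      haveI : Coh.IsQCoh G := hG.1
      exact Groth.Agent.S0010.result X t U hU hcov hd G j (by omega)
    | succ d ih =>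
      intro j hj hjt G hG
      obtain ⟨E, π, hE, hπ⟩ := hres G hG.1 hG.2
      haveI := hπ
      have hEc := Groth.Agent.Lib.Helper17.FFLocFree.isCoh_of_isFinLocFree E hE
      haveI : E.IsQuasicoherent := hEc.1
      haveI : G.IsQuasicoherent := hG.1
      haveI : SheafOfModules.IsFiniteType.{u} (R := X.ringCatSheaf) E := hEc.2
      have hK : Coh.IsCoh (kernel π) :=
        ⟨Groth.Agent.Lib.Helper17.CohKer.isQuasicoherent_kernel π,
          Groth.Agent.Lib.Helper17.CohKer.isFiniteType_kernel π⟩
      let S : ShortComplex X.Modules := ShortComplex.mk (kernel.ι π) π (kernel.condition π)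
      have hS : S.ShortExact :=
        { exact := ShortComplex.exact_of_f_is_kernel _ (kernelIsKernel π)
          mono_f := inferInstanceAs (Mono (kernel.ι π))
          epi_g := hπ }
      have a₂ := h E hE j hj
      have a₁ := ih (j + 1) (by omega) (by omega) (kernel π) hK
      exact Groth.Agent.Lib.Helper2.HLes.subsingleton_X₃
        (Groth.Agent.Lib.Helper2.HLesLin.shortExact_Sab S hS) j a₂ a₁
  exact key t i hi (by omega) F hF

end Groth.Agent.Lib.Helper6.QProjVan
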