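import Groth.Agent.Lib.Helper28.AmpleFinite
import Groth.Agent.Lib.Helper6.QProjVan
import Groth.Agent.Lib.Helper4.Bridge
import Mathlib

/-!
# A quasi-projective scheme of dimension `d` over a Noetherian ring is covered by `d + 1` affine opens (helper6)
-/

set_option backward.isDefEq.respectTransparency.types false
set_option autoImplicit false
set_option linter.style.haveILetI false
set_option linter.unusedSectionVars false
universe u
open CategoryTheory CategoryTheory.Limits AlgebraicGeometry Opposite TopologicalSpace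

noncomputable section
namespace Groth.Agent.Lib.Helper6.QProjCover

open Groth.Agent.Lib.Helper28

variable {X : Scheme.{u}}

/-- the inductive statement: `k` affine opens such that every chain of irreducible closed subsets ending outside
their union has length at most `d - k` -/
def P (X : Scheme.{u}) (d k : ℕ) : Prop :=
  ∃ U : Fin k → X.Opens, (∀ i, IsAffineOpen (U i)) ∧
    ∀ p : LTSeries (IrreducibleCloseds X),
      ((p.last : IrreducibleCloseds X) : Set X) ⊆ (⋃ i, (U i : Set X))ᶜ → p.length + k ≤ d

theorem P_zero (d : ℕ) (hX : topologicalKrullDim X = d) : P X d 0 := by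
  refine ⟨Fin.elim0, fun i => i.elim0, fun p _ => ?_⟩
  have h1 : (p.length : WithBot ℕ∞) ≤ Order.krullDim (IrreducibleCloseds X) := Order.LTSeries.length_le_krullDim p
  have h2 : (p.length : WithBot ℕ∞) ≤ ((d : ℕ) : WithBot ℕ∞) := by
    rw [← hX]; exact h1
  have h3 : p.length ≤ d := by exact_mod_cast h2
  omega

theorem P_succ [NoetherianSpace X] (L : X.Modules) (hL : CohB1.IsAmple L) (d k : ℕ) (h : P X d k) :
    P X d (k + 1) := by
  classical
  obtain ⟨U, hU, hP⟩ := h
  have hTc : IsClosed ((⋃ i, (U i : Set X))ᶜ) :=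
    (isOpen_iUnion fun i => (U i).2).isClosed_compl
  obtain ⟨S, hSf, hSc, hSi, hTS⟩ := NoetherianSpace.exists_finite_set_isClosed_irreducible hTc
  -- the generic points of the members of `S`
  let Z : Set X := ⋃ t ∈ S, {x | IsGenericPoint x t}
  have hZ : Z.Finite := by
    refine Set.Finite.biUnion hSf fun t _ => Set.Subsingleton.finite ?_
    intro x hx y hy
    exact IsGenericPoint.eq hx hy
  obtain ⟨n, s, hZs, -, haff⟩ := GenLocus.exists_affine_genLocus_of_finite hL Z hZ ⊤ (fun _ _ => trivial)
  refine ⟨Fin.snoc U (CohB1.genLocus _ s), ?_, ?_⟩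
  · intro i
    refine Fin.lastCases ?_ (fun j => ?_) i
    · rw [Fin.snoc_last]; exact haff
    · rw [Fin.snoc_castSucc]; exact hU j
  · intro p hp
    have hpT : ((p.last : IrreducibleCloseds X) : Set X) ⊆ (⋃ i, (U i : Set X))ᶜ := by
      intro x hx
      have := hp hx
      simp only [Set.mem_compl_iff, Set.mem_iUnion, not_exists] at this ⊢
      intro j
      have h1 := this j.castSucc
      rw [Fin.snoc_castSucc] at h1
      exact h1
    have hpG : Disjoint ((p.last : IrreducibleCloseds X) : Set X) (CohB1.genLocus _ s : Set X) := by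
      rw [Set.disjoint_left]
      intro x hx hxs
      have := hp hx
      simp only [Set.mem_compl_iff, Set.mem_iUnion, not_exists] at this
      have h1 := this (Fin.last k)
      rw [Fin.snoc_last] at h1
      exact h1 hxs
    -- `p.last` lies in a member of `S`
    have hsub : ((p.last : IrreducibleCloseds X) : Set X) ⊆ ⋃₀ (hSf.toFinset : Set (Set X)) := by
      rw [Set.Finite.coe_toFinset, ← hTS]; exact hpT
    obtain ⟨t, ht, hpt⟩ := (isIrreducible_iff_sUnion_isClosed.1 p.last.isIrreducible') hSf.toFinset
      (fun z hz => hSc z ((Set.Finite.mem_toFinset hSf).1 hz)) hsub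
    have htS : t ∈ S := (Set.Finite.mem_toFinset hSf).1 ht
    let tt : IrreducibleCloseds X := ⟨t, hSi t htS, hSc t htS⟩
    have hlt : p.last < tt := by
      refine lt_of_le_of_ne hpt ?_
      intro heq
      have hξ : IsGenericPoint (hSi t htS).genericPoint t :=
        (hSi t htS).isGenericPoint_genericPoint (hSc t htS)
      have hξZ : (hSi t htS).genericPoint ∈ Z := Set.mem_biUnion htS hξ
      have hξt : (hSi t htS).genericPoint ∈ t := hξ.mem
      have hξp : (hSi t htS).genericPoint ∈ ((p.last : IrreducibleCloseds X) : Set X) := by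
        rw [heq]; exact hξt
      exact Set.disjoint_left.1 hpG hξp (hZs hξZ)
    have hq := hP (p.snoc tt hlt) (by
      rw [RelSeries.last_snoc]
      show t ⊆ _
      rw [hTS]
      exact Set.subset_sUnion_of_mem htS)
    rw [RelSeries.snoc_length] at hq
    omega

/-- **`d + 1` affine opens cover a Noetherian scheme of dimension `d` with an ample invertible module** -/
theorem exists_affine_cover_of_isAmple [NoetherianSpace X] (L : X.Modules) (hL : CohB1.IsAmple L) (d : ℕ)
    (hX : topologicalKrullDim X = d) :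
    ∃ U : Fin (d + 1) → X.Opens, (∀ i, IsAffineOpen (U i)) ∧ ⨆ i, U i = ⊤ := by
  have hk : ∀ k, P X d k := by
    intro k
    induction k with
    | zero => exact P_zero d hX
    | succ k ih => exact P_succ L hL d k ih
  obtain ⟨U, hU, hP⟩ := hk (d + 1)
  refine ⟨U, hU, ?_⟩
  rw [eq_top_iff]
  intro x _
  by_contra hx
  have hxT : x ∈ (⋃ i, (U i : Set X))ᶜ := by
    simp only [Set.mem_compl_iff, Set.mem_iUnion, not_exists]
    intro i hi
    exact hx (Opens.mem_iSup.2 ⟨i, hi⟩)
  have hTc : IsClosed ((⋃ i, (U i : Set X))ᶜ) :=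
    (isOpen_iUnion fun i => (U i).2).isClosed_compl
  let c : IrreducibleCloseds X := ⟨closure {x}, isIrreducible_singleton.closure, isClosed_closure⟩
  have := hP (RelSeries.singleton _ c) (by
    show closure {x} ⊆ _
    exact hTc.closure_subset_iff.2 (Set.singleton_subset_iff.2 hxT))
  simp at this

/-- **S11556** -/
theorem main (A : Type u) [CommRing A] [IsNoetherianRing A] (n d : ℕ) {X : Scheme.{u}}
    (j : X ⟶ CohB1.ProjSpaceOver n (Spec (CommRingCat.of A))) [IsImmersion j]
    (hX : topologicalKrullDim ↥X = d) :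
    ∃ U : Fin (d + 1) → X.Opens, (∀ i, IsAffineOpen (U i)) ∧ ⨆ i, U i = ⊤ := by
  obtain ⟨i₀, hi₀, -, -⟩ := Groth.Agent.Lib.Helper4.Bridge.exists_bridge n A
  haveI := hi₀
  let ι : X ⟶ CohB1.ProjSpace n A := j ≫ i₀
  haveI : IsImmersion ι := inferInstanceAs (IsImmersion (j ≫ i₀))
  haveI : IsNoetherian (CohB1.ProjSpace n A) := Groth.Agent.S2357.result (CohB1.polyGrading n A)
  haveI : QuasiCompact ι := Groth.Agent.Lib.Helper27.ImmNoeth.quasiCompact_of_isImmersion ι
  haveI : CompactSpace X := QuasiCompact.compactSpace_of_compactSpace ι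
  haveI : IsLocallyNoetherian X := LocallyOfFiniteType.isLocallyNoetherian ι
  haveI : IsNoetherian X := { }
  haveI : CompactSpace (Proj (CohB1.polyGrading n A)) :=
    inferInstanceAs (CompactSpace (CohB1.ProjSpace n A))
  have hO1 : CohB1.IsAmple (Twist.twistProjSpace n A ((1 : ℕ) : ℤ)) :=
    TwistGenD.isAmple_twist_of_cover (CohB1.polyGrading n A) 1 one_pos (VeryAmpleImm.projSpace_cover n A)
  have hL : CohB1.IsAmple ((Scheme.Modules.pullback ι).obj (Twist.twistProjSpace n A ((1 : ℕ) : ℤ))) :=
    PullbackInv.isAmple_pullback_of_isEmbedding ι ι.isEmbedding _ hO1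
  exact exists_affine_cover_of_isAmple _ hL d hX

end Groth.Agent.Lib.Helper6.QProjCover
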