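import Mathlib
import Groth.Prelude.Def_Coh
import Groth.Prelude.Def_ModSite2
import Groth.Prelude.Def_ExtSupp
import Groth.Agent.Lib.Helper6.SheafHomExact
import Groth.Agent.Lib.Helper6.RDSesLES
import Groth.Agent.Lib.Helper6.ModAbPush

/-!
# The contravariant long exact sequence of relative Ext sheaves (helper6)
-/

universe u

open CategoryTheory Limits Opposite AlgebraicGeometry

namespace Groth.Agent.Lib.Helper6.RelExtLES

variable {X Y : Scheme.{u}} (f : X ⟶ Y)

/-- `f_*` of a sectionwise surjective map is an epimorphism -/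
lemma epi_push_map {A B : X.Modules} (φ : A ⟶ B)
    (h : ∀ (V : X.Opens) (t : B.val.obj (op V)), ∃ x : A.val.obj (op V), φ.val.app (op V) x = t) :
    Epi ((Scheme.Modules.pushforward f).map φ) := by
  have : Epi ((ModAbPush.tS Y).map ((Scheme.Modules.pushforward f).map φ)) := by
    apply TotAcycProd.epi_of_sections_surjective
    intro W t
    exact h (f ⁻¹ᵁ W) t
  have hF : (ModAbPush.tS Y).Faithful :=
    inferInstanceAs (SheafOfModules.toSheaf.{u} Y.ringCatSheaf).Faithful
  exact (ModAbPush.tS Y).epi_of_epi_map this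

variable (S : ShortComplex (ModSite.Mod X.sheaf))
  [ModSite.HasSheafHom (O := X.sheaf) S.X₁] [ModSite.HasSheafHom (O := X.sheaf) S.X₂]
  [ModSite.HasSheafHom (O := X.sheaf) S.X₃]

/-- `f_* ℋom(F'', -) ⟶ f_* ℋom(F, -)` -/
noncomputable abbrev α : ModSite.sheafHom (O := X.sheaf) S.X₃ ⋙ Scheme.Modules.pushforward f ⟶
    ModSite.sheafHom (O := X.sheaf) S.X₂ ⋙ Scheme.Modules.pushforward f :=
  Functor.whiskerRight (ExtSupp.sheafHomMap (O := X.sheaf) S.g) (Scheme.Modules.pushforward f)

/-- `f_* ℋom(F, -) ⟶ f_* ℋom(F', -)` -/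
noncomputable abbrev β : ModSite.sheafHom (O := X.sheaf) S.X₂ ⋙ Scheme.Modules.pushforward f ⟶
    ModSite.sheafHom (O := X.sheaf) S.X₁ ⋙ Scheme.Modules.pushforward f :=
  Functor.whiskerRight (ExtSupp.sheafHomMap (O := X.sheaf) S.f) (Scheme.Modules.pushforward f)

lemma hw : α f S ≫ β f S = 0 := by
  ext I : 2
  change (Scheme.Modules.pushforward f).map ((ExtSupp.sheafHomMap (O := X.sheaf) S.g).app I) ≫
    (Scheme.Modules.pushforward f).map ((ExtSupp.sheafHomMap (O := X.sheaf) S.f).app I) = 0
  refine ((Scheme.Modules.pushforward f).map_comp _ _).symm.trans ?_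
  refine (congrArg (Scheme.Modules.pushforward f).map
    (SheafHomExact.sheafHomMap_comp_app X.sheaf S I)).trans ?_
  exact (Scheme.Modules.pushforward f).map_zero _ _

variable [(ModSite.sheafHom (O := X.sheaf) S.X₁ ⋙ Scheme.Modules.pushforward f).Additive]
  [(ModSite.sheafHom (O := X.sheaf) S.X₂ ⋙ Scheme.Modules.pushforward f).Additive]
  [(ModSite.sheafHom (O := X.sheaf) S.X₃ ⋙ Scheme.Modules.pushforward f).Additive]
  [HasInjectiveResolutions (ModSite.Mod X.sheaf)]

lemma hses (hS : S.ShortExact) (I : ModSite.Mod X.sheaf) (hI : Injective I) :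
    (RDSes.sc (α f S) (β f S) (hw f S) I).ShortExact := by
  have := hS.mono_f
  have := hS.epi_g
  have hpl : PreservesFiniteLimits (Scheme.Modules.pushforward f) :=
    (Scheme.Modules.pullbackPushforwardAdjunction f).rightAdjoint_preservesLimits.{0, 0}.preservesFiniteLimits
  let A : X.Modules := (ModSite.sheafHom (O := X.sheaf) S.X₃).obj I
  let B : X.Modules := (ModSite.sheafHom (O := X.sheaf) S.X₂).obj I
  let C : X.Modules := (ModSite.sheafHom (O := X.sheaf) S.X₁).obj I
  let a : A ⟶ B := (ExtSupp.sheafHomMap (O := X.sheaf) S.g).app I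
  let b : B ⟶ C := (ExtSupp.sheafHomMap (O := X.sheaf) S.f).app I
  have w : a ≫ b = 0 := SheafHomExact.sheafHomMap_comp_app X.sheaf S I
  have hm : Mono a := SheafHomExact.mono_sheafHomMap_app X.sheaf S I
  have he : (ShortComplex.mk a b w).Exact :=
    SheafHomExact.exact_sheafHomMap_app X.sheaf S I hS.exact
  have he' := he.map_of_mono_of_preservesKernel (Scheme.Modules.pushforward f) hm inferInstance
  have hm' : Mono ((Scheme.Modules.pushforward f).map a) := inferInstance
  have hepi : Epi ((Scheme.Modules.pushforward f).map b) :=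
    epi_push_map f b (fun V t =>
      SheafHomExact.surjective_sheafHomMap_app X.sheaf S.f I V t)
  exact ShortComplex.ShortExact.mk' he' hm' hepi

end Groth.Agent.Lib.Helper6.RelExtLES
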