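import Mathlib
import Groth.Prelude.Def_Coh
import Groth.Prelude.Def_ModSite2
import Groth.Prelude.Def_ExtSupp
import Groth.Agent.Lib.Helper6.SectExact
import Groth.Agent.Lib.Helper6.RelExtLES
import Groth.Agent.Lib.Helper6.H0Iso
import Groth.Agent.Lib.Helper6.RDShift
import Groth.Agent.Lib.Helper6.GrothSS

/-!
# Acyclic resolutions compute relative Ext sheaves (helper6)
-/

universe u

open CategoryTheory Limits Opposite AlgebraicGeometry

namespace Groth.Agent.Lib.Helper6.RelExtRes

section General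

universe v v' u₁ u₂

variable {A : Type u₁} {B : Type u₂} [Category.{v} A] [Category.{v'} B] [Abelian A] [Abelian B]
  [HasInjectiveResolutions A] (Φ : A ⥤ B) [Φ.Additive] [PreservesFiniteLimits Φ]

/-- a left exact functor preserves short exact sequences whose kernel has no `R¹` -/
lemma shortExact_map_of_isZero {E : ShortComplex A} (hE : E.ShortExact)
    (h1 : IsZero ((Φ.rightDerived 1).obj E.X₁)) : (E.map Φ).ShortExact := by
  have : EnoughInjectives A := GrothSS.enoughInjectives_of_hasInjectiveResolutions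
  have := hE.mono_f
  obtain ⟨δ, w₀, w₁, w₂, e₀, e₁, e₂⟩ := RDShift.rightDerived_les Φ hE 0
  have hepi : Epi ((Φ.rightDerived 0).map E.g) := e₁.epi_f (h1.eq_of_tgt _ _)
  have hnat := Φ.rightDerivedZeroIsoSelf.hom.naturality E.g
  have heq : Φ.map E.g = Φ.rightDerivedZeroIsoSelf.inv.app E.X₂ ≫ (Φ.rightDerived 0).map E.g ≫
      Φ.rightDerivedZeroIsoSelf.hom.app E.X₃ := by
    rw [hnat, Iso.inv_hom_id_app_assoc]
  have hepi' : Epi (Φ.map E.g) := by
    rw [heq]
    infer_instance
  exact ShortComplex.ShortExact.mk' (hE.exact.map_of_mono_of_preservesKernel Φ hE.mono_f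
    inferInstance) (inferInstanceAs (Mono (Φ.map E.f))) hepi'

omit [Abelian A] [HasInjectiveResolutions A] in
lemma exact_congr {P Q R : A} [HasZeroMorphisms A] {a a' : P ⟶ Q} {b b' : Q ⟶ R} (w : a ≫ b = 0)
    (ha : a = a') (hb : b = b') (h : (ShortComplex.mk a b w).Exact) :
    (ShortComplex.mk a' b' (by rw [← ha, ← hb]; exact w)).Exact := by
  subst ha hb
  exact h

end General

variable {X Y : Scheme.{u}} (f : X ⟶ Y)

/-- `G ↦ f_* ℋom(M, G)` -/
noncomputable abbrev T (M : ModSite.Mod X.sheaf) [ModSite.HasSheafHom (O := X.sheaf) M] :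
    ModSite.Mod X.sheaf ⥤ Y.Modules :=
  ModSite.sheafHom (O := X.sheaf) M ⋙ Scheme.Modules.pushforward f

/-- contravariance -/
noncomputable abbrev Tmap {M M' : ModSite.Mod X.sheaf} [ModSite.HasSheafHom (O := X.sheaf) M]
    [ModSite.HasSheafHom (O := X.sheaf) M'] (u : M' ⟶ M) : T f M ⟶ T f M' :=
  Functor.whiskerRight (ExtSupp.sheafHomMap (O := X.sheaf) u) (Scheme.Modules.pushforward f)

lemma Tmap_comp_zero {M₁ M₂ M₃ : ModSite.Mod X.sheaf} [ModSite.HasSheafHom (O := X.sheaf) M₁]
    [ModSite.HasSheafHom (O := X.sheaf) M₂] [ModSite.HasSheafHom (O := X.sheaf) M₃]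
    (u : M₁ ⟶ M₂) (v : M₂ ⟶ M₃) (h : u ≫ v = 0) (G : ModSite.Mod X.sheaf) :
    (Tmap f v).app G ≫ (Tmap f u).app G = 0 := by
  have := RelExtLES.hw f (ShortComplex.mk u v h)
  exact congrArg (fun t => t.app G) this

variable (L : ChainComplex (ModSite.Mod X.sheaf) ℕ)
  [∀ j : ℕ, ModSite.HasSheafHom (O := X.sheaf) (L.X j)]

/-- the complex `f_* ℋom(L_•, G)` -/
noncomputable def Kobj (G : ModSite.Mod X.sheaf) : CochainComplex Y.Modules ℕ :=
  CochainComplex.of (fun j => (T f (L.X j)).obj G) (fun j => (Tmap f (L.d (j + 1) j)).app G)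
    (fun j => Tmap_comp_zero f _ _ (L.d_comp_d _ _ _) G)

lemma Kobj_d (G : ModSite.Mod X.sheaf) (j : ℕ) :
    (Kobj f L G).d j (j + 1) = (Tmap f (L.d (j + 1) j)).app G :=
  CochainComplex.of_d (fun j => (T f (L.X j)).obj G) (fun j => (Tmap f (L.d (j + 1) j)).app G) j

/-- the functor `G ↦ f_* ℋom(L_•, G)` -/
noncomputable def K : ModSite.Mod X.sheaf ⥤ CochainComplex Y.Modules ℕ where
  obj G := Kobj f L G
  map {G G'} g := CochainComplex.ofHom (X := Kobj f L G) (Y := Kobj f L G')
    (fun j => (T f (L.X j)).map g)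
    (fun j => by
      rw [Kobj_d, Kobj_d]
      exact (Tmap f (L.d (j + 1) j)).naturality g)
  map_id G := by
    apply HomologicalComplex.hom_ext
    intro j
    exact (T f (L.X j)).map_id G
  map_comp g g' := by
    apply HomologicalComplex.hom_ext
    intro j
    exact (T f (L.X j)).map_comp g g'

section LeftExact

instance : PreservesFiniteLimits (Scheme.Modules.pushforward f) :=
  (Scheme.Modules.pullbackPushforwardAdjunction f).rightAdjoint_preservesLimits.{0, 0}.preservesFiniteLimits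

/-- left exactness of `M ↦ f_* ℋom(M, G)` -/
lemma T_leftExact (S : ShortComplex (ModSite.Mod X.sheaf)) [ModSite.HasSheafHom (O := X.sheaf) S.X₁]
    [ModSite.HasSheafHom (O := X.sheaf) S.X₂] [ModSite.HasSheafHom (O := X.sheaf) S.X₃]
    (hS : S.Exact) [Epi S.g] (G : ModSite.Mod X.sheaf) :
    (ShortComplex.mk ((Tmap f S.g).app G) ((Tmap f S.f).app G)
      (Tmap_comp_zero f S.f S.g S.zero G)).Exact ∧ Mono ((Tmap f S.g).app G) := by
  let A : X.Modules := (ModSite.sheafHom (O := X.sheaf) S.X₃).obj G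
  let B : X.Modules := (ModSite.sheafHom (O := X.sheaf) S.X₂).obj G
  let C : X.Modules := (ModSite.sheafHom (O := X.sheaf) S.X₁).obj G
  let a : A ⟶ B := (ExtSupp.sheafHomMap (O := X.sheaf) S.g).app G
  let b : B ⟶ C := (ExtSupp.sheafHomMap (O := X.sheaf) S.f).app G
  have w : a ≫ b = 0 := SheafHomExact.sheafHomMap_comp_app X.sheaf S G
  have hm : Mono a := SheafHomExact.mono_sheafHomMap_app X.sheaf S G
  have he : (ShortComplex.mk a b w).Exact :=
    SheafHomExact.exact_sheafHomMap_app X.sheaf S G hS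
  have he' := he.map_of_mono_of_preservesKernel (Scheme.Modules.pushforward f) hm inferInstance
  have hm' : Mono ((Scheme.Modules.pushforward f).map a) := inferInstance
  exact ⟨he', hm'⟩

end LeftExact

section Theta

variable {F : ModSite.Mod X.sheaf} [ModSite.HasSheafHom (O := X.sheaf) F] (π : L.X 0 ⟶ F)

/-- the augmentation `f_* ℋom(F, G) ⟶ f_* ℋom(L₀, G)` -/
noncomputable def η : T f F ⟶ K f L ⋙ HomologicalComplex.eval _ _ 0 where
  app G := (Tmap f π).app G
  naturality _ _ g := (Tmap f π).naturality g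

variable (hπ : L.d 1 0 ≫ π = 0)

include hπ in
lemma hη (G : ModSite.Mod X.sheaf) : (η f L π).app G ≫ ((K f L).obj G).d 0 1 = 0 := by
  have h := Kobj_d f L G 0
  change (Tmap f π).app G ≫ (Kobj f L G).d 0 (0 + 1) = 0
  rw [h]
  exact Tmap_comp_zero f _ _ hπ G

variable [Epi π] (hex0 : (ShortComplex.mk (L.d 1 0) π hπ).Exact)

include hex0 in
lemma hex (G : ModSite.Mod X.sheaf) :
    (ShortComplex.mk _ _ (hη f L π hπ G)).Exact := by
  have h := Kobj_d f L G 0
  have := (T_leftExact f (ShortComplex.mk (L.d 1 0) π hπ) hex0 G).1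
  refine ShortComplex.exact_of_iso (ShortComplex.isoMk (Iso.refl _) (Iso.refl _) (Iso.refl _)
    ?_ ?_) this
  · exact (Category.id_comp _).trans (Category.comp_id _).symm
  · change 𝟙 _ ≫ (Kobj f L G).d 0 (0 + 1) = (Tmap f (L.d 1 0)).app G ≫ 𝟙 _
    rw [h]
    exact (Category.id_comp _).trans (Category.comp_id _).symm

include hex0 in
lemma hmono (G : ModSite.Mod X.sheaf) : Mono ((η f L π).app G) :=
  (T_leftExact f (ShortComplex.mk (L.d 1 0) π hπ) hex0 G).2

end Theta

section Inj

/-- `f_* ℋom(-, I)` is exact for `I` injective -/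
lemma T_exact_of_injective (S : ShortComplex (ModSite.Mod X.sheaf))
    [ModSite.HasSheafHom (O := X.sheaf) S.X₁] [ModSite.HasSheafHom (O := X.sheaf) S.X₂]
    [ModSite.HasSheafHom (O := X.sheaf) S.X₃] (hS : S.Exact) (I : ModSite.Mod X.sheaf)
    [Injective I] :
    (ShortComplex.mk ((Tmap f S.g).app I) ((Tmap f S.f).app I)
      (Tmap_comp_zero f S.f S.g S.zero I)).Exact := by
  let S' : ShortComplex (ModSite.Mod Y.sheaf) :=
    ShortComplex.mk ((Tmap f S.g).app I) ((Tmap f S.f).app I) (Tmap_comp_zero f S.f S.g S.zero I)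
  have : S'.Exact := by
    apply SectExact.exact_of_sections
    intro W x hx
    exact SectExact.exists_section_of_exact X.sheaf S hS I (f ⁻¹ᵁ W) x hx
  exact this

variable (hexL : ∀ j : ℕ, L.ExactAt (j + 1))

include hexL in
lemma isZero_homology_K_of_injective (I : ModSite.Mod X.sheaf) [Injective I] (n : ℕ) :
    IsZero (((K f L).obj I).homology (n + 1)) := by
  have h1 : (ShortComplex.mk (L.d (n + 2) (n + 1)) (L.d (n + 1) n) (L.d_comp_d _ _ _)).Exact :=
    (HomologicalComplex.exactAt_iff' L (n + 2) (n + 1) n (by simp) (by simp)).1 (hexL n)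
  have h2 := T_exact_of_injective f
    (ShortComplex.mk (L.d (n + 2) (n + 1)) (L.d (n + 1) n) (L.d_comp_d _ _ _)) h1 I
  have hd1 := Kobj_d f L I n
  have hd2 := Kobj_d f L I (n + 1)
  have h3 : ((K f L).obj I).ExactAt (n + 1) := by
    rw [HomologicalComplex.exactAt_iff' _ n (n + 1) (n + 2) (by simp) (by simp)]
    change (ShortComplex.mk ((Kobj f L I).d n (n + 1)) ((Kobj f L I).d (n + 1) (n + 1 + 1))
      ((Kobj f L I).d_comp_d _ _ _)).Exact
    exact exact_congr _ hd1.symm hd2.symm h2
  exact h3.isZero_homology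

end Inj

section Shift

instance (M : ModSite.Mod X.sheaf) [ModSite.HasSheafHom (O := X.sheaf) M] :
    PreservesFiniteLimits (ModSite.sheafHom (O := X.sheaf) M) :=
  (ModSite.sheafHomAdj (O := X.sheaf) M).rightAdjoint_preservesLimits.{0, 0}.preservesFiniteLimits

instance (M : ModSite.Mod X.sheaf) [ModSite.HasSheafHom (O := X.sheaf) M] :
    PreservesFiniteLimits (T f M) := by
  have h : PreservesFiniteLimits (Scheme.Modules.pushforward f) := inferInstance
  exact @comp_preservesFiniteLimits _ _ _ _ _ _ (ModSite.sheafHom (O := X.sheaf) M)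
    (Scheme.Modules.pushforward f) _ h

variable [HasInjectiveResolutions (ModSite.Mod X.sheaf)] [∀ j : ℕ, (T f (L.X j)).Additive]

/-- the class of `G` with `Ext^p_f(L_j, G) = 0` for `p ≥ 1` -/
def P (G : ModSite.Mod X.sheaf) : Prop :=
  ∀ j p : ℕ, IsZero (((T f (L.X j)).rightDerived (p + 1)).obj G)

lemma P_of_shift (E : ShortComplex (ModSite.Mod X.sheaf)) (hE : E.ShortExact) [Injective E.X₂]
    (hP : P f L E.X₁) : P f L E.X₃ := by
  have : EnoughInjectives (ModSite.Mod X.sheaf) :=
    GrothSS.enoughInjectives_of_hasInjectiveResolutions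
  intro j p
  have hs := RDShift.hasShift_rightDerived (T f (L.X j)) E hE
    (fun n => Functor.isZero_rightDerived_obj_injective_succ _ n _)
  obtain ⟨e⟩ := hs.nonempty_iso_succ p
  exact IsZero.of_iso (hP j (p + 1)) e

omit [HasInjectiveResolutions (ModSite.Mod X.sheaf)] [∀ j : ℕ, (T f (L.X j)).Additive] in
lemma K_map_zero (G G' : ModSite.Mod X.sheaf) : (K f L).map (0 : G ⟶ G') = 0 := by
  apply HomologicalComplex.hom_ext
  intro j
  have : (ModSite.sheafHom (O := X.sheaf) (L.X j)).map (0 : G ⟶ G') = 0 := Functor.map_zero _ _ _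
  change (Scheme.Modules.pushforward f).map
    ((ModSite.sheafHom (O := X.sheaf) (L.X j)).map (0 : G ⟶ G')) = 0
  rw [this]
  exact Functor.map_zero _ _ _

omit [HasInjectiveResolutions (ModSite.Mod X.sheaf)] [∀ j : ℕ, (T f (L.X j)).Additive] in
lemma K_w (E : ShortComplex (ModSite.Mod X.sheaf)) : (K f L).map E.f ≫ (K f L).map E.g = 0 := by
  rw [← Functor.map_comp, E.zero, K_map_zero]

lemma shortExact_K (E : ShortComplex (ModSite.Mod X.sheaf)) (hE : E.ShortExact)
    (hP : P f L E.X₁) :
    (ShortComplex.mk ((K f L).map E.f) ((K f L).map E.g) (K_w f L E)).ShortExact := by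
  apply HomologicalComplex.shortExact_of_degreewise_shortExact
  intro j
  exact shortExact_map_of_isZero (T f (L.X j)) hE (hP j 0)

variable (hexL : ∀ j : ℕ, L.ExactAt (j + 1))

include hexL in
lemma hasShift_K (E : ShortComplex (ModSite.Mod X.sheaf)) (hE : E.ShortExact) [Injective E.X₂]
    (hP : P f L E.X₁) :
    DeltaCompare.HasShift (fun n => K f L ⋙ HomologicalComplex.homologyFunctor _ _ n)
      E.f E.g := by
  have hSK := shortExact_K f L E hE hP
  refine ⟨fun n => isZero_homology_K_of_injective f L hexL E.X₂ n, fun n => ?_⟩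
  exact ⟨hSK.δ n (n + 1) rfl, hSK.comp_δ n (n + 1) rfl, hSK.δ_comp n (n + 1) rfl,
    hSK.homology_exact₃ n (n + 1) rfl, hSK.homology_exact₁ n (n + 1) rfl⟩

end Shift

section Main

variable [HasInjectiveResolutions (ModSite.Mod X.sheaf)] [∀ j : ℕ, (T f (L.X j)).Additive]
  {F : ModSite.Mod X.sheaf} [ModSite.HasSheafHom (O := X.sheaf) F] [(T f F).Additive]
  (π : L.X 0 ⟶ F) [Epi π] (hπ : L.d 1 0 ≫ π = 0)
  (hex0 : (ShortComplex.mk (L.d 1 0) π hπ).Exact) (hexL : ∀ j : ℕ, L.ExactAt (j + 1))

/-- `R⁰ (f_* ℋom(F, -)) ≅ H⁰ (f_* ℋom(L_•, -))` -/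
noncomputable def θ :
    (T f F).rightDerived 0 ≅ K f L ⋙ HomologicalComplex.homologyFunctor _ _ 0 :=
  Functor.rightDerivedZeroIsoSelf (T f F) ≪≫
    H0Iso.natIso (K f L) (T f F) (η f L π) (hη f L π hπ) (hex f L π hπ hex0)
      (hmono f L π hπ hex0)

include hex0 hexL in
/-- **acyclic resolutions compute relative Ext sheaves** -/
theorem nonempty_iso (G : ModSite.Mod X.sheaf)
    (hL : ∀ (j : ℕ) (p : ℕ), 1 ≤ p → IsZero (((T f (L.X j)).rightDerived p).obj G)) (i : ℕ) :
    Nonempty (((T f F).rightDerived i).obj G ≅ ((K f L).obj G).homology i) := by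
  have : EnoughInjectives (ModSite.Mod X.sheaf) :=
    GrothSS.enoughInjectives_of_hasInjectiveResolutions
  exact DeltaCompare.delta_compare (fun n => (T f F).rightDerived n)
    (fun n => K f L ⋙ HomologicalComplex.homologyFunctor _ _ n) (θ f L π hπ hex0) (P f L)
    (fun G hG => by
      let E : ShortComplex (ModSite.Mod X.sheaf) :=
        ShortComplex.mk (Injective.ι G) (cokernel.π (Injective.ι G)) (cokernel.condition _)
      have hE : E.ShortExact :=
        { exact := ShortComplex.exact_cokernel _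
          mono_f := inferInstanceAs (Mono (Injective.ι G))
          epi_g := inferInstanceAs (Epi (cokernel.π (Injective.ι G))) }
      haveI hI : Injective E.X₂ := inferInstanceAs (Injective (Injective.under G))
      exact ⟨_, _, E.f, E.g, P_of_shift f L E hE hG,
        RDShift.hasShift_rightDerived (T f F) E hE
          (fun n => Functor.isZero_rightDerived_obj_injective_succ _ n _),
        hasShift_K f L hexL E hE hG⟩)
    i G (fun j p => hL j (p + 1) (by omega))

end Main

end Groth.Agent.Lib.Helper6.RelExtRes
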