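import Groth.Agent.Lib.Helper6.HomRestrExt
import Groth.Agent.Lib.Helper26.OpenBC1
import Mathlib

/-!
# Relative Ext sheaves commute with restriction to an open of the base (helper6)
-/

set_option autoImplicit false
set_option linter.style.haveILetI false
set_option linter.unusedSectionVars false
set_option linter.unusedVariables false
set_option backward.isDefEq.respectTransparency.types false
universe u
open CategoryTheory CategoryTheory.Limits AlgebraicGeometry Opposite TopologicalSpace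
noncomputable section

namespace Groth.Agent.Lib.Helper6.RelExtRestr

open Groth.Agent.Lib.Helper6.HomRestrExt

variable {X Y : Scheme.{u}} (f : X ⟶ Y) (W : Y.Opens) (F : X.Modules)

/-- `(f_* ℋom(F, -))|_W ≅ f'_* ℋom(F|, (-)|)` -/
def relHomRestrIso [ModSite.HasSheafHom (O := X.sheaf) F]
    [ModSite.HasSheafHom (O := (↑(f ⁻¹ᵁ W) : Scheme.{u}).sheaf) (F.restrict (f ⁻¹ᵁ W).ι)] :
    (ModSite.sheafHom (O := X.sheaf) F ⋙ Scheme.Modules.pushforward f) ⋙
        Scheme.Modules.restrictFunctor W.ι ≅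
      Scheme.Modules.restrictFunctor (f ⁻¹ᵁ W).ι ⋙
        (ModSite.sheafHom (O := (↑(f ⁻¹ᵁ W) : Scheme.{u}).sheaf) (F.restrict (f ⁻¹ᵁ W).ι) ⋙
          Scheme.Modules.pushforward (f ∣_ W)) :=
  Functor.associator _ _ _ ≪≫
    Functor.isoWhiskerLeft (ModSite.sheafHom (O := X.sheaf) F)
      (Groth.Agent.Lib.Helper26.OpenBC1.bc f W) ≪≫
    (Functor.associator _ _ _).symm ≪≫
    Functor.isoWhiskerRight (sheafHomRestrIso (f ⁻¹ᵁ W) F) (Scheme.Modules.pushforward (f ∣_ W)) ≪≫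
    Functor.associator _ _ _

/-- **relative Ext sheaves commute with restriction to an open of the base** -/
def relExtRestrIso [ModSite.HasSheafHom (O := X.sheaf) F]
    [ModSite.HasSheafHom (O := (↑(f ⁻¹ᵁ W) : Scheme.{u}).sheaf) (F.restrict (f ⁻¹ᵁ W).ι)]
    [HasInjectiveResolutions (ModSite.Mod X.sheaf)]
    [HasInjectiveResolutions (ModSite.Mod (↑(f ⁻¹ᵁ W) : Scheme.{u}).sheaf)]
    [(ModSite.sheafHom (O := X.sheaf) F ⋙ Scheme.Modules.pushforward f).Additive]
    [(ModSite.sheafHom (O := (↑(f ⁻¹ᵁ W) : Scheme.{u}).sheaf) (F.restrict (f ⁻¹ᵁ W).ι) ⋙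
      Scheme.Modules.pushforward (f ∣_ W)).Additive] (p : ℕ) :
    (ModSite.sheafHom (O := X.sheaf) F ⋙ Scheme.Modules.pushforward f).rightDerived p ⋙
        Scheme.Modules.restrictFunctor W.ι ≅
      Scheme.Modules.restrictFunctor (f ⁻¹ᵁ W).ι ⋙
        (ModSite.sheafHom (O := (↑(f ⁻¹ᵁ W) : Scheme.{u}).sheaf) (F.restrict (f ⁻¹ᵁ W).ι) ⋙
          Scheme.Modules.pushforward (f ∣_ W)).rightDerived p := by
  let RX : X.Modules ⥤ (↑(f ⁻¹ᵁ W) : Scheme.{u}).Modules :=
    Scheme.Modules.restrictFunctor (f ⁻¹ᵁ W).ι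
  let RY : Y.Modules ⥤ (↑W : Scheme.{u}).Modules := Scheme.Modules.restrictFunctor W.ι
  haveI : RX.Additive := (Scheme.Modules.restrictAdjunction (f ⁻¹ᵁ W).ι).left_adjoint_additive
  haveI : RY.Additive := (Scheme.Modules.restrictAdjunction W.ι).left_adjoint_additive
  haveI : PreservesFiniteLimits RX :=
    inferInstanceAs (PreservesFiniteLimits (Scheme.Modules.restrictFunctor (f ⁻¹ᵁ W).ι))
  haveI : PreservesFiniteColimits RX :=
    inferInstanceAs (PreservesFiniteColimits (Scheme.Modules.restrictFunctor (f ⁻¹ᵁ W).ι))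
  haveI : PreservesFiniteLimits RY :=
    inferInstanceAs (PreservesFiniteLimits (Scheme.Modules.restrictFunctor W.ι))
  haveI : PreservesFiniteColimits RY :=
    inferInstanceAs (PreservesFiniteColimits (Scheme.Modules.restrictFunctor W.ι))
  haveI : RX.PreservesHomology := inferInstance
  haveI : RY.PreservesHomology := inferInstance
  haveI : RX.PreservesInjectiveObjects := preservesInjectiveObjects_restrictFunctor (f ⁻¹ᵁ W)
  haveI : HasInjectiveResolutions X.Modules := ‹HasInjectiveResolutions (ModSite.Mod X.sheaf)›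
  haveI : HasInjectiveResolutions (↑(f ⁻¹ᵁ W) : Scheme.{u}).Modules :=
    ‹HasInjectiveResolutions (ModSite.Mod (↑(f ⁻¹ᵁ W) : Scheme.{u}).sheaf)›
  let ΦX : X.Modules ⥤ Y.Modules :=
    ModSite.sheafHom (O := X.sheaf) F ⋙ Scheme.Modules.pushforward f
  let ΦW : (↑(f ⁻¹ᵁ W) : Scheme.{u}).Modules ⥤ (↑W : Scheme.{u}).Modules :=
    ModSite.sheafHom (O := (↑(f ⁻¹ᵁ W) : Scheme.{u}).sheaf) (F.restrict (f ⁻¹ᵁ W).ι) ⋙
      Scheme.Modules.pushforward (f ∣_ W)
  haveI hX : ΦX.Additive :=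
    ‹(ModSite.sheafHom (O := X.sheaf) F ⋙ Scheme.Modules.pushforward f).Additive›
  haveI hW : ΦW.Additive :=
    ‹(ModSite.sheafHom (O := (↑(f ⁻¹ᵁ W) : Scheme.{u}).sheaf) (F.restrict (f ⁻¹ᵁ W).ι) ⋙
      Scheme.Modules.pushforward (f ∣_ W)).Additive›
  exact Groth.Agent.Lib.Helper1.DerivedExact.rightDerivedCompIso RX RY ΦX ΦW
    (relHomRestrIso f W F) p

end Groth.Agent.Lib.Helper6.RelExtRestr
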