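import Mathlib
import Groth.Prelude.Def_Coh
import Groth.Prelude.Def_ModSite2
import Groth.Prelude.Def_SpSeq
import Groth.Agent.Lib.Helper6.SheafHomTotAcyc
import Groth.Agent.Lib.Helper6.GrothSS
import Groth.Agent.Lib.Helper6.ModAbPush
import Groth.Agent.Lib.Helper6.PushTotAcyc
import Groth.Agent.S11319

universe u

open CategoryTheory Limits Opposite AlgebraicGeometry
open scoped ZeroObject

namespace Groth.Agent.Lib.Helper6.RelExtSS

/-- direct image of modules preserves total acyclicity of the underlying abelian sheaf -/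
lemma totallyAcyclic_push {X Y : Scheme.{u}} (f : X ⟶ Y) (M : X.Modules)
    (hM : CohCx.IsTotallyAcyclic (Coh.toAb M)) :
    CohCx.IsTotallyAcyclic (Coh.toAb ((Scheme.Modules.pushforward f).obj M)) := by
  have : RepresentablyFlat (TopologicalSpace.Opens.map f.base) := inferInstance
  have : PreservesFiniteLimits (PushTotAcyc.Lset (Opens.grothendieckTopology X)
      (Opens.grothendieckTopology Y) (TopologicalSpace.Opens.map f.base)) :=
    CategoryTheory.Functor.SmallCategories.instPreservesFiniteLimitsSheafSheafPullbackOfRepresentablyFlat _ _ _ _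
  exact PushTotAcyc.totallyAcyclic_push (Opens.grothendieckTopology X)
      (Opens.grothendieckTopology Y) (TopologicalSpace.Opens.map f.base) (Coh.toAb M) hM

/-- higher direct images of a module with totally acyclic underlying abelian sheaf vanish -/
lemma isZero_Rpush {Y Z : Scheme.{u}} (g : Y ⟶ Z) [HasInjectiveResolutions Y.Modules]
    (M : Y.Modules) (hM : CohCx.IsTotallyAcyclic (Coh.toAb M)) (q : ℕ) (hq : 0 < q) :
    IsZero ((Coh.Rpush g q).obj M) := by
  obtain ⟨k, rfl⟩ : ∃ k, q = k + 1 := ⟨q - 1, by omega⟩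
  obtain ⟨e⟩ := Groth.Agent.S11319.result g M (k + 1)
  have h0 : IsZero ((Coh.RpushAb g (k + 1)).obj (Coh.toAb M)) :=
    ModAbPush.isZero_Rpush_of_totallyAcyclic _ _ (TopologicalSpace.Opens.map g.base) _ hM k
  have h1 : IsZero ((ModAbPush.tS Z).obj ((Coh.Rpush g (k + 1)).obj M)) := IsZero.of_iso h0 e
  have : (ModAbPush.tS Z).Faithful :=
    inferInstanceAs (SheafOfModules.toSheaf.{u} Z.ringCatSheaf).Faithful
  rw [IsZero.iff_id_eq_zero] at h1 ⊢
  apply (ModAbPush.tS Z).map_injective
  rw [CategoryTheory.Functor.map_id, CategoryTheory.Functor.map_zero]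
  exact h1

/-- **the relative Ext spectral sequence of a composite** -/
theorem exists_spectralSequence (X Y Z : Scheme.{u}) (f : X ⟶ Y) (g : Y ⟶ Z)
    (F G : X.Modules)
    [ModSite.HasSheafHom (O := X.sheaf) F] [HasInjectiveResolutions (ModSite.Mod X.sheaf)]
    [HasInjectiveResolutions Y.Modules]
    [(ModSite.sheafHom (O := X.sheaf) F ⋙ Scheme.Modules.pushforward f).Additive]
    [(ModSite.sheafHom (O := X.sheaf) F ⋙ Scheme.Modules.pushforward (f ≫ g)).Additive] :
    ∃ (E : E₂CohomologicalSpectralSequence Z.Modules)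
      (a : SpSeq.Abutment E (fun n : ℤ =>
        if 0 ≤ n then ((ModSite.sheafHom (O := X.sheaf) F ⋙
          Scheme.Modules.pushforward (f ≫ g)).rightDerived n.toNat).obj G else (0 : Z.Modules))),
      (∀ n : ℤ, a.IsFinite n) ∧ SpSeq.IsBounded E ∧
      ∀ p q : ℤ, Nonempty ((E.page 2 le_rfl).X (p, q) ≅
        (if 0 ≤ p ∧ 0 ≤ q then (Coh.Rpush g p.toNat).obj
          (((ModSite.sheafHom (O := X.sheaf) F ⋙
            Scheme.Modules.pushforward f).rightDerived q.toNat).obj G)
          else (0 : Z.Modules))) := by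
  have : PreservesFiniteLimits (Scheme.Modules.pushforward g) :=
    (Scheme.Modules.pullbackPushforwardAdjunction g).rightAdjoint_preservesLimits.{0, 0}.preservesFiniteLimits
  refine GrothSS.exists_spectralSequence'
    (ModSite.sheafHom (O := X.sheaf) F ⋙ Scheme.Modules.pushforward f)
    (Scheme.Modules.pushforward g)
    (fun Q hQ q hq => ?_) G _ ?_ ?_ _ ?_ ?_
  · have := hQ
    exact isZero_Rpush g _ (totallyAcyclic_push f _
      (SheafHomTotAcyc.totallyAcyclic X.sheaf F Q)) q hq
  · intro n
    refine ⟨(GrothSS.rightDerivedIsoOfIso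
      (Functor.associator _ _ _ ≪≫ Functor.isoWhiskerLeft (ModSite.sheafHom (O := X.sheaf) F)
        (Scheme.Modules.pushforwardComp f g)) n).app G ≪≫ ?_⟩
    simp only [Int.natCast_nonneg, if_true, Int.toNat_natCast]
    exact Iso.refl _
  · intro n hn
    rw [if_neg (by omega)]
    exact isZero_zero _
  · intro p q
    simp only [Int.natCast_nonneg, and_self, if_true, Int.toNat_natCast]
    exact ⟨Iso.refl _⟩
  · intro p q h
    rw [if_neg h]
    exact isZero_zero _

end Groth.Agent.Lib.Helper6.RelExtSS
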