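import Mathlib.Algebra.Homology.QuasiIso
import Mathlib.Algebra.Homology.ShortComplex.HomologicalComplex
import Mathlib.CategoryTheory.Abelian.CommSq
import Mathlib.CategoryTheory.Abelian.Refinements
import Mathlib.Algebra.Homology.Embedding.CochainComplex
import Mathlib.Algebra.Homology.Embedding.ExtendHomology
import Mathlib.Algebra.Homology.Embedding.TruncGE

/-!
# Right resolutions of bounded below complexes by objects of a class (helper6)
-/

universe v u

open CategoryTheory Limits HomologicalComplex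

namespace Groth.Agent.Lib.Helper6.RightRes

variable {A : Type u} [Category.{v} A] [Abelian A]

section Crit

variable {ι : Type*} {c : ComplexShape ι} {K L : HomologicalComplex A c}

/-- A criterion for a morphism of complexes to be a quasi-isomorphism in a given degree, in terms
of a presentation of the opcycles of the target. -/
lemma quasiIsoAt_of_data (f : K ⟶ L) (i j k : ι) (hi : c.prev j = i) (hk : c.next j = k)
    {C : A} (π : L.X j ⟶ C) (wπ : L.d i j ≫ π = 0)
    (hπ : IsColimit (CokernelCofork.ofπ π wπ))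
    (ιC : C ⟶ L.X k) (hι : π ≫ ιC = L.d j k)
    (cm : K.opcycles j ⟶ C) [Mono cm] (hc : K.pOpcycles j ≫ cm = f.f j ≫ π)
    (hepi : ∀ {T : A} (z : T ⟶ C), z ≫ ιC = 0 → ∃ (T' : A) (p : T' ⟶ T) (_ : Epi p)
      (y : T' ⟶ K.opcycles j), y ≫ K.fromOpcycles j k = 0 ∧ y ≫ cm = p ≫ z) :
    QuasiIsoAt f j := by
  let γ : L.opcycles j ≅ C :=
    IsColimit.coconePointUniqueUpToIso (L.opcyclesIsCokernel i j hi) hπ
  have hγ : L.pOpcycles j ≫ γ.hom = π :=
    IsColimit.comp_coconePointUniqueUpToIso_hom (L.opcyclesIsCokernel i j hi) hπ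
      WalkingParallelPair.one
  have h1 : opcyclesMap f j ≫ γ.hom = cm := by
    rw [← cancel_epi (K.pOpcycles j), p_opcyclesMap_assoc, hγ, hc]
  have h2 : L.fromOpcycles j k = γ.hom ≫ ιC := by
    rw [← cancel_epi (L.pOpcycles j), p_fromOpcycles, ← Category.assoc, hγ, hι]
  have hmono_op : Mono (opcyclesMap f j) := by
    have : Mono (opcyclesMap f j ≫ γ.hom) := by rw [h1]; infer_instance
    exact mono_of_mono _ γ.hom
  rw [quasiIsoAt_iff_isIso_homologyMap]
  have hmono : Mono (homologyMap f j) := by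
    have : Mono (homologyMap f j ≫ L.homologyι j) := by
      rw [homologyι_naturality]; infer_instance
    exact mono_of_mono _ (L.homologyι j)
  have hepi' : Epi (homologyMap f j) := by
    rw [epi_iff_surjective_up_to_refinements]
    intro T z
    obtain ⟨T', p, hp, y, hy0, hy⟩ := hepi (z ≫ L.homologyι j ≫ γ.hom) (by
      rw [Category.assoc, Category.assoc, ← h2, homologyι_comp_fromOpcycles, comp_zero])
    refine ⟨T', p, hp, (K.homologyIsKernel j k hk).lift (KernelFork.ofι y hy0), ?_⟩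
    have hx : (K.homologyIsKernel j k hk).lift (KernelFork.ofι y hy0) ≫ K.homologyι j = y :=
      (K.homologyIsKernel j k hk).fac (KernelFork.ofι y hy0) WalkingParallelPair.zero
    rw [← cancel_mono (L.homologyι j), ← cancel_mono γ.hom]
    simp only [Category.assoc]
    rw [homologyι_naturality_assoc, h1, ← Category.assoc _ (K.homologyι j), hx, hy]
  exact isIso_of_mono_of_epi _

end Crit

section Pushout

variable {X₁ X₂ X₃ X₄ : A} {t : X₁ ⟶ X₂} {l : X₁ ⟶ X₃} {r : X₂ ⟶ X₄} {b : X₃ ⟶ X₄}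

lemma exists_lift_of_isPushout (h : IsPushout t l r b) {T : A} (x₂ : T ⟶ X₂) (x₃ : T ⟶ X₃)
    (hx : x₂ ≫ r = x₃ ≫ b) :
    ∃ (T' : A) (p : T' ⟶ T) (_ : Epi p) (x₁ : T' ⟶ X₁), x₁ ≫ t = p ≫ x₂ ∧ x₁ ≫ l = p ≫ x₃ := by
  obtain ⟨T', p, hp, (x₁ : T' ⟶ X₁), hx₁⟩ := h.exact_shortComplex.exact_up_to_refinements
    (biprod.lift x₂ (-x₃)) (by
      change biprod.lift x₂ (-x₃) ≫ biprod.desc r b = 0
      simp [hx])
  change p ≫ biprod.lift x₂ (-x₃) = x₁ ≫ biprod.lift t (-l) at hx₁
  refine ⟨T', p, hp, x₁, ?_, ?_⟩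
  · have h1 := hx₁ =≫ biprod.fst
    rw [Category.assoc, Category.assoc, biprod.lift_fst, biprod.lift_fst] at h1
    exact h1.symm
  · have h2 := hx₁ =≫ biprod.snd
    rw [Category.assoc, Category.assoc, biprod.lift_snd, biprod.lift_snd,
      Preadditive.comp_neg, Preadditive.comp_neg, neg_inj] at h2
    exact h2.symm

end Pushout

section Core

variable (I : A → Prop) (hI : ∀ X : A, ∃ (Y : A) (ι : X ⟶ Y), I Y ∧ Mono ι)

/-- A chosen object of `I` containing `X`. -/
noncomputable def E (X : A) : A := (hI X).choose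

/-- The chosen embedding. -/
noncomputable def e (X : A) : X ⟶ E I hI X := (hI X).choose_spec.choose

lemma E_mem (X : A) : I (E I hI X) := (hI X).choose_spec.choose_spec.1

instance e_mono (X : A) : Mono (e I hI X) := (hI X).choose_spec.choose_spec.2

variable (K : CochainComplex A ℕ)

/-- The state of the inductive construction in degree `n`. -/
structure St (n : ℕ) where
  /-- the term of the resolution -/
  L : A
  /-- the opcycles of the resolution -/
  C : A
  /-- the projection to opcycles -/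
  π : L ⟶ C
  /-- the comparison map -/
  α : K.X n ⟶ L
  /-- the comparison on opcycles -/
  c : K.opcycles n ⟶ C
  comm : K.pOpcycles n ≫ c = α ≫ π
  epi_π : Epi π
  mono_c : Mono c
  mono_α : Mono α
  mem : I L

attribute [instance] St.epi_π St.mono_c St.mono_α

/-- The initial state. -/
noncomputable def base : St I K 0 where
  L := E I hI (K.opcycles 0)
  C := E I hI (K.opcycles 0)
  π := 𝟙 _
  α := K.pOpcycles 0 ≫ e I hI _
  c := e I hI _
  comm := by simp
  epi_π := inferInstance
  mono_c := inferInstance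
  mono_α := inferInstance
  mem := E_mem I hI _

variable {I K}

/-- The pushout used in the inductive step. -/
noncomputable abbrev nextP {n : ℕ} (s : St I K n) : A := pushout s.c (K.fromOpcycles n (n + 1))

/-- The map from the opcycles to the next term. -/
noncomputable def nextι {n : ℕ} (s : St I K n) : s.C ⟶ E I hI (nextP s) :=
  pushout.inl _ _ ≫ e I hI _

/-- The next comparison map. -/
noncomputable def nextα {n : ℕ} (s : St I K n) : K.X (n + 1) ⟶ E I hI (nextP s) :=
  pushout.inr _ _ ≫ e I hI _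

lemma nextSq {n : ℕ} (s : St I K n) :
    s.c ≫ nextι hI s = K.fromOpcycles n (n + 1) ≫ nextα hI s := by
  dsimp only [nextι, nextα]
  rw [← Category.assoc, pushout.condition, Category.assoc]

lemma next_w {n : ℕ} (s : St I K n) :
    K.d n (n + 1) ≫ nextα hI s ≫ cokernel.π (nextι hI s) = 0 := by
  rw [← K.p_fromOpcycles n (n + 1), Category.assoc, ← Category.assoc (K.fromOpcycles n (n + 1)),
    ← nextSq, Category.assoc, cokernel.condition, comp_zero, comp_zero]

lemma next_mono_c {n : ℕ} (s : St I K n) :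
    Mono (K.descOpcycles (nextα hI s ≫ cokernel.π (nextι hI s)) n (by simp) (next_w hI s)) := by
  rw [Preadditive.mono_iff_cancel_zero]
  intro T z hz
  obtain ⟨T₁, p₁, _, x, hx⟩ := surjective_up_to_refinements_of_epi (K.pOpcycles (n + 1)) z
  have h1 : (x ≫ nextα hI s) ≫ cokernel.π (nextι hI s) = 0 := by
    rw [Category.assoc, ← K.p_descOpcycles (nextα hI s ≫ cokernel.π (nextι hI s)) n (by simp)
      (next_w hI s), ← Category.assoc, ← hx, Category.assoc, hz, comp_zero]
  have hex : (ShortComplex.mk (nextι hI s) (cokernel.π (nextι hI s))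
      (cokernel.condition _)).Exact := ShortComplex.exact_cokernel _
  obtain ⟨T₂, p₂, _, w, hw⟩ := hex.exact_up_to_refinements (x ≫ nextα hI s) h1
  dsimp only at hw
  have h2 : w ≫ pushout.inl s.c (K.fromOpcycles n (n + 1)) =
      (p₂ ≫ x) ≫ pushout.inr s.c (K.fromOpcycles n (n + 1)) := by
    rw [← cancel_mono (e I hI (nextP s))]
    simpa [nextι, nextα] using hw.symm
  obtain ⟨T₃, p₃, _, v, hv₁, hv₂⟩ := exists_lift_of_isPushout
    (IsPushout.of_hasPushout s.c (K.fromOpcycles n (n + 1))) w (p₂ ≫ x) h2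
  have h3 : K.fromOpcycles n (n + 1) ≫ K.pOpcycles (n + 1) = 0 := by
    rw [← cancel_epi (K.pOpcycles n), p_fromOpcycles_assoc, d_pOpcycles, comp_zero]
  rw [← cancel_epi p₁, ← cancel_epi p₂, ← cancel_epi p₃, comp_zero, comp_zero, comp_zero, hx,
    ← Category.assoc p₂, ← Category.assoc p₃, ← hv₂, Category.assoc, h3, comp_zero]

/-- The inductive step. -/
noncomputable def next {n : ℕ} (s : St I K n) : St I K (n + 1) where
  L := E I hI (nextP s)
  C := cokernel (nextι hI s)
  π := cokernel.π (nextι hI s)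
  α := nextα hI s
  c := K.descOpcycles (nextα hI s ≫ cokernel.π (nextι hI s)) n (by simp) (next_w hI s)
  comm := by simp
  epi_π := inferInstance
  mono_c := next_mono_c hI s
  mono_α := by
    dsimp only [nextα]
    infer_instance
  mem := E_mem I hI _

variable (I K)

/-- The sequence of states. -/
noncomputable def st : ∀ n : ℕ, St I K n
  | 0 => base I hI K
  | n + 1 => next hI (st n)

/-- The map from the opcycles to the next term. -/
noncomputable def ιL (n : ℕ) : (st I hI K n).C ⟶ (st I hI K (n + 1)).L :=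
  nextι hI (st I hI K n)

lemma ιL_π (n : ℕ) : ιL I hI K n ≫ (st I hI K (n + 1)).π = 0 :=
  cokernel.condition (nextι hI (st I hI K n))

/-- `π` is a cokernel of `ιL`. -/
noncomputable def isColimitπ (n : ℕ) :
    IsColimit (CokernelCofork.ofπ (st I hI K (n + 1)).π (ιL_π I hI K n)) :=
  cokernelIsCokernel (nextι hI (st I hI K n))

lemma sqL (n : ℕ) :
    (st I hI K n).c ≫ ιL I hI K n = K.fromOpcycles n (n + 1) ≫ (st I hI K (n + 1)).α :=
  nextSq hI (st I hI K n)

lemma hepiL (n : ℕ) {T : A} (z : T ⟶ (st I hI K n).C) (hz : z ≫ ιL I hI K n = 0) :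
    ∃ (T' : A) (p : T' ⟶ T) (_ : Epi p) (y : T' ⟶ K.opcycles n),
      y ≫ K.fromOpcycles n (n + 1) = 0 ∧ y ≫ (st I hI K n).c = p ≫ z := by
  have h2 : z ≫ pushout.inl (st I hI K n).c (K.fromOpcycles n (n + 1)) =
      (0 : T ⟶ K.X (n + 1)) ≫ pushout.inr (st I hI K n).c (K.fromOpcycles n (n + 1)) := by
    rw [← cancel_mono (e I hI (nextP (st I hI K n))), Category.assoc, zero_comp, zero_comp]
    exact hz
  obtain ⟨T', p, hp, v, hv₁, hv₂⟩ := exists_lift_of_isPushout
    (IsPushout.of_hasPushout (st I hI K n).c (K.fromOpcycles n (n + 1))) z 0 h2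
  exact ⟨T', p, hp, v, by rw [hv₂, comp_zero], hv₁⟩

/-- The differential of the resolution. -/
noncomputable def dL (n : ℕ) : (st I hI K n).L ⟶ (st I hI K (n + 1)).L :=
  (st I hI K n).π ≫ ιL I hI K n

lemma dL_comp (n : ℕ) : dL I hI K n ≫ dL I hI K (n + 1) = 0 := by
  dsimp only [dL]
  rw [Category.assoc, ← Category.assoc (ιL I hI K n), ιL_π, zero_comp, comp_zero]

/-- The resolution. -/
noncomputable def Lc : CochainComplex A ℕ :=
  CochainComplex.of (fun n => (st I hI K n).L) (dL I hI K) (dL_comp I hI K)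

/-- `π` with source a term of `Lc`. -/
noncomputable def πc (n : ℕ) : (Lc I hI K).X n ⟶ (st I hI K n).C := (st I hI K n).π

/-- `ιL` with target a term of `Lc`. -/
noncomputable def ιc (n : ℕ) : (st I hI K n).C ⟶ (Lc I hI K).X (n + 1) := ιL I hI K n

instance (n : ℕ) : Epi (πc I hI K n) := (st I hI K n).epi_π

lemma Lc_d (n : ℕ) : (Lc I hI K).d n (n + 1) = πc I hI K n ≫ ιc I hI K n :=
  CochainComplex.of_d _ (dL I hI K) n

lemma ιc_πc (n : ℕ) : ιc I hI K n ≫ πc I hI K (n + 1) = 0 := ιL_π I hI K n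

/-- `πc` is a cokernel of `ιc`. -/
noncomputable def isColimitπc (n : ℕ) :
    IsColimit (CokernelCofork.ofπ (πc I hI K (n + 1)) (ιc_πc I hI K n)) :=
  isColimitπ I hI K n

/-- The components of the comparison morphism. -/
noncomputable def αf (n : ℕ) : K.X n ⟶ (Lc I hI K).X n := (st I hI K n).α

lemma sqc (n : ℕ) :
    (st I hI K n).c ≫ ιc I hI K n = K.fromOpcycles n (n + 1) ≫ αf I hI K (n + 1) :=
  sqL I hI K n

lemma hepic (n : ℕ) {T : A} (z : T ⟶ (st I hI K n).C) (hz : z ≫ ιc I hI K n = 0) :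
    ∃ (T' : A) (p : T' ⟶ T) (_ : Epi p) (y : T' ⟶ K.opcycles n),
      y ≫ K.fromOpcycles n (n + 1) = 0 ∧ y ≫ (st I hI K n).c = p ≫ z :=
  hepiL I hI K n z hz

lemma comm_f (n : ℕ) :
    K.pOpcycles n ≫ (st I hI K n).c = αf I hI K n ≫ πc I hI K n := (st I hI K n).comm

/-- The comparison morphism. -/
noncomputable def αc : K ⟶ Lc I hI K :=
  CochainComplex.ofHom (αf I hI K) (fun n => by
    rw [Lc_d, ← Category.assoc, ← comm_f, Category.assoc, sqc, p_fromOpcycles_assoc])

lemma comm_c (n : ℕ) :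
    K.pOpcycles n ≫ (st I hI K n).c = (αc I hI K).f n ≫ πc I hI K n := (st I hI K n).comm

lemma Lc_mem (n : ℕ) : I ((Lc I hI K).X n) := (st I hI K n).mem

instance (n : ℕ) : Mono ((αc I hI K).f n) := (st I hI K n).mono_α

lemma quasiIsoAt_αc (n : ℕ) : QuasiIsoAt (αc I hI K) n := by
  have hk : (ComplexShape.up ℕ).next n = n + 1 := by simp
  have hι : πc I hI K n ≫ ιc I hI K n = (Lc I hI K).d n (n + 1) := (Lc_d I hI K n).symm
  cases n with
  | zero =>
    have wπ : (Lc I hI K).d 0 0 ≫ πc I hI K 0 = 0 := by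
      rw [(Lc I hI K).shape 0 0 (by simp), zero_comp]
    have hπ : IsColimit (CokernelCofork.ofπ (πc I hI K 0) wπ) :=
      CokernelCofork.IsColimit.ofπ _ _ (fun g _ => g) (fun g _ => Category.id_comp g)
        (fun g _ m hm => by rw [← hm]; exact (Category.id_comp m).symm)
    exact quasiIsoAt_of_data (αc I hI K) 0 0 1 (by simp) hk (πc I hI K 0) wπ hπ
      (ιc I hI K 0) hι (st I hI K 0).c (comm_c I hI K 0) (fun z hz => hepic I hI K 0 z hz)
  | succ m =>
    have wπ : (Lc I hI K).d m (m + 1) ≫ πc I hI K (m + 1) = 0 := by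
      rw [Lc_d, Category.assoc, ιc_πc, comp_zero]
    have hπ : IsColimit (CokernelCofork.ofπ (πc I hI K (m + 1)) wπ) :=
      isCokernelEpiComp (isColimitπc I hI K m) (πc I hI K m) (Lc_d I hI K m)
    exact quasiIsoAt_of_data (αc I hI K) m (m + 1) (m + 1 + 1) (by simp) hk
      (πc I hI K (m + 1)) wπ hπ
      (ιc I hI K (m + 1)) hι (st I hI K (m + 1)).c (comm_c I hI K (m + 1))
      (fun z hz => hepic I hI K (m + 1) z hz)

include hI in
/-- Right resolutions of `ℕ`-indexed cochain complexes by objects of `I`. -/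
theorem exists_nat :
    ∃ (L : CochainComplex A ℕ) (α : K ⟶ L), (∀ n, I (L.X n)) ∧ (∀ n, Mono (α.f n)) ∧
      QuasiIso α := by
  refine ⟨Lc I hI K, αc I hI K, Lc_mem I hI K, fun n => inferInstance, ?_⟩
  rw [quasiIso_iff]
  exact quasiIsoAt_αc I hI K

end Core

section IntVersion

/-- Transport of a cochain complex along termwise isomorphisms. -/
noncomputable def transport (L : CochainComplex A ℤ) (Y : ℤ → A) (φ : ∀ n, L.X n ≅ Y n) :
    CochainComplex A ℤ where
  X := Y
  d i j := (φ i).inv ≫ L.d i j ≫ (φ j).hom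
  shape i j h := by rw [L.shape i j h, zero_comp, comp_zero]
  d_comp_d' i j k _ _ := by simp

/-- The transported complex is isomorphic to the original one. -/
noncomputable def transportIso (L : CochainComplex A ℤ) (Y : ℤ → A) (φ : ∀ n, L.X n ≅ Y n) :
    L ≅ transport L Y φ :=
  HomologicalComplex.Hom.isoOfComponents φ (by intros; simp [transport])

variable (I : A → Prop)

/-- The closure under isomorphisms of a class of objects. -/
def Ibar (X : A) : Prop := ∃ Y, I Y ∧ Nonempty (X ≅ Y)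

variable (hI0 : ∃ Z : A, IsZero Z ∧ I Z)
  (hI : ∀ X : A, ∃ (Y : A) (ι : X ⟶ Y), I Y ∧ Mono ι)

include hI in
lemma hIbar : ∀ X : A, ∃ (Y : A) (ι : X ⟶ Y), Ibar I Y ∧ Mono ι := fun X => by
  obtain ⟨Y, ι, hY, hι⟩ := hI X
  exact ⟨Y, ι, ⟨Y, hY, ⟨Iso.refl _⟩⟩, hι⟩

include hI0 hI in
/-- Right resolutions of bounded below cochain complexes by objects of `I`. -/
theorem exists_int (K : CochainComplex A ℤ) (a : ℤ) [K.IsStrictlyGE a] :
    ∃ (L : CochainComplex A ℤ) (α : K ⟶ L), L.IsStrictlyGE a ∧ (∀ n, I (L.X n)) ∧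
      (∀ n, Mono (α.f n)) ∧ QuasiIso α := by
  obtain ⟨L', α', hL', hα', hq⟩ := exists_nat (Ibar I) (hIbar I hI)
    (K.truncGE' (ComplexShape.embeddingUpIntGE a))
  have hL₁ : ∀ n, Ibar I ((L'.extend (ComplexShape.embeddingUpIntGE a)).X n) := by
    intro n
    by_cases hn : ∃ i, (ComplexShape.embeddingUpIntGE a).f i = n
    · obtain ⟨i, hi⟩ := hn
      obtain ⟨Y, hY, ⟨φ⟩⟩ := hL' i
      exact ⟨Y, hY, ⟨L'.extendXIso _ hi ≪≫ φ⟩⟩
    · obtain ⟨Z, hZ, hIZ⟩ := hI0
      exact ⟨Z, hIZ, ⟨(L'.isZero_extend_X _ n (by simpa using hn)).iso hZ⟩⟩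
  choose Y hY φ using hL₁
  let ψ := transportIso (L'.extend (ComplexShape.embeddingUpIntGE a)) Y (fun n => (φ n).some)
  let β : K.truncGE a ⟶ L'.extend (ComplexShape.embeddingUpIntGE a) :=
    extendMap α' (ComplexShape.embeddingUpIntGE a)
  have hβq : QuasiIso β := (quasiIso_extendMap_iff α' _).2 hq
  have hβm : ∀ n, Mono (β.f n) := by
    intro n
    by_cases hn : ∃ i, (ComplexShape.embeddingUpIntGE a).f i = n
    · obtain ⟨i, hi⟩ := hn
      dsimp only [β]
      rw [extendMap_f α' _ hi]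
      have h3 := hα' i
      have h4 : Mono (α'.f i ≫ (extendXIso L' (ComplexShape.embeddingUpIntGE a) hi).inv) :=
        mono_comp _ _
      exact mono_comp _ _
    · have hz : IsZero ((K.truncGE a).X n) :=
        (K.truncGE' (ComplexShape.embeddingUpIntGE a)).isZero_extend_X _ n (by simpa using hn)
      exact ⟨fun g h _ => hz.eq_of_tgt _ _⟩
  refine ⟨transport (L'.extend (ComplexShape.embeddingUpIntGE a)) Y (fun n => (φ n).some),
    K.πTruncGE a ≫ β ≫ ψ.hom, ?_, hY, ?_, ?_⟩
  · exact CochainComplex.isStrictlyGE_of_iso ψ a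
  · intro n
    have h1 : IsIso ((K.πTruncGE a).f n) := inferInstance
    have h2 : IsIso (ψ.hom.f n) := inferInstance
    have := hβm n
    rw [HomologicalComplex.comp_f, HomologicalComplex.comp_f]
    infer_instance
  · infer_instance

end IntVersion

end Groth.Agent.Lib.Helper6.RightRes
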