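import Groth.Agent.Lib.Helper6.RightRes
import Groth.Agent.Lib.Helper6.Leray
import Mathlib.Algebra.Homology.HomologicalComplexAbelian
import Mathlib.Algebra.Homology.HomologySequenceLemmas

/-!
# Injective resolutions of short exact sequences of bounded below complexes (helper6)
-/

universe v u

open CategoryTheory Limits HomologicalComplex ZeroObject

namespace Groth.Agent.Lib.Helper6.SESRes

section Pushout

variable {C : Type*} [Category C] [Abelian C]
  {X₁ X₂ X₃ X₄ Q : C} {t : X₁ ⟶ X₂} {l : X₁ ⟶ X₃} {r : X₂ ⟶ X₄} {b : X₃ ⟶ X₄}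

/-- The pushout of a short exact sequence `0 ⟶ X₁ ⟶ X₂ ⟶ Q ⟶ 0` along `l : X₁ ⟶ X₃`. -/
lemma shortExact_of_isPushout (h : IsPushout t l r b) {q : X₂ ⟶ Q} (w : t ≫ q = 0)
    (hS : (ShortComplex.mk t q w).ShortExact) :
    ∃ (q' : X₄ ⟶ Q) (w' : b ≫ q' = 0), r ≫ q' = q ∧ (ShortComplex.mk b q' w').ShortExact := by
  have hw : t ≫ q = l ≫ (0 : X₃ ⟶ Q) := by rw [w, comp_zero]
  have h1 : r ≫ h.desc q 0 hw = q := h.inl_desc _ _ _
  have h2 : b ≫ h.desc q 0 hw = 0 := h.inr_desc _ _ _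
  have hmono : Mono t := hS.mono_f
  have hepi : Epi q := hS.epi_g
  refine ⟨h.desc q 0 hw, h2, h1, ?_⟩
  have hex : (ShortComplex.mk b (h.desc q 0 hw) h2).Exact := by
    rw [ShortComplex.exact_iff_exact_up_to_refinements]
    intro T x hx
    dsimp only at x hx ⊢
    obtain ⟨T₁, p₁, _, x₂, x₃, hx'⟩ := h.hom_eq_add_up_to_refinements x
    have h3 : x₂ ≫ q = 0 := by
      have := hx' =≫ h.desc q 0 hw
      rw [Category.assoc, hx, comp_zero, Preadditive.add_comp, Category.assoc, Category.assoc,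
        h1, h2, comp_zero, add_zero] at this
      exact this.symm
    obtain ⟨T₂, p₂, _, y, hy⟩ := hS.exact.exact_up_to_refinements x₂ h3
    dsimp only at y hy
    refine ⟨T₂, p₂ ≫ p₁, inferInstance, y ≫ l + p₂ ≫ x₃, ?_⟩
    rw [Category.assoc, hx', Preadditive.comp_add, ← Category.assoc p₂ x₂, hy,
      Preadditive.add_comp, Category.assoc, Category.assoc, Category.assoc, h.w]
  have hmono' : Mono b := by
    rw [Preadditive.mono_iff_cancel_zero]
    intro T x hx
    obtain ⟨T', p, _, y, hy₁, hy₂⟩ := RightRes.exists_lift_of_isPushout h (0 : T ⟶ X₂) x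
      (by rw [zero_comp, hx])
    rw [comp_zero] at hy₁
    have hy0 : y = 0 := by rw [← cancel_mono t, hy₁, zero_comp]
    rw [← cancel_epi p, ← hy₂, hy0, zero_comp, comp_zero]
  have hepi' : Epi (h.desc q 0 hw) := epi_of_epi_fac h1
  exact { exact := hex, mono_f := hmono', epi_g := hepi' }

end Pushout

section Main

variable {A : Type u} [Category.{v} A] [Abelian A] [EnoughInjectives A]

omit [EnoughInjectives A] in
lemma injective_X₃ {S : ShortComplex A} (hS : S.ShortExact) (h₁ : Injective S.X₁)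
    (h₂ : Injective S.X₂) : Injective S.X₃ := by
  let sp := hS.splittingOfInjective
  exact (Retract.mk sp.s S.g sp.s_g).injective

/-- Injective resolutions of bounded below complexes (degreewise mono quasi-isomorphisms). -/
lemma exists_injRes (K : CochainComplex A ℤ) (n : ℤ) [K.IsStrictlyGE n] :
    ∃ (L : CochainComplex A ℤ) (α : K ⟶ L), L.IsStrictlyGE n ∧ (∀ k, Injective (L.X k)) ∧
      Mono α ∧ QuasiIso α := by
  obtain ⟨L, α, hL, hI, hm, hq⟩ := RightRes.exists_int (fun X : A => Injective X)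
    ⟨(0 : A), isZero_zero A, inferInstance⟩
    (fun X => ⟨Injective.under X, Injective.ι X, inferInstance, inferInstance⟩) K n
  exact ⟨L, α, hL, hI, HomologicalComplex.mono_of_mono_f α hm, hq⟩

/-- Injective resolutions of short exact sequences of bounded below complexes. -/
theorem exists_sesRes (S : ShortComplex (CochainComplex A ℤ)) (hS : S.ShortExact) (n : ℤ)
    [S.X₁.IsStrictlyGE n] [S.X₂.IsStrictlyGE n] [S.X₃.IsStrictlyGE n] :
    ∃ (T : ShortComplex (CochainComplex A ℤ)) (φ : S ⟶ T), T.ShortExact ∧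
      T.X₁.IsStrictlyGE n ∧ T.X₂.IsStrictlyGE n ∧ T.X₃.IsStrictlyGE n ∧
      (∀ k : ℤ, Injective (T.X₁.X k) ∧ Injective (T.X₂.X k) ∧ Injective (T.X₃.X k)) ∧
      QuasiIso φ.τ₁ ∧ QuasiIso φ.τ₂ ∧ QuasiIso φ.τ₃ := by
  obtain ⟨I₁, α₁, hI₁, hinj₁, hm₁, hq₁⟩ := exists_injRes S.X₁ n
  have hpo : IsPushout S.f α₁ (pushout.inl S.f α₁) (pushout.inr S.f α₁) :=
    IsPushout.of_hasPushout _ _
  -- the sequence `0 ⟶ I₁ ⟶ B' ⟶ X₃ ⟶ 0`
  obtain ⟨g', w', hg', hS'⟩ := shortExact_of_isPushout hpo S.zero hS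
  -- the sequence `0 ⟶ X₂ ⟶ B' ⟶ coker α₁ ⟶ 0`
  have hSα : (ShortComplex.mk α₁ (cokernel.π α₁) (cokernel.condition α₁)).ShortExact :=
    { exact := ShortComplex.exact_cokernel α₁
      mono_f := hm₁
      epi_g := inferInstanceAs (Epi (cokernel.π α₁)) }
  obtain ⟨q'', w'', hq'', hS''⟩ := shortExact_of_isPushout hpo.flip _ hSα
  have hac : (cokernel α₁).Acyclic := hSα.acyclic_X₃ hq₁
  have hinl : QuasiIso (pushout.inl S.f α₁) := Leray.quasiIso_f_of_acyclic_X₃ hS'' hac
  have hB' : (pushout S.f α₁).IsStrictlyGE n := by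
    rw [CochainComplex.isStrictlyGE_iff]
    intro k hk
    have hex := (hS'.map_of_exact (HomologicalComplex.eval A (ComplexShape.up ℤ) k)).exact
    exact hex.isZero_of_both_isZero (CochainComplex.isZero_of_isStrictlyGE I₁ n k hk)
      (CochainComplex.isZero_of_isStrictlyGE S.X₃ n k hk)
  obtain ⟨I₂, β, hI₂, hinj₂, hm₂, hq₂⟩ := exists_injRes (pushout S.f α₁) n
  have hinr : Mono (pushout.inr S.f α₁) := hS'.mono_f
  have hι : Mono (pushout.inr S.f α₁ ≫ β) := mono_comp _ _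
  have hT : (ShortComplex.mk (pushout.inr S.f α₁ ≫ β) (cokernel.π (pushout.inr S.f α₁ ≫ β))
      (cokernel.condition _)).ShortExact :=
    { exact := ShortComplex.exact_cokernel _
      mono_f := hι
      epi_g := inferInstanceAs (Epi (cokernel.π (pushout.inr S.f α₁ ≫ β))) }
  have hepig' : Epi (ShortComplex.mk (pushout.inr S.f α₁) g' w').g := hS'.epi_g
  have hτ₃w : (ShortComplex.mk (pushout.inr S.f α₁) g' w').f ≫
      (β ≫ cokernel.π (pushout.inr S.f α₁ ≫ β)) = 0 := by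
    dsimp only
    rw [← Category.assoc, cokernel.condition]
  have hτ₃ : g' ≫ hS'.exact.desc _ hτ₃w = β ≫ cokernel.π (pushout.inr S.f α₁ ≫ β) :=
    hS'.exact.g_desc _ hτ₃w
  -- the morphism `S' ⟶ T`
  let ψ : ShortComplex.mk (pushout.inr S.f α₁) g' w' ⟶
      ShortComplex.mk (pushout.inr S.f α₁ ≫ β) (cokernel.π (pushout.inr S.f α₁ ≫ β))
        (cokernel.condition _) :=
    { τ₁ := 𝟙 _
      τ₂ := β
      τ₃ := hS'.exact.desc _ hτ₃w
      comm₁₂ := by dsimp only; rw [Category.id_comp]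
      comm₂₃ := by dsimp only; exact hτ₃.symm }
  have hψ₃ : QuasiIso ψ.τ₃ :=
    HomologicalComplex.HomologySequence.quasiIso_τ₃ ψ hS' hT
      (by dsimp only [ψ]; infer_instance) hq₂
  let φ : S ⟶ ShortComplex.mk (pushout.inr S.f α₁ ≫ β)
      (cokernel.π (pushout.inr S.f α₁ ≫ β)) (cokernel.condition _) :=
    { τ₁ := α₁
      τ₂ := pushout.inl S.f α₁ ≫ β
      τ₃ := hS'.exact.desc _ hτ₃w
      comm₁₂ := by
        dsimp only
        rw [← Category.assoc, ← Category.assoc, pushout.condition]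
      comm₂₃ := by
        dsimp only
        rw [← hg', Category.assoc, Category.assoc, hτ₃] }
  have hT₃ : (cokernel (pushout.inr S.f α₁ ≫ β)).IsStrictlyGE n := by
    rw [CochainComplex.isStrictlyGE_iff]
    intro k hk
    have hepi : Epi (((ShortComplex.mk (pushout.inr S.f α₁ ≫ β)
        (cokernel.π (pushout.inr S.f α₁ ≫ β)) (cokernel.condition _)).map
          (HomologicalComplex.eval A (ComplexShape.up ℤ) k)).g) :=
      (hT.map_of_exact (HomologicalComplex.eval A (ComplexShape.up ℤ) k)).epi_g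
    exact @IsZero.of_epi _ _ _ _ _ _ hepi (CochainComplex.isZero_of_isStrictlyGE I₂ n k hk)
  have hinj₃ : ∀ k, Injective ((cokernel (pushout.inr S.f α₁ ≫ β)).X k) := fun k =>
    injective_X₃ (hT.map_of_exact (HomologicalComplex.eval A (ComplexShape.up ℤ) k))
      (hinj₁ k) (hinj₂ k)
  refine ⟨_, φ, hT, hI₁, hI₂, hT₃, fun k => ⟨hinj₁ k, hinj₂ k, hinj₃ k⟩, hq₁, ?_, hψ₃⟩
  change QuasiIso (pushout.inl S.f α₁ ≫ β)
  infer_instance

end Main

end Groth.Agent.Lib.Helper6.SESRes
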