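import Groth.Agent.Lib.Helper6.LeftRes
import Groth.Agent.Lib.Helper6.SESRes

/-!
# Projective resolutions of short exact sequences of bounded above complexes (helper6)
-/

universe v u

open CategoryTheory Limits HomologicalComplex ZeroObject

namespace Groth.Agent.Lib.Helper6.SESResProj

section Pullback

variable {C : Type*} [Category C] [Abelian C]
  {X₁ X₂ X₃ X₄ K : C} {t : X₁ ⟶ X₂} {l : X₁ ⟶ X₃} {r : X₂ ⟶ X₄} {b : X₃ ⟶ X₄}

/-- The pullback of a short exact sequence `0 ⟶ K ⟶ X₂ ⟶ X₄ ⟶ 0` along `b : X₃ ⟶ X₄`. -/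
lemma shortExact_of_isPullback (h : IsPullback t l r b) {i : K ⟶ X₂} (w : i ≫ r = 0)
    (hS : (ShortComplex.mk i r w).ShortExact) :
    ∃ (i' : K ⟶ X₁) (w' : i' ≫ l = 0), i' ≫ t = i ∧ (ShortComplex.mk i' l w').ShortExact := by
  have hw : i ≫ r = (0 : K ⟶ X₃) ≫ b := by rw [w, zero_comp]
  have h1 : h.lift i 0 hw ≫ t = i := h.lift_fst _ _ _
  have h2 : h.lift i 0 hw ≫ l = 0 := h.lift_snd _ _ _
  have hmono : Mono i := hS.mono_f
  have hepi : Epi r := hS.epi_g
  refine ⟨h.lift i 0 hw, h2, h1, ?_⟩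
  have hex : (ShortComplex.mk (h.lift i 0 hw) l h2).Exact := by
    rw [ShortComplex.exact_iff_exact_up_to_refinements]
    intro T x hx
    dsimp only at x hx ⊢
    have h3 : (x ≫ t) ≫ r = 0 := by
      rw [Category.assoc, h.w, ← Category.assoc, hx, zero_comp]
    obtain ⟨T', p, hp, y, hy⟩ := hS.exact.exact_up_to_refinements (x ≫ t) h3
    dsimp only at y hy
    refine ⟨T', p, hp, y, ?_⟩
    apply h.hom_ext
    · rw [Category.assoc, Category.assoc, h1, ← hy]
    · rw [Category.assoc, Category.assoc, h2, hx, comp_zero, comp_zero]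
  have hmono' : Mono (h.lift i 0 hw) := mono_of_mono_fac h1
  have hepi' : Epi l := by
    rw [epi_iff_surjective_up_to_refinements]
    intro T y
    obtain ⟨T', p, hp, x₂, hx₂⟩ := surjective_up_to_refinements_of_epi r (y ≫ b)
    refine ⟨T', p, hp, h.lift x₂ (p ≫ y) (by rw [← hx₂, Category.assoc]), ?_⟩
    rw [h.lift_snd]
  exact { exact := hex, mono_f := hmono', epi_g := hepi' }

end Pullback

section L5

variable {C : Type u} [Category.{v} C] [Abelian C]

/-- In a short exact sequence of cochain complexes with acyclic kernel, the second map is a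
quasi-isomorphism. -/
lemma quasiIso_g_of_acyclic_X₁ {S : ShortComplex (CochainComplex C ℤ)} (hS : S.ShortExact)
    (h₁ : S.X₁.Acyclic) : QuasiIso S.g := by
  rw [quasiIso_iff]
  intro i
  rw [quasiIsoAt_iff_isIso_homologyMap]
  have hmono : Mono (HomologicalComplex.homologyMap S.g i) := by
    have e := hS.homology_exact₂ i
    exact e.mono_g (((h₁ i).isZero_homology).eq_of_src _ _)
  have hepi : Epi (HomologicalComplex.homologyMap S.g i) := by
    have hij : (ComplexShape.up ℤ).Rel i (i + 1) := by simp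
    have e := hS.homology_exact₃ i (i + 1) hij
    exact e.epi_f (((h₁ (i + 1)).isZero_homology).eq_of_tgt _ _)
  exact isIso_of_mono_of_epi _

open HomologicalComplex.HomologySequence ComposableArrows Abelian in
/-- Two out of three for quasi-isomorphisms between short exact sequences: first component. -/
lemma quasiIso_τ₁ {S₁ S₂ : ShortComplex (CochainComplex C ℤ)} (φ : S₁ ⟶ S₂)
    (hS₁ : S₁.ShortExact) (hS₂ : S₂.ShortExact) (h₂ : QuasiIso φ.τ₂) (h₃ : QuasiIso φ.τ₃) :
    QuasiIso φ.τ₁ := by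
  rw [quasiIso_iff]
  intro j
  rw [quasiIsoAt_iff_isIso_homologyMap]
  have hij : (ComplexShape.up ℤ).Rel (j - 1) j := by simp
  have hmono : Mono (HomologicalComplex.homologyMap φ.τ₁ j) := by
    apply mono_of_epi_of_mono_of_mono
      ((δ₀Functor ⋙ δlastFunctor).map (mapComposableArrows₅ φ hS₁ hS₂ (j - 1) j hij))
    · exact (composableArrows₅_exact hS₁ (j - 1) j hij).δ₀.δlast
    · exact (composableArrows₅_exact hS₂ (j - 1) j hij).δ₀.δlast
    · exact inferInstanceAs (Epi (HomologicalComplex.homologyMap φ.τ₂ (j - 1)))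
    · exact inferInstanceAs (Mono (HomologicalComplex.homologyMap φ.τ₃ (j - 1)))
    · exact inferInstanceAs (Mono (HomologicalComplex.homologyMap φ.τ₂ j))
  have hepi : Epi (HomologicalComplex.homologyMap φ.τ₁ j) := by
    apply epi_of_epi_of_epi_of_mono
      ((δ₀Functor ⋙ δ₀Functor).map (mapComposableArrows₅ φ hS₁ hS₂ (j - 1) j hij))
    · exact (composableArrows₅_exact hS₁ (j - 1) j hij).δ₀.δ₀
    · exact (composableArrows₅_exact hS₂ (j - 1) j hij).δ₀.δ₀
    · exact inferInstanceAs (Epi (HomologicalComplex.homologyMap φ.τ₃ (j - 1)))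
    · exact inferInstanceAs (Epi (HomologicalComplex.homologyMap φ.τ₂ j))
    · exact inferInstanceAs (Mono (HomologicalComplex.homologyMap φ.τ₃ j))
  exact isIso_of_mono_of_epi _

end L5

section Main

variable {A : Type u} [Category.{v} A] [Abelian A]

lemma projective_X₁ {S : ShortComplex A} (hS : S.ShortExact) (h₂ : Projective S.X₂)
    (h₃ : Projective S.X₃) : Projective S.X₁ := by
  let sp := hS.splittingOfProjective
  exact (Retract.mk S.f sp.r sp.f_r).projective

variable [EnoughProjectives A]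

/-- Projective resolutions of bounded above complexes (degreewise epi quasi-isomorphisms). -/
lemma exists_projRes (K : CochainComplex A ℤ) (n : ℤ) [K.IsStrictlyLE n] :
    ∃ (Q : CochainComplex A ℤ) (α : Q ⟶ K), Q.IsStrictlyLE n ∧ (∀ k, Projective (Q.X k)) ∧
      Epi α ∧ QuasiIso α := by
  obtain ⟨Q, α, hQ, hP, hm, hq⟩ := LeftRes.exists_int (fun X : A => Projective X)
    ⟨(0 : A), isZero_zero A, inferInstance⟩
    (fun X => ⟨Projective.over X, Projective.π X, inferInstance, inferInstance⟩) K n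
  exact ⟨Q, α, hQ, hP, HomologicalComplex.epi_of_epi_f α hm, hq⟩

/-- Projective resolutions of short exact sequences of bounded above complexes. -/
theorem exists_sesRes (S : ShortComplex (CochainComplex A ℤ)) (hS : S.ShortExact) (n : ℤ)
    [S.X₁.IsStrictlyLE n] [S.X₂.IsStrictlyLE n] [S.X₃.IsStrictlyLE n] :
    ∃ (T : ShortComplex (CochainComplex A ℤ)) (φ : T ⟶ S), T.ShortExact ∧
      T.X₁.IsStrictlyLE n ∧ T.X₂.IsStrictlyLE n ∧ T.X₃.IsStrictlyLE n ∧
      (∀ k : ℤ, Projective (T.X₁.X k) ∧ Projective (T.X₂.X k) ∧ Projective (T.X₃.X k)) ∧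
      QuasiIso φ.τ₁ ∧ QuasiIso φ.τ₂ ∧ QuasiIso φ.τ₃ := by
  obtain ⟨P₃, γ₃, hP₃, hproj₃, he₃, hq₃⟩ := exists_projRes S.X₃ n
  have hpb : IsPullback (pullback.fst S.g γ₃) (pullback.snd S.g γ₃) S.g γ₃ :=
    IsPullback.of_hasPullback _ _
  -- the sequence `0 ⟶ X₁ ⟶ B' ⟶ P₃ ⟶ 0`
  obtain ⟨f', w', hf', hS'⟩ := shortExact_of_isPullback hpb S.zero hS
  -- the sequence `0 ⟶ ker γ₃ ⟶ B' ⟶ X₂ ⟶ 0`
  have hSγ : (ShortComplex.mk (kernel.ι γ₃) γ₃ (kernel.condition γ₃)).ShortExact :=
    { exact := ShortComplex.exact_kernel γ₃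
      mono_f := inferInstanceAs (Mono (kernel.ι γ₃))
      epi_g := he₃ }
  obtain ⟨i'', w'', hi'', hS''⟩ := shortExact_of_isPullback hpb.flip _ hSγ
  have hac : (kernel γ₃).Acyclic := hSγ.acyclic_X₁ hq₃
  have hfst : QuasiIso (pullback.fst S.g γ₃) := quasiIso_g_of_acyclic_X₁ hS'' hac
  have hB' : (pullback S.g γ₃).IsStrictlyLE n := by
    rw [CochainComplex.isStrictlyLE_iff]
    intro k hk
    have hex := (hS'.map_of_exact (HomologicalComplex.eval A (ComplexShape.up ℤ) k)).exact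
    exact hex.isZero_of_both_isZero (CochainComplex.isZero_of_isStrictlyLE S.X₁ n k hk)
      (CochainComplex.isZero_of_isStrictlyLE P₃ n k hk)
  obtain ⟨P₂, β, hP₂, hproj₂, he₂, hq₂⟩ := exists_projRes (pullback S.g γ₃) n
  have hsnd : Epi (pullback.snd S.g γ₃) := hS'.epi_g
  have hπ : Epi (β ≫ pullback.snd S.g γ₃) := epi_comp _ _
  have hT : (ShortComplex.mk (kernel.ι (β ≫ pullback.snd S.g γ₃)) (β ≫ pullback.snd S.g γ₃)
      (kernel.condition _)).ShortExact :=
    { exact := ShortComplex.exact_kernel _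
      mono_f := inferInstanceAs (Mono (kernel.ι (β ≫ pullback.snd S.g γ₃)))
      epi_g := hπ }
  have hmonof' : Mono (ShortComplex.mk f' (pullback.snd S.g γ₃) w').f := hS'.mono_f
  have hτ₁w : (kernel.ι (β ≫ pullback.snd S.g γ₃) ≫ β) ≫
      (ShortComplex.mk f' (pullback.snd S.g γ₃) w').g = 0 := by
    dsimp only
    rw [Category.assoc, kernel.condition]
  have hτ₁ : hS'.exact.lift _ hτ₁w ≫ f' = kernel.ι (β ≫ pullback.snd S.g γ₃) ≫ β :=
    hS'.exact.lift_f _ hτ₁w
  -- the morphism `T ⟶ S'`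
  let ψ : ShortComplex.mk (kernel.ι (β ≫ pullback.snd S.g γ₃)) (β ≫ pullback.snd S.g γ₃)
      (kernel.condition _) ⟶ ShortComplex.mk f' (pullback.snd S.g γ₃) w' :=
    { τ₁ := hS'.exact.lift _ hτ₁w
      τ₂ := β
      τ₃ := 𝟙 _
      comm₁₂ := by dsimp only; exact hτ₁
      comm₂₃ := by dsimp only; rw [Category.comp_id] }
  have hψ₁ : QuasiIso ψ.τ₁ :=
    quasiIso_τ₁ ψ hT hS' hq₂ (by dsimp only [ψ]; infer_instance)
  let φ : ShortComplex.mk (kernel.ι (β ≫ pullback.snd S.g γ₃)) (β ≫ pullback.snd S.g γ₃)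
      (kernel.condition _) ⟶ S :=
    { τ₁ := hS'.exact.lift _ hτ₁w
      τ₂ := β ≫ pullback.fst S.g γ₃
      τ₃ := γ₃
      comm₁₂ := by
        dsimp only
        rw [← hf', ← Category.assoc, hτ₁, Category.assoc]
      comm₂₃ := by
        dsimp only
        rw [Category.assoc, Category.assoc, pullback.condition] }
  have hT₁ : (kernel (β ≫ pullback.snd S.g γ₃)).IsStrictlyLE n := by
    rw [CochainComplex.isStrictlyLE_iff]
    intro k hk
    have hmono : Mono (((ShortComplex.mk (kernel.ι (β ≫ pullback.snd S.g γ₃))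
        (β ≫ pullback.snd S.g γ₃) (kernel.condition _)).map
          (HomologicalComplex.eval A (ComplexShape.up ℤ) k)).f) :=
      (hT.map_of_exact (HomologicalComplex.eval A (ComplexShape.up ℤ) k)).mono_f
    exact @IsZero.of_mono _ _ _ _ _ _ hmono (CochainComplex.isZero_of_isStrictlyLE P₂ n k hk)
  have hproj₁ : ∀ k, Projective ((kernel (β ≫ pullback.snd S.g γ₃)).X k) := fun k =>
    projective_X₁ (hT.map_of_exact (HomologicalComplex.eval A (ComplexShape.up ℤ) k))
      (hproj₂ k) (hproj₃ k)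
  refine ⟨_, φ, hT, hT₁, hP₂, hP₃, fun k => ⟨hproj₁ k, hproj₂ k, hproj₃ k⟩, hψ₁, ?_, hq₃⟩
  change QuasiIso (β ≫ pullback.fst S.g γ₃)
  infer_instance

end Main

end Groth.Agent.Lib.Helper6.SESResProj
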