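import Mathlib.CategoryTheory.Limits.Types.Images
import Mathlib.CategoryTheory.Filtered.Final
import Mathlib.CategoryTheory.Limits.Final

/-!
# Projections from a sequential limit of surjections are surjective (helper6)
-/

universe u
open CategoryTheory Limits Opposite

namespace Groth.Agent.Lib.Helper6.SeqLimSurj

lemma mono_add (n : ℕ) : Monotone (fun m : ℕ => n + m) := fun _ _ h => Nat.add_le_add_left h n

instance (n : ℕ) : (mono_add n).functor.Final := by
  rw [Monotone.final_functor_iff]
  intro j
  exact ⟨j, Nat.le_add_left j n⟩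

theorem surjective_π_app {F : ℕᵒᵖ ⥤ Type u} {c : Cone F} (hc : IsLimit c)
    (hF : ∀ n, Function.Surjective (F.map (homOfLE (Nat.le_succ n)).op)) (n : ℕ) :
    Function.Surjective (c.π.app ⟨n⟩) := by
  let G : ℕᵒᵖ ⥤ ℕᵒᵖ := (mono_add n).functor.op
  have hc' : IsLimit (c.whisker G) := (Functor.Initial.isLimitWhiskerEquiv G c).symm hc
  have hG : ∀ m, Function.Surjective ((G ⋙ F).map (homOfLE (Nat.le_succ m)).op) := by
    intro m
    have : (G ⋙ F).map (homOfLE (Nat.le_succ m)).op =
        F.map (homOfLE (Nat.le_succ (n + m))).op := by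
      dsimp [G]
      congr 1
    rw [this]
    exact hF (n + m)
  exact Types.surjective_π_app_zero_of_surjective_map hc' hG

end Groth.Agent.Lib.Helper6.SeqLimSurj
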