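import Groth.Agent.Lib.Helper6.ExtShAffine
import Groth.Agent.Lib.Helper6.DCohSheafHom
import Groth.Agent.Lib.Helper7.StalkLoc
import Groth.Agent.Lib.Helper21.DepthKit9
import Groth.Agent.Lib.Helper29.TildeBridge2
import Mathlib

/-!
# Depth of the stalks of `ℋom(F, G)` for coherent `F`, `G` on a locally Noetherian scheme

* `nonempty_sections_linearEquiv`: `Γ(ℋom(F,G), U) ≃ₗ Hom_{Γ(X,U)}(Γ(F,U), Γ(G,U))` over an affine open.
* `depth_stalk_eq`: `depth ℋom(F,G)_x = depth (Hom_A(M,N))_p`.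
* `one_le_depth_stalk`, `two_le_depth_stalk`.
-/

set_option autoImplicit false
set_option linter.style.haveILetI false
set_option linter.unusedSectionVars false
set_option linter.unusedVariables false
set_option backward.isDefEq.respectTransparency.types false

universe u

open CategoryTheory CategoryTheory.Limits AlgebraicGeometry Opposite TopologicalSpace

namespace Groth.Agent.Lib.Helper6.SheafHomDepth

variable {X : Scheme.{u}}

/-- sections of `ℋom(F, G)` over an affine open -/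
theorem nonempty_sections_linearEquiv [IsLocallyNoetherian X] {U : X.Opens}
    (hU : IsAffineOpen U) (F G : X.Modules) (hF : Coh.IsCoh F) (hG : G.IsQuasicoherent)
    [DCoh.HasSheafHom F] :
    Nonempty (Γ(((DCoh.sheafHom F).obj G : X.Modules), U) ≃ₗ[Γ(X, U)]
      (Γ(F, U) →ₗ[Γ(X, U)] Γ(G, U))) := by
  haveI : ModSite.HasSheafHom (O := X.sheaf) F :=
    Groth.Agent.Lib.Helper1.TensorAdj.hasSheafHom _ _
  haveI := ExtShCoh.hasInjectiveResolutions X
  let Φ : ModSite.Mod X.sheaf ⥤ ModSite.Mod X.sheaf := ModSite.sheafHom (O := X.sheaf) F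
  haveI : Φ.Additive := ModSite.sheafHom_additive X.sheaf _
  haveI : PreservesFiniteLimits Φ :=
    (ModSite.sheafHomAdj F).rightAdjoint_preservesLimits.{0, 0}.preservesFiniteLimits
  let e1 : (Φ.rightDerived 0).obj G ≅ Φ.obj G := (Functor.rightDerivedZeroIsoSelf Φ).app G
  let e2 : (DCoh.sheafHom F).obj G ≅ Φ.obj G := (DCohSheafHom.sheafHomIso F).app G
  let e : ((DCoh.sheafHom F).obj G : X.Modules) ≅
      ((ModSite.extSh (O := X.sheaf) F 0).obj G : X.Modules) := e2 ≪≫ e1.symm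
  obtain ⟨l0⟩ := ExtShAffine.nonempty_sections_extSh_linearEquiv hU F G hF hG 0
  let l1 := Groth.Agent.Lib.Helper29.TildeBridge.sectionsEquivOfIso e U
  let l2 : Abelian.Ext.{u} (ModuleCat.of Γ(X, U) Γ(F, U)) (ModuleCat.of Γ(X, U) Γ(G, U)) 0 ≃ₗ[Γ(X, U)]
      (ModuleCat.of Γ(X, U) Γ(F, U) ⟶ ModuleCat.of Γ(X, U) Γ(G, U)) :=
    Abelian.Ext.linearEquiv₀
  let l3 : (ModuleCat.of Γ(X, U) Γ(F, U) ⟶ ModuleCat.of Γ(X, U) Γ(G, U)) ≃ₗ[Γ(X, U)]
      (Γ(F, U) →ₗ[Γ(X, U)] Γ(G, U)) := ModuleCat.homLinearEquiv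
  exact ⟨((l1.trans l0).trans l2).trans l3⟩

open Groth.Agent.Lib.Helper28.QCohLoc in
/-- the depth of the stalk of `ℋom(F, G)` is the depth of the localization of `Hom_A(M, N)` -/
theorem depth_stalk_eq [IsLocallyNoetherian X] {U : X.Opens}
    (hU : IsAffineOpen U) (F G : X.Modules) (hF : Coh.IsCoh F) (hG : Coh.IsCoh G)
    [DCoh.HasSheafHom F] (x : X) (hx : x ∈ U) :
    LocCoh.depth (X.presheaf.stalk x) (((DCoh.sheafHom F).obj G).presheaf.stalk x) =
      LocCoh.depth (Localization.AtPrime (hU.primeIdealOf ⟨x, hx⟩).asIdeal)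
        (LocalizedModule (hU.primeIdealOf ⟨x, hx⟩).asIdeal.primeCompl
          (Γ(F, U) →ₗ[Γ(X, U)] Γ(G, U))) := by
  let H : X.Modules := (DCoh.sheafHom F).obj G
  have hH : Coh.IsCoh H := ExtShCoh.isCoh_dcoh_sheafHom X F G hF hG
  haveI : H.IsQuasicoherent := hH.1
  haveI : SheafOfModules.IsFiniteType.{u} (R := X.ringCatSheaf) H := hH.2
  haveI : IsNoetherianRing Γ(X, U) := IsLocallyNoetherian.component_noetherian ⟨U, hU⟩
  haveI : Module.Finite Γ(X, U) Γ(H, U) :=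
    Groth.Agent.Lib.Helper28.FinType.finite_of_isAffineOpen H hU
  obtain ⟨l⟩ := nonempty_sections_linearEquiv hU F G hF hG.1
  have h1 := Groth.Agent.Lib.Helper7.StalkLoc.depth_stalk_eq H hU
    (Groth.Agent.Lib.Helper28.QCohLoc.isLocOn_of_isQuasicoherent H hU) x hx
  refine h1.trans ?_
  set p := (hU.primeIdealOf ⟨x, hx⟩).asIdeal with hp
  exact Groth.Agent.Lib.Helper21.DepthKit.depth_congr
    (IsLocalizedModule.mapEquiv p.primeCompl
      (LocalizedModule.mkLinearMap p.primeCompl Γ(H, U))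
      (LocalizedModule.mkLinearMap p.primeCompl (Γ(F, U) →ₗ[Γ(X, U)] Γ(G, U)))
      (Localization.AtPrime p) l)

open Groth.Agent.Lib.Helper28.QCohLoc in
theorem le_depth_stalk [IsLocallyNoetherian X] (F G : X.Modules) (hF : Coh.IsCoh F)
    (hG : Coh.IsCoh G) [DCoh.HasSheafHom F] (x : X) :
    ((1 : ℕ∞) ≤ LocCoh.depth (X.presheaf.stalk x) (G.presheaf.stalk x) →
      (1 : ℕ∞) ≤ LocCoh.depth (X.presheaf.stalk x)
        (((DCoh.sheafHom F).obj G).presheaf.stalk x)) ∧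
    ((2 : ℕ∞) ≤ LocCoh.depth (X.presheaf.stalk x) (G.presheaf.stalk x) →
      (2 : ℕ∞) ≤ LocCoh.depth (X.presheaf.stalk x)
        (((DCoh.sheafHom F).obj G).presheaf.stalk x)) := by
  obtain ⟨U, hU, hx⟩ : ∃ U : X.Opens, IsAffineOpen U ∧ x ∈ U := by
    obtain ⟨_, ⟨U, hU, rfl⟩, hxU, -⟩ :=
      X.isBasis_affineOpens.exists_subset_of_mem_open (Set.mem_univ x) isOpen_univ
    exact ⟨U, hU, hxU⟩
  haveI : F.IsQuasicoherent := hF.1
  haveI : SheafOfModules.IsFiniteType.{u} (R := X.ringCatSheaf) F := hF.2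
  haveI : G.IsQuasicoherent := hG.1
  haveI : SheafOfModules.IsFiniteType.{u} (R := X.ringCatSheaf) G := hG.2
  haveI : IsNoetherianRing Γ(X, U) := IsLocallyNoetherian.component_noetherian ⟨U, hU⟩
  haveI : Module.Finite Γ(X, U) Γ(F, U) :=
    Groth.Agent.Lib.Helper28.FinType.finite_of_isAffineOpen F hU
  haveI : Module.Finite Γ(X, U) Γ(G, U) :=
    Groth.Agent.Lib.Helper28.FinType.finite_of_isAffineOpen G hU
  rw [depth_stalk_eq hU F G hF hG x hx, Groth.Agent.Lib.Helper7.StalkLoc.depth_stalk_eq G hU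
    (Groth.Agent.Lib.Helper28.QCohLoc.isLocOn_of_isQuasicoherent G hU) x hx]
  exact ⟨Groth.Agent.Lib.Helper21.DepthKit.one_le_depth_localization_hom _,
    Groth.Agent.Lib.Helper21.DepthKit.two_le_depth_localization_hom _⟩

end Groth.Agent.Lib.Helper6.SheafHomDepth
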