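import Mathlib
import Groth.Prelude.Def_Coh
import Groth.Prelude.Def_ModSite2
import Groth.Agent.Lib.Helper6.ExtShQCoh
import Groth.Agent.Lib.Helper6.SheafHomExact

/-!
# Quasi-coherence of `ℋom(F, G)` for `F` with a finite free presentation and `G` quasi-coherent
(helper6)
-/

set_option autoImplicit false
set_option linter.style.haveILetI false
set_option linter.unusedSectionVars false
set_option linter.unusedVariables false
set_option backward.isDefEq.respectTransparency.types false

universe u

open CategoryTheory Limits Opposite AlgebraicGeometry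

namespace Groth.Agent.Lib.Helper6.SheafHomQC

open Groth.Agent.Lib.Helper6.FinFreeExt Groth.Agent.Lib.Helper6.DevCore
  Groth.Agent.Lib.Helper6.ExtShQCoh

variable {X : Scheme.{u}}

attribute [local instance] Abelian.hasFiniteBiproducts

local instance hsh (F : X.Modules) : ModSite.HasSheafHom (O := X.sheaf) F :=
  Groth.Agent.Lib.Helper1.TensorAdj.hasSheafHom X.sheaf F

/-- `ℋom(O^n, G) ≅ G^n` is quasi-coherent -/
theorem isQC_sheafHom_freeN (n : ℕ) (G : ModSite.Mod X.sheaf)
    (hG : (show X.Modules from G).IsQuasicoherent) :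
    (show X.Modules from
      ((ModSite.sheafHom (O := X.sheaf) (freeN X.sheaf n)).obj G)).IsQuasicoherent :=
  isQC_of_iso ((sheafHomFreeIso (Iso.refl _)).app G).symm (isQC_Pn n G hG)

/-- **`ℋom(F, G)` is quasi-coherent** for `O^m ⟶ O^n ⟶ F ⟶ 0` exact and `G` quasi-coherent -/
theorem isQC_sheafHom (F G : X.Modules) (hG : G.IsQuasicoherent) {n m : ℕ}
    (p : freeN X.sheaf n ⟶ F) [Epi p] (q : freeN X.sheaf m ⟶ kernel p) [Epi q] :
    ((ModSite.sheafHom (O := X.sheaf) F).obj G).IsQuasicoherent := by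
  let S : ShortComplex (ModSite.Mod X.sheaf) :=
    ShortComplex.mk (q ≫ kernel.ι p) p (by rw [Category.assoc, kernel.condition, comp_zero])
  have h0 : (ShortComplex.mk (kernel.ι p) p (kernel.condition p)).Exact :=
    ShortComplex.exact_of_f_is_kernel _ (kernelIsKernel p)
  let φ : S ⟶ ShortComplex.mk (kernel.ι p) p (kernel.condition p) :=
    { τ₁ := q, τ₂ := 𝟙 _, τ₃ := 𝟙 _ }
  haveI : Epi φ.τ₁ := inferInstanceAs (Epi q)
  haveI : IsIso φ.τ₂ := inferInstanceAs (IsIso (𝟙 (freeN X.sheaf n)))
  haveI : Mono φ.τ₃ := inferInstanceAs (Mono (𝟙 F))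
  have hS : S.Exact := (ShortComplex.exact_iff_of_epi_of_isIso_of_mono φ).2 h0
  haveI : Epi S.g := inferInstanceAs (Epi p)
  have hm := SheafHomExact.mono_sheafHomMap_app X.sheaf S G
  have he := SheafHomExact.exact_sheafHomMap_app X.sheaf S G hS
  haveI : Mono (ShortComplex.mk _ _ (SheafHomExact.sheafHomMap_comp_app X.sheaf S G)).f := hm
  let e : (ModSite.sheafHom (O := X.sheaf) F).obj G ≅
      kernel ((ExtSupp.sheafHomMap (O := X.sheaf) S.f).app G) :=
    he.fIsKernel.conePointUniqueUpToIso (limit.isLimit _)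
  exact isQC_of_iso e.symm (isQC_kernel (isQC_sheafHom_freeN n G hG) (isQC_sheafHom_freeN m G hG) _)

end Groth.Agent.Lib.Helper6.SheafHomQC
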