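import Groth.Agent.Lib.Helper6.RelExtRes
import Groth.Agent.Lib.Helper6.GrothSS

/-!
# `ℰxt^i(F, G)` from a resolution of `F` by `ℋom(-, G)`-acyclic modules (absolute case)

The case `f = 𝟙 X` of `RelExtRes.nonempty_iso`, with the complex `ℋom(E_•, G)` given abstractly.
-/

set_option autoImplicit false
universe u
open CategoryTheory CategoryTheory.Limits AlgebraicGeometry

namespace Groth.Agent.Lib.Helper6.SheafHomRes

open Groth.Agent.Lib.Helper6

variable (X : Scheme.{u})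

instance T_additive {Y : Scheme.{u}} (f : X ⟶ Y) (M : ModSite.Mod X.sheaf)
    [ModSite.HasSheafHom (O := X.sheaf) M] : (RelExtRes.T f M).Additive := by
  have h2 : (Scheme.Modules.pushforward f).Additive := inferInstance
  refine ⟨fun {P Q} {a b} => ?_⟩
  show (Scheme.Modules.pushforward f).map ((ModSite.sheafHom (O := X.sheaf) M).map (a + b)) =
    (Scheme.Modules.pushforward f).map ((ModSite.sheafHom (O := X.sheaf) M).map a) +
      (Scheme.Modules.pushforward f).map ((ModSite.sheafHom (O := X.sheaf) M).map b)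
  rw [Functor.map_add]
  exact h2.map_add

/-- `id_* ℋom(M, -) ≅ ℋom(M, -)` -/
noncomputable def TIdIso (M : ModSite.Mod X.sheaf) [ModSite.HasSheafHom (O := X.sheaf) M] :
    RelExtRes.T (𝟙 X) M ≅ ModSite.sheafHom (O := X.sheaf) M :=
  Functor.isoWhiskerLeft (ModSite.sheafHom (O := X.sheaf) M) (Scheme.Modules.pushforwardId X) ≪≫
    Functor.rightUnitor _

/-- `Rⁿ(id_* ℋom(M, -)) ≅ ℰxtⁿ(M, -)` -/
noncomputable def TIdRightDerivedIso (M : ModSite.Mod X.sheaf)
    [ModSite.HasSheafHom (O := X.sheaf) M] [HasInjectiveResolutions (ModSite.Mod X.sheaf)]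
    (n : ℕ) : (RelExtRes.T (𝟙 X) M).rightDerived n ≅ ModSite.extSh (O := X.sheaf) M n :=
  let Φ : ModSite.Mod X.sheaf ⥤ X.Modules := ModSite.sheafHom (O := X.sheaf) M
  haveI : Φ.Additive := ModSite.sheafHom_additive X.sheaf M
  GrothSS.rightDerivedIsoOfIso (G := Φ) (TIdIso X M) n

theorem nonempty_homology_iso (F G : X.Modules)
    (E : ChainComplex X.Modules ℕ) (π : E.X 0 ⟶ F) [Epi π] (hπ : E.d 1 0 ≫ π = 0)
    (hex0 : (ShortComplex.mk (E.d 1 0) π hπ).Exact) (hex : ∀ j : ℕ, E.ExactAt (j + 1))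
    [∀ j : ℕ, ModSite.HasSheafHom (O := X.sheaf) (E.X j)] [ModSite.HasSheafHom (O := X.sheaf) F]
    [HasInjectiveResolutions (ModSite.Mod X.sheaf)]
    (hL : ∀ j p : ℕ, IsZero ((ModSite.extSh (O := X.sheaf) (E.X j) (p + 1)).obj G))
    (C : CochainComplex X.Modules ℕ)
    (e : ∀ j : ℕ, C.X j ≅ (ModSite.sheafHom (O := X.sheaf) (E.X j)).obj G)
    (hC : ∀ j : ℕ, C.d j (j + 1) ≫ (e (j + 1)).hom =
      (e j).hom ≫ (ExtSupp.sheafHomMap (O := X.sheaf) (E.d (j + 1) j)).app G)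
    (i : ℕ) :
    Nonempty (C.homology i ≅ (ModSite.extSh (O := X.sheaf) F i).obj G) := by
  have hEpi : Epi (C := ModSite.Mod X.sheaf) π := ‹Epi π›
  have hL' : ∀ (j : ℕ) (p : ℕ), 1 ≤ p →
      IsZero (((RelExtRes.T (𝟙 X) (E.X j)).rightDerived p).obj G) := by
    intro j p hp
    obtain ⟨p, rfl⟩ : ∃ p', p = p' + 1 := ⟨p - 1, by omega⟩
    exact IsZero.of_iso (hL j p)
      ((TIdRightDerivedIso X (E.X j) (p + 1)).app G)
  obtain ⟨φ⟩ := RelExtRes.nonempty_iso (𝟙 X) E π hπ hex0 hex G hL' i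
  -- the complex `C` is isomorphic to `K (𝟙 X) E G`
  let ψ : C ≅ (RelExtRes.K (𝟙 X) E).obj G :=
    HomologicalComplex.Hom.isoOfComponents
      (fun j => e j ≪≫ ((Scheme.Modules.pushforwardId X).app _).symm)
      (by
        rintro j k (rfl : j + 1 = k)
        have h1 : ((RelExtRes.K (𝟙 X) E).obj G).d j (j + 1) =
            (RelExtRes.Tmap (𝟙 X) (E.d (j + 1) j)).app G := RelExtRes.Kobj_d (𝟙 X) E G j
        rw [h1]
        dsimp only [Iso.trans_hom, Iso.symm_hom, Iso.app_inv]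
        rw [← Category.assoc, hC j, Category.assoc, Category.assoc]
        congr 1)
  exact ⟨(HomologicalComplex.homologyFunctor _ _ i).mapIso ψ ≪≫ φ.symm ≪≫
    (TIdRightDerivedIso X F i).app G⟩

end Groth.Agent.Lib.Helper6.SheafHomRes
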