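import Groth.Agent.Lib.Helper6.SheafHomDepth
import Groth.Agent.Lib.Helper21.DepthKit12
import Mathlib

/-!
# `(S_1)` and `(S_2)` for `ℋom(F, G)`

* `supportDim_stalk_eq`: `dim Supp F_x = dim Supp Γ(F,U)_p`.
* `supportDim_stalk_sheafHom_le`: `dim Supp ℋom(F,G)_x ≤ dim Supp G_x`.
-/

set_option autoImplicit false
set_option linter.style.haveILetI false
set_option linter.unusedSectionVars false
set_option linter.unusedVariables false
set_option backward.isDefEq.respectTransparency.types false

universe u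

open CategoryTheory CategoryTheory.Limits AlgebraicGeometry Opposite TopologicalSpace

namespace Groth.Agent.Lib.Helper6.SheafHomSk

open Groth.Agent.Lib.Helper28.QCohLoc Groth.Agent.Lib.Helper29.QCohStalk
open Groth.Agent.Lib.Helper7.StalkLoc

variable {X : Scheme.{u}}

/-- **support-dimension dictionary**: `dim Supp F_x` over `O_{X,x}` is `dim Supp` of the localization
of `Γ(F,U)` at the prime of `x`. -/
theorem supportDim_stalk_eq [IsLocallyNoetherian X] (F : X.Modules) {U : X.Opens}
    (hU : IsAffineOpen U) (hloc : IsLocOn F U) (x : X) (hx : x ∈ U)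
    [Module.Finite Γ(X, U) Γ(F, U)] :
    Module.supportDim (X.presheaf.stalk x) (F.presheaf.stalk x) =
      Module.supportDim (Localization.AtPrime (hU.primeIdealOf ⟨x, hx⟩).asIdeal)
        (LocalizedModule (hU.primeIdealOf ⟨x, hx⟩).asIdeal.primeCompl Γ(F, U)) := by
  haveI : IsNoetherianRing Γ(X, U) := IsLocallyNoetherian.component_noetherian ⟨U, hU⟩
  set p := (hU.primeIdealOf ⟨x, hx⟩).asIdeal with hp
  letI algA : Algebra Γ(X, U) (X.presheaf.stalk x) := X.presheaf.algebra_section_stalk ⟨x, hx⟩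
  haveI hlocR : IsLocalization.AtPrime (X.presheaf.stalk x) p := hU.isLocalization_stalk ⟨x, hx⟩
  let e : Localization.AtPrime p ≃ₐ[Γ(X, U)] X.presheaf.stalk x :=
    IsLocalization.algEquiv p.primeCompl _ _
  letI algAp : Algebra (Localization.AtPrime p) (X.presheaf.stalk x) :=
    e.toRingEquiv.toRingHom.toAlgebra
  haveI st1 : IsScalarTower Γ(X, U) (Localization.AtPrime p) (X.presheaf.stalk x) :=
    IsScalarTower.of_algebraMap_eq (fun a => (e.commutes a).symm)
  letI modA : Module Γ(X, U) (F.presheaf.stalk x) := stalkModule F x hx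
  letI modAp : Module (Localization.AtPrime p) (F.presheaf.stalk x) :=
    Module.compHom (F.presheaf.stalk x) (algebraMap (Localization.AtPrime p) (X.presheaf.stalk x))
  haveI st2 : IsScalarTower (Localization.AtPrime p) (X.presheaf.stalk x) (F.presheaf.stalk x) :=
    ⟨fun a b m => by
      show (algebraMap _ (X.presheaf.stalk x) a * b) • m = algebraMap _ (X.presheaf.stalk x) a • (b • m)
      rw [mul_smul]⟩
  haveI st3 : IsScalarTower Γ(X, U) (Localization.AtPrime p) (F.presheaf.stalk x) :=
    ⟨fun a b m => by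
      show algebraMap _ (X.presheaf.stalk x) (a • b) • m =
        (X.presheaf.germ U x hx).hom a • (algebraMap _ (X.presheaf.stalk x) b • m)
      rw [Algebra.smul_def, map_mul, mul_smul, ← IsScalarTower.algebraMap_apply]
      rfl⟩
  haveI hL := isLocalizedModule_gmLin F hU hloc x hx
  let ε₀ : LocalizedModule p.primeCompl Γ(F, U) ≃ₗ[Γ(X, U)] F.presheaf.stalk x :=
    IsLocalizedModule.iso p.primeCompl (gmLin F x hx)
  let ε : LocalizedModule p.primeCompl Γ(F, U) ≃ₗ[Localization.AtPrime p] F.presheaf.stalk x :=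
    LinearEquiv.extendScalarsOfIsLocalization p.primeCompl (Localization.AtPrime p) ε₀
  haveI : Module.Finite (Localization.AtPrime p) (F.presheaf.stalk x) := Module.Finite.equiv ε
  haveI : Module.Finite (X.presheaf.stalk x) (F.presheaf.stalk x) :=
    Module.Finite.of_restrictScalars_finite (Localization.AtPrime p) _ _
  have hs : Function.Surjective (algebraMap (Localization.AtPrime p) (X.presheaf.stalk x)) :=
    e.surjective
  rw [Module.supportDim_eq_of_equiv ε]
  exact (Groth.Agent.Lib.Helper21.DepthKit.supportDim_eq_of_surjective (F.presheaf.stalk x) hs).symm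

/-- `dim Supp ℋom(F,G)_x ≤ dim Supp G_x` -/
theorem supportDim_stalk_sheafHom_le [IsLocallyNoetherian X] (F G : X.Modules) (hF : Coh.IsCoh F)
    (hG : Coh.IsCoh G) [DCoh.HasSheafHom F] (x : X) :
    Module.supportDim (X.presheaf.stalk x) (((DCoh.sheafHom F).obj G).presheaf.stalk x) ≤
      Module.supportDim (X.presheaf.stalk x) (G.presheaf.stalk x) := by
  obtain ⟨U, hU, hx⟩ : ∃ U : X.Opens, IsAffineOpen U ∧ x ∈ U := by
    obtain ⟨_, ⟨U, hU, rfl⟩, hxU, -⟩ :=
      X.isBasis_affineOpens.exists_subset_of_mem_open (Set.mem_univ x) isOpen_univ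
    exact ⟨U, hU, hxU⟩
  let H : X.Modules := (DCoh.sheafHom F).obj G
  have hH : Coh.IsCoh H := ExtShCoh.isCoh_dcoh_sheafHom X F G hF hG
  haveI : H.IsQuasicoherent := hH.1
  haveI : SheafOfModules.IsFiniteType.{u} (R := X.ringCatSheaf) H := hH.2
  haveI : F.IsQuasicoherent := hF.1
  haveI : SheafOfModules.IsFiniteType.{u} (R := X.ringCatSheaf) F := hF.2
  haveI : G.IsQuasicoherent := hG.1
  haveI : SheafOfModules.IsFiniteType.{u} (R := X.ringCatSheaf) G := hG.2
  haveI : IsNoetherianRing Γ(X, U) := IsLocallyNoetherian.component_noetherian ⟨U, hU⟩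
  haveI : Module.Finite Γ(X, U) Γ(H, U) :=
    Groth.Agent.Lib.Helper28.FinType.finite_of_isAffineOpen H hU
  haveI : Module.Finite Γ(X, U) Γ(F, U) :=
    Groth.Agent.Lib.Helper28.FinType.finite_of_isAffineOpen F hU
  haveI : Module.Finite Γ(X, U) Γ(G, U) :=
    Groth.Agent.Lib.Helper28.FinType.finite_of_isAffineOpen G hU
  obtain ⟨l⟩ := SheafHomDepth.nonempty_sections_linearEquiv hU F G hF hG.1
  rw [supportDim_stalk_eq H hU (isLocOn_of_isQuasicoherent H hU) x hx,
    supportDim_stalk_eq G hU (isLocOn_of_isQuasicoherent G hU) x hx]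
  set p := (hU.primeIdealOf ⟨x, hx⟩).asIdeal with hp
  rw [Module.supportDim_eq_of_equiv (IsLocalizedModule.mapEquiv p.primeCompl
      (LocalizedModule.mkLinearMap p.primeCompl Γ(H, U))
      (LocalizedModule.mkLinearMap p.primeCompl (Γ(F, U) →ₗ[Γ(X, U)] Γ(G, U)))
      (Localization.AtPrime p) l),
    Module.supportDim_eq_of_equiv
      (Groth.Agent.Lib.Helper21.DepthKit.localizedHomEquiv (M := Γ(F, U)) (N := Γ(G, U)) p)]
  exact Groth.Agent.Lib.Helper21.DepthKit.supportDim_le_of_support_subset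
    Groth.Agent.Lib.Helper21.DepthKit.support_hom_subset


theorem order_aux (k : ℕ) (hk : k = 1 ∨ k = 2) (sG sH : WithBot ℕ∞) (dG dH : ℕ∞) (hle : sH ≤ sG)
    (hS : min (k : WithBot ℕ∞) sG ≤ (dG : WithBot ℕ∞)) (h1 : 1 ≤ dG → 1 ≤ dH)
    (h2 : 2 ≤ dG → 2 ≤ dH) :
    min (k : WithBot ℕ∞) sH ≤ (dH : WithBot ℕ∞) := by
  induction sH using WithBot.recBotCoe with
  | bot => simp
  | coe a =>
    induction sG using WithBot.recBotCoe with
    | bot => simp at hle
    | coe b =>
      have hab : a ≤ b := WithBot.coe_le_coe.1 hle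
      have hk' : ((k : ℕ) : WithBot ℕ∞) = (((k : ℕ∞)) : WithBot ℕ∞) := rfl
      rw [hk', ← WithBot.coe_min, WithBot.coe_le_coe] at hS ⊢
      by_cases ha0 : a = 0
      · subst ha0; simp
      have ha1 : 1 ≤ a := Order.one_le_iff_ne_zero.2 ha0
      rcases hk with rfl | rfl
      · have hS' : min (1 : ℕ∞) b ≤ dG := by simpa using hS
        have : (1 : ℕ∞) ≤ dG := le_trans (le_min le_rfl (ha1.trans hab)) hS'
        have hh := h1 this
        simp only [Nat.cast_one]
        exact (min_le_left _ _).trans hh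
      · have hS' : min (2 : ℕ∞) b ≤ dG := by simpa using hS
        simp only [Nat.cast_ofNat]
        rcases eq_or_lt_of_le ha1 with ha | ha
        · subst ha
          have : (1 : ℕ∞) ≤ dG := le_trans (le_min (by norm_num) hab) hS'
          exact (min_le_right _ _).trans (h1 this)
        · have ha2 : (2 : ℕ∞) ≤ a := by
            have := Order.add_one_le_of_lt ha
            rwa [one_add_one_eq_two] at this
          have : (2 : ℕ∞) ≤ dG := le_trans (le_min le_rfl (ha2.trans hab)) hS'
          exact (min_le_left _ _).trans (h2 this)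

/-- `(S_k)` for `ℋom(F, G)`, `k = 1, 2`, at a point. -/
theorem sk_sheafHom [IsLocallyNoetherian X] (F G : X.Modules) (hF : Coh.IsCoh F)
    (hG : Coh.IsCoh G) [DCoh.HasSheafHom F] (k : ℕ) (hk : k = 1 ∨ k = 2) (x : X)
    (hS : min (k : WithBot ℕ∞) (Module.supportDim (X.presheaf.stalk x) (G.presheaf.stalk x)) ≤
      ((LocCoh.depth (X.presheaf.stalk x) (G.presheaf.stalk x) : ℕ∞) : WithBot ℕ∞)) :
    min (k : WithBot ℕ∞)
        (Module.supportDim (X.presheaf.stalk x) (((DCoh.sheafHom F).obj G).presheaf.stalk x)) ≤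
      ((LocCoh.depth (X.presheaf.stalk x) (((DCoh.sheafHom F).obj G).presheaf.stalk x) : ℕ∞) :
        WithBot ℕ∞) := by
  have hle := supportDim_stalk_sheafHom_le F G hF hG x
  obtain ⟨h1, h2⟩ := SheafHomDepth.le_depth_stalk F G hF hG x
  exact order_aux k hk _ _ _ _ hle hS h1 h2

end Groth.Agent.Lib.Helper6.SheafHomSk
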