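import Mathlib.Algebra.Homology.SpectralObject.SpectralSequence
import Mathlib.Algebra.Homology.SpectralObject.FirstPage
import Mathlib.Algebra.Homology.SpectralObject.EpiMono
import Mathlib.CategoryTheory.Abelian.Refinements
import Mathlib.Data.Set.Finite.Basic
import Mathlib.Order.Interval.Finset.Defs
import Mathlib.Data.Int.Interval
import Groth.Prelude.Def_SpSeq

universe v u

set_option linter.unusedSectionVars false

open CategoryTheory Limits ComposableArrows Abelian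

namespace Groth.Agent.Lib.Helper6.SpecObjFQ

variable {C : Type u} [Category.{v} C] [Abelian C]

section Abstract

variable {A B D T E : C} (a : A ⟶ B) (d : D ⟶ B) (b : B ⟶ T) (π : B ⟶ E) [Epi π]
  (b₀ : A ⟶ T) (hb₀ : b₀ = a ≫ b) (hle : imageSubobject b₀ ≤ imageSubobject b)
  (h1 : a ≫ π = 0) (h2 : d ≫ π = 0)
  (h3 : ∀ {W : C} (g : B ⟶ W), a ≫ g = 0 → d ≫ g = 0 → ∃ φ : E ⟶ W, π ≫ φ = g)
  (w : d ≫ b = 0) (h4 : (ShortComplex.mk d b w).Exact)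

include hb₀ h1 h2 h3 h4 in
/-- an abstract description of a graded piece -/
lemma nonempty_iso_cokernel_ofLE :
    Nonempty (E ≅ cokernel ((imageSubobject b₀).ofLE (imageSubobject b) hle)) := by
  let ρ := factorThruImageSubobject b
  have hρ : ρ ≫ (imageSubobject b).arrow = b := imageSubobject_arrow_comp b
  let ρ₀ := factorThruImageSubobject b₀
  have hρ₀ : ρ₀ ≫ (imageSubobject b₀).arrow = b₀ := imageSubobject_arrow_comp b₀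
  let c := cokernel.π ((imageSubobject b₀).ofLE (imageSubobject b) hle)
  have haρ : a ≫ ρ = ρ₀ ≫ (imageSubobject b₀).ofLE (imageSubobject b) hle := by
    rw [← cancel_mono (imageSubobject b).arrow, Category.assoc, Category.assoc,
      Subobject.ofLE_arrow, hρ, hρ₀, hb₀]
  have hdρ : d ≫ ρ = 0 := by
    rw [← cancel_mono (imageSubobject b).arrow, Category.assoc, hρ, zero_comp, w]
  obtain ⟨φ, hφ⟩ := h3 (ρ ≫ c)
    (by rw [← Category.assoc, haρ, Category.assoc, cokernel.condition, comp_zero])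
    (by rw [← Category.assoc, hdρ, zero_comp])
  have hker : kernel.ι ρ ≫ π = 0 := by
    have h0 : kernel.ι ρ ≫ b = 0 := by
      refine (congrArg (fun t => kernel.ι ρ ≫ t) hρ).symm.trans ?_
      rw [← Category.assoc, kernel.condition, zero_comp]
    obtain ⟨A', p, hp, x, hx⟩ := h4.exact_up_to_refinements (kernel.ι ρ) h0
    have hx' : p ≫ kernel.ι ρ = x ≫ d := hx
    rw [← cancel_epi p, comp_zero, ← Category.assoc, hx', Category.assoc, h2, comp_zero]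
  have hS : (ShortComplex.mk (kernel.ι ρ) ρ (kernel.condition ρ)).Exact :=
    ShortComplex.exact_of_f_is_kernel _ (kernelIsKernel ρ)
  have : Epi (ShortComplex.mk (kernel.ι ρ) ρ (kernel.condition ρ)).g :=
    inferInstanceAs (Epi ρ)
  obtain ⟨πbar, hπbar⟩ : ∃ πbar : ((imageSubobject b : Subobject T) : C) ⟶ E, ρ ≫ πbar = π :=
    hS.desc' π hker
  have hofLE : (imageSubobject b₀).ofLE (imageSubobject b) hle ≫ πbar = 0 := by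
    rw [← cancel_epi ρ₀, comp_zero, ← Category.assoc, ← haρ, Category.assoc, hπbar, h1]
  let ψ := cokernel.desc _ πbar hofLE
  have hψ : c ≫ ψ = πbar := cokernel.π_desc _ _ _
  refine ⟨⟨φ, ψ, ?_, ?_⟩⟩
  · rw [← cancel_epi π, ← Category.assoc, hφ, Category.assoc, hψ, hπbar, Category.comp_id]
  · rw [← cancel_epi c, ← cancel_epi ρ, ← Category.assoc c, hψ, ← Category.assoc, hπbar, hφ,
      Category.comp_id]

end Abstract

section General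

variable {ι : Type*} [Category ι] (X : SpectralObject C ι)
  {i j k l : ι} (f₁ : i ⟶ j) (f₂ : j ⟶ k) (f₃ : k ⟶ l) (f₁₂ : i ⟶ k) (h₁₂ : f₁ ≫ f₂ = f₁₂)
  (f₁₂₃ : i ⟶ l) (h₁₂₃ : f₁₂ ≫ f₃ = f₁₂₃) (n₀ n₁ n₂ : ℤ)
  (hn₁ : n₀ + 1 = n₁) (hn₂ : n₁ + 1 = n₂)
  {T : C} (e : (X.H n₁).obj (mk₁ f₁₂₃) ≅ T)

/-- the epimorphism `H^n(f₁ ≫ f₂) ⟶ E^n(f₁, f₂, f₃)` -/
noncomputable def πB : (X.H n₁).obj (mk₁ f₁₂) ⟶ X.E f₁ f₂ f₃ n₀ n₁ n₂ hn₁ hn₂ :=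
  X.toCycles f₁ f₂ f₁₂ h₁₂ n₁ ≫ X.πE f₁ f₂ f₃ n₀ n₁ n₂ hn₁ hn₂

instance : Epi (πB X f₁ f₂ f₃ f₁₂ h₁₂ n₀ n₁ n₂ hn₁ hn₂) := by
  dsimp only [πB]
  exact epi_comp _ _

lemma a_πB : (X.H n₁).map (twoδ₂Toδ₁ f₁ f₂ f₁₂ h₁₂) ≫
    πB X f₁ f₂ f₃ f₁₂ h₁₂ n₀ n₁ n₂ hn₁ hn₂ = 0 := by
  dsimp only [πB]
  rw [X.H_map_twoδ₂Toδ₁_toCycles_assoc, zero_comp]

lemma δ_πB : X.δ f₁₂ f₃ n₀ n₁ hn₁ ≫ πB X f₁ f₂ f₃ f₁₂ h₁₂ n₀ n₁ n₂ hn₁ hn₂ = 0 := by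
  dsimp only [πB]
  rw [X.δ_toCycles_assoc f₁ f₂ f₃ f₁₂ h₁₂ n₀ n₁ hn₁, X.δToCycles_πE f₁ f₂ f₃ n₀ n₁ n₂ hn₁ hn₂]

lemma exists_desc_πB {W : C} (g : (X.H n₁).obj (mk₁ f₁₂) ⟶ W)
    (h₁ : (X.H n₁).map (twoδ₂Toδ₁ f₁ f₂ f₁₂ h₁₂) ≫ g = 0)
    (h₂ : X.δ f₁₂ f₃ n₀ n₁ hn₁ ≫ g = 0) :
    ∃ φ : X.E f₁ f₂ f₃ n₀ n₁ n₂ hn₁ hn₂ ⟶ W,
      πB X f₁ f₂ f₃ f₁₂ h₁₂ n₀ n₁ n₂ hn₁ hn₂ ≫ φ = g := by
  obtain ⟨g₁, hg₁⟩ : ∃ g₁ : X.cycles f₁ f₂ n₁ ⟶ W, X.toCycles f₁ f₂ f₁₂ h₁₂ n₁ ≫ g₁ = g :=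
    (X.cokernelSequenceCycles_exact f₁ f₂ f₁₂ h₁₂ n₁).desc' g h₁
  obtain ⟨g₂, hg₂⟩ : ∃ g₂ : X.E f₁ f₂ f₃ n₀ n₁ n₂ hn₁ hn₂ ⟶ W,
      X.πE f₁ f₂ f₃ n₀ n₁ n₂ hn₁ hn₂ ≫ g₂ = g₁ :=
    (X.cokernelSequenceCyclesE_exact f₁ f₂ f₃ n₀ n₁ n₂ hn₁ hn₂).desc' g₁ (by
      change X.δToCycles f₁ f₂ f₃ n₀ n₁ hn₁ ≫ g₁ = 0
      rw [← X.δ_toCycles_assoc f₁ f₂ f₃ f₁₂ h₁₂ n₀ n₁ hn₁ g₁, hg₁, h₂])
  refine ⟨g₂, ?_⟩
  dsimp only [πB]
  rw [Category.assoc, hg₂, hg₁]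

/-- **The `E_∞`-term as a graded piece** -/
theorem nonempty_E_iso_cokernel (b₀ : (X.H n₁).obj (mk₁ f₁) ⟶ T)
    (hb₀ : b₀ = (X.H n₁).map (twoδ₂Toδ₁ f₁ f₂ f₁₂ h₁₂) ≫
      (X.H n₁).map (twoδ₂Toδ₁ f₁₂ f₃ f₁₂₃ h₁₂₃) ≫ e.hom)
    (hle : imageSubobject b₀ ≤
      imageSubobject ((X.H n₁).map (twoδ₂Toδ₁ f₁₂ f₃ f₁₂₃ h₁₂₃) ≫ e.hom)) :
    Nonempty (X.E f₁ f₂ f₃ n₀ n₁ n₂ hn₁ hn₂ ≅
      cokernel ((imageSubobject b₀).ofLE
        (imageSubobject ((X.H n₁).map (twoδ₂Toδ₁ f₁₂ f₃ f₁₂₃ h₁₂₃) ≫ e.hom)) hle)) := by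
  have w : X.δ f₁₂ f₃ n₀ n₁ hn₁ ≫ (X.H n₁).map (twoδ₂Toδ₁ f₁₂ f₃ f₁₂₃ h₁₂₃) ≫ e.hom = 0 := by
    rw [← Category.assoc, X.zero₁ f₁₂ f₃ f₁₂₃ h₁₂₃ n₀ n₁ hn₁, zero_comp]
  have h4 : (ShortComplex.mk _ _ w).Exact :=
    ShortComplex.exact_of_iso
      (ShortComplex.isoMk (S₁ := X.sc₁ f₁₂ f₃ f₁₂₃ h₁₂₃ n₀ n₁ hn₁) (S₂ := ShortComplex.mk _ _ w)
        (Iso.refl _) (Iso.refl _) e
        ((Category.id_comp _).trans (Category.comp_id _).symm) (Category.id_comp _))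
      (X.exact₁ f₁₂ f₃ f₁₂₃ h₁₂₃ n₀ n₁ hn₁)
  exact nonempty_iso_cokernel_ofLE (X.H n₁ |>.map (twoδ₂Toδ₁ f₁ f₂ f₁₂ h₁₂))
    (X.δ f₁₂ f₃ n₀ n₁ hn₁) _ (πB X f₁ f₂ f₃ f₁₂ h₁₂ n₀ n₁ n₂ hn₁ hn₂) b₀ hb₀ hle
    (a_πB X f₁ f₂ f₃ f₁₂ h₁₂ n₀ n₁ n₂ hn₁ hn₂) (δ_πB X f₁ f₂ f₃ f₁₂ h₁₂ n₀ n₁ n₂ hn₁ hn₂)
    (fun g h₁ h₂ => exists_desc_πB X f₁ f₂ f₃ f₁₂ h₁₂ n₀ n₁ n₂ hn₁ hn₂ g h₁ h₂) w h4

end General

section Misc

lemma imageSubobject_eq_top_of_epi {X Y : C} (f : X ⟶ Y) [Epi f] : imageSubobject f = ⊤ := by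
  have h : factorThruImageSubobject f ≫ (imageSubobject f).arrow = f := imageSubobject_arrow_comp f
  have : Epi (imageSubobject f).arrow := epi_of_epi_fac h
  have : IsIso (imageSubobject f).arrow := isIso_of_mono_of_epi _
  exact Subobject.eq_top_of_isIso_arrow _

lemma imageSubobject_eq_bot_of_isZero {X Y : C} (f : X ⟶ Y) (h : IsZero X) :
    imageSubobject f = ⊥ := by
  obtain rfl : f = 0 := h.eq_of_src _ _
  exact imageSubobject_zero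

end Misc

section EInt

variable (Y : SpectralObject C EInt) (H' : ℤ → C)
  (e : ∀ n, (Y.H n).obj (mk₁ (homOfLE (bot_le : (⊥ : EInt) ≤ ⊤))) ≅ H' n)

/-- the maps `H^n(⊥ ≤ j) ⟶ H' n` -/
noncomputable def bj (n : ℤ) (j : EInt) :
    (Y.H n).obj (mk₁ (homOfLE (bot_le : (⊥ : EInt) ≤ j))) ⟶ H' n :=
  (Y.H n).map (twoδ₂Toδ₁' ⊥ j ⊤ bot_le le_top) ≫ (e n).hom

lemma bj_comp (n : ℤ) (j j' : EInt) (h : j ≤ j') :
    bj Y H' e n j = (Y.H n).map (twoδ₂Toδ₁' ⊥ j j' bot_le h) ≫ bj Y H' e n j' := by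
  dsimp only [bj]
  rw [← Category.assoc, ← Functor.map_comp]
  rfl

/-- the filtration on the abutment -/
noncomputable def fil (n : ℤ) (p : ℤ) : Subobject (H' n) :=
  imageSubobject (bj Y H' e n ((n - p + 1 : ℤ) : EInt))

lemma fil_anti (n : ℤ) : Antitone (fil Y H' e n) := by
  intro p p' hpp'
  dsimp only [fil]
  exact SpSeq.FilCx.imageSubobject_le_of_fac _
    (bj_comp Y H' e n ((n - p' + 1 : ℤ) : EInt) ((n - p + 1 : ℤ) : EInt)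
      (by rw [WithBotTop.coe_le_coe]; lia)).symm

variable [Y.IsFirstQuadrant]

lemma epi_bj (n : ℤ) (j : EInt) (hj : (n : EInt) < j) : Epi (bj Y H' e n j) := by
  have h := Y.exact₂ (homOfLE (bot_le : (⊥ : EInt) ≤ j)) (homOfLE (le_top : j ≤ ⊤))
    (homOfLE bot_le) rfl n
  have : Epi ((Y.H n).map (twoδ₂Toδ₁' ⊥ j ⊤ bot_le le_top)) :=
    h.epi_f ((Y.isZero₂_of_isFirstQuadrant j ⊤ le_top n hj).eq_of_tgt _ _)
  dsimp only [bj]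
  exact epi_comp _ _

lemma fil_eq_top (n p : ℤ) (hp : p ≤ 0) : fil Y H' e n p = ⊤ := by
  dsimp only [fil]
  have := epi_bj Y H' e n ((n - p + 1 : ℤ) : EInt) (by rw [WithBotTop.coe_lt_coe]; lia)
  exact imageSubobject_eq_top_of_epi _

lemma fil_eq_bot (n p : ℤ) (hp : n < p) : fil Y H' e n p = ⊥ := by
  dsimp only [fil]
  exact imageSubobject_eq_bot_of_isZero _
    (Y.isZero₁_of_isFirstQuadrant ⊥ ((n - p + 1 : ℤ) : EInt) bot_le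
      (by rw [WithBotTop.coe_le_coe]; lia) n)

end EInt

section EInt2

variable (Y : SpectralObject C EInt) [Y.IsFirstQuadrant]

lemma coe_le_succ (q : ℤ) : (q : EInt) ≤ ((q + 1 : ℤ) : EInt) := by
  rw [WithBotTop.coe_le_coe]; lia

/-- the `E_∞`-term -/
noncomputable abbrev EInfty (n q : ℤ) : C :=
  Y.E (homOfLE (bot_le : (⊥ : EInt) ≤ (q : EInt))) (homOfLE (coe_le_succ q))
    (homOfLE (le_top : ((q + 1 : ℤ) : EInt) ≤ ⊤)) (n - 1) n (n + 1)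

lemma nonempty_page_iso_EInfty (p q r : ℤ) (hr : 2 ≤ r) (hrp : p < r) (hrq : q + 2 ≤ r) :
    Nonempty ((Y.E₂SpectralSequence.page r hr).X (p, q) ≅ EInfty Y (p + q) q) := by
  have h01 : (((q - r + 2 : ℤ) : EInt)) ≤ (q : EInt) := by rw [WithBotTop.coe_le_coe]; lia
  have h23 : (((q + 1 : ℤ) : EInt)) ≤ ((q + r - 1 : ℤ) : EInt) := by
    rw [WithBotTop.coe_le_coe]; lia
  have e1 := Y.spectralSequencePageXIso SpectralObject.coreE₂Cohomological r hr (p, q)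
    ((q - r + 2 : ℤ) : EInt) (q : EInt) ((q + 1 : ℤ) : EInt) ((q + r - 1 : ℤ) : EInt)
    rfl rfl rfl rfl (p + q - 1) (p + q) (p + q + 1) rfl
  have e2 := Y.isoMapFourδ₄Toδ₃' ((q - r + 2 : ℤ) : EInt) (q : EInt) ((q + 1 : ℤ) : EInt)
    ((q + r - 1 : ℤ) : EInt) ⊤ h01 (coe_le_succ q) h23 le_top (p + q - 1) (p + q) (p + q + 1)
    (Y.isZero₂_of_isFirstQuadrant _ _ le_top (p + q - 1) (by rw [WithBotTop.coe_lt_coe]; lia))
  have e3 := Y.isoMapFourδ₁Toδ₀' ⊥ ((q - r + 2 : ℤ) : EInt) (q : EInt) ((q + 1 : ℤ) : EInt) ⊤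
    bot_le h01 (coe_le_succ q) le_top (p + q - 1) (p + q) (p + q + 1)
    (Y.isZero₁_of_isFirstQuadrant _ _ bot_le (by rw [WithBotTop.coe_le_coe]; lia) (p + q + 1))
  exact ⟨e1 ≪≫ e2 ≪≫ e3.symm⟩

end EInt2

section EInt3

variable (Y : SpectralObject C EInt) [Y.IsFirstQuadrant] (H' : ℤ → C)
  (e : ∀ n, (Y.H n).obj (mk₁ (homOfLE (bot_le : (⊥ : EInt) ≤ ⊤))) ≅ H' n)

lemma isZero_page (r : ℤ) (hr : 2 ≤ r) (p q : ℤ) (h : p < 0 ∨ q < 0) :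
    IsZero ((Y.E₂SpectralSequence.page r hr).X (p, q)) := by
  rcases h with hp | hq
  · exact SpectralObject.isZero_spectralSequence_page_X_of_isZero_H' _ _ _ hr _
      (Y.isZero₂_of_isFirstQuadrant _ _ _ _ (by simp; lia))
  · exact SpectralObject.isZero_spectralSequence_page_X_of_isZero_H' _ _ _ hr _
      (Y.isZero₁_of_isFirstQuadrant _ _ _ (by simp; lia) _)

lemma isBounded : SpSeq.IsBounded Y.E₂SpectralSequence := by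
  intro n
  refine Set.Finite.subset (Set.finite_Icc (0 : ℤ) n) ?_
  intro p hp
  simp only [Set.mem_ofPred_eq] at hp
  rw [Set.mem_Icc]
  by_contra hcon
  apply hp
  apply isZero_page
  lia

lemma nonempty_E₂_iso (p q : ℤ) :
    Nonempty ((Y.E₂SpectralSequence.page 2 le_rfl).X (p, q) ≅
      (Y.H (p + q)).obj (mk₁ (homOfLE (coe_le_succ q)))) :=
  ⟨Y.spectralSequenceFirstPageXIso SpectralObject.coreE₂Cohomological (p, q) (q : EInt)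
    ((q + 1 : ℤ) : EInt) rfl rfl (p + q) rfl⟩

lemma nonempty_EInfty_iso_gr (n q j₁ j₂ : ℤ) (hj₁ : j₁ = q) (hj₂ : j₂ = q + 1)
    (hle : imageSubobject (bj Y H' e n (j₁ : EInt)) ≤ imageSubobject (bj Y H' e n (j₂ : EInt))) :
    Nonempty (EInfty Y n q ≅ cokernel ((imageSubobject (bj Y H' e n (j₁ : EInt))).ofLE
      (imageSubobject (bj Y H' e n (j₂ : EInt))) hle)) := by
  subst hj₁ hj₂
  exact nonempty_E_iso_cokernel Y (homOfLE (bot_le : (⊥ : EInt) ≤ (j₁ : EInt)))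
    (homOfLE (coe_le_succ j₁)) (homOfLE (le_top : ((j₁ + 1 : ℤ) : EInt) ≤ ⊤))
    (homOfLE bot_le) rfl (homOfLE bot_le) rfl (n - 1) n (n + 1) (by lia) (by lia) (e n)
    (bj Y H' e n (j₁ : EInt))
    (bj_comp Y H' e n (j₁ : EInt) ((j₁ + 1 : ℤ) : EInt) (coe_le_succ j₁)) hle

end EInt3

section EInt4

variable (Y : SpectralObject C EInt) [Y.IsFirstQuadrant] (H' : ℤ → C)
  (e : ∀ n, (Y.H n).obj (mk₁ (homOfLE (bot_le : (⊥ : EInt) ≤ ⊤))) ≅ H' n)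

lemma isZero_cokernel_ofLE_of_eq {B : C} (S S' : Subobject B) (h : S ≤ S') (heq : S = S') :
    IsZero (cokernel (S.ofLE S' h)) := by
  have h' : S' ≤ S := heq.ge
  have : IsSplitEpi (S.ofLE S' h) :=
    IsSplitEpi.mk' ⟨S'.ofLE S h', by rw [Subobject.ofLE_comp_ofLE, Subobject.ofLE_refl]⟩
  exact isZero_cokernel_of_epi _

/-- the page from which a position is stationary -/
def rk (pq : ℤ × ℤ) : ℤ := max (max (pq.1 + 1) (pq.2 + 2)) 2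

lemma two_le_rk (pq : ℤ × ℤ) : 2 ≤ rk pq := le_max_right _ _

lemma fst_lt_rk (pq : ℤ × ℤ) : pq.1 < rk pq := by
  have : pq.1 + 1 ≤ rk pq := (le_max_left _ _).trans (le_max_left _ _)
  lia

lemma snd_lt_rk (pq : ℤ × ℤ) : pq.2 + 2 ≤ rk pq :=
  (le_max_right _ _).trans (le_max_left _ _)

lemma stat (pq : ℤ × ℤ) : SpSeq.StationaryAt Y.E₂SpectralSequence pq (rk pq) := by
  refine ⟨two_le_rk pq, fun r' h₀ hr' => ⟨?_, ?_⟩⟩
  · apply IsZero.eq_of_src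
    obtain ⟨p, q⟩ := pq
    apply isZero_page
    left
    have := fst_lt_rk (p, q)
    simp only
    lia
  · apply IsZero.eq_of_tgt
    obtain ⟨p, q⟩ := pq
    apply isZero_page
    right
    have := snd_lt_rk (p, q)
    simp only
    lia

lemma nonempty_β (pq : ℤ × ℤ) :
    Nonempty ((Y.E₂SpectralSequence.page (rk pq) (two_le_rk pq)).X pq ≅
      SpSeq.grPiece (fil Y H' e (pq.1 + pq.2)) (fil_anti Y H' e (pq.1 + pq.2)) pq.1) := by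
  obtain ⟨p, q⟩ := pq
  by_cases h : 0 ≤ p ∧ 0 ≤ q
  · obtain ⟨e₁⟩ := nonempty_page_iso_EInfty Y p q (rk (p, q)) (two_le_rk _) (fst_lt_rk (p, q))
      (snd_lt_rk (p, q))
    obtain ⟨e₂⟩ := nonempty_EInfty_iso_gr Y H' e (p + q) q (p + q - (p + 1) + 1) (p + q - p + 1)
      (by lia) (by lia) (fil_anti Y H' e (p + q) (Int.le_add_one le_rfl))
    exact ⟨e₁ ≪≫ e₂⟩
  · have hz : IsZero ((Y.E₂SpectralSequence.page (rk (p, q)) (two_le_rk (p, q))).X (p, q)) := by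
      apply isZero_page
      lia
    refine ⟨hz.iso ?_⟩
    apply isZero_cokernel_ofLE_of_eq
    by_cases hp : p < 0
    · rw [fil_eq_top Y H' e _ _ (by lia : p + 1 ≤ 0), fil_eq_top Y H' e _ _ (by lia : p ≤ 0)]
    · rw [fil_eq_bot Y H' e _ _ (by lia : p + q < p + 1), fil_eq_bot Y H' e _ _ (by lia : p + q < p)]

/-- **The abutment of the spectral sequence of a first quadrant spectral object** -/
noncomputable def abutment : SpSeq.Abutment Y.E₂SpectralSequence H' where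
  fil n := fil Y H' e n
  anti n := fil_anti Y H' e n
  rk := rk
  stat := stat Y
  β pq := (nonempty_β Y H' e pq).some

lemma abutment_isFinite (n : ℤ) : (abutment Y H' e).IsFinite n :=
  ⟨⟨0, fil_eq_top Y H' e n 0 le_rfl⟩, ⟨n + 1, fil_eq_bot Y H' e n (n + 1) (by lia)⟩⟩

include e in
/-- **Convergence of first quadrant spectral objects** (packaged) -/
theorem exists_abutment :
    ∃ (E : E₂CohomologicalSpectralSequence C) (a : SpSeq.Abutment E H'),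
      (∀ n, a.IsFinite n) ∧ SpSeq.IsBounded E ∧
      ∀ p q : ℤ, Nonempty ((E.page 2 le_rfl).X (p, q) ≅
        (Y.H (p + q)).obj (mk₁ (homOfLE (coe_le_succ q)))) :=
  ⟨Y.E₂SpectralSequence, abutment Y H' e, abutment_isFinite Y H' e, isBounded Y,
    nonempty_E₂_iso Y⟩

end EInt4

end Groth.Agent.Lib.Helper6.SpecObjFQ
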