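import Mathlib.Algebra.Homology.SpectralObject.Basic
import Mathlib.CategoryTheory.Triangulated.SpectralObject
import Mathlib.CategoryTheory.Triangulated.HomologicalFunctor

open CategoryTheory Limits Pretriangulated ComposableArrows

namespace Groth.Agent.Lib.Helper6.SpecObjHomol

variable {𝒯 : Type*} [Category 𝒯] [HasZeroObject 𝒯] [HasShift 𝒯 ℤ] [Preadditive 𝒯]
  [∀ n : ℤ, (shiftFunctor 𝒯 n).Additive] [Pretriangulated 𝒯]
  {A : Type*} [Category A] [Abelian A] {ι : Type*} [Category ι]
  (X : Triangulated.SpectralObject 𝒯 ι) (G : 𝒯 ⥤ A) [G.IsHomological] [G.ShiftSequence ℤ] (k : ℤ)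

/-- the abelian spectral object obtained by applying a homological functor to a triangulated
spectral object (with a degree offset `k`) -/
noncomputable def mapHomological : Abelian.SpectralObject A ι where
  H n := X.ω₁ ⋙ G.shift (n + k)
  δ' n₀ n₁ h :=
    { app := fun D => G.homologySequenceδ (X.ω₂.obj D) (n₀ + k) (n₁ + k) (by lia)
      naturality := fun D D' φ =>
        G.homologySequenceδ_naturality _ _ (X.ω₂.map φ) (n₀ + k) (n₁ + k) (by lia) }
  exact₁' n₀ n₁ h D :=
    (G.homologySequence_exact₁ _ (X.ω₂_obj_distinguished D) (n₀ + k) (n₁ + k)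
      (by lia)).exact_toComposableArrows
  exact₂' n D :=
    (G.homologySequence_exact₂ _ (X.ω₂_obj_distinguished D) (n + k)).exact_toComposableArrows
  exact₃' n₀ n₁ h D :=
    (G.homologySequence_exact₃ _ (X.ω₂_obj_distinguished D) (n₀ + k) (n₁ + k)
      (by lia)).exact_toComposableArrows

end Groth.Agent.Lib.Helper6.SpecObjHomol
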