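import Groth.Agent.Lib.Helper17.ModStalk
import Groth.Agent.Lib.Helper2.HZDepth5
import Mathlib
set_option backward.isDefEq.respectTransparency.types false
set_option autoImplicit false
set_option linter.style.haveILetI false
universe u
open AlgebraicGeometry CategoryTheory Opposite TopologicalSpace TensorProduct CategoryTheory.Limits

/-! Stalk of a quasi-coherent module at a point of an affine open, as a localization of the
global sections of the restricted module on the open subscheme. -/

noncomputable section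
namespace Groth.Agent.Lib.Helper6.StalkFFA
open Groth.Agent.Lib.Helper2.HZDepth5 Groth.Agent.Lib.Helper17.ModStalk
  Groth.Agent.Lib.Helper29.QCohStalk

variable {Y : Scheme.{u}} (N : Y.Modules) (V : Y.Opens) (y : Y) (hy : y ∈ V)

/-- the point of the open subscheme -/
abbrev yV : (V : Scheme.{u}) := ⟨y, hy⟩

theorem memTop : yV V y hy ∈ (⊤ : (V : Scheme.{u}).Opens) := trivial

/-- `Γ(V, O) → O_{Y,y}` -/
def φAB : Γ((V : Scheme.{u}), ⊤) →+* Y.presheaf.stalk y :=
  (psi V.ι (yV V y hy)).toRingHom.comp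
    ((V : Scheme.{u}).presheaf.germ ⊤ (yV V y hy) (memTop V y hy)).hom

/-- the prime of `y` in `Γ(V, O)` -/
abbrev PP [IsAffine (V : Scheme.{u})] : Ideal Γ((V : Scheme.{u}), ⊤) :=
  ((isAffineOpen_top (V : Scheme.{u})).primeIdealOf ⟨yV V y hy, memTop V y hy⟩).asIdeal

instance [IsAffine (V : Scheme.{u})] : (PP V y hy).IsPrime :=
  ((isAffineOpen_top (V : Scheme.{u})).primeIdealOf ⟨yV V y hy, memTop V y hy⟩).isPrime

theorem isLocalization_φAB [IsAffine (V : Scheme.{u})] :
    letI : Algebra Γ((V : Scheme.{u}), ⊤) (Y.presheaf.stalk y) := (φAB V y hy).toAlgebra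
    IsLocalization.AtPrime (Y.presheaf.stalk y) (PP V y hy) := by
  letI : Algebra Γ((V : Scheme.{u}), ⊤) (Y.presheaf.stalk y) := (φAB V y hy).toAlgebra
  letI := (V : Scheme.{u}).presheaf.algebra_section_stalk (U := ⊤) ⟨yV V y hy, memTop V y hy⟩
  haveI := (isAffineOpen_top (V : Scheme.{u})).isLocalization_stalk ⟨yV V y hy, memTop V y hy⟩
  let e : (V : Scheme.{u}).presheaf.stalk (yV V y hy) ≃ₐ[Γ((V : Scheme.{u}), ⊤)] Y.presheaf.stalk y :=
    { (psi V.ι (yV V y hy)) with
      commutes' := fun r => rfl }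
  exact IsLocalization.isLocalization_of_algEquiv (PP V y hy).primeCompl e

/-- the stalk as a module over `Γ(V, O)` -/
abbrev modStalk : Module Γ((V : Scheme.{u}), ⊤) (N.presheaf.stalk y) :=
  Module.compHom (N.presheaf.stalk y) (φAB V y hy)

/-- `Γ(V, N|_V) → N_y` -/
def ℓ : letI := modStalk N V y hy
    Γ(N.restrict V.ι, ⊤) →ₗ[Γ((V : Scheme.{u}), ⊤)] N.presheaf.stalk y :=
  letI := modStalk N V y hy
  { toFun := fun m => (hh V.ι N (yV V y hy)).hom (gm (N.restrict V.ι) ⊤ (yV V y hy) (memTop V y hy) m)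
    map_add' := fun a b => by
      have h : gm (N.restrict V.ι) ⊤ (yV V y hy) (memTop V y hy) (a + b) =
          gm (N.restrict V.ι) ⊤ (yV V y hy) (memTop V y hy) a +
            gm (N.restrict V.ι) ⊤ (yV V y hy) (memTop V y hy) b := map_add _ a b
      rw [h, map_add]
      rfl
    map_smul' := fun r m => by
      rw [gm_smul, hh_smul]
      rfl }

theorem isLocalizedModule_ℓ [N.IsQuasicoherent] [IsAffine (V : Scheme.{u})] :
    letI := modStalk N V y hy
    IsLocalizedModule (PP V y hy).primeCompl (ℓ N V y hy) := by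
  letI := modStalk N V y hy
  letI m2 := moduleStalkSections (N.restrict V.ι) ⊤ (yV V y hy) (memTop V y hy)
  haveI h1 := isLocalizedModule_germLinear (N.restrict V.ι) (isAffineOpen_top (V : Scheme.{u}))
    (yV V y hy) (memTop V y hy)
  let e : (N.restrict V.ι).presheaf.stalk (yV V y hy) ≃ₗ[Γ((V : Scheme.{u}), ⊤)]
      N.presheaf.stalk y :=
    { (hh V.ι N (yV V y hy)).addCommGroupIsoToAddEquiv with
      map_smul' := fun r m => by
        change (hh V.ι N (yV V y hy)).hom
          (((V : Scheme.{u}).presheaf.germ ⊤ (yV V y hy) (memTop V y hy)).hom r • m) = _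
        rw [hh_smul]
        rfl }
  have h2 : ℓ N V y hy = e.toLinearMap ∘ₗ germLinear (N.restrict V.ι) ⊤ (yV V y hy) (memTop V y hy) := rfl
  rw [h2]
  exact IsLocalizedModule.of_linearEquiv (PP V y hy).primeCompl _ e

end Groth.Agent.Lib.Helper6.StalkFFA
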