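import Groth.Agent.Lib.Helper6.StalkFFA
import Groth.Agent.Lib.Helper4.RpushCoh
import Groth.Agent.S0034
import Mathlib
set_option backward.isDefEq.respectTransparency.types false
set_option autoImplicit false
set_option linter.style.haveILetI false
universe u
open AlgebraicGeometry CategoryTheory Opposite TopologicalSpace TensorProduct CategoryTheory.Limits

/-! The geometric square and the cohomological side. -/

noncomputable section
namespace Groth.Agent.Lib.Helper6.StalkFFB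
open Groth.Agent.Lib.Helper2.HZDepth5 Groth.Agent.Lib.Helper17.ModStalk
  Groth.Agent.Lib.Helper29.QCohStalk Groth.Agent.Lib.Helper6.StalkFFA

variable {Y : Scheme.{u}} (V : Y.Opens) (y : Y) (hy : y ∈ V)

theorem fromSpecStalkOfMem_isoSpec [IsAffine (V : Scheme.{u})] :
    V.fromSpecStalkOfMem y hy ≫ (V : Scheme.{u}).isoSpec.hom =
      Spec.map (CommRingCat.ofHom (φAB V y hy)) := by
  unfold Scheme.Opens.fromSpecStalkOfMem
  rw [Category.assoc, Scheme.isoSpec_hom, Scheme.fromSpecStalk_toSpecΓ, ← Spec.map_comp]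
  rfl

theorem fromSpecStalk_eq [IsAffine (V : Scheme.{u})] :
    Y.fromSpecStalk y =
      (Spec.map (CommRingCat.ofHom (φAB V y hy)) ≫ (V : Scheme.{u}).isoSpec.inv) ≫ V.ι := by
  rw [← fromSpecStalkOfMem_isoSpec]
  simp only [Category.assoc, Iso.hom_inv_id_assoc]
  exact (Scheme.Opens.fromSpecStalkOfMem_ι V y hy).symm

variable {X : Scheme.{u}} (f : X ⟶ Y) {X₁ : Scheme.{u}}
  [X₁.Over (Spec (CommRingCat.of (Y.presheaf.stalk y)))] (g : X₁ ⟶ X)
  (hsq : IsPullback g (X₁ ↘ Spec (CommRingCat.of (Y.presheaf.stalk y))) f (Y.fromSpecStalk y))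

include hsq in
theorem hsq' [IsAffine (V : Scheme.{u})] :
    IsPullback g (X₁ ↘ Spec (CommRingCat.of (Y.presheaf.stalk y))) f
      ((Spec.map (CommRingCat.ofHom (φAB V y hy)) ≫ (V : Scheme.{u}).isoSpec.inv) ≫ V.ι) := by
  rw [← fromSpecStalk_eq]
  exact hsq

/-- the lift `X₁ ⟶ f⁻¹ V` -/
def g'' [IsAffine (V : Scheme.{u})] : X₁ ⟶ (f ⁻¹ᵁ V : Scheme.{u}) :=
  (isPullback_morphismRestrict f V).flip.lift g
    ((X₁ ↘ Spec (CommRingCat.of (Y.presheaf.stalk y))) ≫
      (Spec.map (CommRingCat.ofHom (φAB V y hy)) ≫ (V : Scheme.{u}).isoSpec.inv))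
    (by rw [(hsq' V y hy f g hsq).w]; simp only [Category.assoc])

theorem g''_ι [IsAffine (V : Scheme.{u})] : g'' V y hy f g hsq ≫ (f ⁻¹ᵁ V).ι = g :=
  (isPullback_morphismRestrict f V).flip.lift_fst _ _ _

theorem isPullback_g'' [IsAffine (V : Scheme.{u})] :
    IsPullback (g'' V y hy f g hsq) (X₁ ↘ Spec (CommRingCat.of (Y.presheaf.stalk y)))
      ((f ∣_ V) ≫ (V : Scheme.{u}).isoSpec.hom) (Spec.map (CommRingCat.ofHom (φAB V y hy))) := by
  have h1 : IsPullback (g'' V y hy f g hsq) (X₁ ↘ Spec (CommRingCat.of (Y.presheaf.stalk y)))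
      (f ∣_ V) (Spec.map (CommRingCat.ofHom (φAB V y hy)) ≫ (V : Scheme.{u}).isoSpec.inv) :=
    IsPullback.of_right' (hsq' V y hy f g hsq) (isPullback_morphismRestrict f V).flip
  have h2 : IsPullback (𝟙 (f ⁻¹ᵁ V : Scheme.{u})) (f ∣_ V) ((f ∣_ V) ≫ (V : Scheme.{u}).isoSpec.hom)
      (V : Scheme.{u}).isoSpec.hom := IsPullback.of_horiz_isIso ⟨by simp⟩
  have h3 := h1.paste_horiz h2
  have e1 : g'' V y hy f g hsq ≫ 𝟙 _ = g'' V y hy f g hsq := Category.comp_id _
  have e2 : (Spec.map (CommRingCat.ofHom (φAB V y hy)) ≫ (V : Scheme.{u}).isoSpec.inv) ≫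
      (V : Scheme.{u}).isoSpec.hom = Spec.map (CommRingCat.ofHom (φAB V y hy)) := by
    rw [Category.assoc, Iso.inv_hom_id, Category.comp_id]
  rw [e1, e2] at h3
  exact h3

end Groth.Agent.Lib.Helper6.StalkFFB
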