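import Groth.Prelude.Def_W4c5t1liftcy3defoArt
import Mathlib

/-!
# Algebra of the curvilinear test rings `k[t]/(t^(m+1))` (helper6)
-/

set_option autoImplicit false

universe u

open CategoryTheory Polynomial T1Lift

namespace Groth.Agent.Lib.Helper6.T1LiftAlg

variable (k : Type u) [Field k]

lemma mk_eq_aeval (m : ℕ) (p : k[X]) :
    AdjoinRoot.mk ((X : k[X]) ^ (m + 1)) p = aeval (t k m) p :=
  (AdjoinRoot.aeval_eq p).symm

lemma αAlg_mk (n : ℕ) (p : k[X]) :
    αAlg k n (AdjoinRoot.mk _ p) = AdjoinRoot.mk _ p := by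
  rw [mk_eq_aeval, mk_eq_aeval, ← Polynomial.aeval_algHom_apply, αAlg_t]

lemma αAlg_surjective (n : ℕ) : Function.Surjective (αAlg k n) := by
  intro a
  induction a using AdjoinRoot.induction_on with
  | ih p => exact ⟨AdjoinRoot.mk _ p, αAlg_mk k n p⟩

lemma t_mul_pow (m : ℕ) : t k m * t k m ^ m = 0 := by
  rw [← pow_succ', t_pow]

lemma mul_t_pow (m : ℕ) (a : Tr k m) :
    a * t k m ^ m = algebraMap k _ (resA k m a) * t k m ^ m := by
  obtain ⟨b, hb⟩ := eq_algebraMap_add_t_mul k m a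
  conv_lhs => rw [hb]
  rw [add_mul, mul_right_comm, t_mul_pow, zero_mul, add_zero]

lemma smul_t_pow_eq_zero (m : ℕ) (c : k) (h : algebraMap k (Tr k m) c * t k m ^ m = 0) : c = 0 := by
  have h1 : AdjoinRoot.mk ((X : k[X]) ^ (m + 1)) (C c * X ^ m) = 0 := by
    rw [map_mul, map_pow, AdjoinRoot.mk_X, AdjoinRoot.mk_C]
    exact h
  rw [AdjoinRoot.mk_eq_zero] at h1
  by_contra hc
  have h2 : (C c * X ^ m : k[X]) ≠ 0 := by
    rw [Ne, mul_eq_zero, not_or]
    exact ⟨by simpa using hc, pow_ne_zero _ X_ne_zero⟩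
  have h3 := Polynomial.natDegree_le_of_dvd h1 h2
  rw [natDegree_X_pow, natDegree_C_mul_X_pow _ _ hc] at h3
  lia

lemma mem_ker_αAlg (n : ℕ) (j : Tr k (n + 1)) :
    αAlg k n j = 0 ↔ ∃ c : k, j = algebraMap k _ c * t k (n + 1) ^ (n + 1) := by
  constructor
  · intro h
    induction j using AdjoinRoot.induction_on with
    | ih p =>
      rw [αAlg_mk, AdjoinRoot.mk_eq_zero] at h
      obtain ⟨q, rfl⟩ := h
      refine ⟨resA k (n + 1) (AdjoinRoot.mk _ q), ?_⟩
      rw [map_mul, map_pow, AdjoinRoot.mk_X, mul_comm, mul_t_pow]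
  · rintro ⟨c, rfl⟩
    rw [map_mul, map_pow, αAlg_t, t_pow, mul_zero]

end Groth.Agent.Lib.Helper6.T1LiftAlg
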