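import Groth.Agent.Lib.Helper6.T1LiftAlg
import Mathlib

set_option autoImplicit false

universe u v

open CategoryTheory Polynomial T1Lift ArtFun ArtFun.Art

namespace Groth.Agent.Lib.Helper6.T1LiftMain

open T1LiftAlg

variable (k : Type u) [Field k]

lemma hom_ext_A {m : ℕ} {D : Art k k} {f g : A k m ⟶ D} (h : f (t k m) = g (t k m)) : f = g :=
  Art.hom_ext (AdjoinRoot.algHom_ext h)

/-- the element `t + y` -/
noncomputable def uu (n : ℕ) : DualNumber (Tr k n) := TrivSqZeroExt.inl (t k n) + DualNumber.eps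

lemma fst_uu (n : ℕ) : TrivSqZeroExt.fst (uu k n) = t k n := by
  simp [uu]

lemma snd_uu (n : ℕ) : TrivSqZeroExt.snd (uu k n) = 1 := by
  simp [uu]

lemma α_t (n : ℕ) : α k n (t k (n + 1)) = t k n := αAlg_t k n

lemma ε_t (n : ℕ) : ε k n (t k (n + 1)) = uu k n := εAlg_t k n

lemma β_apply (n : ℕ) (x : DualNumber (Tr k n)) : β k n x = TrivSqZeroExt.fst x := rfl

lemma ξ_apply (n : ℕ) (x : DualNumber (Tr k (n + 1))) :
    ξ k n x = (αAlg k n (TrivSqZeroExt.fst x), αAlg k n (TrivSqZeroExt.snd x)) := rfl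

lemma ε_β (n : ℕ) : ε k (n + 1) ≫ β k (n + 1) = α k (n + 1) := by
  apply hom_ext_A
  rw [Art.comp_apply, ε_t, β_apply, α_t, fst_uu]

lemma ε_ξ (n : ℕ) : ε k (n + 1) ≫ ξ k n = α k (n + 1) ≫ ε k n := by
  apply hom_ext_A
  rw [Art.comp_apply, Art.comp_apply, ε_t, α_t, ε_t, ξ_apply, fst_uu, snd_uu, αAlg_t, map_one]
  exact TrivSqZeroExt.ext (fst_uu k n).symm (snd_uu k n).symm


/-- the ideal `(t^(n+1) y)` of `B_(n+1)`, as the kernel of `B_(n+1) → B_n ×_{A_n} A_(n+1)` -/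
noncomputable def KK (n : ℕ) : Ideal (B k (n + 1)) :=
  RingHom.ker (ξ k n).toAlgHom ⊓ RingHom.ker (β k (n + 1)).toAlgHom

lemma mem_KK (n : ℕ) (x : B k (n + 1)) : x ∈ KK k n ↔ ξ k n x = 0 ∧ β k (n + 1) x = 0 := by
  rw [KK, Ideal.mem_inf, RingHom.mem_ker, RingHom.mem_ker]

lemma KK_le (n : ℕ) : KK k n ≤ IsLocalRing.maximalIdeal (B k (n + 1)) := by
  intro x hx
  rw [Art.mem_maximalIdeal_iff]
  rw [mem_KK] at hx
  rw [← Art.res_app (β k (n + 1)), hx.2, map_zero]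

/-- the fibre product `B_n ×_{A_n} A_(n+1)` as a quotient of `B_(n+1)` -/
noncomputable def CC (n : ℕ) : Art k k := Art.quot (B k (n + 1)) (KK k n) (KK_le k n)

/-- the quotient map -/
noncomputable def ψψ (n : ℕ) : B k (n + 1) ⟶ CC k n := Art.quotMk _ _ (KK_le k n)

/-- the projection to `B_n` -/
noncomputable def q₁ (n : ℕ) : CC k n ⟶ B k n :=
  Art.quotFactor (KK_le k n) (ξ k n) inf_le_left

/-- the projection to `A_(n+1)` -/
noncomputable def q₂ (n : ℕ) : CC k n ⟶ A k (n + 1) :=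
  Art.quotFactor (KK_le k n) (β k (n + 1)) inf_le_right

lemma ψ_q₁ (n : ℕ) : ψψ k n ≫ q₁ k n = ξ k n := Art.quotMk_quotFactor _ _ _

lemma ψ_q₂ (n : ℕ) : ψψ k n ≫ q₂ k n = β k (n + 1) := Art.quotMk_quotFactor _ _ _

lemma ψ_surjective (n : ℕ) : Function.Surjective (ψψ k n) := Art.quotMk_surjective _ _ _

lemma ψ_eq_zero_iff (n : ℕ) (x : B k (n + 1)) : ψψ k n x = 0 ↔ x ∈ KK k n :=
  Ideal.Quotient.eq_zero_iff_mem

lemma ker_ψ (n : ℕ) : RingHom.ker (ψψ k n).toAlgHom = KK k n := by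
  ext x
  rw [RingHom.mem_ker]
  exact ψ_eq_zero_iff k n x

lemma ξ_β (n : ℕ) : ξ k n ≫ β k n = β k (n + 1) ≫ α k n := by
  apply Art.hom_ext
  apply AlgHom.ext
  intro x
  rfl

lemma isFibreProd (n : ℕ) : IsFibreProd (q₁ k n) (q₂ k n) (β k n) (α k n) where
  w := by
    have h : Epi (ψψ k n) := by
      refine ⟨fun {Z} a b hab => ?_⟩
      apply Art.hom_ext
      apply AlgHom.ext
      intro c
      obtain ⟨x, rfl⟩ := ψ_surjective k n c
      have := congrArg (fun f : B k (n + 1) ⟶ Z => f x) hab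
      exact this
    rw [← cancel_epi (ψψ k n), ← Category.assoc, ← Category.assoc, ψ_q₁, ψ_q₂, ξ_β]
  inj c₁ c₂ h₁ h₂ := by
    obtain ⟨x₁, rfl⟩ := ψ_surjective k n c₁
    obtain ⟨x₂, rfl⟩ := ψ_surjective k n c₂
    rw [← Art.comp_apply, ← Art.comp_apply, ψ_q₁] at h₁
    rw [← Art.comp_apply, ← Art.comp_apply, ψ_q₂] at h₂
    rw [← sub_eq_zero, ← map_sub, ψ_eq_zero_iff, mem_KK, map_sub, map_sub, h₁, h₂, sub_self,
      sub_self]
    exact ⟨rfl, rfl⟩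
  surj a' a'' h := by
    obtain ⟨b, hb⟩ := αAlg_surjective k n (TrivSqZeroExt.snd (a' : DualNumber (Tr k n)))
    refine ⟨ψψ k n ((a'', b) : DualNumber (Tr k (n + 1))), ?_, ?_⟩
    · rw [← Art.comp_apply, ψ_q₁, ξ_apply]
      refine TrivSqZeroExt.ext ?_ ?_
      · exact h.symm
      · exact hb
    · rw [← Art.comp_apply, ψ_q₂]
      rfl


lemma mul_ker_eq_zero (n : ℕ) (m j : Tr k (n + 1)) (hm : resA k (n + 1) m = 0)
    (hj : αAlg k n j = 0) : m * j = 0 := by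
  obtain ⟨c, rfl⟩ := (mem_ker_αAlg k n j).1 hj
  rw [mul_left_comm, mul_t_pow, hm, map_zero, zero_mul, mul_zero]

lemma isSemismallExt_α (n : ℕ) : IsSemismallExt (α k (n + 1)) := by
  refine ⟨αAlg_surjective k (n + 1), ?_⟩
  rw [← le_bot_iff, Ideal.mul_le]
  intro m hm j hj
  rw [Art.mem_maximalIdeal_iff] at hm
  rw [RingHom.mem_ker] at hj
  rw [Ideal.mem_bot]
  exact mul_ker_eq_zero k (n + 1) m j hm hj

lemma mem_KK_iff' (n : ℕ) (x : B k (n + 1)) :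
    x ∈ KK k n ↔ TrivSqZeroExt.fst (x : DualNumber (Tr k (n + 1))) = 0 ∧
      αAlg k n (TrivSqZeroExt.snd (x : DualNumber (Tr k (n + 1)))) = 0 := by
  rw [mem_KK, ξ_apply, β_apply]
  constructor
  · rintro ⟨h1, h2⟩
    exact ⟨h2, congrArg TrivSqZeroExt.snd h1⟩
  · rintro ⟨h1, h2⟩
    refine ⟨?_, h1⟩
    rw [h1, h2, map_zero]
    rfl

lemma isSemismallExt_ψ (n : ℕ) : IsSemismallExt (ψψ k n) := by
  refine ⟨ψ_surjective k n, ?_⟩
  rw [ker_ψ, ← le_bot_iff, Ideal.mul_le]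
  intro m hm x hx
  rw [Art.mem_maximalIdeal_iff] at hm
  have hm' : resA k (n + 1) (TrivSqZeroExt.fst (m : DualNumber (Tr k (n + 1)))) = 0 := hm
  obtain ⟨h1, h2⟩ := (mem_KK_iff' k n x).1 hx
  rw [Ideal.mem_bot]
  refine TrivSqZeroExt.ext ?_ ?_
  · change TrivSqZeroExt.fst (m : DualNumber (Tr k (n + 1))) *
      TrivSqZeroExt.fst (x : DualNumber (Tr k (n + 1))) = 0
    rw [h1, mul_zero]
  · change TrivSqZeroExt.fst (m : DualNumber (Tr k (n + 1))) •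
        TrivSqZeroExt.snd (x : DualNumber (Tr k (n + 1))) +
      MulOpposite.op (TrivSqZeroExt.fst (x : DualNumber (Tr k (n + 1)))) •
        TrivSqZeroExt.snd (m : DualNumber (Tr k (n + 1))) = 0
    rw [h1, MulOpposite.op_zero, zero_smul, add_zero, smul_eq_mul]
    exact mul_ker_eq_zero k n _ _ hm' h2

lemma ε_mem_KK (n : ℕ) (j : A k (n + 2)) (hj : α k (n + 1) j = 0) : ε k (n + 1) j ∈ KK k n := by
  rw [mem_KK]
  constructor
  · rw [← Art.comp_apply, ε_ξ, Art.comp_apply, hj, map_zero]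
  · rw [← Art.comp_apply, ε_β, hj]

lemma ψ_uu_pow (n : ℕ) : (ψψ k n (uu k (n + 1))) ^ (n + 2) = 0 := by
  rw [← map_pow, ψ_eq_zero_iff, ← ε_t, ← map_pow]
  apply ε_mem_KK
  rw [map_pow, α_t]
  exact t_pow k (n + 1)

/-- the map `A_(n+1) → C`, `t ↦ t + y` -/
noncomputable def gAlg (n : ℕ) : Tr k (n + 1) →ₐ[k] CC k n :=
  AdjoinRoot.liftAlgHom _ (Algebra.ofId k _) (ψψ k n (uu k (n + 1)))
    (by rw [eval₂_X_pow]; exact ψ_uu_pow k n)

lemma gAlg_t (n : ℕ) : gAlg k n (t k (n + 1)) = ψψ k n (uu k (n + 1)) :=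
  AdjoinRoot.liftAlgHom_root _ _ _ _

/-- the morphism `A_(n+1) ⟶ C` -/
noncomputable def gg (n : ℕ) : A k (n + 1) ⟶ CC k n :=
  Art.homMk (gAlg k n) (AdjoinRoot.algHom_ext (by
    change (CC k n).res (gAlg k n (t k (n + 1))) = resA k (n + 1) (t k (n + 1))
    rw [gAlg_t, Art.res_app, resA_t]
    change resA k (n + 1) (TrivSqZeroExt.fst (uu k (n + 1))) = 0
    rw [fst_uu, resA_t]))

lemma gg_t (n : ℕ) : gg k n (t k (n + 1)) = ψψ k n (uu k (n + 1)) := gAlg_t k n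

lemma α_gg (n : ℕ) : α k (n + 1) ≫ gg k n = ε k (n + 1) ≫ ψψ k n := by
  apply hom_ext_A
  rw [Art.comp_apply, Art.comp_apply, α_t, gg_t, ε_t]

lemma gg_q₁ (n : ℕ) : gg k n ≫ q₁ k n = ε k n := by
  apply hom_ext_A
  rw [Art.comp_apply, gg_t, ← Art.comp_apply, ψ_q₁, ξ_apply, fst_uu, snd_uu, αAlg_t, map_one, ε_t]
  exact TrivSqZeroExt.ext (fst_uu k n).symm (snd_uu k n).symm

lemma gg_q₂ (n : ℕ) : gg k n ≫ q₂ k n = 𝟙 _ := by
  apply hom_ext_A
  rw [Art.comp_apply, gg_t, ← Art.comp_apply, ψ_q₂, β_apply, fst_uu]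
  rfl

/-- the map on kernels induced by `ε` -/
noncomputable def ℓℓ (n : ℕ) : ↥(RingHom.ker (α k (n + 1)).toAlgHom) →ₗ[k]
    ↥(RingHom.ker (ψψ k n).toAlgHom) where
  toFun j := ⟨ε k (n + 1) (j : A k (n + 2)), by
    rw [ker_ψ]
    exact ε_mem_KK k n _ (RingHom.mem_ker.1 j.2)⟩
  map_add' x y := Subtype.ext (map_add (ε k (n + 1)).toAlgHom _ _)
  map_smul' c x := Subtype.ext (map_smul (ε k (n + 1)).toAlgHom c (x : A k (n + 2)))

lemma ℓℓ_coe (n : ℕ) (j : ↥(RingHom.ker (α k (n + 1)).toAlgHom)) :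
    ((ℓℓ k n j : ↥(RingHom.ker (ψψ k n).toAlgHom)) : B k (n + 1)) = ε k (n + 1) (j : A k (n + 2)) :=
  rfl


lemma snd_εAlg (n : ℕ) (c : k) :
    TrivSqZeroExt.snd (εAlg k n (algebraMap k _ c * t k (n + 1) ^ (n + 1))) =
      algebraMap k (Tr k n) (c * ((n + 1 : ℕ) : k)) * t k n ^ n := by
  rw [map_mul, AlgHom.commutes, map_pow, εAlg_t, TrivSqZeroExt.algebraMap_eq_inl',
    TrivSqZeroExt.inl_mul_eq_smul, TrivSqZeroExt.snd_smul, TrivSqZeroExt.snd_pow]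
  change algebraMap k (Tr k n) c • ((n + 1) • TrivSqZeroExt.fst (uu k n) ^ n •
    TrivSqZeroExt.snd (uu k n)) = _
  rw [fst_uu, snd_uu, smul_eq_mul, smul_eq_mul, mul_one, nsmul_eq_mul, map_mul, map_natCast,
    mul_assoc]

lemma ℓℓ_injective [CharZero k] (n : ℕ) : Function.Injective (ℓℓ k n) := by
  rw [injective_iff_map_eq_zero]
  intro j hj
  have h1 : εAlg k (n + 1) (j.1 : Tr k (n + 2)) = 0 := congrArg Subtype.val hj
  obtain ⟨c, hc⟩ := (mem_ker_αAlg k (n + 1) (j.1 : Tr k (n + 2))).1 (RingHom.mem_ker.1 j.2)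
  rw [hc] at h1
  have h2 := snd_εAlg k (n + 1) c
  rw [h1] at h2
  have h3 := smul_t_pow_eq_zero k (n + 1) _ h2.symm
  have h4 : ((n + 1 + 1 : ℕ) : k) ≠ 0 := Nat.cast_ne_zero.2 (by lia)
  have hc0 : c = 0 := by
    rcases mul_eq_zero.1 h3 with h | h
    · exact h
    · exact absurd h h4
  apply Subtype.ext
  change (j.1 : Tr k (n + 2)) = 0
  rw [hc, hc0, map_zero, zero_mul]
  rfl

open scoped TensorProduct

theorem main [CharZero k] (F : ArtFun.Art k k ⥤ Type v)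
    (hRS : ∀ ⦃P A A' A'' : ArtFun.Art k k⦄ (p' : P ⟶ A') (p'' : P ⟶ A'') (f' : A' ⟶ A) (f'' : A'' ⟶ A)
      (h : ArtFun.Art.IsFibreProd p' p'' f' f''), Function.Surjective f'' → Function.Bijective (ArtFun.cmp F h))
    (V : Type u) [AddCommGroup V] [Module k V] (O : ArtFun.ObsTheory F V)
    (hnat : ∀ ⦃A' A C' C : ArtFun.Art k k⦄ (φ : A' ⟶ A) (hφ : ArtFun.Art.IsSemismallExt φ)
      (ψ : C' ⟶ C) (hψ : ArtFun.Art.IsSemismallExt ψ) (g' : A' ⟶ C') (g : A ⟶ C), φ ≫ g = g' ≫ ψ →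
      ∀ (ℓ : ↥(RingHom.ker φ.toAlgHom) →ₗ[k] ↥(RingHom.ker ψ.toAlgHom)),
        (∀ j : ↥(RingHom.ker φ.toAlgHom), ((ℓ j : ↥(RingHom.ker ψ.toAlgHom)) : C') = g' (j : A')) →
        ∀ u : F.obj A, O.obs ψ hψ (F.map g u) = LinearMap.lTensor V ℓ (O.obs φ hφ u))
    (n : ℕ) (X : F.obj (T1Lift.A k (n + 1))) :
    (∃ X' : F.obj (T1Lift.A k (n + 2)), F.map (T1Lift.α k (n + 1)) X' = X) ↔
      ∃ Y : F.obj (T1Lift.B k (n + 1)), F.map (T1Lift.β k (n + 1)) Y = X ∧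
        F.map (T1Lift.ξ k n) Y = F.map (T1Lift.ε k n) X := by
  constructor
  · rintro ⟨X', rfl⟩
    refine ⟨F.map (ε k (n + 1)) X', ?_, ?_⟩
    · rw [← Functor.map_comp_apply, ε_β]
    · rw [← Functor.map_comp_apply, ← Functor.map_comp_apply, ε_ξ]
  · rintro ⟨Y, hY1, hY2⟩
    rw [← O.obs_eq_zero_iff (α k (n + 1)) (isSemismallExt_α k n) X]
    have hkey := hnat (α k (n + 1)) (isSemismallExt_α k n) (ψψ k n) (isSemismallExt_ψ k n)
      (ε k (n + 1)) (gg k n) (α_gg k n) (ℓℓ k n) (ℓℓ_coe k n) X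
    have hlift : F.map (ψψ k n) Y = F.map (gg k n) X := by
      have hbij := hRS (q₁ k n) (q₂ k n) (β k n) (α k n) (isFibreProd k n) (αAlg_surjective k n)
      apply hbij.1
      apply ArtFun.FibProd.ext
      · change F.map (q₁ k n) (F.map (ψψ k n) Y) = F.map (q₁ k n) (F.map (gg k n) X)
        rw [← Functor.map_comp_apply, ← Functor.map_comp_apply, ψ_q₁, gg_q₁, hY2]
      · change F.map (q₂ k n) (F.map (ψψ k n) Y) = F.map (q₂ k n) (F.map (gg k n) X)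
        rw [← Functor.map_comp_apply, ← Functor.map_comp_apply, ψ_q₂, gg_q₂, hY1,
          Functor.map_id_apply]
    have hzero : O.obs (ψψ k n) (isSemismallExt_ψ k n) (F.map (gg k n) X) = 0 :=
      (O.obs_eq_zero_iff _ _ _).2 ⟨Y, hlift⟩
    rw [hzero] at hkey
    have hinj : Function.Injective (LinearMap.lTensor V (ℓℓ k n)) :=
      Module.Flat.lTensor_preserves_injective_linearMap _ (ℓℓ_injective k n)
    apply hinj
    rw [← hkey, map_zero]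

end Groth.Agent.Lib.Helper6.T1LiftMain
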