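import Groth.Agent.Lib.lead.FormalA
import Mathlib
set_option backward.isDefEq.respectTransparency.types false
set_option autoImplicit false
set_option linter.style.haveILetI false
set_option linter.unusedSectionVars false
universe u
open AlgebraicGeometry CategoryTheory CategoryTheory.Limits

/-!
# Quotients `N / J N` under an `A`-linear right exact functor to `O_X`-modules (helper6)

For `X` over `Spec A` and an additive functor `T : ModuleCat A ⥤ X.Modules` which preserves finite
colimits and is `A`-linear (`T (a • 𝟙) = smulMod a`), `T` maps every surjection `q : N ⟶ N'` of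
`A`-modules with kernel `J • ⊤` (`J` a finitely generated ideal) to a quotient by `J` in the sense of
helper23's `IsQuot`.
-/

noncomputable section
namespace Groth.Agent.Lib.Helper6.TensAQuot

open Formal Groth.Agent.Lib.Helper23.FQuot Groth.Agent.Lib.Lead.FormalA

variable {A : Type u} [CommRing A] {X : Scheme.{u}} [X.Over (Spec (CommRingCat.of A))]
  (T : ModuleCat.{u} A ⥤ X.Modules) [T.Additive] [PreservesFiniteColimits T]
  (hT : ∀ (N : ModuleCat.{u} A) (a : A), T.map (a • 𝟙 N) = smulMod A (T.obj N) a)

include hT in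
theorem isQuot_map_singleton (a : A) {N N' : ModuleCat.{u} A} (q : N ⟶ N')
    (hq : Function.Surjective q.hom)
    (hk : LinearMap.ker q.hom = Ideal.span {a} • (⊤ : Submodule A N)) :
    IsQuot (Ideal.span {a}) (T.map q) := by
  have hzero : (a • 𝟙 N) ≫ q = 0 := by
    ext x
    change q.hom (a • x) = 0
    rw [← LinearMap.mem_ker, hk]
    exact Submodule.smul_mem_smul (Ideal.subset_span rfl) Submodule.mem_top
  let S : ShortComplex (ModuleCat.{u} A) := ShortComplex.mk (a • 𝟙 N) q hzero
  have hS : S.Exact := by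
    rw [ShortComplex.moduleCat_exact_iff_range_eq_ker]
    change LinearMap.range (a • 𝟙 N : N ⟶ N).hom = LinearMap.ker q.hom
    rw [hk, Submodule.ideal_span_singleton_smul]
    ext x
    constructor
    · rintro ⟨y, rfl⟩
      exact Submodule.smul_mem_pointwise_smul y a ⊤ Submodule.mem_top
    · intro hx
      obtain ⟨y, -, rfl⟩ := (Submodule.mem_smul_pointwise_iff_exists x a ⊤).1 hx
      exact ⟨y, rfl⟩
  haveI : Epi S.g := (ModuleCat.epi_iff_surjective q).2 hq
  have hS' : (S.map T).Exact := hS.map_of_epi_of_preservesCokernel T inferInstance inferInstance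
  haveI : Epi (S.map T).g := by
    change Epi (T.map q)
    infer_instance
  haveI : Epi (T.map q) := inferInstanceAs (Epi (S.map T).g)
  refine isQuot_of_le_annIdeal (T.map q) ?_ ?_
  · rw [span_singleton_le_annIdeal_iff, ← hT, ← T.map_comp, hzero, T.map_zero]
  · intro Z g hg
    rw [span_singleton_le_annIdeal_iff, ← hT] at hg
    exact ⟨hS'.desc g hg, hS'.g_desc g hg⟩

include hT in
theorem isQuot_map_of_ker_eq {J : Ideal A} (hJ : J.FG) :
    ∀ {N N' : ModuleCat.{u} A} (q : N ⟶ N'), Function.Surjective q.hom →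
      LinearMap.ker q.hom = J • (⊤ : Submodule A N) → IsQuot J (T.map q) := by
  induction J, hJ using Submodule.fg_induction with
  | singleton a =>
    intro N N' q hq hk
    exact isQuot_map_singleton T hT a q hq hk
  | sup J₁ J₂ _ _ ih₁ ih₂ =>
    intro N N' q hq hk
    -- first quotient `N → N / J₁ N`
    let K₁ : Submodule A N := J₁ • ⊤
    let q₁ : N ⟶ ModuleCat.of A (N ⧸ K₁) := ModuleCat.ofHom K₁.mkQ
    have hK₁ : K₁ ≤ LinearMap.ker q.hom := by
      rw [hk]
      exact Submodule.smul_mono_left le_sup_left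
    let q₂ : ModuleCat.of A (N ⧸ K₁) ⟶ N' := ModuleCat.ofHom (K₁.liftQ q.hom hK₁)
    have hcomp : q₁ ≫ q₂ = q := by
      ext x
      rfl
    have hq₁ : Function.Surjective q₁.hom := K₁.mkQ_surjective
    have hq₂ : Function.Surjective q₂.hom := by
      intro z
      obtain ⟨x, rfl⟩ := hq z
      exact ⟨K₁.mkQ x, rfl⟩
    have hk₁ : LinearMap.ker q₁.hom = J₁ • (⊤ : Submodule A N) := K₁.ker_mkQ
    have hk₂ : LinearMap.ker q₂.hom = J₂ • (⊤ : Submodule A (N ⧸ K₁)) := by
      change LinearMap.ker (K₁.liftQ q.hom hK₁) = _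
      rw [Submodule.ker_liftQ, hk, Submodule.sup_smul, Submodule.map_sup]
      have e1 : Submodule.map K₁.mkQ (J₁ • ⊤) = ⊥ := by
        rw [← le_bot_iff, Submodule.map_le_iff_le_comap, Submodule.comap_bot, Submodule.ker_mkQ]
      rw [e1, bot_sup_eq, Submodule.map_smul'', Submodule.map_top, Submodule.range_mkQ]
    have h1 := ih₁ q₁ hq₁ hk₁
    have h2 := ih₂ q₂ hq₂ hk₂
    have h3 := IsQuot.comp_sup h1 h2
    rw [← T.map_comp, hcomp] at h3
    exact h3

end Groth.Agent.Lib.Helper6.TensAQuot
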