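import Groth.Agent.Lib.Helper6.DeltaCompareRel
import Mathlib

/-!
# Dimension shifting data for `Ext_R(-, N)` in `ModuleCat R` (helper6)
-/

set_option autoImplicit false
set_option linter.style.haveILetI false
set_option linter.unusedSectionVars false
set_option linter.unusedVariables false
set_option backward.isDefEq.respectTransparency.types false

universe u

open CategoryTheory CategoryTheory.Limits

noncomputable section

namespace Groth.Agent.Lib.Helper6.TildeExt

open Groth.Agent.Lib.Helper6.DeltaCompareRel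

variable {R : Type u} [CommRing R]

/-- `Ext^n_R(M, N)` as an object of `ModuleCat R` -/
def extMod (N M : ModuleCat.{u} R) (n : ℕ) : ModuleCat.{u} R :=
  ModuleCat.of R (Abelian.Ext.{u} M N n)

/-- precomposition with a morphism on `Ext^n` -/
def extPre (N : ModuleCat.{u} R) {M M' : ModuleCat.{u} R} (g : M' ⟶ M) (n : ℕ) :
    extMod N M n ⟶ extMod N M' n :=
  ModuleCat.ofHom ((Abelian.Ext.mk₀ g).precompOfLinear R N (zero_add n))

variable {S₀ : ShortComplex (ModuleCat.{u} R)} (hS₀ : S₀.ShortExact) (N : ModuleCat.{u} R)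

/-- the connecting map -/
def extδ (n : ℕ) : extMod N S₀.X₁ n ⟶ extMod N S₀.X₃ (n + 1) :=
  ModuleCat.ofHom (hS₀.extClass.precompOfLinear R N (add_comm 1 n))

variable [Projective S₀.X₂]

/-- dimension shifting data for `Ext_R(-, N)` along `0 ⟶ K ⟶ P ⟶ M ⟶ 0`, `P` projective -/
def shiftData : ShiftData (fun n => extMod N S₀.X₃ n) (fun n => extMod N S₀.X₂ n)
    (fun n => extMod N S₀.X₁ n) where
  zero n := by
    haveI : Subsingleton (Abelian.Ext.{u} S₀.X₂ N (n + 1)) :=
      ⟨fun a b => (Abelian.Ext.eq_zero_of_projective a).trans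
        (Abelian.Ext.eq_zero_of_projective b).symm⟩
    exact @ModuleCat.isZero_of_subsingleton _ _ (extMod N S₀.X₂ (n + 1)) this
  a n := extPre N S₀.f n
  δ n := extδ hS₀ N n
  w n := by
    apply ModuleCat.hom_ext
    apply LinearMap.ext
    intro x
    exact hS₀.extClass_comp_assoc (Y := N) (n := n) (n' := n + 1) (h := add_comm 1 n) x
  exact n := by
    rw [ShortComplex.ShortExact.moduleCat_exact_iff_function_exact]
    intro y
    constructor
    · intro hy
      obtain ⟨x, hx⟩ := Abelian.Ext.contravariant_sequence_exact₁ hS₀ N y (add_comm 1 n) hy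
      exact ⟨x, hx⟩
    · rintro ⟨x, rfl⟩
      exact hS₀.extClass_comp_assoc (Y := N) (n := n) (n' := n + 1) (h := add_comm 1 n) x
  epi n := by
    rw [ModuleCat.epi_iff_surjective]
    intro x₃
    obtain ⟨x₁, h⟩ := Abelian.Ext.contravariant_sequence_exact₃ hS₀ N x₃
      (Abelian.Ext.eq_zero_of_projective _) (add_comm 1 n)
    exact ⟨x₁, h⟩

/-- `Hom ≅ Ext⁰` -/
def ext0Iso (M N : ModuleCat.{u} R) : ModuleCat.of R (M ⟶ N) ≅ extMod N M 0 :=
  (Abelian.Ext.linearEquiv₀ (R := R) (X := M) (Y := N)).symm.toModuleIso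

theorem ext0Iso_naturality (N : ModuleCat.{u} R) {M M' : ModuleCat.{u} R} (g : M' ⟶ M) :
    ModuleCat.ofHom (Linear.leftComp R N g) ≫ (ext0Iso M' N).hom =
      (ext0Iso M N).hom ≫ extPre N g 0 := by
  apply ModuleCat.hom_ext
  apply LinearMap.ext
  intro φ
  exact (Abelian.Ext.mk₀_comp_mk₀ g φ).symm

end Groth.Agent.Lib.Helper6.TildeExt
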