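import Mathlib
import Groth.Agent.Lib.Helper6.HomBC
import Groth.Agent.Lib.Helper6.HomDualCorepA
import Groth.Agent.Lib.Helper6.HomDualCorepC

/-!
# Global sections of the sheaf Hom between tildes (helper6)

`κ : Γ(Spec R, ℋom(M~, N~)) ≃ₗ[R] (M ⟶ N)`, natural in `M`; hence `ℋom(M~, N~) ≅ (M ⟶ N)~` as soon as
`ℋom(M~, N~)` is quasi-coherent.
-/

set_option autoImplicit false
set_option linter.style.haveILetI false
set_option linter.unusedSectionVars false
set_option linter.unusedVariables false
set_option backward.isDefEq.respectTransparency.types false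

universe u

open CategoryTheory CategoryTheory.Limits AlgebraicGeometry Opposite TopologicalSpace

noncomputable section

namespace Groth.Agent.Lib.Helper6.TildeHom

open Groth.Agent.Lib.Helper28 Groth.Agent.Lib.Helper28.QCohLoc Groth.Agent.Lib.Helper28.HomMod
  Groth.Agent.Lib.Helper6.HomAdj Groth.Agent.Lib.Helper6.HomBC Groth.Agent.Lib.Helper6.HomDualCorep

variable {R : CommRingCat.{u}}

/-- evaluation of a global section of `ℋom(F, G)` on global sections, as an `R`-linear map -/
def evTopLin {F G : (Spec R).Modules} (s : Γ(homMod F G, ⊤)) : Γ(F, ⊤) →ₗ[R] Γ(G, ⊤) where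
  toFun := fun x => ev s le_rfl x
  map_add' := fun x y => ev_add s le_rfl _ _
  map_smul' := fun r x => ev_smul s le_rfl _ _

/-- evaluation of a global section of `ℋom(F, G)` on global sections, as a morphism of `R`-modules -/
def evTop {F G : (Spec R).Modules} (s : Γ(homMod F G, ⊤)) :
    moduleSpecΓFunctor.obj F ⟶ moduleSpecΓFunctor.obj G :=
  ModuleCat.ofHom (X := Γ(F, ⊤)) (Y := Γ(G, ⊤)) (evTopLin s)

theorem evTop_apply {F G : (Spec R).Modules} (s : Γ(homMod F G, ⊤)) (x : Γ(F, ⊤)) :
    (evTop s).hom x = ev s le_rfl x := rfl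

theorem evTop_secOfHom {F G : (Spec R).Modules} (u : F ⟶ G) :
    evTop (secOfHom u ⊤) = moduleSpecΓFunctor.map u := by
  ext x
  rfl

theorem evTop_add {F G : (Spec R).Modules} (s t : Γ(homMod F G, ⊤)) :
    evTop (s + t) = evTop s + evTop t := by
  ext x
  rfl

theorem evTop_smul {F G : (Spec R).Modules} (r : R) (s : Γ(homMod F G, ⊤)) :
    evTop (r • s) = r • evTop s := by
  ext x
  change ev (r • s) le_rfl x = r • ev s le_rfl x
  have h : (r • s : Γ(homMod F G, ⊤)) =
      (((Spec R).presheaf.map (⊤ : (Spec R).Opens).leTop.op) ((Scheme.ΓSpecIso R).inv r) • s :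
        Γ(homMod F G, ⊤)) := rfl
  rw [h, smul_ev, Groth.Agent.Lib.Helper28.HomMod.resO_self]
  rfl

variable (M N : ModuleCat.{u} R)

/-- the unit of the tilde–Γ adjunction as an isomorphism `M ≅ Γ(M~)` -/
def topIso : M ≅ moduleSpecΓFunctor.obj (tilde M) := (tilde.toTildeΓNatIso (R := R)).app M

variable {M N} in
theorem topIso_naturality (f : M ⟶ N) :
    (topIso M).hom ≫ moduleSpecΓFunctor.map (tilde.map f) = f ≫ (topIso N).hom :=
  ((tilde.toTildeΓNatIso (R := R)).hom.naturality f).symm

theorem topIso_hom_eq_unit : (topIso M).hom = (tilde.adjunction (R := R)).unit.app M := rfl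

/-- the underlying function of `κ` -/
def κFun (s : Γ(homMod (tilde M) (tilde N), ⊤)) : M ⟶ N :=
  (topIso M).hom ≫ evTop s ≫ (topIso N).inv

theorem κFun_add (s t : Γ(homMod (tilde M) (tilde N), ⊤)) :
    κFun M N (s + t) = κFun M N s + κFun M N t := by
  unfold κFun
  rw [evTop_add, Preadditive.add_comp, Preadditive.comp_add]

theorem κFun_smul (r : R) (s : Γ(homMod (tilde M) (tilde N), ⊤)) :
    κFun M N (r • s) = r • κFun M N s := by
  unfold κFun
  rw [evTop_smul, Linear.smul_comp, Linear.comp_smul]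

theorem κFun_secOfHom (f : M ⟶ N) : κFun M N (secOfHom (tilde.map f) ⊤) = f := by
  unfold κFun
  rw [evTop_secOfHom, reassoc_of% (topIso_naturality f), Iso.hom_inv_id, Category.comp_id]

theorem homOfSec_eq_map_κFun (s : Γ(homMod (tilde M) (tilde N), ⊤)) :
    homOfSec (V := ⊤) (fun _ => le_top) s = tilde.map (κFun M N s) := by
  apply (tilde.adjunction (R := R)).homEquiv _ _ |>.injective
  rw [Adjunction.homEquiv_unit, Adjunction.homEquiv_unit]
  have h1 : moduleSpecΓFunctor.map (homOfSec (V := ⊤) (fun _ => le_top) s) = evTop s := by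
    rw [← evTop_secOfHom, secOfHom_homOfSec]
  rw [← topIso_hom_eq_unit]
  change (topIso M).hom ≫ moduleSpecΓFunctor.map _ =
    (topIso M).hom ≫ moduleSpecΓFunctor.map (tilde.map (κFun M N s))
  rw [topIso_naturality, h1]
  unfold κFun
  simp only [Category.assoc, Iso.inv_hom_id, Category.comp_id]

theorem κFun_bijective : Function.Bijective (κFun M N) := by
  constructor
  · intro s s' h
    have h1 := homOfSec_eq_map_κFun M N s
    have h2 := homOfSec_eq_map_κFun M N s'
    rw [h] at h1
    have h3 : homOfSec (V := ⊤) (fun _ => le_top) s = homOfSec (V := ⊤) (fun _ => le_top) s' :=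
      h1.trans h2.symm
    have := congrArg (fun u => secOfHom u ⊤) h3
    simpa only [secOfHom_homOfSec] using this
  · intro f
    exact ⟨secOfHom (tilde.map f) ⊤, κFun_secOfHom M N f⟩

/-- `Γ(Spec R, ℋom(M~, N~)) ≃ₗ[R] (M ⟶ N)` -/
def κ : Γ(homMod (tilde M) (tilde N), ⊤) ≃ₗ[R] (M ⟶ N) :=
  LinearEquiv.ofBijective
    { toFun := κFun M N
      map_add' := κFun_add M N
      map_smul' := κFun_smul M N }
    (κFun_bijective M N)

theorem κ_apply (s : Γ(homMod (tilde M) (tilde N), ⊤)) : κ M N s = κFun M N s := rfl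

end Groth.Agent.Lib.Helper6.TildeHom
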