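import Mathlib
import Groth.Agent.Lib.Helper6.TildeHom

/-!
# `ℋom(M~, N~) ≅ (M ⟶ N)~` when the sheaf Hom is quasi-coherent, naturally in `M` (helper6)
-/

set_option autoImplicit false
set_option linter.style.haveILetI false
set_option linter.unusedSectionVars false
set_option linter.unusedVariables false
set_option backward.isDefEq.respectTransparency.types false

universe u

open CategoryTheory CategoryTheory.Limits AlgebraicGeometry Opposite TopologicalSpace

noncomputable section

namespace Groth.Agent.Lib.Helper6.TildeHom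

open Groth.Agent.Lib.Helper28 Groth.Agent.Lib.Helper28.QCohLoc Groth.Agent.Lib.Helper28.HomMod
  Groth.Agent.Lib.Helper6.HomAdj Groth.Agent.Lib.Helper6.HomBC Groth.Agent.Lib.Helper6.HomDualCorep

variable {R : CommRingCat.{u}}

theorem evTop_preSec {E₀ E₁ T : (Spec R).Modules} (v : E₁ ⟶ E₀) (s : Γ(homMod E₀ T, ⊤)) :
    evTop (preSec v T s) = moduleSpecΓFunctor.map v ≫ evTop s := by
  ext x
  rfl

variable {M M' : ModuleCat.{u} R} (N : ModuleCat.{u} R)

theorem κFun_preSec (g : M' ⟶ M) (s : Γ(homMod (tilde M) (tilde N), ⊤)) :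
    κFun M' N (preSec (tilde.map g) (tilde N) s) = g ≫ κFun M N s := by
  unfold κFun
  rw [evTop_preSec]
  simp only [Category.assoc]
  rw [reassoc_of% (topIso_naturality g)]

/-- precomposition, as a morphism of `R`-modules -/
def precomp (g : M' ⟶ M) : ModuleCat.of R (M ⟶ N) ⟶ ModuleCat.of R (M' ⟶ N) :=
  ModuleCat.ofHom (Linear.leftComp R N g)

/-- precomposition on the sheaf Hom -/
def preMap (g : M' ⟶ M) : homMod (tilde M) (tilde N) ⟶ homMod (tilde M') (tilde N) :=
  (homModPre (tilde.map g)).app (tilde N)

/-- `κ` as an isomorphism of `R`-modules -/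
def κIso (M N : ModuleCat.{u} R) :
    moduleSpecΓFunctor.obj (homMod (tilde M) (tilde N)) ≅ ModuleCat.of R (M ⟶ N) :=
  (κ M N).toModuleIso

theorem κIso_naturality (g : M' ⟶ M) :
    (κIso M N).hom ≫ precomp N g =
      moduleSpecΓFunctor.map (preMap N g) ≫ (κIso M' N).hom := by
  apply ModuleCat.hom_ext
  apply LinearMap.ext
  intro s
  exact (κFun_preSec N g s).symm

/-- the counit of the tilde–Γ adjunction at a quasi-coherent module, as an isomorphism -/
def counitIso (H : (Spec R).Modules) [H.IsQuasicoherent] :
    (tilde.functor R).obj (moduleSpecΓFunctor.obj H) ≅ H :=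
  haveI : IsIso ((tilde.adjunction (R := R)).counit.app H) :=
    inferInstanceAs (IsIso H.fromTildeΓ)
  asIso ((tilde.adjunction (R := R)).counit.app H)

theorem counitIso_naturality {H H' : (Spec R).Modules} [H.IsQuasicoherent] [H'.IsQuasicoherent]
    (h : H ⟶ H') :
    (tilde.functor R).map (moduleSpecΓFunctor.map h) ≫ (counitIso H').hom =
      (counitIso H).hom ≫ h :=
  (tilde.adjunction (R := R)).counit.naturality h

/-- **`ℋom(M~, N~) ≅ (M ⟶ N)~`** when the sheaf Hom is quasi-coherent -/
def isoOfQC (M N : ModuleCat.{u} R) [(homMod (tilde M) (tilde N)).IsQuasicoherent] :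
    homMod (tilde M) (tilde N) ≅ (tilde.functor R).obj (ModuleCat.of R (M ⟶ N)) :=
  (counitIso (homMod (tilde M) (tilde N))).symm ≪≫ (tilde.functor R).mapIso (κIso M N)

theorem isoOfQC_naturality (g : M' ⟶ M) [(homMod (tilde M) (tilde N)).IsQuasicoherent]
    [(homMod (tilde M') (tilde N)).IsQuasicoherent] :
    (isoOfQC M N).hom ≫ (tilde.functor R).map (precomp N g) =
      preMap N g ≫ (isoOfQC M' N).hom := by
  have h2 := counitIso_naturality (preMap N g)
  have h3 : (tilde.functor R).map (κIso M N).hom ≫ (tilde.functor R).map (precomp N g) =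
      (tilde.functor R).map (moduleSpecΓFunctor.map (preMap N g)) ≫
        (tilde.functor R).map (κIso M' N).hom := by
    rw [← Functor.map_comp, ← Functor.map_comp, κIso_naturality]
  have h4 : (counitIso (homMod (tilde M) (tilde N))).inv ≫
      (tilde.functor R).map (moduleSpecΓFunctor.map (preMap N g)) =
      preMap N g ≫ (counitIso (homMod (tilde M') (tilde N))).inv := by
    rw [Iso.inv_comp_eq, ← Category.assoc, ← h2, Category.assoc, Iso.hom_inv_id, Category.comp_id]
  calc (isoOfQC M N).hom ≫ (tilde.functor R).map (precomp N g)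
      = (counitIso (homMod (tilde M) (tilde N))).inv ≫
          ((tilde.functor R).map (κIso M N).hom ≫ (tilde.functor R).map (precomp N g)) := by
        unfold isoOfQC
        simp only [Iso.trans_hom, Iso.symm_hom, Functor.mapIso_hom, Category.assoc]
    _ = ((counitIso (homMod (tilde M) (tilde N))).inv ≫
          (tilde.functor R).map (moduleSpecΓFunctor.map (preMap N g))) ≫
            (tilde.functor R).map (κIso M' N).hom := by
        rw [h3, Category.assoc]
    _ = preMap N g ≫ (isoOfQC M' N).hom := by
        rw [h4]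
        unfold isoOfQC
        simp only [Iso.trans_hom, Iso.symm_hom, Functor.mapIso_hom, Category.assoc]

end Groth.Agent.Lib.Helper6.TildeHom
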