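import Mathlib
import Groth.Agent.Lib.Helper6.TildeHomB
import Groth.Agent.Lib.Helper6.SheafHomQC
import Groth.Agent.Lib.Helper6.HomDualExt
import Groth.Agent.S9498

/-!
# `ℋom(M~, N~) ≅ Hom(M, N)~` for `M` finitely presented (helper6)
-/

set_option autoImplicit false
set_option linter.style.haveILetI false
set_option linter.unusedSectionVars false
set_option linter.unusedVariables false
set_option backward.isDefEq.respectTransparency.types false

universe u

open CategoryTheory CategoryTheory.Limits AlgebraicGeometry Opposite TopologicalSpace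

noncomputable section

namespace Groth.Agent.Lib.Helper6.TildeHom

open Groth.Agent.Lib.Helper28 Groth.Agent.Lib.Helper28.QCohLoc Groth.Agent.Lib.Helper28.HomMod
  Groth.Agent.Lib.Helper6.HomAdj Groth.Agent.Lib.Helper6.HomBC Groth.Agent.Lib.Helper6.HomDualCorep
  Groth.Agent.Lib.Helper6.FinFreeExt Groth.Agent.Lib.Helper6.ExtShQCoh

variable {R : CommRingCat.{u}}

attribute [local instance] Abelian.hasFiniteBiproducts

/-- `(R^n)~ ≅ O^n` -/
def tildePiIso (n : ℕ) :
    tilde (ModuleCat.of R (Fin n → R)) ≅ freeN (Spec R).sheaf n :=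
  (tilde.functor R).mapIso (ModuleCat.biproductIsoPi (fun _ : Fin n => ModuleCat.of R R)).symm ≪≫
    (tilde.functor R).mapBiproduct (fun _ : Fin n => ModuleCat.of R R) ≪≫
    biproduct.mapIso (fun _ : Fin n => tildeSelf)

local instance hsh' (F : (Spec R).Modules) : ModSite.HasSheafHom (O := (Spec R).sheaf) F :=
  Groth.Agent.Lib.Helper1.TensorAdj.hasSheafHom (Spec R).sheaf F

/-- quasi-coherence of `ℋom(F, G)` from an exact sequence `E₁ ⟶ E₀ ⟶ F ⟶ 0` with `E_i` finite free -/
theorem isQC_sheafHom' {X : Scheme.{u}} (S : ShortComplex (ModSite.Mod X.sheaf)) (hS : S.Exact)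
    [Epi S.g] {n m : ℕ} (e₂ : S.X₂ ≅ freeN X.sheaf n) (e₁ : S.X₁ ≅ freeN X.sheaf m)
    [ModSite.HasSheafHom (O := X.sheaf) S.X₁] [ModSite.HasSheafHom (O := X.sheaf) S.X₂]
    [ModSite.HasSheafHom (O := X.sheaf) S.X₃]
    (G : X.Modules) (hG : G.IsQuasicoherent) :
    (show X.Modules from ((ModSite.sheafHom (O := X.sheaf) S.X₃).obj G)).IsQuasicoherent := by
  have hm := SheafHomExact.mono_sheafHomMap_app X.sheaf S G
  have he := SheafHomExact.exact_sheafHomMap_app X.sheaf S G hS
  haveI : Mono (ShortComplex.mk _ _ (SheafHomExact.sheafHomMap_comp_app X.sheaf S G)).f := hm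
  let e : (ModSite.sheafHom (O := X.sheaf) S.X₃).obj G ≅
      kernel ((ExtSupp.sheafHomMap (O := X.sheaf) S.f).app G) :=
    he.fIsKernel.conePointUniqueUpToIso (limit.isLimit _)
  have h2 : (show X.Modules from
      ((ModSite.sheafHom (O := X.sheaf) S.X₂).obj G)).IsQuasicoherent :=
    isQC_of_iso ((sheafHomFreeIso e₂).app G).symm (isQC_Pn n G hG)
  have h1 : (show X.Modules from
      ((ModSite.sheafHom (O := X.sheaf) S.X₁).obj G)).IsQuasicoherent :=
    isQC_of_iso ((sheafHomFreeIso e₁).app G).symm (isQC_Pn m G hG)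
  exact isQC_of_iso e.symm (isQC_kernel h2 h1 _)

/-- **`ℋom(M~, N~)` is quasi-coherent for `M` finitely presented** -/
theorem isQC_homMod_tilde (M N : ModuleCat.{u} R) [Module.FinitePresentation R M] :
    (homMod (tilde M) (tilde N)).IsQuasicoherent := by
  obtain ⟨n, m, f, g, hf, hfg⟩ := Module.FinitePresentation.exists_fin' R M
  let S₀ : ShortComplex (ModuleCat.{u} R) :=
    ShortComplex.mk (ModuleCat.ofHom g) (ModuleCat.ofHom (Y := M) f) (by
      apply ModuleCat.hom_ext
      apply LinearMap.ext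
      intro x
      exact hfg.apply_apply_eq_zero x)
  have hS₀ : S₀.Exact := (ShortComplex.ShortExact.moduleCat_exact_iff_function_exact S₀).2 hfg
  haveI : Epi S₀.g := (ModuleCat.epi_iff_surjective _).2 hf
  haveI : PreservesFiniteLimits (tilde.functor R) := (Groth.Agent.S9498.main R).1
  let S' : ShortComplex (Spec R).Modules := S₀.map (tilde.functor R)
  have hS' : S'.Exact := hS₀.map (tilde.functor R)
  haveI : Epi S'.g := inferInstanceAs (Epi ((tilde.functor R).map S₀.g))
  let S : ShortComplex (ModSite.Mod (Spec R).sheaf) := S'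
  have hS : S.Exact := hS'
  haveI : Epi S.g := inferInstanceAs (Epi S'.g)
  have h := isQC_sheafHom' S hS (n := n) (m := m)
    (show S.X₂ ≅ _ from tildePiIso (R := R) n) (show S.X₁ ≅ _ from tildePiIso (R := R) m)
    (tilde N) inferInstance
  exact isQC_of_iso ((HomDualExt.msIso (tilde M)).app (tilde N)) h

end Groth.Agent.Lib.Helper6.TildeHom
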