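import Groth.Agent.Lib.Helper6.TildeExtA
import Groth.Agent.Lib.Helper6.TildeHomC
import Groth.Agent.Lib.Helper6.SheafHomNat
import Groth.Agent.Lib.Helper6.ExtShLES
import Groth.Agent.Lib.Helper6.FinFreeExt
import Groth.Agent.Lib.Helper6.RDSes
import Mathlib

/-!
# `ℰxt^i(M~, N~) ≅ Ext^i_R(M, N)~` for `M` finite over a Noetherian ring (helper6)
-/

set_option autoImplicit false
set_option linter.style.haveILetI false
set_option linter.unusedSectionVars false
set_option linter.unusedVariables false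
set_option backward.isDefEq.respectTransparency.types false

universe u

open CategoryTheory CategoryTheory.Limits AlgebraicGeometry Opposite TopologicalSpace

noncomputable section

namespace Groth.Agent.Lib.Helper6.TildeExt

open Groth.Agent.Lib.Helper28 Groth.Agent.Lib.Helper28.QCohLoc Groth.Agent.Lib.Helper28.HomMod
  Groth.Agent.Lib.Helper6.HomAdj Groth.Agent.Lib.Helper6.HomBC Groth.Agent.Lib.Helper6.HomDualCorep
  Groth.Agent.Lib.Helper6.FinFreeExt Groth.Agent.Lib.Helper6.ExtShQCoh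
  Groth.Agent.Lib.Helper6.DeltaCompareRel Groth.Agent.Lib.Helper6.TildeHom
  Groth.Agent.Lib.Helper6.SheafHomNat

lemma four_squares {C : Type*} [Category C] {A₀ A₁ A₂ A₃ A₄ B₀ B₁ B₂ B₃ B₄ : C}
    {a₀ : A₀ ⟶ B₀} {a₁ : A₁ ⟶ B₁} {a₂ : A₂ ⟶ B₂} {a₃ : A₃ ⟶ B₃} {a₄ : A₄ ⟶ B₄}
    {f₁ : A₀ ⟶ A₁} {f₂ : A₁ ⟶ A₂} {f₃ : A₂ ⟶ A₃} {f₄ : A₃ ⟶ A₄}
    {g₁ : B₀ ⟶ B₁} {g₂ : B₁ ⟶ B₂} {g₃ : B₂ ⟶ B₃} {g₄ : B₃ ⟶ B₄}
    (h1 : a₀ ≫ g₁ = f₁ ≫ a₁) (h2 : a₁ ≫ g₂ = f₂ ≫ a₂) (h3 : a₂ ≫ g₃ = f₃ ≫ a₃)
    (h4 : a₃ ≫ g₄ = f₄ ≫ a₄) :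
    a₀ ≫ g₁ ≫ g₂ ≫ g₃ ≫ g₄ = f₁ ≫ f₂ ≫ f₃ ≫ f₄ ≫ a₄ := by
  rw [reassoc_of% h1, reassoc_of% h2, reassoc_of% h3, h4]

section Zero

variable {X : Scheme.{u}} [HasInjectiveResolutions (ModSite.Mod X.sheaf)]

/-- `R⁰ℋom(E, -) ≅ ℋom(E, -)` -/
def rd0Iso (E P : X.Modules) [ModSite.HasSheafHom (O := X.sheaf) E] :
    (ModSite.extSh (O := X.sheaf) E 0).obj P ≅ (ModSite.sheafHom (O := X.sheaf) E).obj P :=
  haveI : PreservesFiniteLimits (ModSite.sheafHom (O := X.sheaf) E) :=
    (ModSite.sheafHomAdj E).rightAdjoint_preservesLimits.{0, 0}.preservesFiniteLimits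
  (asIso ((ModSite.sheafHom (O := X.sheaf) E).toRightDerivedZero.app P)).symm

theorem rd0Iso_naturality {E E' : X.Modules} [ModSite.HasSheafHom (O := X.sheaf) E]
    [ModSite.HasSheafHom (O := X.sheaf) E'] (v : E' ⟶ E) (P : X.Modules) :
    (NatTrans.rightDerived (ExtSupp.sheafHomMap (O := X.sheaf) v) 0).app P ≫ (rd0Iso E' P).hom =
      (rd0Iso E P).hom ≫ (ExtSupp.sheafHomMap (O := X.sheaf) v).app P := by
  haveI : PreservesFiniteLimits (ModSite.sheafHom (O := X.sheaf) E) :=
    (ModSite.sheafHomAdj E).rightAdjoint_preservesLimits.{0, 0}.preservesFiniteLimits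
  haveI : PreservesFiniteLimits (ModSite.sheafHom (O := X.sheaf) E') :=
    (ModSite.sheafHomAdj E').rightAdjoint_preservesLimits.{0, 0}.preservesFiniteLimits
  have hnat := congrArg (fun t => t.app P)
    (RDSes.toRightDerivedZero_naturality (β := ExtSupp.sheafHomMap (O := X.sheaf) v))
  simp only [NatTrans.comp_app] at hnat
  unfold rd0Iso
  simp only [Iso.symm_hom, asIso_inv]
  rw [IsIso.comp_inv_eq, Category.assoc, hnat, IsIso.inv_hom_id_assoc]

end Zero

variable {R : CommRingCat.{u}}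

attribute [local instance] Abelian.hasFiniteBiproducts

local instance hsh'' (F : (Spec R).Modules) : ModSite.HasSheafHom (O := (Spec R).sheaf) F :=
  Groth.Agent.Lib.Helper1.TensorAdj.hasSheafHom (Spec R).sheaf F

variable [HasInjectiveResolutions (ModSite.Mod (Spec R).sheaf)]

/-- `ℰxt^n(M~, N~)` -/
def extShT (N M : ModuleCat.{u} R) (n : ℕ) : (Spec R).Modules :=
  (ModSite.extSh (O := (Spec R).sheaf) (tilde M) n).obj (tilde N)

/-- `Ext^n(M, N)~` -/
def tildeExt (N M : ModuleCat.{u} R) (n : ℕ) : (Spec R).Modules :=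
  (tilde.functor R).obj (extMod N M n)

/-- the degree zero comparison -/
def θ (N M : ModuleCat.{u} R) [(homMod (tilde M) (tilde N)).IsQuasicoherent] :
    extShT N M 0 ≅ tildeExt N M 0 :=
  rd0Iso (tilde M) (tilde N) ≪≫ (msIso' (tilde M)).app (tilde N) ≪≫ isoOfQC M N ≪≫
    (tilde.functor R).mapIso (ext0Iso M N)

theorem θ_naturality (N : ModuleCat.{u} R) {M M' : ModuleCat.{u} R} (g : M' ⟶ M)
    [(homMod (tilde M) (tilde N)).IsQuasicoherent]
    [(homMod (tilde M') (tilde N)).IsQuasicoherent] :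
    (NatTrans.rightDerived (ExtSupp.sheafHomMap (O := (Spec R).sheaf) (tilde.map g)) 0).app (tilde N) ≫
        (θ N M').hom =
      (θ N M).hom ≫ (tilde.functor R).map (extPre N g 0) := by
  have h1 := rd0Iso_naturality (tilde.map g) (tilde N)
  have h2 := msIso'_naturality_app (tilde.map g) (tilde N)
  have h3 := isoOfQC_naturality N g
  have h4 : (tilde.functor R).map (precomp N g) ≫ (tilde.functor R).map (ext0Iso M' N).hom =
      (tilde.functor R).map (ext0Iso M N).hom ≫ (tilde.functor R).map (extPre N g 0) := by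
    rw [← Functor.map_comp, ← Functor.map_comp]
    congr 1
    exact ext0Iso_naturality N g
  unfold θ
  simp only [Iso.trans_hom, Functor.mapIso_hom, Iso.app_hom, Category.assoc]
  exact four_squares h1 h2 h3.symm h4

section Shift

variable (S₀ : ShortComplex (ModuleCat.{u} R)) (hS₀ : S₀.ShortExact) (N : ModuleCat.{u} R)

/-- the image of a short complex of modules under `~` -/
def tS' : ShortComplex (Spec R).Modules :=
  haveI : PreservesFiniteLimits (tilde.functor R) := (Groth.Agent.S9498.main R).1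
  S₀.map (tilde.functor R)

/-- the image of a short complex of modules under `~` -/
def tS : ShortComplex (ModSite.Mod (Spec R).sheaf) := tS' S₀

include hS₀ in
lemma tS_shortExact : (tS S₀).ShortExact := by
  haveI : PreservesFiniteLimits (tilde.functor R) := (Groth.Agent.S9498.main R).1
  have : (tS' S₀).ShortExact := hS₀.map_of_exact (tilde.functor R)
  exact this

/-- dimension shifting data for `ℰxt(-~, N~)` along `0 ⟶ K ⟶ R^m ⟶ M ⟶ 0` -/
def shiftDataSh {m : ℕ} (e : S₀.X₂ ≅ ModuleCat.of R (Fin m → R)) :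
    ShiftData (fun n => extShT N S₀.X₃ n) (fun n => extShT N S₀.X₂ n)
      (fun n => extShT N S₀.X₁ n) where
  zero n := isZero_extSh_of_iso_free (O := (Spec R).sheaf) (M := tilde S₀.X₂)
    ((tilde.functor R).mapIso e ≪≫ tildePiIso m) n (tilde N)
  a n := ExtShLES.b (tS S₀) (tilde N) n
  δ n := ExtShLES.δ (tS S₀) (tS_shortExact S₀ hS₀) (tilde N) n
  w n := ExtShLES.b_δ (tS S₀) (tS_shortExact S₀ hS₀) (tilde N) n
  exact n := ExtShLES.exact_b_δ (tS S₀) (tS_shortExact S₀ hS₀) (tilde N) n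
  epi n := (ExtShLES.exact_δ_a (tS S₀) (tS_shortExact S₀ hS₀) (tilde N) n).epi_f
    ((isZero_extSh_of_iso_free (O := (Spec R).sheaf) (M := tilde S₀.X₂)
      ((tilde.functor R).mapIso e ≪≫ tildePiIso m) n (tilde N)).eq_of_tgt _ _)

end Shift

/-- **`ℰxt^n(M~, N~) ≅ Ext^n_R(M, N)~`** for `M` finite over a Noetherian ring -/
theorem nonempty_extShT_iso_tildeExt [IsNoetherianRing R] (N : ModuleCat.{u} R) (n : ℕ)
    (M : ModuleCat.{u} R) (hM : Module.Finite R M) :
    Nonempty (extShT N M n ≅ tildeExt N M n) := by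
  haveI : PreservesFiniteLimits (tilde.functor R) := (Groth.Agent.S9498.main R).1
  refine delta_compare (fun n M => extShT N M n) (fun n M => tildeExt N M n)
    (fun M => Module.Finite R M) ?_ ?_ n M hM
  · intro M hM
    haveI : Module.FinitePresentation R M := Module.finitePresentation_of_finite R M
    haveI := isQC_homMod_tilde M N
    exact ⟨θ N M⟩
  · intro M hM
    obtain ⟨m, f, hf⟩ := Module.Finite.exists_fin' R M
    let S₀ : ShortComplex (ModuleCat.{u} R) :=
      ShortComplex.mk (ModuleCat.ofHom (LinearMap.ker f).subtype) (ModuleCat.ofHom (Y := M) f) (by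
        apply ModuleCat.hom_ext
        apply LinearMap.ext
        intro x
        exact x.2)
    have hS₀ : S₀.ShortExact := by
      refine ShortComplex.ShortExact.mk' ?_ ?_ ?_
      · rw [ShortComplex.ShortExact.moduleCat_exact_iff_function_exact]
        intro y
        constructor
        · intro hy
          exact ⟨⟨y, hy⟩, rfl⟩
        · rintro ⟨x, rfl⟩
          exact x.2
      · exact (ModuleCat.mono_iff_injective _).2 (Submodule.injective_subtype _)
      · exact (ModuleCat.epi_iff_surjective _).2 hf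
    haveI : Projective S₀.X₂ :=
      (IsProjective.iff_projective (R := R) (Fin m → R)).1 inferInstance
    have hK : Module.Finite R (LinearMap.ker f) := by
      haveI : IsNoetherian R (Fin m → R) := inferInstance
      infer_instance
    haveI : Module.FinitePresentation R (S₀.X₂) :=
      inferInstanceAs (Module.FinitePresentation R (Fin m → R))
    haveI : Module.FinitePresentation R (S₀.X₁) :=
      Module.finitePresentation_of_finite R (LinearMap.ker f)
    haveI := isQC_homMod_tilde S₀.X₂ N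
    haveI := isQC_homMod_tilde S₀.X₁ N
    refine ⟨S₀.X₂, S₀.X₁, hK, shiftDataSh S₀ hS₀ N (Iso.refl _),
      (shiftData hS₀ N).map (tilde.functor R), θ N S₀.X₂, θ N S₀.X₁, ?_⟩
    exact θ_naturality N S₀.f

end Groth.Agent.Lib.Helper6.TildeExt
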