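import Mathlib.CategoryTheory.Functor.OfSequence
import Mathlib.Order.WithBotTop
import Mathlib.CategoryTheory.Limits.Shapes.ZeroMorphisms
import Mathlib.Order.Category.Preord
import Mathlib.Data.Int.Basic

open CategoryTheory Limits

set_option linter.unusedSectionVars false

namespace Groth.Agent.Lib.Helper6.TowerFunctor

/-- the level of an extended integer -/
def lvl : EInt → WithTop ℕ
  | ⊥ => ((0 : ℕ) : WithTop ℕ)
  | (n : ℤ) => ((n.toNat : ℕ) : WithTop ℕ)
  | ⊤ => ⊤

@[simp] lemma lvl_bot : lvl ⊥ = ((0 : ℕ) : WithTop ℕ) := rfl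
@[simp] lemma lvl_coe (n : ℤ) : lvl (n : EInt) = ((n.toNat : ℕ) : WithTop ℕ) := rfl
@[simp] lemma lvl_top : lvl ⊤ = ⊤ := rfl

lemma lvl_mono : Monotone lvl := by
  intro i j hij
  induction i using WithBotTop.rec with
  | bot =>
    induction j using WithBotTop.rec with
    | bot => exact le_rfl
    | coe m => simp
    | top => simp
  | coe n =>
    induction j using WithBotTop.rec with
    | bot => simp at hij
    | coe m =>
      rw [WithBotTop.coe_le_coe] at hij
      simp only [lvl_coe, WithTop.coe_le_coe]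
      exact Int.toNat_le_toNat hij
    | top => simp
  | top =>
    induction j using WithBotTop.rec with
    | bot => simp at hij
    | coe m => simp at hij
    | top => exact le_rfl

variable {𝒞 : Type*} [Category 𝒞] [HasZeroObject 𝒞] [HasZeroMorphisms 𝒞] (G : ℕ ⥤ 𝒞)

open ZeroObject

/-- extension by zero at `⊤`, on objects -/
noncomputable def objT : WithTop ℕ → 𝒞
  | ⊤ => 0
  | (n : ℕ) => G.obj n

/-- extension by zero at `⊤`, on maps -/
noncomputable def mapT : ∀ (i j : WithTop ℕ), i ≤ j → (objT G i ⟶ objT G j)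
  | _, ⊤, _ => 0
  | (m : ℕ), (n : ℕ), h => G.map (homOfLE (WithTop.coe_le_coe.1 h))
  | ⊤, (n : ℕ), h => False.elim (by simp at h)

@[simp] lemma objT_top : objT G ⊤ = 0 := rfl
@[simp] lemma objT_coe (n : ℕ) : objT G (n : WithTop ℕ) = G.obj n := rfl

lemma mapT_top (i : WithTop ℕ) (h : i ≤ ⊤) : mapT G i ⊤ h = 0 := by
  cases i <;> rfl

lemma mapT_coe (m n : ℕ) (h : (m : WithTop ℕ) ≤ (n : WithTop ℕ)) :
    mapT G m n h = G.map (homOfLE (WithTop.coe_le_coe.1 h)) := rfl

/-- extension by zero at `⊤` -/
noncomputable def extT : WithTop ℕ ⥤ 𝒞 where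
  obj := objT G
  map f := mapT G _ _ (leOfHom f)
  map_id i := by
    cases i with
    | top => exact (isZero_zero 𝒞).eq_of_src _ _
    | coe n =>
      rw [mapT_coe]
      exact G.map_id n
  map_comp {i j k} f g := by
    cases k with
    | top =>
      rw [mapT_top, mapT_top, comp_zero]
    | coe c =>
      cases j with
      | top => exact False.elim (by simpa using leOfHom g)
      | coe b =>
        cases i with
        | top => exact False.elim (by simpa using leOfHom f)
        | coe a =>
          exact (congrArg G.map (Subsingleton.elim _ _)).trans (G.map_comp _ _)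

/-- the tower functor on `EInt` -/
noncomputable def towerFunctor : EInt ⥤ 𝒞 := lvl_mono.functor ⋙ extT G

lemma towerFunctor_obj_top : (towerFunctor G).obj ⊤ = 0 := rfl
lemma towerFunctor_obj_bot : (towerFunctor G).obj ⊥ = G.obj 0 := rfl
lemma towerFunctor_obj_coe (n : ℤ) : (towerFunctor G).obj (n : EInt) = G.obj n.toNat := rfl

lemma towerFunctor_map_coe (m n : ℤ) (h : (m : EInt) ≤ (n : EInt)) :
    (towerFunctor G).map (homOfLE h) =
      G.map (homOfLE (Int.toNat_le_toNat (WithBotTop.coe_le_coe.1 h))) := rfl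

lemma towerFunctor_map_bot_coe (n : ℤ) :
    (towerFunctor G).map (homOfLE (bot_le : (⊥ : EInt) ≤ (n : EInt))) =
      G.map (homOfLE (Nat.zero_le _)) := rfl

end Groth.Agent.Lib.Helper6.TowerFunctor
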