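import Groth.Agent.Lib.Helper6.SpecObjHomol
import Groth.Agent.Lib.Helper6.TowerFunctor
import Groth.Agent.Lib.Helper6.SpecObjFQ
import Mathlib.Algebra.Homology.HomotopyCategory.SpectralObject
import Mathlib.Algebra.Homology.HomotopyCategory.HomologicalFunctor
import Mathlib.Algebra.Homology.HomotopyCategory.ShiftSequence
import Mathlib.Algebra.Homology.HomotopyCategory.Plus

universe v u

open CategoryTheory Limits ComposableArrows

namespace Groth.Agent.Lib.Helper6.TowerSO

open SpecObjHomol TowerFunctor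

variable {𝒜 : Type u} [Category.{v} 𝒜] [Abelian 𝒜] (L : ℕ → CochainComplex 𝒜 ℤ)
  (ψ : ∀ q, L q ⟶ L (q + 1))

/-- the tower as a functor on `EInt` -/
noncomputable def F : EInt ⥤ CochainComplex 𝒜 ℤ := towerFunctor (Functor.ofSequence ψ)

/-- the spectral object of a tower of complexes -/
noncomputable def specObj : Abelian.SpectralObject 𝒜 EInt :=
  mapHomological ((HomotopyCategory.spectralObjectMappingCone 𝒜).precomp (F L ψ))
    (HomotopyCategory.homologyFunctor 𝒜 (ComplexShape.up ℤ) 0) (-1)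

/-- the terms of the spectral object -/
noncomputable def HIso (n : ℤ) {i j : EInt} (f : i ⟶ j) :
    ((specObj L ψ).H n).obj (mk₁ f) ≅
      (CochainComplex.mappingCone ((F L ψ).map f)).homology (n + -1) :=
  (HomotopyCategory.homologyFunctorFactors 𝒜 (ComplexShape.up ℤ) (n + -1)).app _

lemma isZero_H_of_isIso (n : ℤ) {i j : EInt} (f : i ⟶ j) (h : IsIso ((F L ψ).map f)) :
    IsZero (((specObj L ψ).H n).obj (mk₁ f)) := by
  have hT := HomotopyCategory.mappingCone_triangleh_distinguished ((F L ψ).map f)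
  have h1 : IsIso (CochainComplex.mappingCone.triangleh ((F L ψ).map f)).mor₁ := by
    change IsIso ((HomotopyCategory.quotient _ _).map ((F L ψ).map f))
    infer_instance
  have hz := (Pretriangulated.Triangle.isZero₃_iff_isIso₁ _ hT).2 h1
  exact ((HomotopyCategory.homologyFunctor 𝒜 (ComplexShape.up ℤ) (n + -1)).map_isZero hz)

lemma isIso_F_map {i j : EInt} (f : i ⟶ j) (h : lvl j ≤ lvl i) : IsIso ((F L ψ).map f) := by
  have : IsIso (lvl_mono.functor.map f) :=
    ⟨⟨homOfLE h, Subsingleton.elim _ _, Subsingleton.elim _ _⟩⟩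
  dsimp only [F, towerFunctor, Functor.comp_map]
  infer_instance

/-- the abutment of the spectral object of a tower -/
lemma nonempty_abutIso (n : ℤ) :
    Nonempty (((specObj L ψ).H n).obj (mk₁ (homOfLE (bot_le : (⊥ : EInt) ≤ ⊤))) ≅
      (L 0).homology n) := by
  let f : L 0 ⟶ (F L ψ).obj ⊤ := (F L ψ).map (homOfLE (bot_le : (⊥ : EInt) ≤ ⊤))
  have hT := HomotopyCategory.mappingCone_triangleh_distinguished f
  have hz : IsZero (CochainComplex.mappingCone.triangleh f).obj₂ :=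
    (HomotopyCategory.quotient 𝒜 (ComplexShape.up ℤ)).map_isZero
      (isZero_zero (CochainComplex 𝒜 ℤ))
  have h3 : IsIso (CochainComplex.mappingCone.triangleh f).mor₃ :=
    (Pretriangulated.Triangle.isZero₂_iff_isIso₃ _ hT).1 hz
  let e₁ := (HomotopyCategory.homologyFunctor 𝒜 (ComplexShape.up ℤ) (n + -1)).mapIso
    (asIso (CochainComplex.mappingCone.triangleh f).mor₃)
  let e₂ := ((HomotopyCategory.homologyFunctor 𝒜 (ComplexShape.up ℤ) 0).shiftIso 1 (n + -1) n
    (by lia)).app ((HomotopyCategory.quotient 𝒜 (ComplexShape.up ℤ)).obj (L 0))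
  let e₃ := (HomotopyCategory.homologyFunctorFactors 𝒜 (ComplexShape.up ℤ) n).app (L 0)
  exact ⟨e₁ ≪≫ e₂ ≪≫ e₃⟩

/-- the `E₂`-terms of the spectral object of a tower -/
lemma nonempty_E₂Iso (n : ℤ) (k : ℕ) :
    Nonempty (((specObj L ψ).H n).obj (mk₁ (homOfLE (SpecObjFQ.coe_le_succ (k : ℤ)))) ≅
      (CochainComplex.mappingCone (ψ k)).homology (n + -1)) := by
  have h : (F L ψ).map (homOfLE (SpecObjFQ.coe_le_succ (k : ℤ))) = ψ k :=
    Functor.ofSequence_map_homOfLE_succ ψ k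
  refine ⟨HIso L ψ n _ ≪≫ ?_⟩
  exact eqToIso (by rw [h]; rfl)

variable (hL : ∀ q, (L q).IsStrictlyGE q)

include hL in
lemma isStrictlyGE_F_obj (i : EInt) (n : ℤ) (h : (n : EInt) ≤ i) :
    ((F L ψ).obj i).IsStrictlyGE n := by
  induction i using WithBotTop.rec with
  | bot => simp at h
  | coe m =>
    rw [WithBotTop.coe_le_coe] at h
    have := hL m.toNat
    change (L m.toNat).IsStrictlyGE n
    exact CochainComplex.isStrictlyGE_of_ge _ n (m.toNat : ℤ) (by lia)
  | top =>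
    rw [CochainComplex.isStrictlyGE_iff]
    intro k _
    exact (HomologicalComplex.eval 𝒜 (ComplexShape.up ℤ) k).map_isZero
      (isZero_zero (CochainComplex 𝒜 ℤ))

include hL in
lemma isFirstQuadrant : (specObj L ψ).IsFirstQuadrant where
  isZero₁ i j hij hj n := by
    apply isZero_H_of_isIso
    apply isIso_F_map
    have h1 : lvl j ≤ lvl ((0 : ℤ) : EInt) := lvl_mono hj
    have h2 : lvl ((0 : ℤ) : EInt) ≤ lvl i := by
      simp only [lvl_coe, Int.toNat_zero]
      exact lvl_mono (bot_le : (⊥ : EInt) ≤ i)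
    exact h1.trans h2
  isZero₂ i j hij n hi := by
    refine (HIso L ψ n (homOfLE hij)).isZero_iff.2 ?_
    have hi' : (((n + 1 : ℤ) : ℤ) : EInt) ≤ i := by
      induction i using WithBotTop.rec with
      | bot => simp at hi
      | coe m =>
        rw [WithBotTop.coe_lt_coe] at hi
        rw [WithBotTop.coe_le_coe]
        lia
      | top => exact le_top
    have := isStrictlyGE_F_obj L ψ hL i (n + 1) hi'
    have := isStrictlyGE_F_obj L ψ hL j (n + 1) (hi'.trans hij)
    have := CochainComplex.isStrictlyGE_mappingCone ((F L ψ).map (homOfLE hij)) (n + 1) (n + 1) n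
    exact (HomologicalComplex.exactAt_iff_isZero_homology _ _).1
      (HomologicalComplex.ExactAt.of_isZero
        (CochainComplex.isZero_of_isStrictlyGE _ n _ (by lia)))

include hL in
/-- **The spectral sequence of a tower of complexes** -/
theorem exists_spectralSequence (H' : ℤ → 𝒜) (e : ∀ n, (L 0).homology n ≅ H' n)
    (E2 : ℤ → ℤ → 𝒜)
    (hE2 : ∀ (k : ℕ) (p : ℤ), 0 ≤ p →
      Nonempty ((CochainComplex.mappingCone (ψ k)).homology (p + k + -1) ≅ E2 p k))
    (hE2z : ∀ p q : ℤ, ¬ (0 ≤ p ∧ 0 ≤ q) → IsZero (E2 p q)) :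
    ∃ (E : E₂CohomologicalSpectralSequence 𝒜) (a : SpSeq.Abutment E H'),
      (∀ n, a.IsFinite n) ∧ SpSeq.IsBounded E ∧
      ∀ p q : ℤ, Nonempty ((E.page 2 le_rfl).X (p, q) ≅ E2 p q) := by
  have := isFirstQuadrant L ψ hL
  have e' : ∀ n, ((specObj L ψ).H n).obj (mk₁ (homOfLE (bot_le : (⊥ : EInt) ≤ ⊤))) ≅ H' n :=
    fun n => (nonempty_abutIso L ψ n).some ≪≫ e n
  refine ⟨(specObj L ψ).E₂SpectralSequence, SpecObjFQ.abutment (specObj L ψ) H' e',
    SpecObjFQ.abutment_isFinite (specObj L ψ) H' e', SpecObjFQ.isBounded (specObj L ψ), ?_⟩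
  intro p q
  by_cases h : 0 ≤ p ∧ 0 ≤ q
  · obtain ⟨hp, hq⟩ := h
    obtain ⟨k, rfl⟩ := Int.eq_ofNat_of_zero_le hq
    obtain ⟨e₁⟩ := SpecObjFQ.nonempty_E₂_iso (specObj L ψ) p (k : ℤ)
    obtain ⟨e₂⟩ := nonempty_E₂Iso L ψ (p + k) k
    obtain ⟨e₃⟩ := hE2 k p hp
    exact ⟨e₁ ≪≫ e₂ ≪≫ e₃⟩
  · exact ⟨(SpecObjFQ.isZero_page (specObj L ψ) 2 le_rfl p q (by lia)).iso (hE2z p q h)⟩

end Groth.Agent.Lib.Helper6.TowerSO
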