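import Groth.Agent.Lib.Helper6.WeaklyContr
import Mathlib.CategoryTheory.Abelian.GrothendieckAxioms.Basic
import Mathlib.CategoryTheory.Limits.FunctorCategory.EpiMono

/-!
# AB4* for abelian sheaves on a site with enough weakly contractible objects (helper6)
-/

universe u
open CategoryTheory Limits Opposite Abelian

namespace Groth.Agent.Lib.Helper6.WCAB4

open SheafCoh WeaklyContr

variable {C : Type u} [SmallCategory C] (J : GrothendieckTopology C)

/-- lifting sections of a product over a weakly contractible object -/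
lemma exists_lift {T : Type u} {F G : Discrete T ⥤ Sheaf J AddCommGrpCat.{u}} (φ : F ⟶ G)
    [hφ : Epi φ] {U : C} (hU : CohSite.IsWeaklyContractible J U)
    (s : (limit G).obj.obj (op U)) :
    ∃ x : (limit F).obj.obj (op U), (limMap φ).hom.app (op U) x = s := by
  have hφt : ∀ t, Epi (φ.app t) := (NatTrans.epi_iff_epi_app φ).1 hφ
  let σ := (homEquiv J U _).symm s
  have hl : ∀ t, ∃ a : Zfree J U ⟶ F.obj t, a ≫ φ.app t = σ ≫ limit.π G t := by
    intro t
    obtain ⟨x, hx⟩ := surjective_of_epi J hU (φ.app t) (homEquiv J U _ (σ ≫ limit.π G t))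
    refine ⟨(homEquiv J U _).symm x, ?_⟩
    apply (homEquiv J U _).injective
    rw [homEquiv_naturality_right, Equiv.apply_symm_apply, hx]
  choose a ha using hl
  let c : Cone F := ⟨Zfree J U, Discrete.natTrans fun t => a t⟩
  refine ⟨homEquiv J U _ (limit.lift F c), ?_⟩
  rw [← homEquiv_naturality_right]
  have : limit.lift F c ≫ limMap φ = σ := by
    apply limit.hom_ext
    intro t
    simp [c, ha]
  rw [this]
  exact Equiv.apply_symm_apply _ _

theorem preservesEpi (B : Set C) (hB : ∀ U ∈ B, CohSite.IsWeaklyContractible J U)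
    (hcov : ∀ V : C, ∃ (ι : Type u) (U : ι → C) (f : ∀ i, U i ⟶ V),
      (∀ i, U i ∈ B) ∧ Sieve.ofArrows U f ∈ J V) (T : Type u) :
    (lim (J := Discrete T) (C := Sheaf J AddCommGrpCat.{u})).PreservesEpimorphisms where
  preserves {F G} φ hφ := by
    change Epi (limMap φ)
    apply (Sheaf.isLocallySurjective_iff_epi' (φ := limMap φ)).1
    constructor
    intro V s
    obtain ⟨ι, U, f, hUB, hc⟩ := hcov V
    refine J.superset_covering ?_ hc
    rintro W g ⟨Z, h, _, ⟨i⟩, rfl⟩
    obtain ⟨x, hx⟩ := exists_lift J φ (hB _ (hUB i)) ((limit G).obj.map (f i).op s)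
    refine ⟨(limit F).obj.map h.op x, ?_⟩
    rw [NatTrans.naturality_apply, hx, op_comp, Functor.map_comp]
    rfl

theorem ab4Star (B : Set C) (hB : ∀ U ∈ B, CohSite.IsWeaklyContractible J U)
    (hcov : ∀ V : C, ∃ (ι : Type u) (U : ι → C) (f : ∀ i, U i ⟶ V),
      (∀ i, U i ∈ B) ∧ Sieve.ofArrows U f ∈ J V) :
    AB4Star (Sheaf J AddCommGrpCat.{u}) where
  ofShape T := by
    have := preservesEpi J B hB hcov T
    exact hasExactLimitsOfShape_of_preservesEpi _ _

end Groth.Agent.Lib.Helper6.WCAB4
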