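import Groth.Prelude.Def_CohSite
import Groth.Agent.Lib.Helper6.SheafCoh
import Mathlib.CategoryTheory.Sites.EpiMono
import Mathlib.Algebra.Homology.ShortComplex.ExactFunctor

/-!
# Weakly contractible objects (helper6)
-/

universe u
open CategoryTheory Limits Opposite Abelian

namespace Groth.Agent.Lib.Helper6.WeaklyContr

open SheafCoh

variable {C : Type u} [SmallCategory C] (J : GrothendieckTopology C)

/-- over a weakly contractible object, epimorphisms of abelian sheaves are surjective on sections -/
lemma surjective_of_epi {U : C} (hU : CohSite.IsWeaklyContractible J U)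
    {F G : Sheaf J AddCommGrpCat.{u}} (φ : F ⟶ G) [hφ : Epi φ] :
    Function.Surjective (φ.hom.app (op U)) := by
  have hls : Sheaf.IsLocallySurjective φ := (Sheaf.isLocallySurjective_iff_epi' (φ := φ)).2 hφ
  have hls' : Sheaf.IsLocallySurjective ((sheafCompose J (forget AddCommGrpCat.{u})).map φ) :=
    (Presheaf.isLocallySurjective_iff_whisker_forget J φ.hom).1 hls
  have hepi : Epi ((sheafCompose J (forget AddCommGrpCat.{u})).map φ) :=
    (Sheaf.isLocallySurjective_iff_epi' (φ := _)).1 hls'
  exact hU _ _ _ hepi

/-- the sections functor over `U` -/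
noncomputable abbrev Γ (U : C) : Sheaf J AddCommGrpCat.{u} ⥤ AddCommGrpCat.{u} :=
  sheafToPresheaf J AddCommGrpCat.{u} ⋙ (evaluation Cᵒᵖ AddCommGrpCat.{u}).obj (op U)

instance (U : C) : (Γ J U).Additive where

theorem preservesFiniteColimits {U : C} (hU : CohSite.IsWeaklyContractible J U) :
    PreservesFiniteColimits (Γ J U) := by
  have hlim : PreservesFiniteLimits (Γ J U) := inferInstance
  have h03 := (Γ J U).preservesFiniteColimits_tfae.out 0 3
  have h30 := (Γ J U).preservesFiniteLimits_tfae.out 3 0
  refine h03.1 fun S hS => ?_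
  refine ⟨(h30.1 hlim S hS).1, ?_⟩
  have := hS.epi_g
  exact (AddCommGrpCat.epi_iff_surjective _).2 (surjective_of_epi J hU S.g)

theorem subsingleton_HU {U : C} (hU : CohSite.IsWeaklyContractible J U)
    (F : Sheaf J AddCommGrpCat.{u}) (p : ℕ) : Subsingleton (CohSite.HU F (p + 1) U) := by
  refine ⟨fun a b => ?_⟩
  have h := ExtAcyc.ext_succ_eq_zero_of_class (Zfree J U) (fun _ => True)
    (fun S hS _ _ => ⟨trivial, fun y => by
      have := hS.epi_g
      exact ext_zero_surj_of_sections_surj J U S.g (surjective_of_epi J hU S.g) y⟩) p F trivial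
  exact (h a).trans (h b).symm

end Groth.Agent.Lib.Helper6.WeaklyContr
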