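import Mathlib.CategoryTheory.Sites.EpiMono
import Mathlib.CategoryTheory.Sites.Abelian
import Mathlib.Algebra.Category.Grp.Abelian
import Mathlib.Algebra.Homology.ShortComplex.ExactFunctor
import Mathlib.Algebra.Homology.ShortComplex.Ab

/-!
# Weakly contractible objects, general universes (helper6)
-/

universe w v u
open CategoryTheory Limits Opposite

namespace Groth.Agent.Lib.Helper6.WeaklyContrGen

variable {C : Type u} [Category.{v} C] (J : GrothendieckTopology C)
  [HasSheafify J AddCommGrpCat.{w}] [J.WEqualsLocallyBijective AddCommGrpCat.{w}]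

/-- weak contractibility w.r.t. sheaves of sets in `Type w` -/
def IsWC (U : C) : Prop :=
  ∀ (P Q : Sheaf J (Type w)) (ψ : P ⟶ Q), Epi ψ → Function.Surjective (ψ.hom.app (op U))

/-- over a weakly contractible object, epimorphisms of abelian sheaves are surjective on sections -/
lemma surjective_of_epi {U : C} (hU : IsWC.{w} J U)
    {F G : Sheaf J AddCommGrpCat.{w}} (φ : F ⟶ G) [hφ : Epi φ] :
    Function.Surjective (φ.hom.app (op U)) := by
  have hls : Sheaf.IsLocallySurjective φ := (Sheaf.isLocallySurjective_iff_epi' (φ := φ)).2 hφ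
  have hls' : Sheaf.IsLocallySurjective ((sheafCompose J (forget AddCommGrpCat.{w})).map φ) :=
    (Presheaf.isLocallySurjective_iff_whisker_forget J φ.hom).1 hls
  have hepi : Epi ((sheafCompose J (forget AddCommGrpCat.{w})).map φ) := inferInstance
  exact hU _ _ _ hepi

/-- the sections functor over `U` -/
noncomputable abbrev Γ (U : C) : Sheaf J AddCommGrpCat.{w} ⥤ AddCommGrpCat.{w} :=
  sheafToPresheaf J AddCommGrpCat.{w} ⋙ (evaluation Cᵒᵖ AddCommGrpCat.{w}).obj (op U)

instance (U : C) : (Γ J U).Additive where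

theorem preservesFiniteColimits {U : C} (hU : IsWC.{w} J U) :
    PreservesFiniteColimits (Γ.{w} J U) := by
  have hlim : PreservesFiniteLimits (Γ.{w} J U) := inferInstance
  have h03 := (Γ.{w} J U).preservesFiniteColimits_tfae.out 0 3
  have h30 := (Γ.{w} J U).preservesFiniteLimits_tfae.out 3 0
  refine h03.1 fun S hS => ?_
  refine ⟨(h30.1 hlim S hS).1, ?_⟩
  have := hS.epi_g
  exact (AddCommGrpCat.epi_iff_surjective _).2 (surjective_of_epi J hU S.g)

theorem exact_iff (B : C → Prop) (hB : ∀ U : C, B U → IsWC.{w} J U)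
    (hcov : ∀ V : C, ∃ S : Sieve V, S ∈ J V ∧ ∀ ⦃W : C⦄ (f : W ⟶ V), S.arrows f →
      ∃ (U : C) (g : W ⟶ U) (h : U ⟶ V), B U ∧ g ≫ h = f)
    (S : ShortComplex (Sheaf J AddCommGrpCat.{w})) :
    S.Exact ↔ ∀ U : C, B U → (S.map (Γ.{w} J U)).Exact := by
  constructor
  · intro hS U hU
    have h1 : PreservesFiniteLimits (Γ J U) := inferInstance
    have h2 : PreservesFiniteColimits (Γ J U) := preservesFiniteColimits J (hB U hU)
    exact hS.map (Γ J U)
  · intro h
    rw [ShortComplex.exact_iff_epi_kernel_lift]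
    apply (Sheaf.isLocallySurjective_iff_epi' (φ := kernel.lift S.g S.f S.zero)).1
    constructor
    intro V y
    obtain ⟨R, hR, hR'⟩ := hcov V
    refine J.superset_covering ?_ hR
    intro W f hf
    obtain ⟨U, g, k, hU, rfl⟩ := hR' f hf
    have hex := h U hU
    rw [ShortComplex.ab_exact_iff] at hex
    have hmono : Mono ((Γ J U).map (kernel.ι S.g)) := inferInstance
    have hinj : Function.Injective ((kernel.ι S.g).hom.app (op U)) :=
      (AddCommGrpCat.mono_iff_injective _).1 hmono
    obtain ⟨x, hx⟩ := hex ((kernel.ι S.g).hom.app (op U) ((kernel S.g).obj.map k.op y)) (by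
      change (S.g.hom.app (op U)) ((kernel.ι S.g).hom.app (op U) _) = 0
      rw [← ConcreteCategory.comp_apply, ← NatTrans.comp_app, ← ObjectProperty.FullSubcategory.comp_hom,
        kernel.condition]
      rfl)
    change S.f.hom.app (op U) x = _ at hx
    have hx' : (kernel.lift S.g S.f S.zero).hom.app (op U) x = (kernel S.g).obj.map k.op y := by
      apply hinj
      rw [← hx, ← ConcreteCategory.comp_apply, ← NatTrans.comp_app, ← ObjectProperty.FullSubcategory.comp_hom,
        kernel.lift_ι]
    refine ⟨S.X₁.obj.map g.op x, ?_⟩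
    rw [NatTrans.naturality_apply, hx', op_comp, Functor.map_comp]
    rfl

end Groth.Agent.Lib.Helper6.WeaklyContrGen
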