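import Groth.Prelude.Def_WeilCoh

/-!
# Formal calculus in a Weil cohomology theory (Def_WeilCoh)

Consequences of the axioms of `WeilCoh.TheoryOn` that need no geometry.
-/

set_option autoImplicit false

universe u v w

open AlgebraicGeometry CategoryTheory WeilCoh

namespace Groth.Agent.Lib.Helper6.Weil

variable {k : Type u} [Field k] {P : ObjectProperty (Over (Spec (CommRingCat.of k)))}
variable {K : Type v} [Field K] (T : TheoryOn.{u, v, w} k P K)

/-- the pairing is `tr (a * b)` -/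
theorem pairing_apply {A : Type w} [Ring A] [Algebra K A] (S S' : Submodule K A) (t : A →ₗ[K] K)
    (a : S) (b : S') : pairing K S S' t a b = t ((a : A) * (b : A)) := rfl

/-- defining property of the push-forward -/
theorem tr_push_mul {X Y : P.FullSubcategory} (f : X ⟶ Y) (i : ℤ) (a : T.gr X i)
    (b : T.gr Y (2 * (dim X.obj.left : ℤ) - i)) :
    T.tr Y ((T.push f i a : T.H Y) * (b : T.H Y)) = T.tr X ((a : T.H X) * T.pull f (b : T.H Y)) := by
  have := T.duality Y (i + 2 * (dim Y.obj.left : ℤ) - 2 * (dim X.obj.left : ℤ))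
    (2 * (dim X.obj.left : ℤ) - i) (by omega)
  have h := LinearMap.apply_symm_toPerfPair_self
    (pairing K (T.gr Y (i + 2 * (dim Y.obj.left : ℤ) - 2 * (dim X.obj.left : ℤ)))
      (T.gr Y (2 * (dim X.obj.left : ℤ) - i)) (T.tr Y)) (T.pushFunctional f i a)
  have h2 := congrArg (fun φ => φ b) h
  exact h2

/-- defining property of the push-forward, with the degree of `b` given up to equality -/
theorem tr_push_mul' {X Y : P.FullSubcategory} (f : X ⟶ Y) (i : ℤ) (a : T.gr X i)
    (m : ℤ) (hm : m = 2 * (dim X.obj.left : ℤ) - i) (b : T.H Y) (hb : b ∈ T.gr Y m) :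
    T.tr Y ((T.push f i a : T.H Y) * b) = T.tr X ((a : T.H X) * T.pull f b) := by
  subst hm
  exact tr_push_mul T f i a ⟨b, hb⟩

/-- Poincaré duality: nondegeneracy on the left -/
theorem eq_of_forall_tr_mul_eq (X : P.FullSubcategory) (m : ℤ) (x y : T.H X)
    (hx : x ∈ T.gr X m) (hy : y ∈ T.gr X m)
    (h : ∀ b ∈ T.gr X (2 * (dim X.obj.left : ℤ) - m), T.tr X (x * b) = T.tr X (y * b)) : x = y := by
  have hd := T.duality X m (2 * (dim X.obj.left : ℤ) - m) (by omega)
  have hinj := hd.bijective_left.injective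
  have : (⟨x, hx⟩ : T.gr X m) = ⟨y, hy⟩ := by
    apply hinj
    ext b
    exact h b.1 b.2
  exact congrArg Subtype.val this

/-- Poincaré duality: nondegeneracy on the right -/
theorem eq_of_forall_tr_mul_eq' (X : P.FullSubcategory) (m : ℤ) (x y : T.H X)
    (hx : x ∈ T.gr X m) (hy : y ∈ T.gr X m)
    (h : ∀ b ∈ T.gr X (2 * (dim X.obj.left : ℤ) - m), T.tr X (b * x) = T.tr X (b * y)) : x = y := by
  have hd := T.duality X (2 * (dim X.obj.left : ℤ) - m) m (by omega)
  have hinj := hd.bijective_right.injective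
  have : (⟨x, hx⟩ : T.gr X m) = ⟨y, hy⟩ := by
    apply hinj
    ext b
    exact h b.1 b.2
  exact congrArg Subtype.val this

/-- a top class of trace one -/
theorem exists_top_tr_one (X : P.FullSubcategory) :
    ∃ ω : T.H X, ω ∈ T.gr X (2 * (dim X.obj.left : ℤ)) ∧ T.tr X ω = 1 := by
  obtain ⟨ω, hω⟩ := (T.tr_bijective X).surjective 1
  exact ⟨ω.1, ω.2, hω⟩

/-- a top class is determined by its trace -/
theorem top_eq_tr_smul (X : P.FullSubcategory) (ω b : T.H X)
    (hω : ω ∈ T.gr X (2 * (dim X.obj.left : ℤ))) (hω1 : T.tr X ω = 1)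
    (hb : b ∈ T.gr X (2 * (dim X.obj.left : ℤ))) : b = T.tr X b • ω := by
  have hinj := (T.tr_bijective X).injective
  have : (⟨b, hb⟩ : T.gr X (2 * (dim X.obj.left : ℤ))) =
      ⟨T.tr X b • ω, Submodule.smul_mem _ _ hω⟩ := by
    apply hinj
    change T.tr X b = T.tr X (T.tr X b • ω)
    rw [map_smul, hω1, smul_eq_mul, mul_one]
  exact congrArg Subtype.val this

include T in
/-- the dimension of a product is the sum of the dimensions -/
theorem dim_prod {X Y Q : P.FullSubcategory} (p : Q ⟶ X) (q : Q ⟶ Y) (hQ : IsProd p q) :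
    dim Q.obj.left = dim X.obj.left + dim Y.obj.left := by
  obtain ⟨a, ha, ha1⟩ := exists_top_tr_one T X
  obtain ⟨b, hb, hb1⟩ := exists_top_tr_one T Y
  have h1 := T.tr_prod p q hQ a b ha hb
  rw [ha1, hb1, mul_one] at h1
  have hmem : T.pull p a * T.pull q b ∈
      T.gr Q (2 * (dim X.obj.left : ℤ) + 2 * (dim Y.obj.left : ℤ)) :=
    SetLike.mul_mem_graded (T.pull_mem p _ a ha) (T.pull_mem q _ b hb)
  by_contra hne
  have h2 := T.tr_vanish Q _ _ hmem (by omega)
  rw [h1] at h2
  exact one_ne_zero h2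

/-- the cohomology ring is nontrivial -/
theorem one_ne_zero_H (X : P.FullSubcategory) : (1 : T.H X) ≠ 0 := by
  obtain ⟨ω, -, hω1⟩ := exists_top_tr_one T X
  intro h
  have : ω = 0 := by rw [← mul_one ω, h, mul_zero]
  rw [this, map_zero] at hω1
  exact zero_ne_one hω1

theorem one_mem_gr_zero (X : P.FullSubcategory) : (1 : T.H X) ∈ T.gr X 0 :=
  SetLike.one_mem_graded (T.gr X)

/-- `H⁰(X)` is spanned by `1` -/
theorem gr_zero_eq_smul_one (X : P.FullSubcategory) (x : T.H X) (hx : x ∈ T.gr X 0) :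
    ∃ c : K, x = c • (1 : T.H X) := by
  obtain ⟨ω, hω, hω1⟩ := exists_top_tr_one T X
  refine ⟨T.tr X (x * ω), ?_⟩
  apply eq_of_forall_tr_mul_eq T X 0 x _ hx (Submodule.smul_mem _ _ (one_mem_gr_zero T X))
  intro b hb
  have hb' : b ∈ T.gr X (2 * (dim X.obj.left : ℤ)) := by
    have : (2 * (dim X.obj.left : ℤ) - 0) = 2 * (dim X.obj.left : ℤ) := by ring
    rwa [this] at hb
  have hbω := top_eq_tr_smul T X ω b hω hω1 hb'
  rw [smul_mul_assoc, one_mul, map_smul, smul_eq_mul]
  conv_lhs => rw [hbω, mul_smul_comm, map_smul, smul_eq_mul]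
  ring

/-- S15442: `K → H⁰(X)`, `c ↦ c • 1` is bijective -/
theorem smul_one_bijective (X : P.FullSubcategory) :
    Function.Bijective (fun c : K =>
      (⟨c • (1 : T.H X), (T.gr X 0).smul_mem c (one_mem_gr_zero T X)⟩ : ↥(T.gr X 0))) := by
  constructor
  · intro c c' h
    have h1 : c • (1 : T.H X) = c' • (1 : T.H X) := congrArg Subtype.val h
    have h2 : (c - c') • (1 : T.H X) = 0 := by rw [sub_smul, h1, sub_self]
    rcases smul_eq_zero.mp h2 with h3 | h3
    · exact sub_eq_zero.mp h3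
    · exact absurd h3 (one_ne_zero_H T X)
  · intro x
    obtain ⟨c, hc⟩ := gr_zero_eq_smul_one T X x.1 x.2
    exact ⟨c, Subtype.ext hc.symm⟩

/-- membership of a push-forward, with the degree given up to equality -/
theorem push_mem {X Y : P.FullSubcategory} (f : X ⟶ Y) (i : ℤ) (a : T.gr X i) (m : ℤ)
    (hm : m = i + 2 * (dim Y.obj.left : ℤ) - 2 * (dim X.obj.left : ℤ)) :
    (T.push f i a : T.H Y) ∈ T.gr Y m := by
  subst hm
  exact (T.push f i a).2

theorem mem_of_eq {X : P.FullSubcategory} {m m' : ℤ} (h : m = m') {x : T.H X}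
    (hx : x ∈ T.gr X m) : x ∈ T.gr X m' := h ▸ hx

/-- S15446: projection formula -/
theorem push_mul_pull {X Y : P.FullSubcategory} (f : X ⟶ Y) (i j : ℤ)
    (a : ↥(T.gr X i)) (c : ↥(T.gr Y j)) :
    (T.push f (i + j) ⟨(a : T.H X) * T.pull f c,
      SetLike.mul_mem_graded a.2 (T.pull_mem f j c c.2)⟩ : T.H Y) =
      (T.push f i a : T.H Y) * c := by
  apply eq_of_forall_tr_mul_eq T Y (i + j + 2 * (dim Y.obj.left : ℤ) - 2 * (dim X.obj.left : ℤ))
  · exact (T.push f (i + j) _).2
  · exact mem_of_eq T (by ring) (SetLike.mul_mem_graded (T.push f i a).2 c.2)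
  · intro b hb
    have h1 := tr_push_mul' T f (i + j) ⟨(a : T.H X) * T.pull f c,
      SetLike.mul_mem_graded a.2 (T.pull_mem f j c c.2)⟩ _ (by ring) b hb
    have h2 := tr_push_mul' T f i a (j + (2 * (dim Y.obj.left : ℤ) -
        (i + j + 2 * (dim Y.obj.left : ℤ) - 2 * (dim X.obj.left : ℤ)))) (by ring) (c * b)
        (SetLike.mul_mem_graded c.2 hb)
    calc T.tr Y ((T.push f (i + j) ⟨(a : T.H X) * T.pull f c,
          SetLike.mul_mem_graded a.2 (T.pull_mem f j c c.2)⟩ : T.H Y) * b)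
        = T.tr X (((a : T.H X) * T.pull f c) * T.pull f b) := h1
      _ = T.tr X ((a : T.H X) * T.pull f ((c : T.H Y) * b)) := by
          rw [map_mul (T.pull f), mul_assoc]
      _ = T.tr Y ((T.push f i a : T.H Y) * ((c : T.H Y) * b)) := h2.symm
      _ = T.tr Y ((T.push f i a : T.H Y) * (c : T.H Y) * b) := by rw [mul_assoc]

/-- S15447: functoriality of push-forward -/
theorem push_comp {X Y Z : P.FullSubcategory} (f : X ⟶ Y) (g : Y ⟶ Z) (i : ℤ)
    (a : ↥(T.gr X i)) :
    (T.push (f ≫ g) i a : T.H Z) =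
      (T.push g (i + 2 * (dim Y.obj.left : ℤ) - 2 * (dim X.obj.left : ℤ))
        (T.push f i a) : T.H Z) := by
  apply eq_of_forall_tr_mul_eq T Z (i + 2 * (dim Z.obj.left : ℤ) - 2 * (dim X.obj.left : ℤ))
  · exact (T.push (f ≫ g) i a).2
  · exact push_mem T g _ _ _ (by ring)
  · intro b hb
    rw [tr_push_mul' T (f ≫ g) i a _ (by ring) b hb,
      tr_push_mul' T g _ (T.push f i a) _ (by ring) b hb,
      tr_push_mul' T f i a _ (by ring) (T.pull g b) (T.pull_mem g _ b hb), T.pull_comp]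
    rfl

theorem eq_zero_of_mem_of_lt {X : P.FullSubcategory} {m : ℤ} {x : T.H X} (hx : x ∈ T.gr X m)
    (hm : m < 0 ∨ 2 * (dim X.obj.left : ℤ) < m) : x = 0 := by
  have := T.vanish X m hm
  rw [this] at hx
  exact (Submodule.mem_bot K).mp hx

/-- commutation with an even-degree class -/
theorem mul_comm_of_even {X : P.FullSubcategory} (i j : ℤ) (a b : T.H X) (ha : a ∈ T.gr X i)
    (hb : b ∈ T.gr X j) (hi : Even i) : a * b = b * a := by
  rw [T.gradedComm X i j a b ha hb]
  have : Even (i.natAbs * j.natAbs) := by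
    apply Even.mul_right
    exact Int.natAbs_even.mpr hi
  rw [Even.neg_one_pow this, one_smul]

/-- S15449: `p_* q^* a` -/
theorem push_fst_pull_snd {X Y Q : P.FullSubcategory} (p : Q ⟶ X) (q : Q ⟶ Y)
    (hQ : IsProd p q) (i : ℤ) (a : ↥(T.gr Y i)) :
    (i = 2 * (dim Y.obj.left : ℤ) →
      (T.push p i ⟨T.pull q a, T.pull_mem q i a a.2⟩ : T.H X) = algebraMap K (T.H X) (T.tr Y a)) ∧
    (i ≠ 2 * (dim Y.obj.left : ℤ) →
      (T.push p i ⟨T.pull q a, T.pull_mem q i a a.2⟩ : T.H X) = 0) := by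
  have hd : (dim Q.obj.left : ℤ) = dim X.obj.left + dim Y.obj.left := by
    exact_mod_cast dim_prod T p q hQ
  constructor
  · intro hi
    apply eq_of_forall_tr_mul_eq T X (i + 2 * (dim X.obj.left : ℤ) - 2 * (dim Q.obj.left : ℤ))
    · exact (T.push p i _).2
    · rw [Algebra.algebraMap_eq_smul_one]
      exact mem_of_eq T (by omega) (Submodule.smul_mem _ _ (one_mem_gr_zero T X))
    · intro b hb
      have hb' : b ∈ T.gr X (2 * (dim X.obj.left : ℤ)) := mem_of_eq T (by omega) hb
      have ha' : (a : T.H Y) ∈ T.gr Y (2 * (dim Y.obj.left : ℤ)) := mem_of_eq T hi a.2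
      rw [tr_push_mul' T p i _ _ (by ring) b hb]
      change T.tr Q (T.pull q a * T.pull p b) = _
      rw [mul_comm_of_even T i _ _ _ (T.pull_mem q i a a.2) (T.pull_mem p _ b hb')
        (by rw [hi]; exact even_two_mul _), T.tr_prod p q hQ b a hb' ha',
        Algebra.algebraMap_eq_smul_one, smul_mul_assoc, one_mul, map_smul, smul_eq_mul, mul_comm]
  · intro hi
    rcases lt_or_gt_of_ne hi with h | h
    · apply eq_of_forall_tr_mul_eq T X (i + 2 * (dim X.obj.left : ℤ) - 2 * (dim Q.obj.left : ℤ))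
      · exact (T.push p i _).2
      · exact Submodule.zero_mem _
      · intro b hb
        have hb0 : b = 0 := eq_zero_of_mem_of_lt T hb (Or.inr (by omega))
        rw [hb0, mul_zero, mul_zero]
    · have ha0 : (a : T.H Y) = 0 := eq_zero_of_mem_of_lt T a.2 (Or.inr h)
      have : (⟨T.pull q a, T.pull_mem q i a a.2⟩ : T.gr Q i) = 0 := by
        apply Subtype.ext
        change T.pull q a = 0
        rw [ha0, map_zero]
      rw [this, map_zero]
      rfl

end Groth.Agent.Lib.Helper6.Weil
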