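import Groth.Agent.Lib.Helper6.WeilKunneth

/-!
# Cohomological correspondences: the action `x ↦ q_*(p^* x · φ)`
-/

set_option autoImplicit false

universe u v w

open AlgebraicGeometry CategoryTheory WeilCoh TensorProduct

namespace Groth.Agent.Lib.Helper6.Weil

variable {k : Type u} [Field k] {P : ObjectProperty (Over (Spec (CommRingCat.of k)))}
variable {K : Type v} [Field K] (T : TheoryOn.{u, v, w} k P K)

/-- the action of a class `φ` of degree `d` on `Q` as a correspondence from `X` to `Y` -/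
noncomputable def corr {X Y Q : P.FullSubcategory} (p : Q ⟶ X) (q : Q ⟶ Y) (d : ℤ)
    (φ : ↥(T.gr Q d)) (i : ℤ) :
    ↥(T.gr X i) →ₗ[K] ↥(T.gr Y (i + d + 2 * (dim Y.obj.left : ℤ) - 2 * (dim Q.obj.left : ℤ))) :=
  (T.push q (i + d)) ∘ₗ
    ((LinearMap.mulRight K (φ : T.H Q)).restrict (p := T.gr Q i) (q := T.gr Q (i + d))
      (fun _ hx => SetLike.mul_mem_graded hx φ.2)) ∘ₗ (T.pullDeg p i)

theorem corr_apply {X Y Q : P.FullSubcategory} (p : Q ⟶ X) (q : Q ⟶ Y) (d : ℤ)
    (φ : ↥(T.gr Q d)) (i : ℤ) (x : ↥(T.gr X i)) :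
    corr T p q d φ i x = T.push q (i + d) ⟨T.pull p (x : T.H X) * (φ : T.H Q),
      SetLike.mul_mem_graded (T.pull_mem p i x x.2) φ.2⟩ := rfl

/-- the defining property of the action of a correspondence -/
theorem tr_corr_mul {X Y Q : P.FullSubcategory} (p : Q ⟶ X) (q : Q ⟶ Y) (d : ℤ)
    (φ : ↥(T.gr Q d)) (i : ℤ) (x : ↥(T.gr X i)) (m : ℤ)
    (hm : m = 2 * (dim Q.obj.left : ℤ) - (i + d)) (y : T.H Y) (hy : y ∈ T.gr Y m) :
    T.tr Y ((corr T p q d φ i x : T.H Y) * y) =
      T.tr Q (T.pull p (x : T.H X) * (φ : T.H Q) * T.pull q y) := by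
  rw [corr_apply]
  exact tr_push_mul' T q (i + d) _ m hm y hy

end Groth.Agent.Lib.Helper6.Weil

namespace Groth.Agent.Lib.Helper6.Weil

variable {k : Type u} [Field k] {P : ObjectProperty (Over (Spec (CommRingCat.of k)))}
variable {K : Type v} [Field K] (T : TheoryOn.{u, v, w} k P K)

/-- pairing against a dual family reads off coordinates -/
theorem tr_dual_mul (X : P.FullSubcategory) (r m : ℤ) {ι : Type} [Fintype ι] [DecidableEq ι]
    (e : Module.Basis ι K ↥(T.gr X r)) (f : ι → ↥(T.gr X m))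
    (hef : ∀ i l : ι, T.tr X ((f l : T.H X) * (e i : T.H X)) = if i = l then 1 else 0)
    (z : ↥(T.gr X r)) (l : ι) : T.tr X ((f l : T.H X) * (z : T.H X)) = e.repr z l := by
  have hz' := e.sum_repr z
  have hzv : (z : T.H X) = ∑ i : ι, e.repr z i • (e i : T.H X) := by
    have := congrArg Subtype.val hz'
    simp only [Submodule.coe_sum, Submodule.coe_smul] at this
    exact this.symm
  conv_lhs => rw [hzv]
  rw [Finset.mul_sum, map_sum]
  simp only [mul_smul_comm, map_smul, smul_eq_mul, hef _ l]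
  simp

/-- existence of a dual family for Poincaré duality -/
theorem exists_dual (X : P.FullSubcategory) (r : ℕ) {ι : Type} [Fintype ι] [DecidableEq ι]
    (e : Module.Basis ι K ↥(T.gr X (r : ℤ))) :
    ∃ f : ι → ↥(T.gr X (2 * (WeilCoh.dim X.obj.left : ℤ) - r)),
      ∀ i l : ι, T.tr X ((f l : T.H X) * (e i : T.H X)) = if i = l then 1 else 0 := by
  have hd := T.duality X (2 * (WeilCoh.dim X.obj.left : ℤ) - r) r (by ring)
  have hsurj := hd.bijective_left.surjective
  choose f hf using fun l : ι => hsurj (e.coord l)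
  refine ⟨f, fun i l => ?_⟩
  have := congrArg (fun ψ => ψ (e i)) (hf l)
  simp only [Module.Basis.coord_apply, Module.Basis.repr_self] at this
  rw [Finsupp.single_apply] at this
  exact this

theorem neg_one_pow_eq_of_even_add (a b : ℕ) (h : Even (a + b)) :
    ((-1 : K) ^ a) = (-1 : K) ^ b := by
  have h2 : ((-1 : K) ^ a) * ((-1 : K) ^ b) = 1 := by
    rw [← pow_add]; exact Even.neg_one_pow h
  have h3 : ((-1 : K) ^ b) * ((-1 : K) ^ b) = 1 := by
    rw [← pow_add]; exact Even.neg_one_pow ⟨b, rfl⟩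
  have hne : ((-1 : K) ^ b) ≠ 0 := pow_ne_zero _ (by norm_num)
  exact mul_right_cancel₀ hne (h2.trans h3.symm)

theorem sign_eq2 (r n : ℕ) (hr : r ≤ 2 * n) : ((-1 : K) ^ (r * (2 * n - r))) = (-1 : K) ^ r := by
  apply neg_one_pow_eq_of_even_add
  rcases Nat.even_or_odd r with h | h
  · exact (h.mul_right _).add h
  · have h1 : r * (2 * n - r) + r = r * (2 * n - r + 1) := by ring
    rw [h1]
    apply Even.mul_left
    obtain ⟨t, ht⟩ := h
    exact ⟨n - t, by omega⟩

theorem neg_one_pow_mul_self (a : ℕ) : ((-1 : K) ^ a) * ((-1 : K) ^ a) = 1 := by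
  rw [← pow_add]; exact Even.neg_one_pow ⟨a, rfl⟩

/-- a correspondence is determined by its action -/
theorem corr_injective {X Y Q : P.FullSubcategory} (p : Q ⟶ X) (q : Q ⟶ Y) (hQ : IsProd p q)
    (d : ℤ) (φ φ' : ↥(T.gr Q d)) (h : ∀ i, corr T p q d φ i = corr T p q d φ' i) : φ = φ' := by
  apply Subtype.ext
  apply eq_of_forall_tr_mul_eq T Q d _ _ φ.2 φ'.2
  have key : ∀ b, T.tr Q ((φ : T.H Q) * b) = T.tr Q ((φ' : T.H Q) * b) := by
    apply kunneth_induction T p q hQ
    · simp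
    · intro a b ha hb
      rw [mul_add, mul_add, map_add, map_add, ha, hb]
    · intro s s' x y hx hy
      have hcomm : ∀ ψ : ↥(T.gr Q d), (ψ : T.H Q) * (T.pull p x * T.pull q y) =
          ((-1 : K) ^ (d.natAbs * s.natAbs)) • (T.pull p x * (ψ : T.H Q) * T.pull q y) := by
        intro ψ
        rw [← mul_assoc, T.gradedComm Q d s ψ (T.pull p x) ψ.2 (T.pull_mem p s x hx),
          smul_mul_assoc]
      rw [hcomm φ, hcomm φ', map_smul, map_smul]
      congr 1
      by_cases hs' : s' = 2 * (dim Q.obj.left : ℤ) - (s + d)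
      · have h1 := tr_corr_mul T p q d φ s ⟨x, hx⟩ s' hs' y hy
        have h2 := tr_corr_mul T p q d φ' s ⟨x, hx⟩ s' hs' y hy
        rw [← h1, ← h2, h s]
      · have hmem : ∀ ψ : ↥(T.gr Q d), T.pull p x * (ψ : T.H Q) * T.pull q y ∈
            T.gr Q (s + d + s') := fun ψ =>
          SetLike.mul_mem_graded (SetLike.mul_mem_graded (T.pull_mem p s x hx) ψ.2)
            (T.pull_mem q s' y hy)
        rw [T.tr_vanish Q _ _ (hmem φ) (by omega), T.tr_vanish Q _ _ (hmem φ') (by omega)]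
  exact fun b _ => key b

theorem pull_mul_mul_pull {X Y Q : P.FullSubcategory} (p : Q ⟶ X) (q : Q ⟶ Y)
    (x ε : T.H X) (w y : T.H Y) :
    T.pull p x * (T.pull p ε * T.pull q w) * T.pull q y =
      T.pull p (x * ε) * T.pull q (w * y) := by
  simp only [map_mul, mul_assoc]

/-- every family of linear maps is the action of a correspondence -/
theorem corr_surjective {X Y Q : P.FullSubcategory} (p : Q ⟶ X) (q : Q ⟶ Y) (hQ : IsProd p q)
    (hdim : dim Q.obj.left = dim X.obj.left + dim Y.obj.left)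
    (d : ℤ) (L : ∀ i : ℤ, ↥(T.gr X i) →ₗ[K]
      ↥(T.gr Y (i + d + 2 * (dim Y.obj.left : ℤ) - 2 * (dim Q.obj.left : ℤ)))) :
    ∃ φ : ↥(T.gr Q d), ∀ i, corr T p q d φ i = L i := by
  classical
  have hdimZ : (dim Q.obj.left : ℤ) = dim X.obj.left + dim Y.obj.left := by exact_mod_cast hdim
  let ι : ℕ → Type := fun r => Fin (Module.finrank K ↥(T.gr X (r : ℤ)))
  let e : (r : ℕ) → Module.Basis (ι r) K ↥(T.gr X (r : ℤ)) := fun r => Module.finBasis K _
  choose ε hε using fun r : ℕ => exists_dual T X r (e r)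
  have hterm : ∀ (i : ℕ) (l : ι i), T.pull p (ε i l : T.H X) * T.pull q (L i (e i l) : T.H Y) ∈
      T.gr Q d := fun i l => mem_of_eq T (by omega)
    (SetLike.mul_mem_graded (T.pull_mem p _ _ (ε i l).2) (T.pull_mem q _ _ (L i (e i l)).2))
  have hφ : (∑ i ∈ Finset.range (2 * dim X.obj.left + 1), ∑ l : ι i,
      ((-1 : K) ^ i) • (T.pull p (ε i l : T.H X) * T.pull q (L i (e i l) : T.H Y))) ∈ T.gr Q d :=
    Submodule.sum_mem _ (fun i _ => Submodule.sum_mem _ (fun l _ =>
      Submodule.smul_mem _ _ (hterm i l)))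
  refine ⟨⟨_, hφ⟩, fun s => ?_⟩
  apply LinearMap.ext
  intro x
  apply Subtype.ext
  apply eq_of_forall_tr_mul_eq T Y _ _ _ (corr T p q d _ s x).2 (L s x).2
  intro y hy
  rw [tr_corr_mul T p q d _ s x _ (by omega) y hy]
  by_cases hs : s < 0 ∨ 2 * (dim X.obj.left : ℤ) < s
  · have hx0 : x = 0 := Subtype.ext (eq_zero_of_mem_of_lt T x.2 hs)
    subst hx0
    simp
  push Not at hs
  obtain ⟨hs0, hs1⟩ := hs
  obtain ⟨a, rfl⟩ := Int.eq_ofNat_of_zero_le hs0
  have ha : a ≤ 2 * dim X.obj.left := by omega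
  change T.tr Q (T.pull p (x : T.H X) * (∑ i ∈ Finset.range (2 * dim X.obj.left + 1), ∑ l : ι i,
      ((-1 : K) ^ i) • (T.pull p (ε i l : T.H X) * T.pull q (L i (e i l) : T.H Y))) * T.pull q y) = _
  rw [Finset.mul_sum, Finset.sum_mul, map_sum, Finset.sum_eq_single a]
  · rw [Finset.mul_sum, Finset.sum_mul, map_sum]
    have hterm2 : ∀ l : ι a, T.tr Q (T.pull p (x : T.H X) * (((-1 : K) ^ a) •
        (T.pull p (ε a l : T.H X) * T.pull q (L a (e a l) : T.H Y))) * T.pull q y) =
        (e a).repr x l * T.tr Y ((L a (e a l) : T.H Y) * y) := by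
      intro l
      rw [mul_smul_comm, smul_mul_assoc, map_smul, smul_eq_mul, pull_mul_mul_pull,
        T.tr_prod p q hQ _ _
          (mem_of_eq T (by omega) (SetLike.mul_mem_graded x.2 (ε a l).2))
          (mem_of_eq T (by omega) (SetLike.mul_mem_graded (L a (e a l)).2 hy)),
        T.gradedComm X a (2 * (dim X.obj.left : ℤ) - a) _ _ x.2 (ε a l).2, map_smul, smul_eq_mul,
        tr_dual_mul T X a _ (e a) (ε a) (hε a) x l, ← mul_assoc, ← mul_assoc]
      congr 1
      have h3 : (2 * (dim X.obj.left : ℤ) - a).natAbs = 2 * dim X.obj.left - a := by omega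
      rw [h3, Int.natAbs_natCast, sign_eq2 a _ ha, neg_one_pow_mul_self, one_mul]
    rw [Finset.sum_congr rfl (fun l _ => hterm2 l)]
    conv_rhs => rw [← (e a).sum_repr x]
    simp only [map_sum, map_smul, Submodule.coe_sum, Submodule.coe_smul, Finset.sum_mul,
      smul_mul_assoc, smul_eq_mul]
  · intro i hi hia
    rw [Finset.mul_sum, Finset.sum_mul, map_sum]
    apply Finset.sum_eq_zero
    intro l _
    rw [mul_smul_comm, smul_mul_assoc, map_smul, pull_mul_mul_pull]
    have hi' := Finset.mem_range.mp hi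
    rcases eq_zero_or_eq_zero_of_add_eq T X Y ((x : T.H X) * (ε i l : T.H X))
      ((L i (e i l) : T.H Y) * y) _ _
      (SetLike.mul_mem_graded x.2 (ε i l).2)
      (SetLike.mul_mem_graded (L i (e i l)).2 hy) (by omega) (by omega) with h | h
    · rw [h]; simp
    · rw [h]; simp
  · intro h
    exact absurd (Finset.mem_range.mpr (by omega)) h

theorem corr_add {X Y Q : P.FullSubcategory} (p : Q ⟶ X) (q : Q ⟶ Y) (d : ℤ)
    (φ φ' : ↥(T.gr Q d)) (i : ℤ) :
    corr T p q d (φ + φ') i = corr T p q d φ i + corr T p q d φ' i := by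
  apply LinearMap.ext
  intro x
  rw [LinearMap.add_apply, corr_apply, corr_apply, corr_apply, ← map_add]
  congr 1
  apply Subtype.ext
  change T.pull p (x : T.H X) * ((φ : T.H Q) + (φ' : T.H Q)) = _
  rw [mul_add]
  rfl

theorem corr_smul {X Y Q : P.FullSubcategory} (p : Q ⟶ X) (q : Q ⟶ Y) (d : ℤ)
    (c : K) (φ : ↥(T.gr Q d)) (i : ℤ) :
    corr T p q d (c • φ) i = c • corr T p q d φ i := by
  apply LinearMap.ext
  intro x
  rw [LinearMap.smul_apply, corr_apply, corr_apply, ← map_smul]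
  congr 1
  apply Subtype.ext
  change T.pull p (x : T.H X) * (c • (φ : T.H Q)) = _
  rw [mul_smul_comm]
  rfl

/-- the action of a product class `p^* c · q^* e` -/
theorem corr_prod {X Y Q : P.FullSubcategory} (p : Q ⟶ X) (q : Q ⟶ Y) (hQ : IsProd p q)
    (hdim : dim Q.obj.left = dim X.obj.left + dim Y.obj.left)
    (d s s' : ℤ) (hss : s + s' = d) (c : T.H X) (hc : c ∈ T.gr X s) (e : T.H Y)
    (he : e ∈ T.gr Y s') (h : T.pull p c * T.pull q e ∈ T.gr Q d) (i : ℤ) (x : ↥(T.gr X i)) :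
    (corr T p q d ⟨T.pull p c * T.pull q e, h⟩ i x : T.H Y) =
      if i + s = 2 * (dim X.obj.left : ℤ) then T.tr X ((x : T.H X) * c) • e else 0 := by
  have hdimZ : (dim Q.obj.left : ℤ) = dim X.obj.left + dim Y.obj.left := by exact_mod_cast hdim
  apply eq_of_forall_tr_mul_eq T Y _ _ _ (corr T p q d _ i x).2
  · split_ifs with hi
    · exact Submodule.smul_mem _ _ (mem_of_eq T (by omega) he)
    · exact Submodule.zero_mem _
  · intro y hy
    rw [tr_corr_mul T p q d _ i x _ (by omega) y hy]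
    change T.tr Q (T.pull p (x : T.H X) * (T.pull p c * T.pull q e) * T.pull q y) = _
    rw [pull_mul_mul_pull]
    split_ifs with hi
    · rw [T.tr_prod p q hQ _ _ (mem_of_eq T hi (SetLike.mul_mem_graded x.2 hc))
        (mem_of_eq T (by omega) (SetLike.mul_mem_graded he hy)), smul_mul_assoc, map_smul,
        smul_eq_mul]
    · rcases eq_zero_or_eq_zero_of_add_eq T X Y ((x : T.H X) * c) (e * y) _ _
        (SetLike.mul_mem_graded x.2 hc) (SetLike.mul_mem_graded he hy) (by omega) hi with h | h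
      · rw [h]; simp
      · rw [h]; simp

theorem corr_zero {X Y Q : P.FullSubcategory} (p : Q ⟶ X) (q : Q ⟶ Y) (d : ℤ) (i : ℤ) :
    corr T p q d 0 i = 0 := by
  have := corr_smul T p q d (0 : K) 0 i
  rw [zero_smul, zero_smul] at this
  exact this

/-- the universal property of a product square in the full subcategory -/
theorem exists_lift {X Y Q Z : P.FullSubcategory} (p : Q ⟶ X) (q : Q ⟶ Y) (hQ : IsProd p q)
    (a : Z ⟶ X) (b : Z ⟶ Y) : ∃ s : Z ⟶ Q, s ≫ p = a ∧ s ≫ q = b := by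
  have w : sm a ≫ X.obj.hom = sm b ≫ Y.obj.hom := by
    rw [Over.w a.hom, Over.w b.hom]
  refine ⟨ObjectProperty.homMk (Over.homMk (hQ.lift (sm a) (sm b) w) ?_), ?_, ?_⟩
  · have h1 : Q.obj.hom = sm p ≫ X.obj.hom := (Over.w p.hom).symm
    rw [h1, ← Category.assoc, hQ.lift_fst, Over.w a.hom]
  · apply ObjectProperty.hom_ext
    apply Over.OverMorphism.ext
    exact hQ.lift_fst _ _ _
  · apply ObjectProperty.hom_ext
    apply Over.OverMorphism.ext
    exact hQ.lift_snd _ _ _

variable {K : Type v} [Field K] (T : TheoryOn.{u, v, w} k P K)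

/-- the action of correspondences as a linear map in the class -/
noncomputable def corrLin {X Y Q : P.FullSubcategory} (p : Q ⟶ X) (q : Q ⟶ Y) (d : ℤ) (i : ℤ) :
    ↥(T.gr Q d) →ₗ[K] (↥(T.gr X i) →ₗ[K]
      ↥(T.gr Y (i + d + 2 * (dim Y.obj.left : ℤ) - 2 * (dim Q.obj.left : ℤ)))) where
  toFun φ := corr T p q d φ i
  map_add' φ φ' := corr_add T p q d φ φ' i
  map_smul' c φ := corr_smul T p q d c φ i

theorem corrLin_apply {X Y Q : P.FullSubcategory} (p : Q ⟶ X) (q : Q ⟶ Y) (d : ℤ) (i : ℤ)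
    (φ : ↥(T.gr Q d)) : corrLin T p q d i φ = corr T p q d φ i := rfl

/-- congruence for push-forwards in the degree -/
theorem push_congr {X Y : P.FullSubcategory} (f : X ⟶ Y) (m m' : ℤ) (hm : m = m') (a a' : T.H X)
    (ha : a ∈ T.gr X m) (ha' : a' ∈ T.gr X m') (haa : a = a') :
    (T.push f m ⟨a, ha⟩ : T.H Y) = (T.push f m' ⟨a', ha'⟩ : T.H Y) := by
  subst hm
  subst haa
  rfl

end Groth.Agent.Lib.Helper6.Weil
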