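import Groth.Agent.Lib.Helper6.WeilPt

/-!
# Sections of morphisms of varieties and their classes (graphs, diagonals)
-/

set_option autoImplicit false

universe u v

open AlgebraicGeometry CategoryTheory CategoryTheory.Limits WeilCoh

namespace Groth.Agent.Lib.Helper6.WeilGraph

open Groth.Agent.Lib.Helper6

section Schemes

theorem residueDegree_eq_one_of_surjective {X Y : Scheme.{u}} (f : X ⟶ Y) (x : X)
    (h : Function.Surjective (f.residueFieldMap x).hom) : f.residueDegree x = 1 := by
  unfold Scheme.Hom.residueDegree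
  let _ := (f.residueFieldMap x).hom.toAlgebra
  have hs : Function.Surjective (algebraMap (Y.residueField (f x)) (X.residueField x)) := h
  have hb : Function.Bijective (Algebra.linearMap (Y.residueField (f x)) (X.residueField x)) :=
    ⟨(algebraMap (Y.residueField (f x)) (X.residueField x)).injective, hs⟩
  rw [← (LinearEquiv.ofBijective _ hb).finrank_eq]
  exact Module.finrank_self _

theorem residueFieldMap_eq_of_eq_id {X : Scheme.{u}} (g : X ⟶ X) (e : g = 𝟙 X) (x : X)
    (hx : g x = x) : g.residueFieldMap x = (X.residueFieldCongr hx).hom := by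
  subst e
  rw [Scheme.residueFieldMap_id]
  rfl

theorem residueFieldMap_surjective_of_retraction {X P : Scheme.{u}} (j : X ⟶ P) (p : P ⟶ X)
    (h : j ≫ p = 𝟙 X) (x : X) : Function.Surjective (j.residueFieldMap x).hom := by
  have hx : (j ≫ p) x = x := by rw [h]; rfl
  have h1 : (j ≫ p).residueFieldMap x = (X.residueFieldCongr hx).hom :=
    residueFieldMap_eq_of_eq_id (j ≫ p) h x hx
  have h2 : (j ≫ p).residueFieldMap x = p.residueFieldMap (j x) ≫ j.residueFieldMap x :=
    Scheme.residueFieldMap_comp j p x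
  intro y
  refine ⟨(p.residueFieldMap (j x)).hom ((X.residueFieldCongr hx).inv.hom y), ?_⟩
  have h3 : ((j ≫ p).residueFieldMap x).hom ((X.residueFieldCongr hx).inv.hom y) = y := by
    rw [h1]; exact congrArg (fun g => g.hom y) (X.residueFieldCongr hx).inv_hom_id
  have h4 := congrArg (fun g => g.hom ((X.residueFieldCongr hx).inv.hom y)) h2
  exact h4.symm.trans h3

theorem residueDegree_eq_one_of_retraction {X P : Scheme.{u}} (j : X ⟶ P) (p : P ⟶ X)
    (h : j ≫ p = 𝟙 X) (x : X) : j.residueDegree x = 1 :=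
  residueDegree_eq_one_of_surjective j x (residueFieldMap_surjective_of_retraction j p h x)

end Schemes

section Theory

variable {k : Type u} [Field k] [IsAlgClosed k] {K : Type v} [Field K] [CharZero K]
variable (T : Theory k K)

omit [IsAlgClosed k] in
theorem sm_comp_eq_id {X P : Var k} (j : X ⟶ P) (p : P ⟶ X) (hjp : j ≫ p = 𝟙 X) :
    sm j ≫ sm p = 𝟙 X.obj.left :=
  congrArg (fun g => sm g) hjp

/-- `tr_P (cl (j η) · a) = tr_X (j^* a)` for a section `j` -/
theorem tr_cl_section_mul {X P : Var k} [IrreducibleSpace ↥X.obj.left] (j : X ⟶ P) (p : P ⟶ X)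
    (hjp : j ≫ p = 𝟙 X) (a : T.H P) (ha : a ∈ T.gr P (2 * (dim X.obj.left : ℤ))) :
    T.tr P (T.cl P (sm j (genericPoint ↥X.obj.left)) * a) = T.tr X (T.pull j a) := by
  have hpd := WeilPt.pdim_genericPoint X.obj.left
  have ha' : a ∈ T.gr P (2 * (pdim X.obj.left (genericPoint ↥X.obj.left) : ℤ)) := by
    rw [hpd]; exact ha
  have h := T.cl_push j (genericPoint ↥X.obj.left) a ha'
  rw [WeilPt.cl_genericPoint_eq_one T X, one_mul,
    residueDegree_eq_one_of_retraction (sm j) (sm p) (sm_comp_eq_id j p hjp), Nat.cast_one,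
    one_mul] at h
  exact h.symm

include T in
/-- the codimension of the image of a section -/
theorem codim_section {X P : Var k} [IrreducibleSpace ↥X.obj.left] (j : X ⟶ P) (p : P ⟶ X)
    (hjp : j ≫ p = 𝟙 X) :
    (codim P.obj.left (sm j (genericPoint ↥X.obj.left)) : ℤ) + dim X.obj.left = dim P.obj.left := by
  obtain ⟨ω, hω, hω1⟩ := Weil.exists_top_tr_one T X
  have h := tr_cl_section_mul T j p hjp (T.pull p ω) (T.pull_mem p _ ω hω)
  have hpj : T.pull j (T.pull p ω) = ω := by
    have := T.pull_comp j p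
    rw [hjp, T.pull_id] at this
    exact (congrArg (fun g => g ω) this).symm
  rw [hpj, hω1] at h
  have hmem : T.cl P (sm j (genericPoint ↥X.obj.left)) * T.pull p ω ∈
      T.gr P (2 * (codim P.obj.left (sm j (genericPoint ↥X.obj.left)) : ℤ) +
        2 * (dim X.obj.left : ℤ)) :=
    SetLike.mul_mem_graded (T.cl_mem P _) (T.pull_mem p _ ω hω)
  by_contra hne
  have h2 := T.tr_vanish P _ _ hmem (by omega)
  rw [h] at h2
  exact one_ne_zero h2

/-- `p_* (cl (j η) · b) = j^* b` for a section `j` of `p` -/
theorem push_cl_section_mul {X P : Var k} [IrreducibleSpace ↥X.obj.left] (j : X ⟶ P) (p : P ⟶ X)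
    (hjp : j ≫ p = 𝟙 X) (i : ℤ) (b : T.H P) (hb : b ∈ T.gr P i) :
    (T.push p (2 * (codim P.obj.left (sm j (genericPoint ↥X.obj.left)) : ℤ) + i)
      ⟨T.cl P (sm j (genericPoint ↥X.obj.left)) * b,
        SetLike.mul_mem_graded (T.cl_mem P _) hb⟩ : T.H X) = T.pull j b := by
  have hc := codim_section T j p hjp
  apply Weil.eq_of_forall_tr_mul_eq T X i
  · exact Weil.push_mem T p _ _ _ (by omega)
  · exact T.pull_mem j i b hb
  · intro c hc'
    rw [Weil.tr_push_mul' T p _ _ _ (by omega) c hc']
    change T.tr P (T.cl P (sm j (genericPoint ↥X.obj.left)) * b * T.pull p c) = _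
    rw [mul_assoc, tr_cl_section_mul T j p hjp (b * T.pull p c)
      (Weil.mem_of_eq T (by ring) (SetLike.mul_mem_graded hb (T.pull_mem p _ c hc'))),
      map_mul]
    have hpj : T.pull j (T.pull p c) = c := by
      have := T.pull_comp j p
      rw [hjp, T.pull_id] at this
      exact (congrArg (fun g => g c) this).symm
    rw [hpj]

end Theory

end Groth.Agent.Lib.Helper6.WeilGraph
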