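import Groth.Agent.Lib.Helper6.WeilCoh

/-!
# Künneth: spanning by products of homogeneous classes, sign rules
-/

set_option autoImplicit false

universe u v w

open AlgebraicGeometry CategoryTheory WeilCoh TensorProduct

namespace Groth.Agent.Lib.Helper6.Weil

variable {k : Type u} [Field k] {P : ObjectProperty (Over (Spec (CommRingCat.of k)))}
variable {K : Type v} [Field K] (T : TheoryOn.{u, v, w} k P K)

/-- induction on the graded pieces of `H X` -/
theorem gr_induction (X : P.FullSubcategory) (C : T.H X → Prop) (h0 : C 0)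
    (hadd : ∀ a b, C a → C b → C (a + b)) (hgr : ∀ (s : ℤ) (x : T.H X), x ∈ T.gr X s → C x) :
    ∀ x, C x := by
  intro x
  have hx : x ∈ ⨆ s, T.gr X s := by
    rw [(T.decomp X).submodule_iSup_eq_top]; trivial
  exact Submodule.iSup_induction (T.gr X) (motive := C) hx hgr h0 hadd

theorem kunnethMap_tmul {X Y Q : P.FullSubcategory} (p : Q ⟶ X) (q : Q ⟶ Y) (x : T.H X)
    (y : T.H Y) : kunnethMap K (T.pull p) (T.pull q) (x ⊗ₜ[K] y) = T.pull p x * T.pull q y := rfl

/-- Künneth induction: a property of classes on a product that is additive and holds for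
products of pull-backs of homogeneous classes holds for all classes. -/
theorem kunneth_induction {X Y Q : P.FullSubcategory} (p : Q ⟶ X) (q : Q ⟶ Y) (hQ : IsProd p q)
    (C : T.H Q → Prop) (h0 : C 0) (hadd : ∀ a b, C a → C b → C (a + b))
    (hprod : ∀ (s s' : ℤ) (x : T.H X) (y : T.H Y), x ∈ T.gr X s → y ∈ T.gr Y s' →
      C (T.pull p x * T.pull q y)) : ∀ b, C b := by
  have h1 : ∀ (s : ℤ) (x : T.H X), x ∈ T.gr X s → ∀ y : T.H Y, C (T.pull p x * T.pull q y) := by
    intro s x hx
    apply gr_induction T Y (fun y => C (T.pull p x * T.pull q y))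
    · simpa using h0
    · intro a b ha hb
      simpa [map_add, mul_add] using hadd _ _ ha hb
    · intro s' y hy
      exact hprod s s' x y hx hy
  have h2 : ∀ (x : T.H X) (y : T.H Y), C (T.pull p x * T.pull q y) := by
    intro x y
    revert x
    apply gr_induction T X (fun x => C (T.pull p x * T.pull q y))
    · simpa using h0
    · intro a b ha hb
      simpa [map_add, add_mul] using hadd _ _ ha hb
    · intro s x hx
      exact h1 s x hx y
  intro b
  obtain ⟨t, rfl⟩ := (T.kunneth p q hQ).surjective b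
  induction t using TensorProduct.induction_on with
  | zero => simpa using h0
  | tmul x y => exact h2 x y
  | add a b ha hb => simpa [map_add] using hadd _ _ ha hb

/-- rearranging a product of four pulled back classes -/
theorem pull_mul_pull_mul {X Y Q : P.FullSubcategory} (p : Q ⟶ X) (q : Q ⟶ Y) (u x : T.H X)
    (v y : T.H Y) (m s : ℤ) (hv : v ∈ T.gr Y m) (hx : x ∈ T.gr X s) :
    T.pull p u * T.pull q v * (T.pull p x * T.pull q y) =
      ((-1 : K) ^ (m.natAbs * s.natAbs)) • (T.pull p (u * x) * T.pull q (v * y)) := by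
  have hc := T.gradedComm Q m s (T.pull q v) (T.pull p x) (T.pull_mem q m v hv)
    (T.pull_mem p s x hx)
  calc T.pull p u * T.pull q v * (T.pull p x * T.pull q y)
      = T.pull p u * (T.pull q v * T.pull p x) * T.pull q y := by
        simp only [mul_assoc]
    _ = T.pull p u * (((-1 : K) ^ (m.natAbs * s.natAbs)) • (T.pull p x * T.pull q v)) *
          T.pull q y := by rw [hc]
    _ = ((-1 : K) ^ (m.natAbs * s.natAbs)) • (T.pull p (u * x) * T.pull q (v * y)) := by
        rw [map_mul, map_mul, mul_smul_comm, smul_mul_assoc]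
        simp only [mul_assoc]

/-- two classes of complementary total degree on a product, not both of top degree: one is `0` -/
theorem eq_zero_or_eq_zero_of_add_eq (X Y : P.FullSubcategory) (u : T.H X) (v : T.H Y)
    (m m' : ℤ) (hu : u ∈ T.gr X m) (hv : v ∈ T.gr Y m')
    (h : m + m' = 2 * (dim X.obj.left : ℤ) + 2 * (dim Y.obj.left : ℤ))
    (hne : m ≠ 2 * (dim X.obj.left : ℤ)) : u = 0 ∨ v = 0 := by
  rcases lt_or_gt_of_ne hne with h1 | h1
  · exact Or.inr (eq_zero_of_mem_of_lt T hv (Or.inr (by omega)))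
  · exact Or.inl (eq_zero_of_mem_of_lt T hu (Or.inr h1))

/-- `j^* p^* = id` for a section -/
theorem pull_section {X Q : P.FullSubcategory} (j : X ⟶ Q) (p : Q ⟶ X) (hjp : j ≫ p = 𝟙 X)
    (c : T.H X) : T.pull j (T.pull p c) = c := by
  have := T.pull_comp j p
  rw [hjp, T.pull_id] at this
  exact (congrArg (fun g => g c) this).symm

theorem pull_pull {X Y Z : P.FullSubcategory} (f : X ⟶ Y) (g : Y ⟶ Z) (h : X ⟶ Z)
    (hfg : f ≫ g = h) (c : T.H Z) : T.pull f (T.pull g c) = T.pull h c := by
  have := T.pull_comp f g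
  rw [hfg] at this
  exact (congrArg (fun g => g c) this).symm

/-- for independent submodules `A i` and `S i ≤ A i`, an element of `A d` lying in `⨆ S i`
lies in `S d` -/
theorem mem_of_mem_iSup_of_le {ι M : Type*} [AddCommGroup M] [Module K M]
    (A S : ι → Submodule K M) (hind : iSupIndep A) (hle : ∀ i, S i ≤ A i) (d : ι) (b : M)
    (hb : b ∈ A d) (hb' : b ∈ ⨆ i, S i) : b ∈ S d := by
  rw [iSup_split_single S d, Submodule.mem_sup] at hb'
  obtain ⟨u, hu, v, hv, rfl⟩ := hb'
  have hv' : v ∈ ⨆ (j) (_ : j ≠ d), A j := by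
    refine (iSup_mono fun j => iSup_mono fun _ => hle j) hv
  have hvA : v ∈ A d := by
    have := (A d).sub_mem hb (hle d hu)
    simpa using this
  have hv0 : v = 0 := (Submodule.disjoint_def.mp (hind d)) v hvA hv'
  rw [hv0, add_zero]
  exact hu

/-- the set of products of pull-backs of homogeneous classes of total degree `d` -/
def prodSet {X Y Q : P.FullSubcategory} (p : Q ⟶ X) (q : Q ⟶ Y) (d : ℤ) : Set (T.H Q) :=
  {b | ∃ (s s' : ℤ) (x : T.H X) (y : T.H Y), x ∈ T.gr X s ∧ y ∈ T.gr Y s' ∧ s + s' = d ∧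
    b = T.pull p x * T.pull q y}

theorem span_prodSet_le {X Y Q : P.FullSubcategory} (p : Q ⟶ X) (q : Q ⟶ Y) (d : ℤ) :
    Submodule.span K (prodSet T p q d) ≤ T.gr Q d := by
  rw [Submodule.span_le]
  rintro b ⟨s, s', x, y, hx, hy, rfl, rfl⟩
  exact SetLike.mul_mem_graded (T.pull_mem p s x hx) (T.pull_mem q s' y hy)

/-- graded Künneth: `H^d` of a product is spanned by products of homogeneous classes of
complementary degrees -/
theorem gr_le_span_prodSet {X Y Q : P.FullSubcategory} (p : Q ⟶ X) (q : Q ⟶ Y) (hQ : IsProd p q)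
    (d : ℤ) : T.gr Q d ≤ Submodule.span K (prodSet T p q d) := by
  intro b hb
  apply mem_of_mem_iSup_of_le (T.gr Q) (fun d => Submodule.span K (prodSet T p q d))
    (T.decomp Q).submodule_iSupIndep (span_prodSet_le T p q) d b hb
  have key : ∀ b : T.H Q, b ∈ ⨆ i, Submodule.span K (prodSet T p q i) := by
    apply kunneth_induction T p q hQ
    · exact Submodule.zero_mem _
    · intro a b ha hb
      exact Submodule.add_mem _ ha hb
    · intro s s' x y hx hy
      exact Submodule.mem_iSup_of_mem (s + s')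
        (Submodule.subset_span ⟨s, s', x, y, hx, hy, rfl, rfl⟩)
  exact key b

end Groth.Agent.Lib.Helper6.Weil
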