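import Groth.Prelude.Def_WeilCoh
import Mathlib.AlgebraicGeometry.AlgClosed.Basic
import Groth.Agent.Lib.Helper6.WeilCoh

/-!
# The point `Spec k` as an object of `WeilCoh.Var k`
-/

set_option autoImplicit false

universe u

open AlgebraicGeometry CategoryTheory CategoryTheory.Limits WeilCoh

namespace Groth.Agent.Lib.Helper6.WeilPt

variable (k : Type u) [Field k]

/-- evaluation of polynomials over `ULift ℤ` at `(1, …, 1)` in `k` -/
noncomputable def ev : MvPolynomial (Fin (0 + 1)) (ULift.{u} ℤ) →+* k :=
  MvPolynomial.eval₂Hom ((Int.castRingHom k).comp (ULift.ringEquiv : ULift.{u} ℤ ≃+* ℤ).toRingHom)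
    (fun _ => 1)

theorem ev_X : ev k (MvPolynomial.X 0) = 1 := by
  simp [ev]

/-- a ring map from the degree-zero localization at `X₀` to `k` -/
noncomputable def awayToField :
    HomogeneousLocalization.Away (CohB1.polyGrading 0 (ULift.{u} ℤ))
      (MvPolynomial.X 0 : MvPolynomial (Fin (0 + 1)) (ULift.{u} ℤ)) →+* k :=
  (IsLocalization.Away.lift (MvPolynomial.X 0 : MvPolynomial (Fin (0 + 1)) (ULift.{u} ℤ))
      (g := ev k) (by rw [ev_X]; exact isUnit_one)).comp
    (algebraMap _ (Localization.Away (MvPolynomial.X 0 : MvPolynomial (Fin (0 + 1)) (ULift.{u} ℤ))))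

theorem X_mem : (MvPolynomial.X 0 : MvPolynomial (Fin (0 + 1)) (ULift.{u} ℤ)) ∈
    CohB1.polyGrading 0 (ULift.{u} ℤ) 1 :=
  MvPolynomial.isHomogeneous_X _ _

/-- some morphism `Spec k ⟶ P^0_ℤ` -/
noncomputable def toProj : Spec (CommRingCat.of k) ⟶ CohB1.ProjSpace 0 (ULift.{u} ℤ) :=
  Spec.map (CommRingCat.ofHom (awayToField k)) ≫
    Proj.awayι (CohB1.polyGrading 0 (ULift.{u} ℤ)) (MvPolynomial.X 0) X_mem one_pos

/-- a section of `P^0_{Spec k} ⟶ Spec k` -/
noncomputable def sec : Spec (CommRingCat.of k) ⟶ CohB1.ProjSpaceOver 0 (Spec (CommRingCat.of k)) :=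
  pullback.lift (toProj k) (𝟙 _) (specULiftZIsTerminal.hom_ext _ _)

theorem sec_toBase : sec k ≫ CohB1.ProjSpaceOver.toBase 0 (Spec (CommRingCat.of k)) = 𝟙 _ :=
  pullback.lift_snd _ _ _

instance : Subsingleton ↥(Spec (CommRingCat.of k)) :=
  (inferInstance : Subsingleton (PrimeSpectrum k))

theorem isProjectiveOver_id :
    Neron.IsProjectiveOver k (Over.mk (𝟙 (Spec (CommRingCat.of k)))) :=
  have h : IsClosedImmersion (sec k) := isClosedImmersion_of_comp_eq_id _ _ (sec_toBase k)
  ⟨0, sec k, h, sec_toBase k⟩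

theorem isVar_id : IsVar k (Over.mk (𝟙 (Spec (CommRingCat.of k)))) := by
  refine ⟨?_, isProjectiveOver_id k, ?_⟩
  · change Smooth (𝟙 (Spec (CommRingCat.of k)))
    infer_instance
  · exact (inferInstance : IrreducibleSpace (PrimeSpectrum k))

/-- the point -/
noncomputable def pt : Var k := ⟨Over.mk (𝟙 (Spec (CommRingCat.of k))), isVar_id k⟩

section FieldStalk

/-- every nonzero element of a stalk of the structure sheaf of a field is a unit -/
theorem stalk_isUnit_of_ne_zero' (w : PrimeSpectrum k)
    (a : (Spec.structureSheaf k).presheaf.stalk w) (ha : a ≠ 0) : IsUnit a := by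
  have hloc : IsLocalization.AtPrime ((Spec.structureSheaf k).presheaf.stalk w) w.asIdeal :=
    inferInstance
  obtain ⟨x, s, rfl⟩ := IsLocalization.exists_mk'_eq w.asIdeal.primeCompl a
  have hx : x ≠ 0 := by
    rintro rfl
    exact ha (IsLocalization.mk'_zero _)
  have hxu : IsUnit x := isUnit_iff_ne_zero.mpr hx
  have h1 : IsUnit (algebraMap k ((Spec.structureSheaf k).presheaf.stalk w) x) := hxu.map _
  rw [IsLocalization.mk'_eq_mul_mk'_one]
  refine IsUnit.mul h1 ?_
  have h3 : IsLocalization.mk' ((Spec.structureSheaf k).presheaf.stalk w) (1 : k) s *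
      algebraMap k _ s.1 = 1 := by
    rw [IsLocalization.mk'_spec, map_one]
  exact IsUnit.of_mul_eq_one _ h3

/-- every nonzero element of a stalk of `Spec k` is a unit -/
theorem stalk_isUnit_of_ne_zero (w : ↥(Spec (CommRingCat.of k)))
    (a : (Spec (CommRingCat.of k)).presheaf.stalk w) (ha : a ≠ 0) : IsUnit a :=
  stalk_isUnit_of_ne_zero' k w a ha

end FieldStalk

section Length

/-- the length computation behind `preimMult = 1` -/
theorem length_quot_map_ker_eq_one {A B L : Type u} [CommRing A] [CommRing B] [CommRing L]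
    [Nontrivial L] [Nontrivial A] (hA : ∀ a : A, a ≠ 0 → IsUnit a) (φ : B →+* A) [IsLocalHom φ]
    (ψ : B →+* L) : Module.length A (A ⧸ Ideal.map φ (RingHom.ker ψ)) = 1 := by
  have hI : Ideal.map φ (RingHom.ker ψ) = ⊥ := by
    rw [eq_bot_iff, Ideal.map_le_iff_le_comap]
    intro b hb
    rw [Ideal.mem_comap, Ideal.mem_bot]
    by_contra hne
    have h1 : IsUnit b := (hA _ hne).of_map
    have h2 : IsUnit (ψ b) := h1.map ψ
    rw [RingHom.mem_ker.mp hb] at h2
    exact not_isUnit_zero h2
  have e : (A ⧸ Ideal.map φ (RingHom.ker ψ)) ≃ₗ[A] A := Submodule.quotEquivOfEqBot _ hI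
  rw [e.length_eq, Module.length_eq_one_iff, isSimpleModule_self_iff_isUnit]
  exact ⟨inferInstance, hA⟩

end Length

section Dims

theorem natDim_eq_zero_of_subsingleton (T : Type u) [TopologicalSpace T] [Subsingleton T] :
    natDim T = 0 := by
  have h := topologicalKrullDim_zero_of_discreteTopology T
  unfold natDim
  rcases hd : topologicalKrullDim T with _ | e
  · rfl
  · rw [hd] at h
    have he : e ≤ 0 := WithBot.coe_le_coe.mp h
    have : e = 0 := le_antisymm he bot_le
    subst this
    rfl

theorem natDim_congr_set {X : Type u} [TopologicalSpace X] {s t : Set X} (h : s = t) :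
    natDim ↥s = natDim ↥t := by
  subst h; rfl

theorem natDim_univ (X : Type u) [TopologicalSpace X] : natDim ↥(Set.univ : Set X) = natDim X := by
  unfold natDim
  rw [IsHomeomorph.topologicalKrullDim_eq _ (Homeomorph.Set.univ X).isHomeomorph]

theorem pdim_genericPoint (X : Scheme.{u}) [IrreducibleSpace ↥X] :
    pdim X (genericPoint ↥X) = dim X := by
  unfold pdim dim
  have h : closure ({genericPoint ↥X} : Set ↥X) = Set.univ := (genericPoint_spec ↥X).def
  rw [natDim_congr_set h, natDim_univ]

theorem dim_pt : dim (pt k).obj.left = 0 :=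
  natDim_eq_zero_of_subsingleton ↥(Spec (CommRingCat.of k))

theorem pdim_pt (w : ↥(pt k).obj.left) : pdim (pt k).obj.left w = 0 := by
  unfold pdim
  have : Subsingleton ↥(closure ({w} : Set ↥(pt k).obj.left)) :=
    (inferInstance : Subsingleton ↥(closure ({w} : Set ↥(Spec (CommRingCat.of k)))))
  exact natDim_eq_zero_of_subsingleton _

end Dims

section Points

universe v

variable {k} [IsAlgClosed k] {K : Type v} [Field K] [CharZero K] (T : Theory k K)

/-- a `k`-point of a variety, as a morphism from the point object -/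
theorem exists_point (X : Var k) :
    ∃ _s : pt k ⟶ X, True := by
  have : Smooth X.obj.hom := X.property.1
  have : IrreducibleSpace ↥X.obj.left := X.property.2.2
  have : JacobsonSpace ↥X.obj.left := LocallyOfFiniteType.jacobsonSpace X.obj.hom
  obtain ⟨x₀, -, hx₀⟩ := nonempty_inter_closedPoints (X := ↥X.obj.left) (Z := Set.univ)
    Set.univ_nonempty isOpen_univ.isLocallyClosed
  exact ⟨ObjectProperty.homMk (Over.homMk (pointOfClosedPoint X.obj.hom x₀ hx₀)
    (pointOfClosedPoint_comp X.obj.hom x₀ hx₀)), trivial⟩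

omit [IsAlgClosed k] in
theorem preimMult_eq_one {X : Var k} (s : pt k ⟶ X) (ξ : ↥X.obj.left) (w : ↥(pt k).obj.left)
    (h : sm s w ∈ closure ({ξ} : Set ↥X.obj.left)) : preimMult (sm s) ξ w h = 1 := by
  unfold preimMult
  have hA : ∀ a : (pt k).obj.left.presheaf.stalk w, a ≠ 0 → IsUnit a :=
    fun a ha => stalk_isUnit_of_ne_zero k w a ha
  rw [length_quot_map_ker_eq_one hA ((sm s).stalkMap w).hom
    (Cyc.specMap (sm s w) ξ (specializes_iff_mem_closure.mpr h))]
  rfl

/-- S15443: the class of the variety itself is `1` -/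
theorem cl_genericPoint_eq_one (X : Var k) [IrreducibleSpace ↥X.obj.left] :
    T.cl X (genericPoint ↥X.obj.left) = 1 := by
  have hpd := pdim_genericPoint X.obj.left
  have hcod : codim X.obj.left (genericPoint ↥X.obj.left) = 0 := by
    unfold codim; rw [hpd]; exact Nat.sub_self _
  have hmem : T.cl X (genericPoint ↥X.obj.left) ∈ T.gr X 0 := by
    have := T.cl_mem X (genericPoint ↥X.obj.left)
    rw [hcod] at this
    exact this
  obtain ⟨c, hc⟩ := Weil.gr_zero_eq_smul_one T X _ hmem
  obtain ⟨s, -⟩ := exists_point X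
  have hpull := T.cl_pull s (genericPoint ↥X.obj.left) (by
      intro w _
      rw [pdim_pt, hpd, dim_pt]
      push_cast
      ring) (Or.inr (fun w hw => preimMult_eq_one s _ w hw.1))
  have hpt := T.point (pt k) (dim_pt k)
  have hterm : ∀ w : {w : ↥(pt k).obj.left //
      IsCompPt ((sm s) ⁻¹' closure ({genericPoint ↥X.obj.left} : Set ↥X.obj.left)) w},
      ((preimMult (sm s) (genericPoint ↥X.obj.left) w.1 w.2.1 : ℕ) : K) • T.cl (pt k) w.1 = 1 := by
    intro w
    rw [preimMult_eq_one, hpt.1, Nat.cast_one, one_smul]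
  rw [finsum_congr hterm] at hpull
  have hcl : closure ({genericPoint ↥X.obj.left} : Set ↥X.obj.left) = Set.univ :=
    (genericPoint_spec ↥X.obj.left).def
  obtain ⟨w₀⟩ : Nonempty ↥(pt k).obj.left :=
    (inferInstance : Nonempty (PrimeSpectrum k))
  have hw₀ : IsCompPt ((sm s) ⁻¹' closure ({genericPoint ↥X.obj.left} : Set ↥X.obj.left)) w₀ := by
    refine ⟨?_, fun w' _ _ => Subsingleton.elim (α := ↥(Spec (CommRingCat.of k))) w' w₀⟩
    rw [hcl]; trivial
  have hsub : Subsingleton {w : ↥(pt k).obj.left //
      IsCompPt ((sm s) ⁻¹' closure ({genericPoint ↥X.obj.left} : Set ↥X.obj.left)) w} :=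
    ⟨fun a b => Subtype.ext (Subsingleton.elim (α := ↥(Spec (CommRingCat.of k))) a.1 b.1)⟩
  have : Unique {w : ↥(pt k).obj.left //
      IsCompPt ((sm s) ⁻¹' closure ({genericPoint ↥X.obj.left} : Set ↥X.obj.left)) w} :=
    @Unique.mk' _ ⟨⟨w₀, hw₀⟩⟩ hsub
  rw [finsum_unique, hc, map_smul, map_one] at hpull
  have hinj := (Weil.smul_one_bijective T (pt k)).injective
  have hc1 : c = 1 := by
    apply hinj
    apply Subtype.ext
    change c • (1 : T.H (pt k)) = (1 : K) • 1
    rw [hpull, one_smul]
  rw [hc, hc1, one_smul]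

end Points

section ClosedPoints

variable {k} [IsAlgClosed k]

/-- at a closed point of a scheme locally of finite type over an algebraically closed field the
map of residue fields is surjective -/
theorem residueFieldMap_surjective {X : Scheme.{u}} (f : X ⟶ Spec (.of k)) [LocallyOfFiniteType f]
    (x : X) (hx : IsClosed ({x} : Set X)) :
    Function.Surjective (f.residueFieldMap x).hom := by
  have h1 := Scheme.Hom.SpecMap_residueFieldMap_fromSpecResidueField f x
  rw [← SpecMap_residueFieldIsoBase_inv f x hx] at h1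
  have h2 : (Spec (.of k)).fromSpecResidueField (f x) =
      Spec.map (Spec.preimage ((Spec (.of k)).fromSpecResidueField (f x))) :=
    (Spec.map_preimage _).symm
  rw [h2, ← Spec.map_comp, Spec.map_inj] at h1
  intro y
  refine ⟨(Spec.preimage ((Spec (.of k)).fromSpecResidueField (f x))).hom
    ((residueFieldIsoBase f x hx).hom.hom y), ?_⟩
  have := congrArg (fun g => g.hom ((residueFieldIsoBase f x hx).hom.hom y)) h1
  simp only [CommRingCat.hom_comp, RingHom.coe_comp, Function.comp_apply] at this
  rw [this]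
  exact congrArg (fun g => g.hom y) (residueFieldIsoBase f x hx).hom_inv_id

/-- the residue degree at a closed point over an algebraically closed field is `1` -/
theorem residueDegree_eq_one {X : Scheme.{u}} (f : X ⟶ Spec (.of k)) [LocallyOfFiniteType f]
    (x : X) (hx : IsClosed ({x} : Set X)) : f.residueDegree x = 1 := by
  unfold Scheme.Hom.residueDegree
  let _ := (f.residueFieldMap x).hom.toAlgebra
  have hs : Function.Surjective
      (algebraMap ((Spec (.of k)).residueField (f x)) (X.residueField x)) :=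
    residueFieldMap_surjective f x hx
  have hb : Function.Bijective
      (Algebra.linearMap ((Spec (.of k)).residueField (f x)) (X.residueField x)) :=
    ⟨(algebraMap ((Spec (.of k)).residueField (f x)) (X.residueField x)).injective, hs⟩
  rw [← (LinearEquiv.ofBijective _ hb).finrank_eq]
  exact Module.finrank_self _

omit [IsAlgClosed k] in
theorem pdim_eq_zero_of_isClosed (X : Scheme.{u}) (x : X) (hx : IsClosed ({x} : Set X)) :
    pdim X x = 0 := by
  unfold pdim
  have : Subsingleton ↥(closure ({x} : Set X)) := by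
    rw [hx.closure_eq]; infer_instance
  exact natDim_eq_zero_of_subsingleton _

/-- the structure morphism to the point -/
noncomputable def toPt (X : Var k) : X ⟶ pt k :=
  ObjectProperty.homMk (Over.homMk X.obj.hom (by simp [pt]))

end ClosedPoints

end Groth.Agent.Lib.Helper6.WeilPt
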