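import Groth.Agent.Lib.Helper6.WeilGraph
import Groth.Prelude.Def_ChowOps

set_option autoImplicit false

universe u v

open AlgebraicGeometry CategoryTheory CategoryTheory.Limits WeilCoh

namespace Groth.Agent.Lib.Helper6.WeilZero

open Groth.Agent.Lib.Helper6

variable {k : Type u} [Field k] [IsAlgClosed k]

/-- a point of a scheme locally of finite type over an algebraically closed field whose residue
field is algebraic over the base is a closed point with trivial residue field extension -/
theorem closed_of_trdeg_zero {X : Scheme.{u}} (p : X ⟶ Spec (.of k)) [LocallyOfFiniteType p]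
    (ξ : X)
    (h0 : (letI := (p.residueFieldMap ξ).hom.toAlgebra
      Algebra.trdeg ((Spec (.of k)).residueField (p ξ)) (X.residueField ξ)) = 0) :
    IsClosed ({ξ} : Set X) ∧ p.residueDegree ξ = 1 := by
  let _ := (p.residueFieldMap ξ).hom.toAlgebra
  have halg : Algebra.IsAlgebraic ((Spec (.of k)).residueField (p ξ)) (X.residueField ξ) :=
    trdeg_eq_zero_iff.mp h0
  have hint : Algebra.IsIntegral ((Spec (.of k)).residueField (p ξ)) (X.residueField ξ) :=
    Algebra.IsAlgebraic.isIntegral
  have hy : IsClosed ({p ξ} : Set ↥(Spec (.of k))) := by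
    have : Subsingleton ↥(Spec (.of k)) := (inferInstance : Subsingleton (PrimeSpectrum k))
    have : ({p ξ} : Set ↥(Spec (.of k))) = Set.univ := by
      ext z; simp [Subsingleton.elim z (p ξ)]
    rw [this]; exact isClosed_univ
  let e := residueFieldIsoBase (𝟙 (Spec (.of k))) (p ξ) hy
  have he : Spec.map e.inv = (Spec (.of k)).fromSpecResidueField (p ξ) := by
    rw [SpecMap_residueFieldIsoBase_inv, Category.comp_id]
  have hcomp : Spec.map (e.inv ≫ p.residueFieldMap ξ) = X.fromSpecResidueField ξ ≫ p := by
    rw [Spec.map_comp, he, Scheme.Hom.SpecMap_residueFieldMap_fromSpecResidueField]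
  have hginv : Function.Surjective e.inv.hom := by
    intro z
    exact ⟨e.hom.hom z, congrArg (fun g => g.hom z) e.hom_inv_id⟩
  have hI : (e.inv ≫ p.residueFieldMap ξ).hom.IsIntegral := by
    rw [CommRingCat.hom_comp]
    exact RingHom.IsIntegral.trans _ _ (RingHom.isIntegral_of_surjective _ hginv)
      (algebraMap_isIntegral_iff.mpr hint)
  have hbij : Function.Bijective (e.inv ≫ p.residueFieldMap ξ).hom :=
    IsAlgClosed.ringHom_bijective_of_isIntegral _ hI
  have hsurj : Function.Surjective (p.residueFieldMap ξ).hom := by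
    intro z
    obtain ⟨c, hc⟩ := hbij.2 z
    exact ⟨e.inv.hom c, hc⟩
  refine ⟨?_, WeilGraph.residueDegree_eq_one_of_surjective p ξ hsurj⟩
  have : JacobsonSpace ↥X := LocallyOfFiniteType.jacobsonSpace p
  rw [isClosed_singleton_iff_locallyOfFiniteType]
  have hiso : IsIso (e.inv ≫ p.residueFieldMap ξ) := by
    rw [ConcreteCategory.isIso_iff_bijective]
    exact hbij
  have : LocallyOfFiniteType (X.fromSpecResidueField ξ ≫ p) := by
    rw [← hcomp]; infer_instance
  exact locallyOfFiniteType_of_comp (X.fromSpecResidueField ξ) p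

end Groth.Agent.Lib.Helper6.WeilZero
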